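import Mathlib
import Cfsg.Agent.StandardComponent.AltAut

/-!
# K-fact (ZS), row `A_n` (`n ≥ 6`): an automorphism of odd order normalising a Sylow 2-subgroup `S` of `A_n`
fixes every involution of `Z(S)`.
-/

namespace Cfsg.Agent.Omega.Lie.CenAlt

open Equiv Equiv.Perm Subgroup

universe u

/-- If `C` contains a Sylow 2-subgroup, `y` normalises `C` and `y² ∈ C`, then `y ∈ C`. -/
theorem mem_of_odd {A : Type u} [Group A] [Finite A] (S : Sylow 2 A) (C : Subgroup A)
    (hSC : (S : Subgroup A) ≤ C) {y : A} (hy : ∀ c ∈ C, y * c * y⁻¹ ∈ C) (hyy : y * y ∈ C) : y ∈ C := by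
  classical
  have hN : y ∈ normalizer (C : Set A) := by
    rw [mem_normalizer_iff]
    intro h
    refine ⟨hy h, fun hh => ?_⟩
    have h1 := hy _ (C.mul_mem (C.mul_mem (C.inv_mem hyy) (hy _ hh)) hyy)
    have h2 : y * ((y * y)⁻¹ * (y * (y * h * y⁻¹) * y⁻¹) * (y * y)) * y⁻¹ = y * h * y⁻¹ := by group
    have h3 := C.mul_mem (C.mul_mem (C.inv_mem hyy) (hy _ hh)) hyy
    have h4 : (y * y)⁻¹ * (y * (y * h * y⁻¹) * y⁻¹) * (y * y) = h := by group
    rwa [h4] at h3
  have : (C.subgroupOf (normalizer (C : Set A))).Normal := inferInstance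
  let q : (normalizer (C : Set A)) ⧸ (C.subgroupOf (normalizer (C : Set A))) :=
    QuotientGroup.mk (⟨y, hN⟩ : normalizer (C : Set A))
  have hq2 : q ^ 2 = 1 := by
    rw [pow_two, ← QuotientGroup.mk_mul, QuotientGroup.eq_one_iff, mem_subgroupOf]
    exact hyy
  have hodd : ¬ 2 ∣ Nat.card ((normalizer (C : Set A)) ⧸ (C.subgroupOf (normalizer (C : Set A)))) := by
    intro h2
    have h3 : Nat.card ((normalizer (C : Set A)) ⧸ (C.subgroupOf (normalizer (C : Set A)))) ∣ C.index :=
      relIndex_dvd_index_of_le le_normalizer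
    have h4 : C.index ∣ (S : Subgroup A).index := index_dvd_of_le hSC
    exact S.not_dvd_index ((h2.trans h3).trans h4)
  have h1 : orderOf q ∣ 2 := orderOf_dvd_of_pow_eq_one hq2
  have h2 : orderOf q ∣ Nat.card ((normalizer (C : Set A)) ⧸ (C.subgroupOf (normalizer (C : Set A)))) :=
    orderOf_dvd_natCard q
  have h3 : orderOf q = 1 := by
    rcases (Nat.dvd_prime Nat.prime_two).1 h1 with h | h
    · exact h
    · rw [h] at h2; exact absurd h2 hodd
  have h4 : q = 1 := orderOf_eq_one_iff.1 h3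
  have h5 := (QuotientGroup.eq_one_iff (⟨y, hN⟩ : normalizer (C : Set A))).1 h4
  exact mem_subgroupOf.1 h5

/-- A 2-subgroup normalised by a Sylow 2-subgroup is contained in it. -/
theorem le_of_norm {A : Type u} [Group A] [Finite A] (S : Sylow 2 A) (E : Subgroup A)
    (hE : IsPGroup 2 E) (hn : ∀ s ∈ S, ∀ e ∈ E, s * e * s⁻¹ ∈ E) : E ≤ S := by
  have hle : (S : Subgroup A) ≤ normalizer (E : Set A) := by
    intro s hs
    rw [mem_normalizer_iff]
    intro h
    refine ⟨hn s hs h, fun hh => ?_⟩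
    have := hn s⁻¹ ((S : Subgroup A).inv_mem hs) _ hh
    have h2 : s⁻¹ * (s * h * s⁻¹) * s⁻¹⁻¹ = h := by group
    rwa [h2] at this
  have h1 : IsPGroup 2 ((S : Subgroup A) ⊔ E : Subgroup A) :=
    S.isPGroup'.to_sup_of_normal_right' hE hle
  have h2 := S.is_maximal' h1 le_sup_left
  rw [← h2]
  exact le_sup_right

section alt

variable {n : ℕ}

local notation "Alt" => alternatingGroup (Fin n)

theorem comm_apply {a b : Alt} (h : a * b = b * a) (z : Fin n) :
    (a : Perm (Fin n)) ((b : Perm (Fin n)) z) = (b : Perm (Fin n)) ((a : Perm (Fin n)) z) := by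
  have := congrArg (fun g : Alt => (g : Perm (Fin n)) z) h
  simpa using this

theorem inv_apply {a : Alt} (h : a * a = 1) (z : Fin n) :
    (a : Perm (Fin n)) ((a : Perm (Fin n)) z) = z := by
  have := congrArg (fun g : Alt => (g : Perm (Fin n)) z) h
  simpa using this

/-- Every even permutation moving each point inside its `u`-orbit lies in `S`, for `u` in `Z(S)`. -/
theorem mem_of_local (S : Sylow 2 Alt) {u : Alt} (cu : ∀ x ∈ S, x * u = u * x) (uu : u * u = 1)
    {e : Alt} (he : ∀ z, (e : Perm (Fin n)) z = z ∨ (e : Perm (Fin n)) z = (u : Perm (Fin n)) z) :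
    e ∈ S := by
  let E : Subgroup Alt :=
    { carrier := {e | ∀ z, (e : Perm (Fin n)) z = z ∨ (e : Perm (Fin n)) z = (u : Perm (Fin n)) z}
      mul_mem' := by
        intro a b ha hb z
        have e1 : ((a * b : Alt) : Perm (Fin n)) z = (a : Perm (Fin n)) ((b : Perm (Fin n)) z) := rfl
        rw [e1]
        rcases hb z with h | h <;> rw [h]
        · exact ha z
        · rcases ha ((u : Perm (Fin n)) z) with h | h <;> rw [h]
          · exact Or.inr rfl
          · exact Or.inl (inv_apply uu z)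
      one_mem' := fun z => Or.inl rfl
      inv_mem' := by
        intro a ha z
        have e1 : ((a⁻¹ : Alt) : Perm (Fin n)) z = (a : Perm (Fin n))⁻¹ z := rfl
        have e2 : (a : Perm (Fin n)) ((a : Perm (Fin n))⁻¹ z) = z := by simp
        rw [e1]
        rcases ha ((a : Perm (Fin n))⁻¹ z) with h | h
        · left; rw [← h, e2]
        · right
          rw [e2] at h
          exact ((congrArg _ h).trans (inv_apply uu _)).symm }
  have hE : IsPGroup 2 E := by
    rintro ⟨a, ha⟩
    refine ⟨1, ?_⟩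
    apply Subtype.ext
    apply Subtype.ext
    ext z
    have e1 : (((((⟨a, ha⟩ : E) ^ 2 ^ 1 : E) : Alt) : Perm (Fin n)) z) =
        (a : Perm (Fin n)) ((a : Perm (Fin n)) z) := by
      simp [pow_two]
    rw [e1]
    have : (a : Perm (Fin n)) ((a : Perm (Fin n)) z) = z := by
      rcases ha z with h | h
      · rw [h, h]
      · rw [h]
        rcases ha ((u : Perm (Fin n)) z) with h' | h'
        · have h3 : (u : Perm (Fin n)) z = z := by
            apply (a : Perm (Fin n)).injective
            rw [h', h]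
          rw [h', h3]
        · rw [h', inv_apply uu]
    rw [this]
    rfl
  have hn : ∀ s ∈ S, ∀ e ∈ E, s * e * s⁻¹ ∈ E := by
    intro s hs a ha z
    have e1 : ((s * a * s⁻¹ : Alt) : Perm (Fin n)) z =
      (s : Perm (Fin n)) ((a : Perm (Fin n)) ((s : Perm (Fin n))⁻¹ z)) := rfl
    have e2 : (s : Perm (Fin n)) ((s : Perm (Fin n))⁻¹ z) = z := by simp
    rw [e1]
    rcases ha ((s : Perm (Fin n))⁻¹ z) with h | h <;> rw [h]
    · left; exact e2
    · right
      rw [comm_apply (cu s hs), e2]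
  exact le_of_norm S E hE hn he

theorem swap_mul_mem {a b c d : Fin n} (h1 : a ≠ b) (h2 : c ≠ d) :
    swap a b * swap c d ∈ alternatingGroup (Fin n) := by
  rw [mem_alternatingGroup, Perm.sign_mul, sign_swap h1, sign_swap h2]
  rfl

/-- If `x, u x, v x` are distinct, then `u` moves no point outside `{x, u x, v x, u v x}`. -/
theorem outside (S : Sylow 2 Alt) {u v : Alt} (cu : ∀ x ∈ S, x * u = u * x) (uu : u * u = 1)
    (cv : ∀ x ∈ S, x * v = v * x)
    {x : Fin n} (h1 : (u : Perm (Fin n)) x ≠ x) (h2 : (v : Perm (Fin n)) x ≠ x)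
    (h3 : (u : Perm (Fin n)) x ≠ (v : Perm (Fin n)) x) {x' : Fin n}
    (k1 : x' ≠ x) (k2 : x' ≠ (u : Perm (Fin n)) x) (k3 : x' ≠ (v : Perm (Fin n)) x)
    (k4 : x' ≠ (u : Perm (Fin n)) ((v : Perm (Fin n)) x)) : (u : Perm (Fin n)) x' = x' := by
  by_contra k5
  let g : Alt := ⟨swap x ((u : Perm (Fin n)) x) * swap x' ((u : Perm (Fin n)) x'),
    swap_mul_mem (Ne.symm h1) (Ne.symm k5)⟩
  have hgz : ∀ z, (g : Perm (Fin n)) z =
    swap x ((u : Perm (Fin n)) x) (swap x' ((u : Perm (Fin n)) x') z) := fun z => rfl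
  have ux' : (u : Perm (Fin n)) x' ≠ x := fun h => k2 (by rw [← h, inv_apply uu])
  have ux'' : (u : Perm (Fin n)) x' ≠ (u : Perm (Fin n)) x := fun h => k1 ((u : Perm (Fin n)).injective h)
  have hg : ∀ z, (g : Perm (Fin n)) z = z ∨ (g : Perm (Fin n)) z = (u : Perm (Fin n)) z := by
    intro z
    rw [hgz]
    by_cases z1 : z = x'
    · right
      rw [z1, swap_apply_left, swap_apply_of_ne_of_ne ux' ux'']
    · by_cases z2 : z = (u : Perm (Fin n)) x'
      · right
        rw [z2, swap_apply_right, swap_apply_of_ne_of_ne k1 k2, inv_apply uu]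
      · rw [swap_apply_of_ne_of_ne z1 z2]
        by_cases z3 : z = x
        · right; rw [z3, swap_apply_left]
        · by_cases z4 : z = (u : Perm (Fin n)) x
          · right; rw [z4, swap_apply_right, inv_apply uu]
          · left; rw [swap_apply_of_ne_of_ne z3 z4]
  have hgS := mem_of_local S cu uu hg
  have hc := comm_apply (cv g hgS) x
  rw [hgz, hgz, swap_apply_of_ne_of_ne (Ne.symm k1) (Ne.symm ux'), swap_apply_left] at hc
  have kk : (v : Perm (Fin n)) x ≠ (u : Perm (Fin n)) x' := fun h => k4 (by rw [h, inv_apply uu])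
  rw [swap_apply_of_ne_of_ne (Ne.symm k3) kk, swap_apply_of_ne_of_ne h2 (Ne.symm h3)] at hc
  exact h1 ((v : Perm (Fin n)).injective hc).symm

/-- The case `x, u x, v x` distinct is impossible. -/
theorem no_four (hn : 6 ≤ n) (S : Sylow 2 Alt) {u v : Alt} (hu : u ∈ S)
    (cu : ∀ x ∈ S, x * u = u * x) (uu : u * u = 1)
    (cv : ∀ x ∈ S, x * v = v * x) (vv : v * v = 1)
    {x : Fin n} (h1 : (u : Perm (Fin n)) x ≠ x) (h2 : (v : Perm (Fin n)) x ≠ x)
    (h3 : (u : Perm (Fin n)) x ≠ (v : Perm (Fin n)) x) : False := by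
  classical
  have huv : ∀ z, (u : Perm (Fin n)) ((v : Perm (Fin n)) z) = (v : Perm (Fin n)) ((u : Perm (Fin n)) z) :=
    comm_apply (cv u hu)
  have ou := fun x' k1 k2 k3 k4 => outside S cu uu cv h1 h2 h3 (x' := x') k1 k2 k3 k4
  have ov := fun x' k1 k2 k3 k4 => outside S cv vv cu h2 h1 (Ne.symm h3) (x' := x') k1 k2 k3 k4
  generalize hx1 : (u : Perm (Fin n)) x = x1 at *
  generalize hx2 : (v : Perm (Fin n)) x = x2 at *
  have hx1' : (u : Perm (Fin n)) x1 = x := by rw [← hx1, inv_apply uu]
  have hx2' : (v : Perm (Fin n)) x2 = x := by rw [← hx2, inv_apply vv]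
  have hx3v : (v : Perm (Fin n)) x1 = (u : Perm (Fin n)) x2 := by rw [← hx1, ← hx2, huv]
  generalize hx3 : (u : Perm (Fin n)) x2 = x3 at *
  have hx3' : (u : Perm (Fin n)) x3 = x2 := by rw [← hx3, inv_apply uu]
  have hx3v' : (v : Perm (Fin n)) x3 = x1 := by rw [← hx3v, inv_apply vv]
  have h30 : x3 ≠ x := by
    intro h; rw [h] at hx3'; exact h3 (hx1.symm.trans hx3')
  have h31 : x3 ≠ x1 := by
    intro h; rw [h] at hx3'; exact h2 (hx3'.symm.trans hx1')
  have h32 : x3 ≠ x2 := by
    intro h; rw [h] at hx3v'; exact h1 (hx3v'.symm.trans hx2')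
  rw [hx3v] at ov
  obtain ⟨a, ha⟩ : ∃ a : Fin n, a ∉ ({x, x1, x2, x3} : Finset (Fin n)) := by
    by_contra hcon
    push Not at hcon
    have : (Finset.univ : Finset (Fin n)) ⊆ {x, x1, x2, x3} := fun z _ => hcon z
    have h4 := (Finset.card_le_card this).trans Finset.card_le_four
    rw [Finset.card_univ, Fintype.card_fin] at h4
    omega
  obtain ⟨b, hb⟩ : ∃ b : Fin n, b ∉ insert a ({x, x1, x2, x3} : Finset (Fin n)) := by
    by_contra hcon
    push Not at hcon
    have : (Finset.univ : Finset (Fin n)) ⊆ insert a {x, x1, x2, x3} := fun z _ => hcon z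
    have h4 := ((Finset.card_le_card this).trans (Finset.card_insert_le _ _)).trans
      (Nat.add_le_add_right Finset.card_le_four 1)
    rw [Finset.card_univ, Fintype.card_fin] at h4
    omega
  simp only [Finset.mem_insert, Finset.mem_singleton, not_or] at ha hb
  obtain ⟨ha0, ha1, ha2, ha3⟩ := ha
  obtain ⟨hba, hb0, hb1, hb2, hb3⟩ := hb
  let y : Alt := ⟨swap x x1 * swap a b, swap_mul_mem (Ne.symm h1) (Ne.symm hba)⟩
  have hy : ∀ z, (y : Perm (Fin n)) z = swap x x1 (swap a b z) := fun z => rfl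
  have y0 : (y : Perm (Fin n)) x = x1 := by
    rw [hy, swap_apply_of_ne_of_ne (Ne.symm ha0) (Ne.symm hb0), swap_apply_left]
  have y1 : (y : Perm (Fin n)) x1 = x := by
    rw [hy, swap_apply_of_ne_of_ne (Ne.symm ha1) (Ne.symm hb1), swap_apply_right]
  have y2 : (y : Perm (Fin n)) x2 = x2 := by
    rw [hy, swap_apply_of_ne_of_ne (Ne.symm ha2) (Ne.symm hb2), swap_apply_of_ne_of_ne h2 (Ne.symm h3)]
  have y3 : (y : Perm (Fin n)) x3 = x3 := by
    rw [hy, swap_apply_of_ne_of_ne (Ne.symm ha3) (Ne.symm hb3), swap_apply_of_ne_of_ne h30 h31]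
  have ya : (y : Perm (Fin n)) a = b := by
    rw [hy, swap_apply_left, swap_apply_of_ne_of_ne hb0 hb1]
  have yb : (y : Perm (Fin n)) b = a := by
    rw [hy, swap_apply_right, swap_apply_of_ne_of_ne ha0 ha1]
  have yo : ∀ z, z ≠ x → z ≠ x1 → z ≠ a → z ≠ b → (y : Perm (Fin n)) z = z := by
    intro z z0 z1 za zb
    rw [hy, swap_apply_of_ne_of_ne za zb, swap_apply_of_ne_of_ne z0 z1]
  have ua := ou a ha0 ha1 ha2 ha3
  have ub := ou b hb0 hb1 hb2 hb3
  have va := ov a ha0 ha2 ha1 ha3
  have vb := ov b hb0 hb2 hb1 hb3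
  have ext_pt : ∀ f g : Fin n → Fin n, f x = g x → f x1 = g x1 → f x2 = g x2 → f x3 = g x3 →
      f a = g a → f b = g b → (∀ z, z ≠ x → z ≠ x1 → z ≠ x2 → z ≠ x3 → z ≠ a → z ≠ b → f z = g z) →
      ∀ z, f z = g z := by
    intro f g e0 e1 e2 e3 ea eb eo z
    by_cases z0 : z = x
    · rw [z0, e0]
    by_cases z1 : z = x1
    · rw [z1, e1]
    by_cases z2 : z = x2
    · rw [z2, e2]
    by_cases z3 : z = x3
    · rw [z3, e3]
    by_cases za : z = a
    · rw [za, ea]
    by_cases zb : z = b
    · rw [zb, eb]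
    exact eo z z0 z1 z2 z3 za zb
  have hyy : y * y = 1 := by
    apply Subtype.ext
    apply Perm.ext
    apply ext_pt (fun z => (y : Perm (Fin n)) ((y : Perm (Fin n)) z)) (fun z => z)
    · simp only [y0, y1]
    · simp only [y0, y1]
    · simp only [y2]
    · simp only [y3]
    · simp only [ya, yb]
    · simp only [ya, yb]
    · intro z z0 z1 z2 z3 za zb
      simp only [yo z z0 z1 za zb]
  have hyu : y * u = u * y := by
    apply Subtype.ext
    apply Perm.ext
    apply ext_pt (fun z => (y : Perm (Fin n)) ((u : Perm (Fin n)) z))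
      (fun z => (u : Perm (Fin n)) ((y : Perm (Fin n)) z))
    · simp only [y0, y1, hx1, hx1']
    · simp only [y0, y1, hx1, hx1']
    · simp only [y2, y3, hx3, hx3']
    · simp only [y2, y3, hx3, hx3']
    · simp only [ya, yb, ua, ub]
    · simp only [ya, yb, ua, ub]
    · intro z z0 z1 z2 z3 za zb
      simp only [yo z z0 z1 za zb, ou z z0 z1 z2 z3]
  have hyv : y * v = u * v * y := by
    apply Subtype.ext
    apply Perm.ext
    apply ext_pt (fun z => (y : Perm (Fin n)) ((v : Perm (Fin n)) z))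
      (fun z => (u : Perm (Fin n)) ((v : Perm (Fin n)) ((y : Perm (Fin n)) z)))
    · simp only [y0, y2, hx2, hx3v, hx3']
    · simp only [y1, y3, hx2, hx3v, hx3]
    · simp only [y0, y2, hx2', hx1]
    · simp only [y1, y3, hx3v', hx1']
    · simp only [ya, yb, va, vb, ub]
    · simp only [ya, yb, va, vb, ua]
    · intro z z0 z1 z2 z3 za zb
      simp only [yo z z0 z1 za zb, ou z z0 z1 z2 z3, ov z z0 z2 z1 z3]
  have hyi : y⁻¹ = y := inv_eq_of_mul_eq_one_left hyy
  let C : Subgroup Alt := centralizer {u, v}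
  have hC : ∀ c : Alt, c ∈ C ↔ u * c = c * u ∧ v * c = c * v := by
    intro c
    rw [mem_centralizer_iff]
    constructor
    · intro h
      exact ⟨h u (by simp), h v (by simp)⟩
    · rintro ⟨h, h'⟩ g hg
      rcases hg with rfl | rfl
      · exact h
      · exact h'
  have hmem : y ∈ C := by
    apply mem_of_odd S C
    · intro s hs
      exact (hC s).2 ⟨(cu s hs).symm, (cv s hs).symm⟩
    · intro c hc
      obtain ⟨c1, c2⟩ := (hC c).1 hc
      rw [hyi]
      refine (hC _).2 ⟨?_, ?_⟩
      · calc u * (y * c * y) = (u * y) * c * y := by group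
          _ = y * (u * c) * y := by rw [← hyu]; group
          _ = y * c * (u * y) := by rw [c1]; group
          _ = y * c * y * u := by rw [← hyu]; group
      · have hvy : v * y = y * (u * v) := by
          have : y * (y * v) * y = y * (u * v * y) * y := by rw [hyv]
          calc v * y = (y * y) * v * y := by rw [hyy, one_mul]
            _ = y * (y * v) * y := by group
            _ = y * (u * v * y) * y := this
            _ = y * (u * v) * (y * y) := by group
            _ = y * (u * v) := by rw [hyy, mul_one]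
        calc v * (y * c * y) = (v * y) * c * y := by group
          _ = y * (u * (v * c)) * y := by rw [hvy]; group
          _ = y * ((u * c) * v) * y := by rw [c2]; group
          _ = y * c * (u * v * y) := by rw [c1]; group
          _ = y * c * y * v := by rw [← hyv]; group
    · rw [hyy]; exact C.one_mem
  have := comm_apply ((hC y).1 hmem).2 x
  rw [y0, hx3v, hx2, y2] at this
  exact h32 this

/-- Main lemma: two involutions of `Z(S)` with supports of the same size are equal. -/
theorem eq_of_card (hn : 6 ≤ n) (S : Sylow 2 Alt) {u v : Alt} (hu : u ∈ S)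
    (cu : ∀ x ∈ S, x * u = u * x) (uu : u * u = 1)
    (cv : ∀ x ∈ S, x * v = v * x) (vv : v * v = 1)
    (hcard : (u : Perm (Fin n)).support.card = (v : Perm (Fin n)).support.card) : u = v := by
  classical
  by_contra huv
  have hno : ∀ x, (u : Perm (Fin n)) x = x ∨ (v : Perm (Fin n)) x = x ∨
      (u : Perm (Fin n)) x = (v : Perm (Fin n)) x := by
    intro x
    by_contra h
    push Not at h
    exact no_four hn S hu cu uu cv vv h.1 h.2.1 h.2.2
  let A : Finset (Fin n) := Finset.univ.filter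
    fun x => (u : Perm (Fin n)) x ≠ x ∧ (v : Perm (Fin n)) x = x
  let B : Finset (Fin n) := Finset.univ.filter
    fun x => (u : Perm (Fin n)) x = x ∧ (v : Perm (Fin n)) x ≠ x
  let D : Finset (Fin n) := Finset.univ.filter
    fun x => (u : Perm (Fin n)) x ≠ x ∧ (v : Perm (Fin n)) x ≠ x
  have mA : ∀ x, x ∈ A ↔ (u : Perm (Fin n)) x ≠ x ∧ (v : Perm (Fin n)) x = x := by
    intro x; simp [A]
  have mB : ∀ x, x ∈ B ↔ (u : Perm (Fin n)) x = x ∧ (v : Perm (Fin n)) x ≠ x := by
    intro x; simp [B]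
  have mD : ∀ x, x ∈ D ↔ (u : Perm (Fin n)) x ≠ x ∧ (v : Perm (Fin n)) x ≠ x := by
    intro x; simp [D]
  have hsu : (u : Perm (Fin n)).support = A ∪ D := by
    ext x
    rw [Finset.mem_union, mA, mD, mem_support]
    tauto
  have hsv : (v : Perm (Fin n)).support = B ∪ D := by
    ext x
    rw [Finset.mem_union, mB, mD, mem_support]
    tauto
  have dAD : Disjoint A D := by
    rw [Finset.disjoint_left]
    intro x h1 h2
    exact ((mD x).1 h2).2 ((mA x).1 h1).2
  have dBD : Disjoint B D := by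
    rw [Finset.disjoint_left]
    intro x h1 h2
    exact ((mD x).1 h2).1 ((mB x).1 h1).1
  have dAB : ∀ x, x ∈ A → x ∉ B := by
    intro x h1 h2
    exact ((mA x).1 h1).1 ((mB x).1 h2).1
  have hAB : A.card = B.card := by
    rw [hsu, hsv, Finset.card_union_of_disjoint dAD, Finset.card_union_of_disjoint dBD] at hcard
    omega
  have hAne : A.Nonempty := by
    rw [Finset.nonempty_iff_ne_empty]
    intro hA
    have hB : B = ∅ := by
      rw [← Finset.card_eq_zero, ← hAB, hA, Finset.card_empty]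
    apply huv
    apply Subtype.ext
    apply Perm.ext
    intro x
    by_cases h1 : (u : Perm (Fin n)) x = x
    · by_cases h2 : (v : Perm (Fin n)) x = x
      · rw [h1, h2]
      · have : x ∈ B := (mB x).2 ⟨h1, h2⟩
        rw [hB] at this
        exact absurd this (Finset.notMem_empty x)
    · by_cases h2 : (v : Perm (Fin n)) x = x
      · have : x ∈ A := (mA x).2 ⟨h1, h2⟩
        rw [hA] at this
        exact absurd this (Finset.notMem_empty x)
      · rcases hno x with h | h | h
        · exact absurd h h1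
        · exact absurd h h2
        · exact h
  obtain ⟨a, ha⟩ := hAne
  have ha' : (u : Perm (Fin n)) a ∈ A := by
    rw [mA, inv_apply uu]
    refine ⟨fun h => ((mA a).1 ha).1 h.symm, ?_⟩
    rw [← comm_apply (cv u hu), ((mA a).1 ha).2]
  -- the swapping permutation
  let f : A ≃ B := Finset.equivOfCardEq hAB
  let F : Fin n → Fin n := fun z => if h : z ∈ A then (f ⟨z, h⟩ : Fin n) else
    if h : z ∈ B then (f.symm ⟨z, h⟩ : Fin n) else z
  have FA : ∀ z (h : z ∈ A), F z = (f ⟨z, h⟩ : Fin n) := fun z h => dif_pos h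
  have FB : ∀ z (h : z ∈ B), F z = (f.symm ⟨z, h⟩ : Fin n) := fun z h => by
    have : z ∉ A := fun h' => dAB z h' h
    simp only [F, dif_neg this, dif_pos h]
  have FO : ∀ z, z ∉ A → z ∉ B → F z = z := fun z h h' => by
    simp only [F, dif_neg h, dif_neg h']
  have FAm : ∀ z, z ∈ A → F z ∈ B := fun z h => by rw [FA z h]; exact (f ⟨z, h⟩).2
  have FBm : ∀ z, z ∈ B → F z ∈ A := fun z h => by rw [FB z h]; exact (f.symm ⟨z, h⟩).2
  have hF : Function.Involutive F := by
    intro z
    by_cases h : z ∈ A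
    · rw [FB _ (FAm z h)]
      have : (⟨F z, FAm z h⟩ : B) = f ⟨z, h⟩ := Subtype.ext (FA z h)
      rw [this, Equiv.symm_apply_apply]
    · by_cases h' : z ∈ B
      · rw [FA _ (FBm z h')]
        have : (⟨F z, FBm z h'⟩ : A) = f.symm ⟨z, h'⟩ := Subtype.ext (FB z h')
        rw [this, Equiv.apply_symm_apply]
      · rw [FO z h h', FO z h h']
  obtain ⟨y, hyA, hyB⟩ : ∃ y : Alt, (∀ z, (y : Perm (Fin n)) z ∈ A ↔ z ∈ B) ∧
      (∀ z, (y : Perm (Fin n)) z ∈ B ↔ z ∈ A) := by
    have hfA : ∀ z, F z ∈ A ↔ z ∈ B := fun z => by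
      constructor
      · intro h
        have := FAm _ h
        rwa [hF z] at this
      · exact FBm z
    have hfB : ∀ z, F z ∈ B ↔ z ∈ A := fun z => by
      constructor
      · intro h
        have := FBm _ h
        rwa [hF z] at this
      · exact FAm z
    rcases Int.units_eq_one_or (sign hF.toPerm) with h | h
    · exact ⟨⟨hF.toPerm, (mem_alternatingGroup).2 h⟩, hfA, hfB⟩
    · have hau : a ≠ (u : Perm (Fin n)) a := fun h => ((mA a).1 ha).1 h.symm
      refine ⟨⟨hF.toPerm * swap a ((u : Perm (Fin n)) a), ?_⟩, ?_, ?_⟩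
      · rw [mem_alternatingGroup, Perm.sign_mul, sign_swap hau, h]
        rfl
      · intro z
        show F (swap a ((u : Perm (Fin n)) a) z) ∈ A ↔ z ∈ B
        rw [hfA]
        by_cases z1 : z = a
        · rw [z1, swap_apply_left]
          exact ⟨fun h => absurd h (dAB _ ha'), fun h => absurd h (dAB _ ha)⟩
        · by_cases z2 : z = (u : Perm (Fin n)) a
          · rw [z2, swap_apply_right]
            exact ⟨fun h => absurd h (dAB _ ha), fun h => absurd h (dAB _ ha')⟩
          · rw [swap_apply_of_ne_of_ne z1 z2]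
      · intro z
        show F (swap a ((u : Perm (Fin n)) a) z) ∈ B ↔ z ∈ A
        rw [hfB]
        by_cases z1 : z = a
        · rw [z1, swap_apply_left]
          exact ⟨fun _ => ha, fun _ => ha'⟩
        · by_cases z2 : z = (u : Perm (Fin n)) a
          · rw [z2, swap_apply_right]
            exact ⟨fun _ => ha', fun _ => ha⟩
          · rw [swap_apply_of_ne_of_ne z1 z2]
  let C : Subgroup Alt :=
    { carrier := {c | (∀ z, (c : Perm (Fin n)) z ∈ A ↔ z ∈ A) ∧ (∀ z, (c : Perm (Fin n)) z ∈ B ↔ z ∈ B)}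
      mul_mem' := by
        rintro c d ⟨c1, c2⟩ ⟨d1, d2⟩
        refine ⟨fun z => ?_, fun z => ?_⟩
        · show (c : Perm (Fin n)) ((d : Perm (Fin n)) z) ∈ A ↔ _
          rw [c1, d1]
        · show (c : Perm (Fin n)) ((d : Perm (Fin n)) z) ∈ B ↔ _
          rw [c2, d2]
      one_mem' := ⟨fun _ => Iff.rfl, fun _ => Iff.rfl⟩
      inv_mem' := by
        rintro c ⟨c1, c2⟩
        refine ⟨fun z => ?_, fun z => ?_⟩
        · show (c : Perm (Fin n))⁻¹ z ∈ A ↔ _
          rw [← c1]; simp
        · show (c : Perm (Fin n))⁻¹ z ∈ B ↔ _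
          rw [← c2]; simp }
  have hmem : y ∈ C := by
    apply mem_of_odd S C
    · intro s hs
      have hsu := comm_apply (cu s hs)
      have hsv := comm_apply (cv s hs)
      refine ⟨fun z => ?_, fun z => ?_⟩
      · rw [mA, mA, ← hsu, ← hsv]
        simp
      · rw [mB, mB, ← hsu, ← hsv]
        simp
    · rintro c ⟨c1, c2⟩
      have iA : ∀ z, (y : Perm (Fin n))⁻¹ z ∈ A ↔ z ∈ B := fun z => by rw [← hyB]; simp
      have iB : ∀ z, (y : Perm (Fin n))⁻¹ z ∈ B ↔ z ∈ A := fun z => by rw [← hyA]; simp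
      refine ⟨fun z => ?_, fun z => ?_⟩
      · show (y : Perm (Fin n)) ((c : Perm (Fin n)) ((y : Perm (Fin n))⁻¹ z)) ∈ A ↔ _
        rw [hyA, c2, iB]
      · show (y : Perm (Fin n)) ((c : Perm (Fin n)) ((y : Perm (Fin n))⁻¹ z)) ∈ B ↔ _
        rw [hyB, c1, iA]
    · refine ⟨fun z => ?_, fun z => ?_⟩
      · show (y : Perm (Fin n)) ((y : Perm (Fin n)) z) ∈ A ↔ _
        rw [hyA, hyB]
      · show (y : Perm (Fin n)) ((y : Perm (Fin n)) z) ∈ B ↔ _
        rw [hyB, hyA]
  have h1 : (y : Perm (Fin n)) a ∈ A := (hmem.1 a).2 ha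
  exact dAB a ha ((hyA a).1 h1)

/-- In `A_6` and `A_7` every involution moves four points. -/
theorem card_support_of_le (hn : n ≤ 7) {u : Alt} (uu : u * u = 1) (hu : u ≠ 1) :
    (u : Perm (Fin n)).support.card = 4 := by
  have ho : orderOf (u : Perm (Fin n)) = 2 := by
    apply orderOf_eq_prime
    · rw [pow_two]
      exact congrArg (fun g : Alt => (g : Perm (Fin n))) uu
    · intro h
      exact hu (Subtype.ext h)
  obtain ⟨k, hk⟩ := cycleType_prime_order (σ := (u : Perm (Fin n))) (by rw [ho]; exact Nat.prime_two)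
  rw [ho] at hk
  have hs := sign_of_cycleType (u : Perm (Fin n))
  rw [hk, (mem_alternatingGroup).1 u.2] at hs
  have hc := sum_cycleType (u : Perm (Fin n))
  rw [hk] at hc
  have hle : (u : Perm (Fin n)).support.card ≤ n := by
    have := Finset.card_le_univ (u : Perm (Fin n)).support
    rwa [Fintype.card_fin] at this
  simp only [Multiset.sum_replicate, smul_eq_mul, Multiset.card_replicate] at hs hc
  have hk2 : (k + 1) * 2 ≤ 7 := by omega
  have hk3 : k ≤ 2 := by omega
  interval_cases k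
  · exfalso
    revert hs
    decide
  · omega
  · exfalso
    revert hs
    decide

/-- **K-fact (ZS), row `A_n`, `n ≥ 6`**: an automorphism `t` of odd order normalising the Sylow 2-subgroup
`S` fixes all `u ∈ Z(S)` with `u² = 1`. -/
theorem noCenMove (hn : 6 ≤ n) (S : Sylow 2 Alt) (t : MulAut Alt) (hS : ∀ x ∈ S, t x ∈ S) (u : Alt)
    (hu : u ∈ S) (cu : ∀ x ∈ S, x * u = u * x) (uu : u * u = 1) : t u = u := by
  classical
  have hbij : ∀ x ∈ S, ∃ y ∈ S, t y = x := by
    have hinj : Function.Injective (fun x : (S : Subgroup Alt) => (⟨t x, hS x x.2⟩ : (S : Subgroup Alt))) := by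
      intro a b h
      apply Subtype.ext
      exact t.injective (congrArg Subtype.val h)
    have hsur := Finite.surjective_of_injective hinj
    intro x hx
    obtain ⟨y, hy⟩ := hsur ⟨x, hx⟩
    exact ⟨y, y.2, congrArg Subtype.val hy⟩
  have cv : ∀ x ∈ S, x * t u = t u * x := by
    intro x hx
    obtain ⟨y, hy, rfl⟩ := hbij x hx
    rw [← map_mul, ← map_mul, cu y hy]
  have vv : t u * t u = 1 := by rw [← map_mul, uu, map_one]
  have hcard : (u : Perm (Fin n)).support.card = ((t u : Alt) : Perm (Fin n)).support.card := by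
    rcases eq_or_lt_of_le hn with h | h
    · by_cases h1 : u = 1
      · rw [h1, map_one]
      · rw [card_support_of_le (by omega) uu h1, card_support_of_le (by omega) vv]
        intro h2
        exact h1 (t.injective (h2.trans (map_one t).symm))
    · obtain ⟨ψ, hψ⟩ := Cfsg.Agent.StandardComponent.AltAut.exists_autHom n h
      rw [hψ t u, card_support_conj]
  exact (eq_of_card hn S hu cu uu cv vv hcard).symm

end alt

end Cfsg.Agent.Omega.Lie.CenAlt
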