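import Mathlib

/-!
# The centre trick (helper484; NODE LIE, the K-fact (ZS))

`NoCenMove X`: an automorphism of odd order of `X` which normalises a Sylow 2-subgroup `S` fixes every element of
`Ω₁ Z(S)`.

* `NoCenMove.fix`: **the centre trick**: if `NoCenMove X`, `τ` is an automorphism of odd order normalising
  `S ∈ Syl₂(X)` and `τ` has no fixed point `≠ 1` in `[S, τ]`, then `τ` centralises `S`;
* `CenTwo X`: `|Ω₁ Z(S)| ≤ 2`; `CenTwo.noCenMove`;
* `NoCenMove.of_one`: one Sylow subgroup is enough; `NoCenMove.map`, `CenTwo.map`: isomorphisms;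
* `NoCenMove.of_center`: from `X/Z(X)` if `|Z(X)|` is odd; `NoCenMove.cover`: from `K/Z(K) ≅ X`;
* `cenTwo_of_odd`: `z` 2-central, `R ⊴ C(z)` a 2-group, every involution of `C(z) ∩ C(R)` is `z`.
-/

set_option autoImplicit false
set_option linter.dupNamespace false

namespace Cfsg.Agent.Omega.Lie.CenTwo

open Subgroup
open scoped Pointwise

/-- An automorphism of odd order normalising a Sylow 2-subgroup `S` fixes the elements of `Ω₁ Z(S)`. -/
def NoCenMove (X : Type*) [Group X] : Prop :=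
  ∀ (S : Sylow 2 X) (τ : MulAut X), Odd (orderOf τ) → (∀ x ∈ S, τ x ∈ S) →
    ∀ u ∈ S, (∀ x ∈ S, x * u = u * x) → u * u = 1 → τ u = u

/-- `Ω₁ Z(S)` has order at most 2, `S` a Sylow 2-subgroup. -/
def CenTwo (X : Type*) [Group X] : Prop :=
  ∃ (S : Sylow 2 X) (z : X), ∀ u ∈ S, (∀ x ∈ S, x * u = u * x) → u * u = 1 → u = 1 ∨ u = z

variable {X Y : Type*} [Group X] [Group Y]

/-- an automorphism which maps a finite subgroup into itself maps it onto itself -/
theorem exists_preimage {S : Subgroup X} [Finite S] {τ : MulAut X} (h : ∀ x ∈ S, τ x ∈ S) {x : X}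
    (hx : x ∈ S) : ∃ y ∈ S, τ y = x := by
  let f : S → S := fun y => ⟨τ y, h y y.2⟩
  have hf : Function.Injective f := by
    intro a b hab
    have h1 : τ a = τ b := congrArg Subtype.val hab
    exact Subtype.ext (τ.injective h1)
  obtain ⟨y, hy⟩ := (Finite.injective_iff_surjective.1 hf) ⟨x, hx⟩
  exact ⟨y, y.2, congrArg Subtype.val hy⟩

/-! ### one Sylow subgroup is enough -/

/-- all Sylow subgroups are conjugate, in elementary form -/
theorem exists_conj [Finite X] (S S' : Sylow 2 X) : ∃ g : X, ∀ x, x ∈ S' ↔ g⁻¹ * x * g ∈ S := by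
  have : Fact (Nat.Prime 2) := ⟨Nat.prime_two⟩
  obtain ⟨g, rfl⟩ := MulAction.exists_smul_eq X S S'
  refine ⟨g, fun x => ?_⟩
  show x ∈ ((g • S : Sylow 2 X) : Subgroup X) ↔ g⁻¹ * x * g ∈ (S : Subgroup X)
  rw [Sylow.coe_subgroup_smul]
  constructor
  · rintro ⟨y, hy, rfl⟩
    have e : g⁻¹ * (g * y * g⁻¹) * g = y := by group
    show g⁻¹ * (g * y * g⁻¹) * g ∈ (S : Subgroup X)
    rw [e]; exact hy
  · intro h
    refine ⟨g⁻¹ * x * g, h, ?_⟩
    simp [MulAut.conj_apply, mul_assoc]

theorem orderOf_conj_aut (g : X) (τ : MulAut X) :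
    orderOf ((MulAut.conj g)⁻¹ * τ * MulAut.conj g) = orderOf τ := by
  have h := orderOf_injective (MulAut.conj (MulAut.conj g)⁻¹ : MulAut X ≃* MulAut X).toMonoidHom
    (MulAut.conj (MulAut.conj g)⁻¹ : MulAut X ≃* MulAut X).injective τ
  rw [← h]
  congr 1

theorem NoCenMove.of_one [Finite X] {S : Sylow 2 X}
    (h : ∀ τ : MulAut X, Odd (orderOf τ) → (∀ x ∈ S, τ x ∈ S) →
      ∀ u ∈ S, (∀ x ∈ S, x * u = u * x) → u * u = 1 → τ u = u) : NoCenMove X := by
  intro S' τ hτ hS' u hu hc huu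
  obtain ⟨g, hg⟩ := exists_conj S S'
  have key : ∀ x, ((MulAut.conj g)⁻¹ * τ * MulAut.conj g) x = g⁻¹ * τ (g * x * g⁻¹) * g := by
    intro x
    show (MulAut.conj g)⁻¹ (τ (MulAut.conj g x)) = _
    rw [MulAut.conj_apply, ← map_inv, MulAut.conj_apply, inv_inv]
  have h1 := h ((MulAut.conj g)⁻¹ * τ * MulAut.conj g) (by rw [orderOf_conj_aut]; exact hτ) (by
    intro x hx
    rw [key, ← hg]
    apply hS'
    rw [hg]
    have e : g⁻¹ * (g * x * g⁻¹) * g = x := by group
    rwa [e]) (g⁻¹ * u * g) ((hg u).1 hu) (by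
    intro x hx
    have h2 := hc (g * x * g⁻¹) ((hg _).2 (by
      have e : g⁻¹ * (g * x * g⁻¹) * g = x := by group
      rwa [e]))
    calc x * (g⁻¹ * u * g) = g⁻¹ * (g * x * g⁻¹ * u) * g := by group
      _ = g⁻¹ * (u * (g * x * g⁻¹)) * g := by rw [h2]
      _ = _ := by group) (by
    calc g⁻¹ * u * g * (g⁻¹ * u * g) = g⁻¹ * (u * u) * g := by group
      _ = 1 := by rw [huu]; group)
  rw [key] at h1
  have e : g * (g⁻¹ * u * g) * g⁻¹ = u := by group
  rw [e] at h1
  calc τ u = g * (g⁻¹ * τ u * g) * g⁻¹ := by group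
    _ = g * (g⁻¹ * u * g) * g⁻¹ := by rw [h1]
    _ = u := e

/-- the property `|Ω₁ Z(S)| ≤ 2` for all Sylow subgroups -/
theorem CenTwo.all [Finite X] (h : CenTwo X) (S : Sylow 2 X) {u v : X} (hu : u ∈ S)
    (hcu : ∀ x ∈ S, x * u = u * x) (huu : u * u = 1) (hu1 : u ≠ 1) (hv : v ∈ S)
    (hcv : ∀ x ∈ S, x * v = v * x) (hvv : v * v = 1) (hv1 : v ≠ 1) : u = v := by
  obtain ⟨S', z, hz⟩ := h
  obtain ⟨g, hg⟩ := exists_conj S S'
  have key : ∀ w, w ∈ S → (∀ x ∈ S, x * w = w * x) → w * w = 1 → w ≠ 1 → g * w * g⁻¹ = z := by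
    intro w hw hc hww hw1
    rcases hz (g * w * g⁻¹) ((hg _).2 (by
      have e : g⁻¹ * (g * w * g⁻¹) * g = w := by group
      rwa [e])) (by
      intro x hx
      have h2 := hc _ ((hg x).1 hx)
      calc x * (g * w * g⁻¹) = g * (g⁻¹ * x * g * w) * g⁻¹ := by group
        _ = g * (w * (g⁻¹ * x * g)) * g⁻¹ := by rw [h2]
        _ = _ := by group) (by
      calc g * w * g⁻¹ * (g * w * g⁻¹) = g * (w * w) * g⁻¹ := by group
        _ = 1 := by rw [hww]; group) with h | h
    · exfalso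
      apply hw1
      calc w = g⁻¹ * (g * w * g⁻¹) * g := by group
        _ = 1 := by rw [h]; group
    · exact h
  have h1 := key u hu hcu huu hu1
  have h2 := key v hv hcv hvv hv1
  have h3 : g * u * g⁻¹ = g * v * g⁻¹ := h1.trans h2.symm
  exact mul_left_cancel (mul_right_cancel h3)

theorem CenTwo.noCenMove [Finite X] (h : CenTwo X) : NoCenMove X := by
  intro S τ _ hS u hu hc huu
  by_cases hu1 : u = 1
  · rw [hu1, map_one]
  · refine (h.all S (hS u hu) ?_ (by rw [← map_mul, huu, map_one]) ?_ hu hc huu hu1)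
    · intro x hx
      obtain ⟨y, hy, rfl⟩ := exists_preimage (S := (S : Subgroup X)) hS hx
      rw [← map_mul, hc y hy, map_mul]
    · intro h1
      exact hu1 (τ.injective (h1.trans (map_one τ).symm))

/-! ### isomorphisms -/

theorem mem_of_sylow_comap [Finite Y] (e : X ≃* Y) (S : Sylow 2 Y) :
    ∃ T : Sylow 2 X, ∀ x, x ∈ T ↔ e x ∈ S := by
  have hmem : ∀ x, x ∈ (S : Subgroup Y).comap e.toMonoidHom ↔ e x ∈ S := fun x => Iff.rfl
  have h2 : IsPGroup 2 ((S : Subgroup Y).comap e.toMonoidHom) :=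
    S.isPGroup'.comap_of_injective _ e.injective
  refine ⟨⟨(S : Subgroup Y).comap e.toMonoidHom, h2, ?_⟩, hmem⟩
  intro Q hQ hle
  have h3 : IsPGroup 2 (Q.map e.toMonoidHom) := hQ.map _
  have h4 := S.is_maximal' h3 (by
    intro y hy
    refine ⟨e.symm y, hle ?_, by simp⟩
    show e (e.symm y) ∈ (S : Subgroup Y)
    rw [e.apply_symm_apply]; exact hy)
  apply le_antisymm _ hle
  intro x hx
  show e x ∈ (S : Subgroup Y)
  rw [← h4]
  exact ⟨x, hx, rfl⟩

theorem NoCenMove.map [Finite Y] (e : X ≃* Y) (h : NoCenMove X) : NoCenMove Y := by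
  intro S τ hτ hS u hu hc huu
  obtain ⟨T, hT⟩ := mem_of_sylow_comap e S
  have key : ∀ x, ((e.trans τ).trans e.symm) x = e.symm (τ (e x)) := fun x => rfl
  have hord : orderOf ((e.trans τ).trans e.symm : MulAut X) = orderOf τ := by
    have h1 := orderOf_injective (MulAut.congr e.symm : MulAut Y ≃* MulAut X).toMonoidHom
      (MulAut.congr e.symm : MulAut Y ≃* MulAut X).injective τ
    rw [← h1]
    rfl
  have h1 := h T ((e.trans τ).trans e.symm) (by rw [hord]; exact hτ) (by
    intro x hx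
    rw [hT, key]
    have := hS _ ((hT x).1 hx)
    simpa using this) (e.symm u) (by rw [hT]; simpa using hu) (by
    intro x hx
    apply e.injective
    have := hc _ ((hT x).1 hx)
    simpa using this) (by rw [← map_mul, huu, map_one])
  rw [key] at h1
  have h2 := e.symm.injective h1
  simpa using h2

theorem CenTwo.map [Finite Y] (e : X ≃* Y) (h : CenTwo X) : CenTwo Y := by
  have : Finite X := Finite.of_equiv Y e.symm.toEquiv
  obtain ⟨S, z, hz⟩ := h
  obtain ⟨T, hT⟩ := mem_of_sylow_comap e.symm S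
  refine ⟨T, e z, ?_⟩
  intro u hu hc huu
  rcases hz (e.symm u) ((hT u).1 hu) (by
    intro x hx
    have := hc (e x) (by rw [hT]; simpa using hx)
    have h2 := congrArg e.symm this
    simpa using h2) (by rw [← map_mul, huu, map_one]) with h | h
  · left
    exact e.symm.injective (h.trans (map_one e.symm).symm)
  · right
    rw [← h]; simp

/-! ### central extensions of odd order -/

/-- from `X/Z(X)` to `X`, `|Z(X)|` odd -/
theorem NoCenMove.of_center [Finite X] (hodd : Odd (Nat.card (center X))) (h : NoCenMove (X ⧸ center X)) :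
    NoCenMove X := by
  have : Fact (Nat.Prime 2) := ⟨Nat.prime_two⟩
  intro S τ hτ hS u hu hc huu
  have hZ : ∀ x ∈ center X, τ x ∈ center X := fun x hx => by
    rw [mem_center_iff] at hx ⊢
    intro g
    obtain ⟨y, rfl⟩ := τ.surjective g
    rw [← map_mul, hx y, map_mul]
  have hZmap : (center X).map (τ : X ≃* X).toMonoidHom = center X := by
    apply le_antisymm
    · rintro _ ⟨x, hx, rfl⟩
      exact hZ x hx
    · intro x hx
      obtain ⟨y, hy, hyx⟩ := exists_preimage (S := center X) (τ := τ) hZ hx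
      exact ⟨y, hy, hyx⟩
  let τ' : MulAut (X ⧸ center X) := QuotientGroup.congr (center X) (center X) (τ : X ≃* X) hZmap
  have hτ' : ∀ x : X, τ' (x : X ⧸ center X) = ((τ x : X) : X ⧸ center X) := fun x => rfl
  have hpow : ∀ (n : ℕ) (x : X), (τ' ^ n) (x : X ⧸ center X) = (((τ ^ n) x : X) : X ⧸ center X) := by
    intro n
    induction n with
    | zero => intro x; rfl
    | succ n ih =>
      intro x
      rw [pow_succ, pow_succ, MulAut.mul_apply, MulAut.mul_apply, hτ', ih]
  have hord : orderOf τ' ∣ orderOf τ := by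
    apply orderOf_dvd_of_pow_eq_one
    apply MulEquiv.ext
    intro x
    induction x using QuotientGroup.induction_on with
    | H x => rw [hpow, pow_orderOf_eq_one]; rfl
  have hsurj : Function.Surjective (QuotientGroup.mk' (center X)) := QuotientGroup.mk'_surjective _
  -- the image of `S` is a Sylow subgroup
  let S' : Sylow 2 (X ⧸ center X) := S.mapSurjective hsurj
  have hS' : ∀ y, y ∈ S' ↔ ∃ x ∈ S, (x : X ⧸ center X) = y := fun y => Iff.rfl
  have h1 := h S' τ' (Odd.of_dvd_nat hτ hord) (by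
    intro y hy
    obtain ⟨x, hx, rfl⟩ := (hS' y).1 hy
    rw [hτ']
    exact (hS' _).2 ⟨τ x, hS x hx, rfl⟩) (u : X ⧸ center X) ((hS' _).2 ⟨u, hu, rfl⟩) (by
    intro y hy
    obtain ⟨x, hx, rfl⟩ := (hS' y).1 hy
    rw [← QuotientGroup.mk_mul, hc x hx, QuotientGroup.mk_mul]) (by
    rw [← QuotientGroup.mk_mul, huu]; rfl)
  rw [hτ'] at h1
  have h2 : u⁻¹ * τ u ∈ center X := QuotientGroup.eq.1 h1.symm
  have h3 : u⁻¹ * τ u ∈ (S : Subgroup X) := mul_mem (inv_mem hu) (hS u hu)
  have h4 : u⁻¹ * τ u = 1 := by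
    have h5 : Disjoint (S : Subgroup X) (center X) := by
      apply Subgroup.disjoint_of_coprime_natCard
      obtain ⟨n, hn⟩ := IsPGroup.iff_card.1 S.isPGroup'
      rw [hn]
      exact Nat.Coprime.pow_left n hodd.coprime_two_left
    exact (Subgroup.disjoint_def.1 h5) h3 h2
  calc τ u = u * (u⁻¹ * τ u) := by group
    _ = u := by rw [h4, mul_one]

/-- from `X ≅ K/Z(K)` to `K`, `|Z(K)|` odd -/
theorem NoCenMove.cover {K : Type*} [Group K] [Finite K] (hodd : Odd (Nat.card (center K)))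
    (e : X ≃* K ⧸ center K) (h : NoCenMove X) : NoCenMove K :=
  NoCenMove.of_center hodd (h.map e)

/-! ### the centre trick -/

/-- `[S, τ]` -/
def comm (S : Subgroup X) (τ : MulAut X) : Subgroup X := closure {y | ∃ x ∈ S, y = x⁻¹ * τ x}

theorem comm_le {S : Subgroup X} {τ : MulAut X} (h : ∀ x ∈ S, τ x ∈ S) : comm S τ ≤ S := by
  rw [comm, closure_le]
  rintro _ ⟨x, hx, rfl⟩
  exact mul_mem (inv_mem hx) (h x hx)

theorem comm_normal {S : Subgroup X} {τ : MulAut X} {g : X} (hg : g ∈ S) {y : X}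
    (hy : y ∈ comm S τ) : g * y * g⁻¹ ∈ comm S τ := by
  have key : ∀ g ∈ S, ∀ x ∈ S, g * (x⁻¹ * τ x) * g⁻¹ ∈ comm S τ := by
    intro g hg x hx
    have h1 : (x * g⁻¹)⁻¹ * τ (x * g⁻¹) ∈ comm S τ := subset_closure ⟨_, mul_mem hx (inv_mem hg), rfl⟩
    have h2 : (g⁻¹)⁻¹ * τ g⁻¹ ∈ comm S τ := subset_closure ⟨_, inv_mem hg, rfl⟩
    have h3 := mul_mem h1 (inv_mem h2)
    convert h3 using 1
    rw [map_mul, map_inv]
    group
  refine closure_induction (p := fun y _ => g * y * g⁻¹ ∈ comm S τ) ?_ ?_ ?_ ?_ hy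
  · rintro _ ⟨x, hx, rfl⟩
    exact key g hg x hx
  · simp
  · intro a b _ _ ha hb
    have := mul_mem ha hb
    convert this using 1
    group
  · intro a _ ha
    have := inv_mem ha
    convert this using 1
    group

/-- a nontrivial normal subgroup of a 2-group contains a central involution -/
theorem exists_central {S : Subgroup X} [Finite S] (hS : IsPGroup 2 S) {N : Subgroup X} (hN : N ≤ S)
    (hn : ∀ g ∈ S, ∀ y ∈ N, g * y * g⁻¹ ∈ N) {y : X} (hy : y ∈ N) (hy1 : y ≠ 1) :
    ∃ u ∈ N, u ≠ 1 ∧ u * u = 1 ∧ ∀ x ∈ S, x * u = u * x := by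
  have : Fact (Nat.Prime 2) := ⟨Nat.prime_two⟩
  have hnorm : (N.subgroupOf S).Normal := ⟨fun n hn' g => by
    rw [mem_subgroupOf] at hn' ⊢
    exact hn g g.2 n hn'⟩
  have hnt : Nontrivial (N.subgroupOf S) := by
    rw [nontrivial_iff_exists_ne_one]
    refine ⟨⟨y, hN hy⟩, mem_subgroupOf.2 hy, ?_⟩
    intro h
    exact hy1 (congrArg Subtype.val h)
  -- the action of `S` on `N` by conjugation has a nontrivial fixed point
  obtain ⟨k, hk⟩ := IsPGroup.iff_card.1 (hS.to_subgroup (N.subgroupOf S))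
  have hcard : 2 ∣ Nat.card (N.subgroupOf S) := by
    rw [hk]
    apply dvd_pow_self
    rintro rfl
    rw [pow_zero] at hk
    have := (Nat.card_eq_one_iff_unique.1 hk).1
    exact not_subsingleton _ this
  let _ : MulAction S (N.subgroupOf S) := MulAction.compHom _ (MulAut.conjNormal (H := N.subgroupOf S))
  have hact : ∀ (g : S) (n : N.subgroupOf S), ((g • n : N.subgroupOf S) : S) = g * n * g⁻¹ := by
    intro g n
    exact MulAut.conjNormal_apply g n
  have h1fix : (1 : N.subgroupOf S) ∈ MulAction.fixedPoints S (N.subgroupOf S) := by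
    intro g
    apply Subtype.ext
    rw [hact]
    simp
  obtain ⟨b, hb, hb1⟩ := hS.exists_fixed_point_of_prime_dvd_card_of_fixed_point (N.subgroupOf S) hcard h1fix
  -- a power of `b` is an involution
  have hbc : ∀ x ∈ S, x * (b : S) = (b : S) * x := by
    intro x hx
    have h2 := hb ⟨x, hx⟩
    have h3 := hact ⟨x, hx⟩ b
    rw [h2] at h3
    have h4 : ((b : S) : X) = x * ((b : S) : X) * x⁻¹ := congrArg Subtype.val h3
    calc x * ((b : S) : X) = x * ((b : S) : X) * x⁻¹ * x := by group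
      _ = ((b : S) : X) * x := by rw [← h4]
  have hbN : ((b : S) : X) ∈ N := mem_subgroupOf.1 b.2
  obtain ⟨m, hm⟩ := (IsPGroup.iff_orderOf.1 hS) (b : S)
  have hb1' : ((b : S) : X) ≠ 1 := by
    intro h
    apply hb1
    apply Subtype.ext
    apply Subtype.ext
    exact h.symm
  have hm' : orderOf ((b : S) : X) = 2 ^ m := by rw [← hm, Subgroup.orderOf_coe]
  obtain ⟨n, rfl⟩ : ∃ n, m = n + 1 := by
    cases m with
    | zero =>
      exfalso
      rw [pow_zero, orderOf_eq_one_iff] at hm'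
      exact hb1' hm'
    | succ n => exact ⟨n, rfl⟩
  refine ⟨((b : S) : X) ^ (2 ^ n), pow_mem hbN _, ?_, ?_, ?_⟩
  · intro h
    have h2 := orderOf_dvd_of_pow_eq_one h
    rw [hm'] at h2
    have := Nat.le_of_dvd (by positivity) h2
    rw [pow_succ] at this
    have h3 : 0 < 2 ^ n := by positivity
    omega
  · rw [← pow_add, ← two_mul, ← pow_succ', ← hm', pow_orderOf_eq_one]
  · intro x hx
    exact (Commute.pow_right (show Commute x ((b : S) : X) from hbc x hx) _).eq

/-- **The centre trick.** -/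
theorem NoCenMove.fix [Finite X] (h : NoCenMove X) {S : Sylow 2 X} {τ : MulAut X} (hτ : Odd (orderOf τ))
    (hS : ∀ x ∈ S, τ x ∈ S) (hfree : ∀ u ∈ comm (S : Subgroup X) τ, τ u = u → u = 1) :
    ∀ x ∈ S, τ x = x := by
  intro x hx
  by_contra hne
  have h1 : x⁻¹ * τ x ∈ comm (S : Subgroup X) τ := subset_closure ⟨x, hx, rfl⟩
  have h2 : x⁻¹ * τ x ≠ 1 := fun h => hne (by
    calc τ x = x * (x⁻¹ * τ x) := by group
      _ = x := by rw [h, mul_one])
  obtain ⟨u, hu, hu1, huu, hc⟩ := exists_central (S := (S : Subgroup X)) S.isPGroup' (comm_le hS)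
    (fun g hg y hy => comm_normal hg hy) h1 h2
  exact hu1 (hfree u hu (h S τ hτ hS u (comm_le hS hu) hc huu))

/-- the centre trick, the form with a 2-subgroup `A` containing `[S, τ]` -/
theorem NoCenMove.fix' [Finite X] (h : NoCenMove X) {S : Sylow 2 X} {τ : MulAut X} (hτ : Odd (orderOf τ))
    (hS : ∀ x ∈ S, τ x ∈ S) {A : Subgroup X} (hA : ∀ x ∈ S, x⁻¹ * τ x ∈ A)
    (hfree : ∀ u ∈ A, τ u = u → u = 1) : ∀ x ∈ S, τ x = x := by
  refine h.fix hτ hS fun u hu => hfree u ?_
  have : comm (S : Subgroup X) τ ≤ A := by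
    rw [comm, closure_le]
    rintro _ ⟨x, hx, rfl⟩
    exact hA x hx
  exact this hu

/-! ### criteria -/

/-- a Sylow 2-subgroup of `X` inside a subgroup of odd index -/
theorem exists_sylow_le [Finite X] {C : Subgroup X} (hodd : ¬ 2 ∣ C.index) :
    ∃ S : Sylow 2 X, (S : Subgroup X) ≤ C := by
  have : Fact (Nat.Prime 2) := ⟨Nat.prime_two⟩
  obtain ⟨T⟩ : Nonempty (Sylow 2 C) := inferInstance
  have hcT : Nat.card ((T : Subgroup C).map C.subtype) = 2 ^ (Nat.card C).factorization 2 := by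
    rw [Nat.card_congr ((T : Subgroup C).equivMapOfInjective C.subtype C.subtype_injective).symm.toEquiv]
    exact T.card_eq_multiplicity
  have hf : (Nat.card X).factorization 2 = (Nat.card C).factorization 2 := by
    rw [← C.card_mul_index, Nat.factorization_mul Nat.card_pos.ne' C.index_ne_zero_of_finite,
      Finsupp.add_apply]
    have : C.index.factorization 2 = 0 := Nat.factorization_eq_zero_of_not_dvd hodd
    omega
  refine ⟨Sylow.ofCard ((T : Subgroup C).map C.subtype) (by rw [hcT, hf]), ?_⟩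
  rintro _ ⟨x, -, rfl⟩
  exact x.2

/-- a normal 2-subgroup of `C` lies in a Sylow 2-subgroup which is contained in `C` -/
theorem le_sylow {C R : Subgroup X} {S : Sylow 2 X} (hS : (S : Subgroup X) ≤ C) (hR : IsPGroup 2 R)
    (hn : ∀ c ∈ C, ∀ r ∈ R, c * r * c⁻¹ ∈ R) : R ≤ S := by
  have hnorm : (S : Subgroup X) ≤ normalizer (R : Set X) := by
    intro s hs
    rw [mem_normalizer_iff]
    intro r
    constructor
    · exact fun hr => hn s (hS hs) r hr
    · intro hr
      have h1 := hn s⁻¹ (inv_mem (hS hs)) _ hr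
      have e : s⁻¹ * (s * r * s⁻¹) * s⁻¹⁻¹ = r := by group
      rwa [e] at h1
  have h2 : IsPGroup 2 ((S : Subgroup X) ⊔ R : Subgroup X) :=
    S.isPGroup'.to_sup_of_normal_right' hR hnorm
  have h3 := S.is_maximal' h2 le_sup_left
  exact (le_sup_right : R ≤ (S : Subgroup X) ⊔ R).trans h3.le

/-- **Criterion.** `C` has odd index, `R` is a normal 2-subgroup of `C`, and the involutions of `C ∩ C(R)` are `z`. -/
theorem cenTwo_of_odd [Finite X] {C R : Subgroup X} {z : X} (hodd : ¬ 2 ∣ C.index) (hR : IsPGroup 2 R)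
    (hn : ∀ c ∈ C, ∀ r ∈ R, c * r * c⁻¹ ∈ R)
    (hc : ∀ u ∈ C, (∀ r ∈ R, r * u = u * r) → u * u = 1 → u = 1 ∨ u = z) : CenTwo X := by
  obtain ⟨S, hS⟩ := exists_sylow_le hodd
  have hRS := le_sylow hS hR hn
  exact ⟨S, z, fun u hu h1 h2 => hc u (hS hu) (fun r hr => h1 r (hRS hr)) h2⟩

/-- from a Sylow 2-subgroup of a subgroup of odd index -/
theorem cenTwo_of_subgroup [Finite X] {C : Subgroup X} (hodd : ¬ 2 ∣ C.index) (h : CenTwo C) : CenTwo X := by
  obtain ⟨T, z, hz⟩ := h
  have : Fact (Nat.Prime 2) := ⟨Nat.prime_two⟩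
  have hcT : Nat.card ((T : Subgroup C).map C.subtype) = 2 ^ (Nat.card C).factorization 2 := by
    rw [Nat.card_congr ((T : Subgroup C).equivMapOfInjective C.subtype C.subtype_injective).symm.toEquiv]
    exact T.card_eq_multiplicity
  have hf : (Nat.card X).factorization 2 = (Nat.card C).factorization 2 := by
    rw [← C.card_mul_index, Nat.factorization_mul Nat.card_pos.ne' C.index_ne_zero_of_finite,
      Finsupp.add_apply]
    have : C.index.factorization 2 = 0 := Nat.factorization_eq_zero_of_not_dvd hodd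
    omega
  refine ⟨Sylow.ofCard ((T : Subgroup C).map C.subtype) (by rw [hcT, hf]), z, ?_⟩
  rintro _ ⟨x, hx, rfl⟩ hc huu
  rcases hz x hx (fun y hy => Subtype.ext (hc y ⟨y, hy, rfl⟩)) (Subtype.ext huu) with h | h
  · left; rw [h]; rfl
  · right; rw [h]; rfl

/-- the classes of the central involutions are different under the automorphisms of odd order -/
theorem NoCenMove.of_classes [Finite X] {S : Sylow 2 X}
    (h : ∀ u ∈ S, (∀ x ∈ S, x * u = u * x) → u * u = 1 → ∀ v ∈ S, (∀ x ∈ S, x * v = v * x) → v * v = 1 →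
      ∀ α : MulAut X, Odd (orderOf α) → α u = v → u = v) : NoCenMove X := by
  refine NoCenMove.of_one (S := S) fun τ hτ hS u hu hc huu => ?_
  refine (h u hu hc huu (τ u) (hS u hu) ?_ (by rw [← map_mul, huu, map_one]) τ hτ rfl).symm
  intro x hx
  obtain ⟨y, hy, rfl⟩ := exists_preimage (S := (S : Subgroup X)) hS hx
  rw [← map_mul, hc y hy, map_mul]

end Cfsg.Agent.Omega.Lie.CenTwo
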