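import Mathlib.GroupTheory.Commutator.Basic
import Mathlib.GroupTheory.Sylow
import Mathlib.Tactic

/-!
# TEXT LIE-1 (bb OMEGA #12098), (T3): the part of `A` inside a component

`S` a 2-group, `A ≤ S` of exponent two, `T` normalises `A`, `S` and `K`, `[S, T] ≤ A`, `A = [A, T]`; `S ⊓ K` is a
Sylow 2-subgroup of `K` (maximality), `Z(K)` has odd order, and every element of `A` acts on `K` as an element of `K`.
Then `B = A ⊓ K = [S ⊓ K, T]` and `A = B × C_A(K)`.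
-/

set_option autoImplicit false

namespace Cfsg.Agent.Omega.Lie.CompB

open Subgroup

variable {G : Type*} [Group G]

/-- `A`, `T`, `S`, `K` without the assumption that `A` is inner on `K`. -/
structure Pre (S A T K : Subgroup G) : Prop where
  S2 : IsPGroup 2 S
  AS : A ≤ S
  A2 : ∀ a ∈ A, a * a = 1
  TA : ∀ t ∈ T, ∀ a ∈ A, t * a * t⁻¹ ∈ A
  TS : ∀ t ∈ T, ∀ s ∈ S, t * s * t⁻¹ ∈ S
  TK : ∀ t ∈ T, ∀ x ∈ K, t * x * t⁻¹ ∈ K
  ST : ∀ t ∈ T, ∀ s ∈ S, s⁻¹ * (t * s * t⁻¹) ∈ A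
  AT : A ≤ closure {g | ∃ a ∈ A, ∃ t ∈ T, a⁻¹ * (t * a * t⁻¹) = g}
  AK : ∀ a ∈ A, ∀ x ∈ K, a * x * a⁻¹ ∈ K
  syl : ∀ P : Subgroup G, P ≤ K → IsPGroup 2 P → S ⊓ K ≤ P → P ≤ S
  zodd : ∀ x ∈ K, (∀ y ∈ K, x * y = y * x) → Odd (orderOf x)

/-- `a` acts on `K` as `k`. -/
def Acts (K : Subgroup G) (a k : G) : Prop := ∀ x ∈ K, a * x * a⁻¹ = k * x * k⁻¹

namespace Pre

variable {S A T K : Subgroup G}

theorem commA (h : Pre S A T K) {a b : G} (ha : a ∈ A) (hb : b ∈ A) : a * b = b * a := by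
  have h1 := h.A2 _ (A.mul_mem ha hb)
  have h2 := h.A2 a ha
  have h3 := h.A2 b hb
  have e1 : a⁻¹ = a := inv_eq_of_mul_eq_one_left h2
  have e2 : b⁻¹ = b := inv_eq_of_mul_eq_one_left h3
  have e3 : (a * b)⁻¹ = a * b := inv_eq_of_mul_eq_one_left h1
  rw [mul_inv_rev, e1, e2] at e3
  exact e3.symm

theorem TK_iff (h : Pre S A T K) {t x : G} (ht : t ∈ T) : t * x * t⁻¹ ∈ K ↔ x ∈ K := by
  refine ⟨fun hx => ?_, h.TK t ht x⟩
  have := h.TK t⁻¹ (T.inv_mem ht) _ hx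
  have e : t⁻¹ * (t * x * t⁻¹) * t⁻¹⁻¹ = x := by group
  rwa [e] at this

/-- The trivial intersection `(S ⊓ K) ⊓ C(K) = 1`. -/
theorem eq_one (h : Pre S A T K) {x : G} (hS : x ∈ S) (hK : x ∈ K) (hc : ∀ y ∈ K, x * y = y * x) : x = 1 := by
  have h1 := h.zodd x hK hc
  obtain ⟨n, hn⟩ := h.S2 ⟨x, hS⟩
  have h2 : x ^ 2 ^ n = 1 := congrArg Subtype.val hn
  have h3 : orderOf x ∣ 2 ^ n := orderOf_dvd_of_pow_eq_one h2
  have h4 : Nat.Coprime (orderOf x) (2 ^ n) := (Nat.Coprime.pow_right n (Nat.coprime_two_right.2 h1))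
  have h5 : orderOf x = 1 := Nat.Coprime.eq_one_of_dvd h4 h3
  exact orderOf_eq_one_iff.1 h5

/-- the commutators of `S ⊓ K` with `T` lie in `A ⊓ K` -/
theorem comm_mem (h : Pre S A T K) {s t : G} (hs : s ∈ S) (hK : s ∈ K) (ht : t ∈ T) :
    s⁻¹ * (t * s * t⁻¹) ∈ A ⊓ K :=
  ⟨h.ST t ht s hs, K.mul_mem (K.inv_mem hK) (h.TK t ht s hK)⟩

/-- Two elements of `S ⊓ K` with the same action agree. -/
theorem unique (h : Pre S A T K) {a k l : G} (hkS : k ∈ S) (hkK : k ∈ K) (hlS : l ∈ S) (hlK : l ∈ K)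
    (hk : Acts K a k) (hl : Acts K a l) : k = l := by
  have h1 : k⁻¹ * l = 1 := by
    refine h.eq_one (S.mul_mem (S.inv_mem hkS) hlS) (K.mul_mem (K.inv_mem hkK) hlK) fun y hy => ?_
    have h2 : k * y * k⁻¹ = l * y * l⁻¹ := (hk y hy).symm.trans (hl y hy)
    calc k⁻¹ * l * y = k⁻¹ * (l * y * l⁻¹) * l := by group
      _ = k⁻¹ * (k * y * k⁻¹) * l := by rw [h2]
      _ = y * (k⁻¹ * l) := by group
  exact (inv_mul_eq_one.1 h1)

/-- A 2-element normalising `S ⊓ K` lies in `S`. -/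
theorem mem_of_normalizes (h : Pre S A T K) {k : G} (hk : k ∈ K) {n : ℕ} (hn : k ^ 2 ^ n = 1)
    (hnorm : ∀ x, x ∈ S ⊓ K → k * x * k⁻¹ ∈ S ⊓ K) (hnorm' : ∀ x, x ∈ S ⊓ K → k⁻¹ * x * k ∈ S ⊓ K) : k ∈ S := by
  have hN : zpowers k ≤ normalizer ((S ⊓ K : Subgroup G) : Set G) := by
    rw [zpowers_le]
    rw [mem_normalizer_iff]
    intro x
    refine ⟨hnorm x, fun hx => ?_⟩
    have := hnorm' _ hx
    have e : k⁻¹ * (k * x * k⁻¹) * k = x := by group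
    rwa [e] at this
  have hp1 : IsPGroup 2 (zpowers k) := by
    rintro ⟨x, hx⟩
    obtain ⟨m, rfl⟩ := mem_zpowers_iff.1 hx
    refine ⟨n, Subtype.ext ?_⟩
    change (k ^ m) ^ 2 ^ n = 1
    rw [← zpow_natCast, ← zpow_mul, mul_comm, zpow_mul, zpow_natCast, hn, one_zpow]
  have hp2 : IsPGroup 2 (S ⊓ K : Subgroup G) := h.S2.to_le inf_le_left
  have hp : IsPGroup 2 (zpowers k ⊔ (S ⊓ K) : Subgroup G) := IsPGroup.to_sup_of_normal_right' hp1 hp2 hN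
  have h1 := h.syl (zpowers k ⊔ (S ⊓ K)) (sup_le ((zpowers_le).2 hk) inf_le_right) hp le_sup_right
  exact h1 (mem_sup_left (mem_zpowers k))

/-- If `a ∈ A` acts on `K` as an element of `K`, it acts as an element of `S ⊓ K`. -/
theorem exists_mem (h : Pre S A T K) {a k : G} (ha : a ∈ A) (hk : k ∈ K) (hak : Acts K a k) :
    ∃ l, l ∈ S ∧ l ∈ K ∧ Acts K a l := by
  -- `k * k` is central in `K`, of odd order
  have hinv : a⁻¹ = a := inv_eq_of_mul_eq_one_left (h.A2 a ha)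
  have hz : ∀ y ∈ K, k * k * y = y * (k * k) := by
    intro y hy
    have h1 := hak y hy
    have h2 := hak _ (h.AK a ha y hy)
    rw [h1] at h2
    have h3 : a * (k * y * k⁻¹) * a⁻¹ = y := by
      rw [← h1]
      calc a * (a * y * a⁻¹) * a⁻¹ = (a * a) * y * (a * a)⁻¹ := by group
        _ = y := by rw [h.A2 a ha]; group
    rw [h3] at h2
    calc k * k * y = k * (k * y * k⁻¹) * k⁻¹ * (k * k) := by group
      _ = y * (k * k) := by rw [← h2]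
  have hodd := h.zodd (k * k) (K.mul_mem hk hk) hz
  obtain ⟨r, hr⟩ := hodd
  -- `l = k ^ (orderOf (k * k))`
  refine ⟨k ^ (2 * r + 1), ?_, K.pow_mem hk _, ?_⟩
  rotate_left
  · intro x hx
    have hz' : ∀ y ∈ K, (k * k) ^ r * y = y * (k * k) ^ r := by
      intro y hy
      have : Commute (k * k) y := hz y hy
      exact this.pow_left r
    have e1 : k ^ (2 * r + 1) = k * (k * k) ^ r := by
      rw [← pow_two, ← pow_mul, pow_succ']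
    rw [e1, hak x hx]
    have h4 : (k * k) ^ r * x * ((k * k) ^ r)⁻¹ = x := by rw [hz' x hx]; group
    calc k * x * k⁻¹ = k * ((k * k) ^ r * x * ((k * k) ^ r)⁻¹) * k⁻¹ := by rw [h4]
      _ = k * (k * k) ^ r * x * (k * (k * k) ^ r)⁻¹ := by group
  -- it normalises `S ⊓ K`
  have hact : Acts K a (k ^ (2 * r + 1)) := by
    intro x hx
    have hz' : ∀ y ∈ K, (k * k) ^ r * y = y * (k * k) ^ r := by
      intro y hy
      have : Commute (k * k) y := hz y hy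
      exact this.pow_left r
    have e1 : k ^ (2 * r + 1) = k * (k * k) ^ r := by
      rw [← pow_two, ← pow_mul, pow_succ']
    rw [e1, hak x hx]
    have h4 : (k * k) ^ r * x * ((k * k) ^ r)⁻¹ = x := by rw [hz' x hx]; group
    calc k * x * k⁻¹ = k * ((k * k) ^ r * x * ((k * k) ^ r)⁻¹) * k⁻¹ := by rw [h4]
      _ = k * (k * k) ^ r * x * (k * (k * k) ^ r)⁻¹ := by group
  have hl2 : (k ^ (2 * r + 1)) ^ 2 ^ 1 = 1 := by
    rw [pow_one, ← pow_mul, mul_comm, pow_mul, pow_two, ← hr, pow_orderOf_eq_one]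
  refine h.mem_of_normalizes (K.pow_mem hk _) hl2 ?_ ?_
  · rintro x ⟨hxS, hxK⟩
    rw [← hact x hxK]
    exact ⟨S.mul_mem (S.mul_mem (h.AS ha) hxS) (S.inv_mem (h.AS ha)), h.AK a ha x hxK⟩
  · rintro x ⟨hxS, hxK⟩
    have hl1 : (k ^ (2 * r + 1))⁻¹ = k ^ (2 * r + 1) := by
      rw [pow_one, pow_two] at hl2
      exact inv_eq_of_mul_eq_one_left hl2
    have : (k ^ (2 * r + 1))⁻¹ * x * k ^ (2 * r + 1) = k ^ (2 * r + 1) * x * (k ^ (2 * r + 1))⁻¹ := by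
      rw [hl1]
    rw [this, ← hact x hxK]
    exact ⟨S.mul_mem (S.mul_mem (h.AS ha) hxS) (S.inv_mem (h.AS ha)), h.AK a ha x hxK⟩

end Pre

/-- The hypotheses of (T3). -/
structure Hyp (S A T K : Subgroup G) : Prop extends Pre S A T K where
  inner : ∀ a ∈ A, ∃ k ∈ K, Acts K a k

namespace Hyp

variable {S A T K : Subgroup G}

/-- Every `a ∈ A` acts on `K` as an element of `A ⊓ K`. -/
theorem acts (h : Hyp S A T K) {a : G} (ha : a ∈ A) : ∃ b ∈ A ⊓ K, Acts K a b := by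
  -- the subgroup of the `a ∈ A` with the property
  let A0 : Subgroup G := {
    carrier := {a | a ∈ A ∧ ∃ b ∈ A ⊓ K, Acts K a b}
    one_mem' := ⟨A.one_mem, 1, (A ⊓ K).one_mem, fun x _ => rfl⟩
    mul_mem' := by
      rintro a a' ⟨ha, b, hb, hab⟩ ⟨ha', b', hb', hab'⟩
      refine ⟨A.mul_mem ha ha', b * b', (A ⊓ K).mul_mem hb hb', fun x hx => ?_⟩
      calc a * a' * x * (a * a')⁻¹ = a * (a' * x * a'⁻¹) * a⁻¹ := by group
        _ = b * (a' * x * a'⁻¹) * b⁻¹ := hab _ (h.AK a' ha' x hx)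
        _ = b * (b' * x * b'⁻¹) * b⁻¹ := by rw [hab' x hx]
        _ = b * b' * x * (b * b')⁻¹ := by group
    inv_mem' := by
      rintro a ⟨ha, b, hb, hab⟩
      have e : a⁻¹ = a := inv_eq_of_mul_eq_one_left (h.A2 a ha)
      rw [e]
      exact ⟨ha, b, hb, hab⟩ }
  have hA0 : A ≤ A0 := by
    refine h.AT.trans ?_
    rw [closure_le]
    rintro g ⟨a, ha, t, ht, rfl⟩
    obtain ⟨k, hkK, hk⟩ := h.inner a ha
    obtain ⟨l, hlS, hlK, hl⟩ := h.exists_mem ha hkK hk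
    refine ⟨A.mul_mem (A.inv_mem ha) (h.TA t ht a ha), l⁻¹ * (t * l * t⁻¹), h.comm_mem hlS hlK ht, fun x hx => ?_⟩
    -- `t a t⁻¹` acts as `t l t⁻¹`
    have hx' : t⁻¹ * x * t ∈ K := by
      have := h.TK t⁻¹ (T.inv_mem ht) x hx
      rwa [inv_inv] at this
    have h1 : t * a * t⁻¹ * x * (t * a * t⁻¹)⁻¹ = t * l * t⁻¹ * x * (t * l * t⁻¹)⁻¹ := by
      calc t * a * t⁻¹ * x * (t * a * t⁻¹)⁻¹ = t * (a * (t⁻¹ * x * t) * a⁻¹) * t⁻¹ := by group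
        _ = t * (l * (t⁻¹ * x * t) * l⁻¹) * t⁻¹ := by rw [hl _ hx']
        _ = t * l * t⁻¹ * x * (t * l * t⁻¹)⁻¹ := by group
    have h2 : t * l * t⁻¹ * x * (t * l * t⁻¹)⁻¹ ∈ K := by
      have hl' := h.TK t ht l hlK
      exact K.mul_mem (K.mul_mem hl' hx) (K.inv_mem hl')
    -- `a⁻¹` acts as `l⁻¹`
    have h3 : ∀ y ∈ K, a⁻¹ * y * a = l⁻¹ * y * l := by
      intro y hy
      have h4 : l⁻¹ * y * l ∈ K := K.mul_mem (K.mul_mem (K.inv_mem hlK) hy) hlK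
      have h5 := hl _ h4
      have e : l * (l⁻¹ * y * l) * l⁻¹ = y := by group
      rw [e] at h5
      calc a⁻¹ * y * a = a⁻¹ * (a * (l⁻¹ * y * l) * a⁻¹) * a := by rw [h5]
        _ = l⁻¹ * y * l := by group
    calc a⁻¹ * (t * a * t⁻¹) * x * (a⁻¹ * (t * a * t⁻¹))⁻¹
        = a⁻¹ * (t * a * t⁻¹ * x * (t * a * t⁻¹)⁻¹) * a := by group
      _ = a⁻¹ * (t * l * t⁻¹ * x * (t * l * t⁻¹)⁻¹) * a := by rw [h1]
      _ = l⁻¹ * (t * l * t⁻¹ * x * (t * l * t⁻¹)⁻¹) * l := h3 _ h2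
      _ = l⁻¹ * (t * l * t⁻¹) * x * (l⁻¹ * (t * l * t⁻¹))⁻¹ := by group
  exact (hA0 ha).2

/-- `A = (A ⊓ K) × C_A(K)`, elementwise. -/
theorem decomp (h : Hyp S A T K) {a : G} (ha : a ∈ A) :
    ∃ b ∈ A ⊓ K, ∃ c ∈ A, (∀ x ∈ K, c * x = x * c) ∧ a = b * c := by
  obtain ⟨b, hb, hab⟩ := h.acts ha
  refine ⟨b, hb, b⁻¹ * a, A.mul_mem (A.inv_mem hb.1) ha, fun x hx => ?_, by group⟩
  have h1 := hab x hx
  calc b⁻¹ * a * x = b⁻¹ * (a * x * a⁻¹) * a := by group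
    _ = b⁻¹ * (b * x * b⁻¹) * a := by rw [h1]
    _ = x * (b⁻¹ * a) := by group

/-- `A = (A ⊓ K) ⊔ (A ⊓ C(K))`. -/
theorem sup_eq (h : Hyp S A T K) : (A ⊓ K) ⊔ (A ⊓ centralizer (K : Set G)) = A := by
  refine le_antisymm (sup_le inf_le_left inf_le_left) fun a ha => ?_
  obtain ⟨b, hb, c, hc, hcK, rfl⟩ := h.decomp ha
  exact mul_mem_sup hb ⟨hc, mem_centralizer_iff.2 fun x hx => (hcK x hx).symm⟩

theorem disjoint (h : Pre S A T K) : (A ⊓ K) ⊓ (A ⊓ centralizer (K : Set G)) = ⊥ := by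
  rw [eq_bot_iff]
  rintro x ⟨⟨hxA, hxK⟩, -, hxC⟩
  exact h.eq_one (h.AS hxA) hxK fun y hy => (mem_centralizer_iff.1 hxC y hy).symm

/-- `|A| = |A ⊓ K| * |C_A(K)|` -/
theorem card_eq [Finite G] (h : Hyp S A T K) :
    Nat.card A = Nat.card (A ⊓ K : Subgroup G) * Nat.card (A ⊓ centralizer (K : Set G) : Subgroup G) := by
  let f : (A ⊓ K : Subgroup G) × (A ⊓ centralizer (K : Set G) : Subgroup G) → A :=
    fun p => ⟨p.1 * p.2, A.mul_mem p.1.2.1 p.2.2.1⟩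
  have hf : Function.Bijective f := by
    constructor
    · rintro ⟨b, c⟩ ⟨b', c'⟩ e
      have e' : (b : G) * c = b' * c' := congrArg Subtype.val e
      have h1 : (b' : G)⁻¹ * b = c' * (c : G)⁻¹ := by
        rw [inv_mul_eq_iff_eq_mul, ← mul_assoc, ← e']; group
      have h2 : (b' : G)⁻¹ * b ∈ (A ⊓ K) ⊓ (A ⊓ centralizer (K : Set G)) :=
        ⟨(A ⊓ K).mul_mem ((A ⊓ K).inv_mem b'.2) b.2,
          h1 ▸ (A ⊓ centralizer (K : Set G)).mul_mem c'.2 ((A ⊓ centralizer (K : Set G)).inv_mem c.2)⟩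
      rw [disjoint h.toPre, mem_bot] at h2
      have h3 : b = b' := Subtype.ext (inv_mul_eq_one.1 h2).symm
      rw [h2] at h1
      have h4 : c = c' := Subtype.ext (mul_inv_eq_one.1 h1.symm).symm
      rw [h3, h4]
    · rintro ⟨a, ha⟩
      obtain ⟨b, hb, c, hc, hcK, rfl⟩ := h.decomp ha
      exact ⟨⟨⟨b, hb⟩, ⟨c, hc, mem_centralizer_iff.2 fun x hx => (hcK x hx).symm⟩⟩, rfl⟩
  rw [← Nat.card_congr (Equiv.ofBijective f hf), Nat.card_prod]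

/-- `B = A ⊓ K` is generated by the commutators of `B` with `T`. -/
theorem inf_le_closure (h : Hyp S A T K) :
    A ⊓ K ≤ closure {g | ∃ b ∈ A ⊓ K, ∃ t ∈ T, b⁻¹ * (t * b * t⁻¹) = g} := by
  -- the projection: every `a ∈ A` is `b * c` with `b` in `A ⊓ K`, and commutators project to commutators
  let C0 : Subgroup G := closure {g | ∃ b ∈ A ⊓ K, ∃ t ∈ T, b⁻¹ * (t * b * t⁻¹) = g}
  have hC0A : C0 ≤ A ⊓ K := by
    rw [closure_le]
    rintro g ⟨b, hb, t, ht, rfl⟩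
    exact h.comm_mem (h.AS hb.1) hb.2 ht
  let A0 : Subgroup G := {
    carrier := {a | a ∈ A ∧ ∃ b ∈ C0, Acts K a b}
    one_mem' := ⟨A.one_mem, 1, C0.one_mem, fun x _ => rfl⟩
    mul_mem' := by
      rintro a a' ⟨ha, b, hb, hab⟩ ⟨ha', b', hb', hab'⟩
      refine ⟨A.mul_mem ha ha', b * b', C0.mul_mem hb hb', fun x hx => ?_⟩
      calc a * a' * x * (a * a')⁻¹ = a * (a' * x * a'⁻¹) * a⁻¹ := by group
        _ = b * (a' * x * a'⁻¹) * b⁻¹ := hab _ (h.AK a' ha' x hx)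
        _ = b * (b' * x * b'⁻¹) * b⁻¹ := by rw [hab' x hx]
        _ = b * b' * x * (b * b')⁻¹ := by group
    inv_mem' := by
      rintro a ⟨ha, b, hb, hab⟩
      have e : a⁻¹ = a := inv_eq_of_mul_eq_one_left (h.A2 a ha)
      rw [e]
      exact ⟨ha, b, hb, hab⟩ }
  have hA0 : A ≤ A0 := by
    refine h.AT.trans ?_
    rw [closure_le]
    rintro g ⟨a, ha, t, ht, rfl⟩
    obtain ⟨l, hlB, hl⟩ := h.acts ha
    have hlK : l ∈ K := hlB.2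
    refine ⟨A.mul_mem (A.inv_mem ha) (h.TA t ht a ha), l⁻¹ * (t * l * t⁻¹),
      subset_closure ⟨l, hlB, t, ht, rfl⟩, fun x hx => ?_⟩
    have hx' : t⁻¹ * x * t ∈ K := by
      have := h.TK t⁻¹ (T.inv_mem ht) x hx
      rwa [inv_inv] at this
    have h1 : t * a * t⁻¹ * x * (t * a * t⁻¹)⁻¹ = t * l * t⁻¹ * x * (t * l * t⁻¹)⁻¹ := by
      calc t * a * t⁻¹ * x * (t * a * t⁻¹)⁻¹ = t * (a * (t⁻¹ * x * t) * a⁻¹) * t⁻¹ := by group
        _ = t * (l * (t⁻¹ * x * t) * l⁻¹) * t⁻¹ := by rw [hl _ hx']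
        _ = t * l * t⁻¹ * x * (t * l * t⁻¹)⁻¹ := by group
    have h2 : t * l * t⁻¹ * x * (t * l * t⁻¹)⁻¹ ∈ K := by
      have hl' := h.TK t ht l hlK
      exact K.mul_mem (K.mul_mem hl' hx) (K.inv_mem hl')
    have h3 : ∀ y ∈ K, a⁻¹ * y * a = l⁻¹ * y * l := by
      intro y hy
      have h4 : l⁻¹ * y * l ∈ K := K.mul_mem (K.mul_mem (K.inv_mem hlK) hy) hlK
      have h5 := hl _ h4
      have e : l * (l⁻¹ * y * l) * l⁻¹ = y := by group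
      rw [e] at h5
      calc a⁻¹ * y * a = a⁻¹ * (a * (l⁻¹ * y * l) * a⁻¹) * a := by rw [h5]
        _ = l⁻¹ * y * l := by group
    calc a⁻¹ * (t * a * t⁻¹) * x * (a⁻¹ * (t * a * t⁻¹))⁻¹
        = a⁻¹ * (t * a * t⁻¹ * x * (t * a * t⁻¹)⁻¹) * a := by group
      _ = a⁻¹ * (t * l * t⁻¹ * x * (t * l * t⁻¹)⁻¹) * a := by rw [h1]
      _ = l⁻¹ * (t * l * t⁻¹ * x * (t * l * t⁻¹)⁻¹) * l := h3 _ h2
      _ = l⁻¹ * (t * l * t⁻¹) * x * (l⁻¹ * (t * l * t⁻¹))⁻¹ := by group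
  rintro b ⟨hbA, hbK⟩
  obtain ⟨-, b', hb', hab⟩ := hA0 hbA
  have : b = b' := h.unique (h.AS hbA) hbK (h.AS (hC0A hb').1) (hC0A hb').2 (fun x _ => rfl) hab
  rw [this]
  exact hb'

/-- `B = A ⊓ K = [S ⊓ K, T]` (closure form). -/
theorem inf_eq (h : Hyp S A T K) :
    A ⊓ K = closure {g | ∃ s ∈ S ⊓ K, ∃ t ∈ T, s⁻¹ * (t * s * t⁻¹) = g} := by
  refine le_antisymm (h.inf_le_closure.trans (closure_mono ?_)) ?_
  · rintro g ⟨b, hb, t, ht, rfl⟩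
    exact ⟨b, ⟨h.AS hb.1, hb.2⟩, t, ht, rfl⟩
  · rw [closure_le]
    rintro g ⟨s, hs, t, ht, rfl⟩
    exact h.comm_mem hs.1 hs.2 ht

/-- `B = A ⊓ K = [S ⊓ K, T]` -/
theorem inf_eq_commutator (h : Hyp S A T K) : A ⊓ K = ⁅S ⊓ K, T⁆ := by
  rw [h.inf_eq, Subgroup.commutator_def]
  congr 1
  ext g
  constructor
  · rintro ⟨s, hs, t, ht, rfl⟩
    refine ⟨s⁻¹, (S ⊓ K).inv_mem hs, t, ht, ?_⟩
    rw [commutatorElement_def]
    group
  · rintro ⟨s, hs, t, ht, rfl⟩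
    refine ⟨s⁻¹, (S ⊓ K).inv_mem hs, t, ht, ?_⟩
    rw [commutatorElement_def]
    group

/-- if `A` does not centralise `K` then `B ≠ 1` -/
theorem inf_ne_bot (h : Hyp S A T K) (hne : ∃ a ∈ A, ∃ x ∈ K, a * x ≠ x * a) : A ⊓ K ≠ ⊥ := by
  intro hb
  obtain ⟨a, ha, x, hx, hax⟩ := hne
  obtain ⟨b, hb', c, hc, hcK, rfl⟩ := h.decomp ha
  rw [hb, mem_bot] at hb'
  rw [hb', one_mul] at hax
  exact hax (hcK x hx)

end Hyp

end Cfsg.Agent.Omega.Lie.CompB
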