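import Mathlib
import Cfsg.Prelude.Def_Local
import Cfsg.Agent.Schreier.Balance
import Cfsg.Agent.Omega.Lie.CompB

/-!
# `A` is inner on the component `K` (TEXT LIE-1, bb OMEGA #12098, (T3))

`OutNil L`: a group `T` of odd order acts trivially, modulo inner automorphisms, on every elementary abelian 2-group
of automorphisms of `L` which it normalises.  Then in the situation `CompB.Pre` the group `A` acts on `K` as a subgroup
of `K`, if `OutNil (K / Z(K))`.
-/

set_option autoImplicit false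

namespace Cfsg.Agent.Omega.Lie.OutT

open Subgroup

/-! ### The configuration -/

/-- `X` of exponent two, `T` of odd order, `X = [X, T]` -/
structure Cfg {B : Type*} [Group B] (X T : Subgroup B) : Prop where
  sq : ∀ x ∈ X, x * x = 1
  odd : Odd (Nat.card T)
  nrm : ∀ t ∈ T, ∀ x ∈ X, t * x * t⁻¹ ∈ X
  gen : X ≤ closure {y | ∃ x ∈ X, ∃ t ∈ T, x⁻¹ * (t * x * t⁻¹) = y}

/-- `Out L` has no 2-section on which an odd group acts nontrivially -/
def OutNil (L : Type*) [Group L] : Prop :=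
  ∀ X T : Subgroup (MulAut L), (∀ x ∈ X, x * x = 1) → Odd (Nat.card T) →
    (∀ t ∈ T, ∀ x ∈ X, t * x * t⁻¹ ∈ X) →
    X ≤ closure {y | ∃ x ∈ X, ∃ t ∈ T, x⁻¹ * (t * x * t⁻¹) = y} →
    X ≤ (MulAut.conj : L →* MulAut L).range

theorem outNil_iff {L : Type*} [Group L] :
    OutNil L ↔ ∀ X T : Subgroup (MulAut L), Cfg X T → X ≤ (MulAut.conj : L →* MulAut L).range :=
  ⟨fun h X T c => h X T c.sq c.odd c.nrm c.gen, fun h X T h1 h2 h3 h4 => h X T ⟨h1, h2, h3, h4⟩⟩

namespace Cfg

variable {B : Type*} [Group B] {X T : Subgroup B}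

theorem inv_eq (c : Cfg X T) {x : B} (hx : x ∈ X) : x⁻¹ = x := inv_eq_of_mul_eq_one_left (c.sq x hx)

theorem comm (c : Cfg X T) {x y : B} (hx : x ∈ X) (hy : y ∈ X) : x * y = y * x := by
  have h1 := c.inv_eq (X.mul_mem hx hy)
  rw [mul_inv_rev, c.inv_eq hx, c.inv_eq hy] at h1
  exact h1.symm

/-- it is enough to look at the generators -/
theorem le_of (c : Cfg X T) {N : Subgroup B} (h : ∀ x ∈ X, ∀ t ∈ T, x⁻¹ * (t * x * t⁻¹) ∈ N) : X ≤ N := by
  refine c.gen.trans ?_
  rw [closure_le]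
  rintro _ ⟨x, hx, t, ht, rfl⟩
  exact h x hx t ht

/-- images of configurations -/
theorem map (c : Cfg X T) {C : Type*} [Group C] (f : B →* C) : Cfg (X.map f) (T.map f) where
  sq := by
    rintro _ ⟨x, hx, rfl⟩
    rw [← map_mul, c.sq x hx, map_one]
  odd := by
    have h1 : Nat.card (T.map f) ∣ Nat.card T := Subgroup.card_map_dvd T f
    exact Odd.of_dvd_nat c.odd h1
  nrm := by
    rintro _ ⟨t, ht, rfl⟩ _ ⟨x, hx, rfl⟩
    rw [← map_inv, ← map_mul, ← map_mul]
    exact ⟨_, c.nrm t ht x hx, rfl⟩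
  gen := by
    refine (Subgroup.map_mono c.gen).trans ?_
    rw [MonoidHom.map_closure, closure_le]
    rintro _ ⟨_, ⟨x, hx, t, ht, rfl⟩, rfl⟩
    refine subset_closure ⟨f x, ⟨x, hx, rfl⟩, f t, ⟨t, ht, rfl⟩, ?_⟩
    rw [map_mul, map_mul, map_mul, map_inv, map_inv]

/-- `f x` commutes with `f t` -/
theorem apply_eq_one (c : Cfg X T) {C : Type*} [Group C] (f : B →* C)
    (h : ∀ x ∈ X, ∀ t ∈ T, f t * f x = f x * f t) {x : B} (hx : x ∈ X) : f x = 1 := by
  have h1 : X ≤ f.ker := c.le_of fun x hx t ht => by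
    rw [MonoidHom.mem_ker, map_mul, map_mul, map_mul, h x hx t ht, map_inv, map_inv]
    group
  exact h1 hx

/-- a homomorphism into a commutative group -/
theorem apply_eq_one_of_comm (c : Cfg X T) {C : Type*} [Group C] (f : B →* C) (h : ∀ x y : C, x * y = y * x)
    {x : B} (hx : x ∈ X) : f x = 1 := c.apply_eq_one f (fun _ _ _ _ => h _ _) hx

/-- `X` has at most one nontrivial coset modulo `N` -/
theorem le_of_two (c : Cfg X T) {N : Subgroup B} (hN : ∀ t ∈ T, ∀ x ∈ X, t * x * t⁻¹ ∈ N → x ∈ N)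
    (h : ∀ x ∈ X, ∀ y ∈ X, x ∉ N → y ∉ N → x * y ∈ N) : X ≤ N := by
  refine c.le_of fun x hx t ht => ?_
  by_cases hxN : x ∈ N
  · refine N.mul_mem (N.inv_mem hxN) ?_
    refine hN t⁻¹ (T.inv_mem ht) _ (c.nrm t ht x hx) ?_
    have e : t⁻¹ * (t * x * t⁻¹) * t⁻¹⁻¹ = x := by group
    rwa [e]
  · rw [c.inv_eq hx]
    exact h x hx _ (c.nrm t ht x hx) hxN fun h1 => hxN (hN t ht x hx h1)

/-- the same for a normal subgroup -/
theorem le_of_two' (c : Cfg X T) {N : Subgroup B} [hn : N.Normal]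
    (h : ∀ x ∈ X, ∀ y ∈ X, x ∉ N → y ∉ N → x * y ∈ N) : X ≤ N := by
  refine c.le_of_two (fun t _ x _ hx => ?_) h
  have := hn.conj_mem _ hx t⁻¹
  have e : t⁻¹ * (t * x * t⁻¹) * t⁻¹⁻¹ = x := by group
  rwa [e] at this

/-- a subgroup of index at most two contains `X` -/
theorem le_of_index_two (c : Cfg X T) {N : Subgroup B} (hi : N.index = 1 ∨ N.index = 2) : X ≤ N := by
  rcases hi with hi | hi
  · rw [index_eq_one.1 hi]; exact le_top
  · have hn : N.Normal := normal_of_index_eq_two hi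
    exact c.le_of_two' fun x _ y _ hx hy => (mul_mem_iff_of_index_two hi).2 (by simp [hx, hy])

/-- a subgroup of index at most two contains `T` -/
theorem T_le_of_index_two (c : Cfg X T) {N : Subgroup B} (hi : N.index = 1 ∨ N.index = 2) : T ≤ N := by
  rcases hi with hi | hi
  · rw [index_eq_one.1 hi]; exact le_top
  · intro t ht
    have h1 : t ^ 2 ∈ N := by
      rw [pow_two]; exact (mul_mem_iff_of_index_two hi).2 Iff.rfl
    have h2 : t ^ Nat.card T = 1 := by
      have h3 : (⟨t, ht⟩ : T) ^ Nat.card T = 1 := pow_card_eq_one'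
      exact congrArg Subtype.val h3
    obtain ⟨r, hr⟩ := c.odd
    rw [hr, pow_succ, pow_mul] at h2
    have h3 : t = ((t ^ 2) ^ r)⁻¹ := eq_inv_of_mul_eq_one_right h2
    rw [h3]
    exact N.inv_mem (N.pow_mem h1 r)

/-- an element of `X` some odd power of which is in `N` -/
theorem mem_of_pow (c : Cfg X T) {N : Subgroup B} {x : B} (hx : x ∈ X) {k : ℕ} (hk : Odd k) (h : x ^ k ∈ N) :
    x ∈ N := by
  obtain ⟨r, hr⟩ := hk
  have : x ^ k = x := by
    rw [hr, pow_succ, pow_mul, pow_two, c.sq x hx, one_pow, one_mul]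
  rwa [this] at h

/-- commuting involutions of `S₃` are equal -/
theorem perm_three : ∀ x y : Equiv.Perm (Fin 3), x * x = 1 → y * y = 1 → x * y = y * x → x ≠ 1 → y ≠ 1 →
    x * y = 1 := by decide

/-- actions on at most three points -/
theorem apply_perm_eq_one (c : Cfg X T) {α : Type*} [Finite α] (hα : Nat.card α ≤ 3) (f : B →* Equiv.Perm α)
    {x : B} (hx : x ∈ X) : f x = 1 := by
  have := Fintype.ofFinite α
  rw [Nat.card_eq_fintype_card] at hα
  -- an embedding of `Perm α` in `Perm (Fin 3)`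
  obtain ⟨e⟩ : Nonempty (α ↪ Fin 3) := by
    rw [Function.Embedding.nonempty_iff_card_le]
    simpa using hα
  classical
  let g : Equiv.Perm α →* Equiv.Perm (Fin 3) := Equiv.Perm.viaEmbeddingHom e
  have hg : Function.Injective g := Equiv.Perm.viaEmbeddingHom_injective e
  let F : B →* Equiv.Perm (Fin 3) := g.comp f
  have h1 : X ≤ F.ker := by
    refine c.le_of_two' fun x hx y hy h1 h2 => ?_
    rw [MonoidHom.mem_ker] at h1 h2 ⊢
    rw [map_mul]
    refine perm_three _ _ ?_ ?_ ?_ h1 h2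
    · rw [← map_mul, c.sq x hx, map_one]
    · rw [← map_mul, c.sq y hy, map_one]
    · rw [← map_mul, ← map_mul, c.comm hx hy]
  have h2 : F x = 1 := h1 hx
  apply hg
  rw [map_one]
  exact h2

end Cfg

/-! ### Transfer -/

theorem OutNil.of_equiv {K L : Type*} [Group K] [Group L] (e : K ≃* L) (h : OutNil K) : OutNil L := by
  rw [outNil_iff] at h ⊢
  intro X T c φ hφ
  let E : MulAut L ≃* MulAut K := MulAut.congr e.symm
  have h1 := h _ _ (c.map E.toMonoidHom)
  have h2 : E φ ∈ (MulAut.conj : K →* MulAut K).range := h1 ⟨φ, hφ, rfl⟩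
  obtain ⟨k, hk⟩ := h2
  refine ⟨e k, ?_⟩
  ext x
  have h3 := DFunLike.congr_fun hk (e.symm x)
  have h4 : (E φ) (e.symm x) = e.symm (φ x) := by
    simp [E, MulAut.congr]
  rw [h4, MulAut.conj_apply] at h3
  rw [MulAut.conj_apply]
  have h5 := congrArg e h3
  simpa using h5

/-- If `Out` is trivial. -/
theorem outNil_of_surjective {L : Type*} [Group L] (h : Function.Surjective (MulAut.conj : L →* MulAut L)) :
    OutNil L := fun _ _ _ _ _ _ x _ => h x

/-- If all automorphisms have an odd power which is inner. -/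
theorem outNil_of_odd {L : Type*} [Group L]
    (h : ∀ φ : MulAut L, ∃ k : ℕ, Odd k ∧ φ ^ k ∈ (MulAut.conj : L →* MulAut L).range) : OutNil L := by
  rw [outNil_iff]
  intro X T c x hx
  obtain ⟨k, hk, h1⟩ := h x
  exact c.mem_of_pow hx hk h1

/-- The main criterion: `R` of index at most two, commutators of `R` have inner odd powers. -/
theorem outNil_of_index_two {L : Type*} [Group L] (R : Subgroup (MulAut L)) (hi : R.index = 1 ∨ R.index = 2)
    (D : Subgroup (MulAut L)) (hD : ∀ x ∈ R, ∀ t ∈ R, x⁻¹ * (t * x * t⁻¹) ∈ D)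
    (h : ∀ φ ∈ D, φ * φ = 1 → ∃ k : ℕ, Odd k ∧ φ ^ k ∈ (MulAut.conj : L →* MulAut L).range) : OutNil L := by
  rw [outNil_iff]
  intro X T c x hx
  have h1 := c.le_of_index_two hi
  have h2 := c.T_le_of_index_two hi
  have h3 : X ≤ D := c.le_of fun x hx t ht => hD x (h1 hx) t (h2 ht)
  obtain ⟨k, hk, h4⟩ := h x (h3 hx) (c.sq x hx)
  exact c.mem_of_pow hx hk h4

/-! ### Components -/

open Cfsg.Agent.Schreier.Balance

/-- An automorphism of a perfect group which is inner on the central quotient is inner. -/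
theorem inner_of_quo {L : Type*} [Group L] (hL : Group.IsPerfect L) {φ : MulAut L}
    (h : quoAut L φ ∈ (MulAut.conj : L ⧸ center L →* MulAut (L ⧸ center L)).range) :
    φ ∈ (MulAut.conj : L →* MulAut L).range := by
  obtain ⟨k, hk⟩ := h
  obtain ⟨l, rfl⟩ := QuotientGroup.mk_surjective k
  refine ⟨l, ?_⟩
  apply quoAut_injective hL
  rw [← hk]
  apply MulEquiv.ext
  intro x
  obtain ⟨y, rfl⟩ := QuotientGroup.mk_surjective x
  rw [quoAut_mk, MulAut.conj_apply, MulAut.conj_apply, ← QuotientGroup.mk_inv, ← QuotientGroup.mk_mul,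
    ← QuotientGroup.mk_mul]

theorem OutNil.lift {L : Type*} [Group L] (hL : Group.IsPerfect L) (h : OutNil (L ⧸ center L)) : OutNil L := by
  rw [outNil_iff] at h ⊢
  intro X T c x hx
  exact inner_of_quo hL (h _ _ (c.map (quoAut L)) ⟨x, hx, rfl⟩)

variable {H : Type*} [Group H]

/-- **`A` is inner on `K`.** -/
theorem inner_of {S A T K : Subgroup H} (h : CompB.Pre S A T K) (hT : Odd (Nat.card T)) (hL : OutNil K) :
    ∀ a ∈ A, ∃ k ∈ K, CompB.Acts K a k := by
  have hAN : A ≤ normalizer (K : Set H) := by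
    intro a ha
    rw [mem_normalizer_iff]
    refine fun x => ⟨h.AK a ha x, fun hx => ?_⟩
    have := h.AK a⁻¹ (A.inv_mem ha) _ hx
    have e : a⁻¹ * (a * x * a⁻¹) * a⁻¹⁻¹ = x := by group
    rwa [e] at this
  have hTN : T ≤ normalizer (K : Set H) := by
    intro t ht
    rw [mem_normalizer_iff]
    exact fun x => (h.TK_iff ht).symm
  let ρ := K.normalizerMonoidHom
  have c0 : Cfg (A.subgroupOf (normalizer (K : Set H))) (T.subgroupOf (normalizer (K : Set H))) :=
    { sq := fun x hx => Subtype.ext (h.A2 _ hx)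
      odd := by
        have e : Nat.card (T.subgroupOf (normalizer (K : Set H))) = Nat.card T :=
          Nat.card_congr (subgroupOfEquivOfLe hTN).toEquiv
        rw [e]; exact hT
      nrm := fun t ht x hx => h.TA _ ht _ hx
      gen := by
        have e1 : (closure {y : normalizer (K : Set H) | ∃ x ∈ A.subgroupOf (normalizer (K : Set H)),
            ∃ t ∈ T.subgroupOf (normalizer (K : Set H)), x⁻¹ * (t * x * t⁻¹) = y}).map
              (normalizer (K : Set H)).subtype =
            closure {g | ∃ a ∈ A, ∃ t ∈ T, a⁻¹ * (t * a * t⁻¹) = g} := by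
          rw [MonoidHom.map_closure]
          congr 1
          ext g
          constructor
          · rintro ⟨_, ⟨x, hx, t, ht, rfl⟩, rfl⟩
            exact ⟨x.1, hx, t.1, ht, rfl⟩
          · rintro ⟨a, ha, t, ht, rfl⟩
            exact ⟨_, ⟨⟨a, hAN ha⟩, ha, ⟨t, hTN ht⟩, ht, rfl⟩, rfl⟩
        intro x hx
        have h1 := h.AT hx
        rw [← e1] at h1
        obtain ⟨y, hy, hyx⟩ := h1
        have : y = x := Subtype.ext hyx
        rwa [this] at hy }
  rw [outNil_iff] at hL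
  have h1 := hL _ _ (c0.map ρ)
  intro a ha
  obtain ⟨k, hk⟩ := h1 ⟨⟨a, hAN ha⟩, ha, rfl⟩
  refine ⟨k.1, k.2, fun x hx => ?_⟩
  have h2 := DFunLike.congr_fun hk ⟨x, hx⟩
  have h3 := congrArg Subtype.val h2
  exact h3.symm

/-- **`A` is inner on the component `K`.** -/
theorem inner {S A T K : Subgroup H} (h : CompB.Pre S A T K) (hT : Odd (Nat.card T)) (hK : Cfsg.IsQuasisimple K)
    (hL : OutNil (K ⧸ center K)) : ∀ a ∈ A, ∃ k ∈ K, CompB.Acts K a k :=
  inner_of h hT (hL.lift hK.1)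

theorem hyp {S A T K : Subgroup H} (h : CompB.Pre S A T K) (hT : Odd (Nat.card T)) (hK : Cfsg.IsComponent K)
    (hL : OutNil (K ⧸ center K)) : CompB.Hyp S A T K :=
  { toPre := h, inner := inner h hT hK.2 hL }

end Cfsg.Agent.Omega.Lie.OutT
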