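import Cfsg.Agent.Omega.Lie.PairFact
import Cfsg.Agent.SporadicB.J1.Main

/-!
# K-fact (PAIR) for the Janko group `J₁` (text #12707)

Certificates: the Sylow 2-subgroup `{e i}` of `J₁`, an element `n` of order 7 permuting the seven involutions
`e i` cyclically and three elements of order 5 centralised by `e 1` and inverted by `e j`, `j = 2, …, 7`.
-/

set_option autoImplicit false

namespace Cfsg.Agent.Omega.Lie.PairJOne

open Subgroup Cfsg.Agent.Omega.Lie.PairFact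
open Cfsg.Agent.SporadicB.J1.Main Cfsg.Agent.SporadicB.J1.Mat Cfsg.Agent.SporadicB.J1.Data
open Cfsg.Agent.SporadicB.J1
open Cfsg.Spor (J1)

/-- the element of order 7 -/
def nw : List Nat := [2, 3, 3, 0, 0, 3, 0, 3, 3, 0, 0]

/-- its action on `Fin 8` -/
def pm : Fin 8 → Fin 8 := ![0, 5, 4, 1, 3, 6, 7, 2]

theorem n_conj (i : Fin 8) : ev nw * e i = e (pm i) * ev nw := by
  refine ((rep_ev nw).mul (rep_e i)).eq ((rep_e (pm i)).mul (rep_ev nw)) ?_
  revert i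
  decide +kernel

/-- elements of order 5 centralised by `e 1`, inverted by `e j` -/
def xw : Fin 8 → List Nat := ![[0, 1, 0, 1], [0, 1, 0, 1], [1, 1, 0, 3, 3, 0, 1, 1, 2],
  [1, 1, 0, 3, 3, 0, 1, 1, 2], [0, 1, 0, 1], [0, 1, 0, 1], [1, 0, 0, 1, 2, 1, 2, 2, 1, 0, 0],
  [1, 0, 0, 1, 2, 1, 2, 2, 1, 0, 0]]

theorem x_pow (j : Fin 8) : ev (xw j) ^ 5 = 1 := by
  refine ((rep_ev (xw j)).pow 5).eq Rep.one ?_
  revert j
  decide +kernel

theorem x_ne (j : Fin 8) : ev (xw j) ≠ 1 := by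
  refine (rep_ev (xw j)).ne Rep.one ?_
  revert j
  decide +kernel

theorem x_comm (j : Fin 8) : e 1 * ev (xw j) = ev (xw j) * e 1 := by
  refine ((rep_e 1).mul (rep_ev (xw j))).eq ((rep_ev (xw j)).mul (rep_e 1)) ?_
  revert j
  decide +kernel

theorem x_inv (j : Fin 8) (h0 : j ≠ 0) (h1 : j ≠ 1) : e j * ev (xw j) * (e j * ev (xw j)) = 1 := by
  refine (((rep_e j).mul (rep_ev (xw j))).mul ((rep_e j).mul (rep_ev (xw j)))).eq Rep.one ?_
  revert j
  decide +kernel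

theorem e_sq (i : Fin 8) : e i * e i = 1 := ((rep_e i).mul (rep_e i)).eq Rep.one (ce_sq i)

/-- (PAIR) for `b' = e 1`, `b = e j`. -/
theorem at_one (j : Fin 8) (h0 : j ≠ 0) (h1 : j ≠ 1) :
    ∃ x : J1, x ≠ 1 ∧ Odd (orderOf x) ∧ e j * x * (e j)⁻¹ = x⁻¹ ∧ e 1 * x * (e 1)⁻¹ = x := by
  refine ⟨ev (xw j), x_ne j, ?_, ?_, ?_⟩
  · have : Fact (Nat.Prime 5) := ⟨by norm_num⟩
    rw [orderOf_eq_prime (x_pow j) (x_ne j)]
    decide
  · have h2 := x_inv j h0 h1
    have h3 : (e j)⁻¹ = e j := inv_eq_of_mul_eq_one_left (e_sq j)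
    rw [h3]
    rw [← mul_assoc] at h2
    exact eq_inv_of_mul_eq_one_left h2
  · rw [x_comm, mul_inv_cancel_right]

/-- (PAIR) for `b' = e i`, `b = e j`. -/
theorem at_all (i j : Fin 8) (hi : i ≠ 0) (hj : j ≠ 0) (hij : j ≠ i) :
    ∃ x : J1, x ≠ 1 ∧ Odd (orderOf x) ∧ e j * x * (e j)⁻¹ = x⁻¹ ∧ e i * x * (e i)⁻¹ = x := by
  -- a power of `n` maps `e 1` to `e i`
  have key : ∀ k : ℕ, ∀ j : Fin 8, j ≠ 0 → j ≠ pm^[k] 1 → ∃ x : J1, x ≠ 1 ∧ Odd (orderOf x) ∧
      e j * x * (e j)⁻¹ = x⁻¹ ∧ e (pm^[k] 1) * x * (e (pm^[k] 1))⁻¹ = x := by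
    intro k
    induction k with
    | zero => exact at_one
    | succ k ih =>
      intro j h0 h1
      rw [Function.iterate_succ_apply'] at h1 ⊢
      have hs : ∀ j : Fin 8, ∃ l, pm l = j := by decide +kernel
      obtain ⟨l, rfl⟩ := hs j
      have hl0 : l ≠ 0 := by
        rintro rfl
        exact h0 rfl
      have hl1 : l ≠ pm^[k] 1 := by
        rintro rfl
        exact h1 rfl
      obtain ⟨x, a1, a2, a3, a4⟩ := ih l hl0 hl1
      have hc : ∀ i : Fin 8, e (pm i) = ev nw * e i * (ev nw)⁻¹ := fun i => by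
        rw [n_conj, mul_inv_cancel_right]
      refine ⟨ev nw * x * (ev nw)⁻¹, fun h5 => a1 ?_, ?_, ?_, ?_⟩
      · have : x = (ev nw)⁻¹ * (ev nw * x * (ev nw)⁻¹) * ev nw := by group
        rw [this, h5, mul_one, inv_mul_cancel]
      · have : orderOf (ev nw * x * (ev nw)⁻¹) = orderOf x := by
          have := orderOf_injective (MulAut.conj (ev nw)).toMonoidHom (MulAut.conj (ev nw)).injective x
          simpa [MulAut.conj_apply] using this
        rwa [this]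
      · rw [hc]
        have e1 : ev nw * e l * (ev nw)⁻¹ * (ev nw * x * (ev nw)⁻¹) * (ev nw * e l * (ev nw)⁻¹)⁻¹ =
            ev nw * (e l * x * (e l)⁻¹) * (ev nw)⁻¹ := by group
        rw [e1, a3]
        group
      · rw [hc]
        have e1 : ev nw * e (pm^[k] 1) * (ev nw)⁻¹ * (ev nw * x * (ev nw)⁻¹) *
            (ev nw * e (pm^[k] 1) * (ev nw)⁻¹)⁻¹ =
            ev nw * (e (pm^[k] 1) * x * (e (pm^[k] 1))⁻¹) * (ev nw)⁻¹ := by group
        rw [e1, a4]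
  have h7 : ∀ i : Fin 8, i ≠ 0 → ∃ k < 7, pm^[k] 1 = i := by decide +kernel
  obtain ⟨k, -, rfl⟩ := h7 i hi
  exact key k j hj hij

theorem card_J1 : Nat.card J1 = 175560 := isJ1.2

instance : Finite J1 := Nat.finite_of_card_ne_zero (by rw [card_J1]; norm_num)

/-- **(PAIR) for `J₁`.** -/
theorem pair_J1 : Pair J1 := by
  have hE : Nat.card data.E = 8 := data.card_E
  have hmem : ∀ b ∈ data.E, ∃ i, e i = b := fun b hb => hb
  refine Pair.of_sylow data.E (IsPGroup.of_card (n := 3) (by rw [hE]; norm_num)) ?_ ?_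
  · have h1 := data.E.card_mul_index
    rw [hE, card_J1] at h1
    omega
  · intro b hb b' hb' _ _ hb1 hb1' hne _
    obtain ⟨j, rfl⟩ := hmem b hb
    obtain ⟨i, rfl⟩ := hmem b' hb'
    refine at_all i j ?_ ?_ ?_
    · rintro rfl
      exact hb1' rfl
    · rintro rfl
      exact hb1 rfl
    · rintro rfl
      exact hne rfl

theorem pair {K : Type*} [Group K] (h : Cfsg.Spor.IsoJ1 K) : Pair K := by
  obtain ⟨e⟩ := h
  exact pair_J1.congr e.symm

end Cfsg.Agent.Omega.Lie.PairJOne
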