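import Cfsg.Agent.Omega.Lie.CompPerm
import Cfsg.Agent.SylowL.NoComp

/-!
# The torus and the components (bb OMEGA #12098, (T2) combinatorics)

`T` is commutative and acts on the elementary abelian group `A` by scalars of `F_q`, `q = |T| + 1 >= 4`: it is regular
on each `line` (`a^s a^t = 1` or is a conjugate of `a`).  `K` is a subgroup such that `K^t = K` or `[K, K^t] = 1`, and
`P <= K`, not central, with `[P, T] <= A`.  Then `T` normalises `K`, or `|T| = 3` and `T` is regular on the three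
conjugates of `K`, and `P` is elementary abelian.
-/

set_option autoImplicit false

namespace Cfsg.Agent.Omega.Lie.CompT

open Cfsg.Agent.Omega.Lie.CompPerm

variable {G : Type*} [Group G]

/-- `2^n + 2 = 3 * 2^b` with `n >= 2` forces `n = 2`. -/
theorem arith_two {n b : ℕ} (hn : 2 ≤ n) (h : 2 ^ n + 2 = 3 * 2 ^ b) : n = 2 ∧ b = 1 := by
  have h2 : n = 2 := by
    by_contra hne
    exact arith (by omega) h
  subst h2
  refine ⟨rfl, ?_⟩
  rcases b with _ | _ | b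
  · norm_num at h
  · rfl
  · rw [pow_succ, pow_succ] at h
    have : 0 < 2 ^ b := by positivity
    omega

variable {A T K : Subgroup G} {x : G}

/-- **One regular orbit: `T` has order `3` and is regular on the conjugates of `K`.** -/
theorem card_three [Finite G] (hTc : ∀ s ∈ T, ∀ t ∈ T, s * t = t * s) (hA2 : ∀ a ∈ A, a * a = 1)
    (hTA : ∀ t ∈ T, ∀ a ∈ A, t * a * t⁻¹ ∈ A)
    (htrans : ∀ a ∈ A, a ≠ 1 → ∀ b ∈ A, b ≠ 1 → ∃ t ∈ T, t * a * t⁻¹ = b)
    (hreg : ∀ a ∈ A, a ≠ 1 → ∀ t ∈ T, t * a * t⁻¹ = a → t = 1) (hq : 4 ≤ Nat.card A)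
    (hK : ∀ t ∈ T, (∀ y, t * y * t⁻¹ ∈ K ↔ y ∈ K) ∨ ∀ y ∈ K, ∀ z ∈ K, y * (t * z * t⁻¹) = t * z * t⁻¹ * y)
    (hxK : x ∈ K) (hxz : ∃ y ∈ K, x * y ≠ y * x) {s : G} (hs : s ∈ T)
    (hsK : ¬ ∀ y, s * y * s⁻¹ ∈ K ↔ y ∈ K) (hxA : x⁻¹ * (s * x * s⁻¹) ∈ A) :
    Nat.card T = 3 ∧ ∀ t ∈ T, (∀ y, t * y * t⁻¹ ∈ K ↔ y ∈ K) → t = 1 := by
  classical
  -- the stabiliser
  let T1 : Subgroup G := {
    carrier := {t | t ∈ T ∧ ∀ y, t * y * t⁻¹ ∈ K ↔ y ∈ K}
    one_mem' := ⟨T.one_mem, fun y => by simp⟩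
    mul_mem' := by
      rintro u v ⟨hu, hu'⟩ ⟨hv, hv'⟩
      refine ⟨T.mul_mem hu hv, fun y => ?_⟩
      have e : u * v * y * (u * v)⁻¹ = u * (v * y * v⁻¹) * u⁻¹ := by group
      rw [e, hu', hv']
    inv_mem' := by
      rintro u ⟨hu, hu'⟩
      refine ⟨T.inv_mem hu, fun y => ?_⟩
      rw [← hu' (u⁻¹ * y * u⁻¹⁻¹)]
      have e : u * (u⁻¹ * y * u⁻¹⁻¹) * u⁻¹ = y := by group
      rw [e] }
  have hT1 : ∀ t, t ∈ T1 ↔ t ∈ T ∧ ∀ y, t * y * t⁻¹ ∈ K ↔ y ∈ K := fun t => Iff.rfl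
  have hT1T : T1 ≤ T := fun t ht => ht.1
  have hs1 : s ∉ T1 := fun h => hsK h.2
  -- the elements of `T` outside `T1` move `K` to a commuting conjugate
  have hcomm : ∀ t ∈ T, t ∉ T1 → ∀ y ∈ K, ∀ z ∈ K, y * (t * z * t⁻¹) = t * z * t⁻¹ * y := by
    intro t ht ht1
    rcases hK t ht with h | h
    · exact absurd ⟨ht, h⟩ ht1
    · exact h
  -- the conjugate of `x` by `t` moves `K^u` iff `t⁻¹ u ∈ T1`
  have hmove : ∀ t ∈ T, ∀ u ∈ T, t⁻¹ * u ∈ T1 → ∃ y ∈ K, t * x * t⁻¹ * (u * y * u⁻¹) ≠ u * y * u⁻¹ * (t * x * t⁻¹) := by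
    intro t ht u hu h
    obtain ⟨y, hy, hxy⟩ := hxz
    have h1 := (T1.inv_mem h).2 y
    refine ⟨u⁻¹ * t * y * (u⁻¹ * t)⁻¹, ?_, ?_⟩
    · have e : u⁻¹ * t * y * (u⁻¹ * t)⁻¹ = (t⁻¹ * u)⁻¹ * y * (t⁻¹ * u)⁻¹⁻¹ := by group
      rw [e, h1]
      exact hy
    · intro h2
      apply hxy
      have e1 : u * (u⁻¹ * t * y * (u⁻¹ * t)⁻¹) * u⁻¹ = t * y * t⁻¹ := by group
      rw [e1] at h2
      calc x * y = t⁻¹ * (t * x * t⁻¹ * (t * y * t⁻¹)) * t := by group
        _ = t⁻¹ * (t * y * t⁻¹ * (t * x * t⁻¹)) * t := by rw [h2]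
        _ = y * x := by group
  have hfix : ∀ t ∈ T, ∀ u ∈ T, t⁻¹ * u ∉ T1 → ∀ y ∈ K,
      t * x * t⁻¹ * (u * y * u⁻¹) = u * y * u⁻¹ * (t * x * t⁻¹) := by
    intro t ht u hu h y hy
    have h1 := hcomm _ (T.mul_mem (T.inv_mem ht) hu) h x hxK y hy
    calc t * x * t⁻¹ * (u * y * u⁻¹) = t * (x * (t⁻¹ * u * y * (t⁻¹ * u)⁻¹)) * t⁻¹ := by group
      _ = t * (t⁻¹ * u * y * (t⁻¹ * u)⁻¹ * x) * t⁻¹ := by rw [h1]
      _ = _ := by group
  have hfix' : ∀ t ∈ T, ∀ u ∈ T, t⁻¹ * u ∉ T1 → ∀ y ∈ K,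
      t * x⁻¹ * t⁻¹ * (u * y * u⁻¹) = u * y * u⁻¹ * (t * x⁻¹ * t⁻¹) := by
    intro t ht u hu h y hy
    have h1 : Commute (t * x * t⁻¹) (u * y * u⁻¹) := hfix t ht u hu h y hy
    have h2 := h1.inv_left
    have e : (t * x * t⁻¹)⁻¹ = t * x⁻¹ * t⁻¹ := by group
    rw [e] at h2
    exact h2
  -- the conjugates of `a`
  have hconj : ∀ w, w * (x⁻¹ * (s * x * s⁻¹)) * w⁻¹ = w * x⁻¹ * w⁻¹ * (w * s * x * (w * s)⁻¹) := by
    intro w; group
  set a : G := x⁻¹ * (s * x * s⁻¹) with ha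
  have haA : a ∈ A := hxA
  -- outside the two cosets the conjugate `a^w` centralises `K^u`
  have hDa : ∀ w ∈ T, ∀ u ∈ T, w⁻¹ * u ∉ T1 → (w * s)⁻¹ * u ∉ T1 → ∀ y ∈ K,
      w * a * w⁻¹ * (u * y * u⁻¹) = u * y * u⁻¹ * (w * a * w⁻¹) := by
    intro w hw u hu h1 h2 y hy
    rw [hconj]
    have c1 : Commute (w * x⁻¹ * w⁻¹) (u * y * u⁻¹) := hfix' w hw u hu h1 y hy
    have c2 : Commute (w * s * x * (w * s)⁻¹) (u * y * u⁻¹) := hfix _ (T.mul_mem hw hs) u hu h2 y hy
    exact (c1.mul_left c2)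
  -- `T / T1` has no involution
  have hcard := card_regular hTA htrans hreg haA
  have ha1 : a ≠ 1 := by
    intro h
    obtain ⟨y, hy, hne⟩ := hmove 1 T.one_mem 1 T.one_mem (by simp)
    apply hne
    have h1 : x = s * x * s⁻¹ := by
      rw [ha] at h
      exact inv_mul_eq_one.1 h
    have h2 := hfix s hs 1 T.one_mem (by
      rw [mul_one]
      exact fun h => hs1 (by simpa using T1.inv_mem h)) y hy
    rw [← h1] at h2
    simpa using h2
  have hcard' := hcard ha1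
  have hodd : Odd (Nat.card T) := by
    have h2 : IsPGroup 2 A := by
      intro ⟨g, hg⟩
      exact ⟨1, Subtype.ext (by simpa [pow_succ] using hA2 g hg)⟩
    obtain ⟨n, hn⟩ := (IsPGroup.iff_card (p := 2)).1 h2
    have h3 : n ≠ 0 := by
      rintro rfl
      rw [hn] at hq
      norm_num at hq
    obtain ⟨m, rfl⟩ := Nat.exists_eq_succ_of_ne_zero h3
    rw [hn, pow_succ] at hcard'
    exact ⟨2 ^ m - 1, by have : 0 < 2 ^ m := by positivity
                         omega⟩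
  have hsq : ∀ u ∈ T, u * u ∈ T1 → u ∈ T1 := by
    intro u hu huu
    have h1 : orderOf u ∣ Nat.card T := Subgroup.orderOf_dvd_natCard T hu
    have h2 : Odd (orderOf u) := Odd.of_dvd_nat hodd h1
    obtain ⟨k, hk⟩ := h2
    have h3 : u = (u * u) ^ (k + 1) := by
      have h4 : u ^ (2 * k + 1) = 1 := by rw [← hk]; exact pow_orderOf_eq_one u
      calc u = u ^ (2 * k + 1) * u := by rw [h4, one_mul]
        _ = (u * u) ^ (k + 1) := by rw [← pow_two, ← pow_mul, ← pow_succ]; congr 1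
    rw [h3]
    exact T1.pow_mem huu _
  -- (1) every element of `T` lies in one of the three cosets
  have hthree : ∀ u ∈ T, u ∈ T1 ∨ s⁻¹ * u ∈ T1 ∨ s * u ∈ T1 := by
    intro u hu
    by_contra hc
    push Not at hc
    obtain ⟨c1, c2, c3⟩ := hc
    have hne : u * a * u⁻¹ ≠ a := fun h => c1 (by rw [hreg a haA ha1 u hu h]; exact T1.one_mem)
    have hmem : a * (u * a * u⁻¹) ∈ A := A.mul_mem haA (hTA u hu a haA)
    have hne1 : a * (u * a * u⁻¹) ≠ 1 := by
      intro h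
      apply hne
      have h1 := hA2 a haA
      exact mul_left_cancel (h.trans h1.symm)
    obtain ⟨w, hw, hwa⟩ := htrans a haA ha1 _ hmem hne1
    -- the conjugates `1, s, u` are moved
    have hkey : ∀ v ∈ T, (∃ y ∈ K, a * (u * a * u⁻¹) * (v * y * v⁻¹) ≠ v * y * v⁻¹ * (a * (u * a * u⁻¹))) →
        w⁻¹ * v ∈ T1 ∨ (w * s)⁻¹ * v ∈ T1 := by
      rintro v hv ⟨y, hy, hne⟩
      by_contra hc
      push Not at hc
      rw [← hwa] at hne
      exact hne (hDa w hw v hv hc.1 hc.2 y hy)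
    have hwT := T.inv_mem hw
    have m1 : ∃ y ∈ K, a * (u * a * u⁻¹) * (1 * y * 1⁻¹) ≠ 1 * y * 1⁻¹ * (a * (u * a * u⁻¹)) := by
      obtain ⟨y, hy, hne⟩ := hmove 1 T.one_mem 1 T.one_mem (by simp)
      refine ⟨y, hy, fun h => hne ?_⟩
      have d1 : Commute (u * a * u⁻¹) (1 * y * 1⁻¹) := by
        refine hDa u hu 1 T.one_mem ?_ ?_ y hy
        · rw [mul_one]; exact fun h => c1 (by simpa using T1.inv_mem h)
        · rw [mul_one, hTc u hu s hs]; exact fun h => c3 (by simpa using T1.inv_mem h)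
      have d2 : Commute (s * x * s⁻¹) (1 * y * 1⁻¹) := hfix s hs 1 T.one_mem (by
        rw [mul_one]
        exact fun h => hs1 (by simpa using T1.inv_mem h)) y hy
      have d3 : Commute (a * (u * a * u⁻¹)) (1 * y * 1⁻¹) := h
      have d4 : Commute a (1 * y * 1⁻¹) := by
        have := d3.mul_left d1.inv_left
        simpa [mul_assoc] using this
      have d5 : Commute x⁻¹ (1 * y * 1⁻¹) := by
        have := d4.mul_left d2.inv_left
        simpa [ha, mul_assoc] using this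
      have d6 := d5.inv_left
      rw [inv_inv] at d6
      simpa using d6.eq
    have m2 : ∃ y ∈ K, a * (u * a * u⁻¹) * (s * y * s⁻¹) ≠ s * y * s⁻¹ * (a * (u * a * u⁻¹)) := by
      obtain ⟨y, hy, hne⟩ := hmove s hs s hs (by simp)
      refine ⟨y, hy, fun h => hne ?_⟩
      have d1 : Commute (u * a * u⁻¹) (s * y * s⁻¹) := by
        refine hDa u hu s hs ?_ ?_ y hy
        · exact fun h => c2 (by simpa using T1.inv_mem h)
        · intro h
          have e : (u * s)⁻¹ * s = u⁻¹ := by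
            rw [hTc u hu s hs]; group
          rw [e] at h
          exact c1 (by simpa using T1.inv_mem h)
      have d2 : Commute (1 * x⁻¹ * 1⁻¹) (s * y * s⁻¹) := hfix' 1 T.one_mem s hs (by simpa using hs1) y hy
      have d3 : Commute (a * (u * a * u⁻¹)) (s * y * s⁻¹) := h
      have d4 : Commute a (s * y * s⁻¹) := by
        have := d3.mul_left d1.inv_left
        simpa [mul_assoc] using this
      have d5 : Commute (s * x * s⁻¹) (s * y * s⁻¹) := by
        have d2' : Commute x (s * y * s⁻¹) := by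
          have := d2.inv_left
          simpa using this
        have := d2'.mul_left d4
        simpa [ha, mul_assoc] using this
      exact d5.eq
    have m3 : ∃ y ∈ K, a * (u * a * u⁻¹) * (u * y * u⁻¹) ≠ u * y * u⁻¹ * (a * (u * a * u⁻¹)) := by
      obtain ⟨y, hy, hne⟩ := hmove u hu u hu (by simp)
      refine ⟨y, hy, fun h => hne ?_⟩
      have d1 : Commute a (u * y * u⁻¹) := by
        have := hDa 1 T.one_mem u hu (by simpa using c1) (by simpa using c2) y hy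
        rw [one_mul, inv_one, mul_one] at this
        exact this
      have d3 : Commute (a * (u * a * u⁻¹)) (u * y * u⁻¹) := h
      have d4 : Commute (u * a * u⁻¹) (u * y * u⁻¹) := by
        have := d1.inv_left.mul_left d3
        simpa [mul_assoc] using this
      have d2 : Commute (u * s * x * (u * s)⁻¹) (u * y * u⁻¹) := by
        refine hfix _ (T.mul_mem hu hs) u hu ?_ y hy
        intro h
        have e : (u * s)⁻¹ * u = s⁻¹ := by group
        rw [e] at h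
        exact hs1 (by simpa using T1.inv_mem h)
      rw [hconj] at d4
      have d5 : Commute (u * x⁻¹ * u⁻¹) (u * y * u⁻¹) := by
        have := d4.mul_left d2.inv_left
        simpa [mul_assoc] using this
      have d6 := d5.inv_left
      have e : (u * x⁻¹ * u⁻¹)⁻¹ = u * x * u⁻¹ := by group
      rw [e] at d6
      exact d6.eq
    have k1 := hkey 1 T.one_mem m1
    have k2 := hkey s hs m2
    have k3 := hkey u hu m3
    -- differences
    have dif : ∀ {g v v' : G}, g⁻¹ * v ∈ T1 → g⁻¹ * v' ∈ T1 → v⁻¹ * v' ∈ T1 := by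
      intro g v v' h h'
      have := T1.mul_mem (T1.inv_mem h) h'
      have e : (g⁻¹ * v)⁻¹ * (g⁻¹ * v') = v⁻¹ * v' := by group
      rwa [e] at this
    have n1 : (1 : G)⁻¹ * s ∉ T1 := by simpa using hs1
    have n2 : (1 : G)⁻¹ * u ∉ T1 := by simpa using c1
    have n3 : s⁻¹ * u ∉ T1 := c2
    rcases k1 with k1 | k1 <;> rcases k2 with k2 | k2 <;> rcases k3 with k3 | k3
    · exact n1 (dif k1 k2)
    · exact n1 (dif k1 k2)
    · exact n2 (dif k1 k3)
    · exact n3 (dif k2 k3)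
    · exact n3 (dif k2 k3)
    · exact n2 (dif k1 k3)
    · exact n1 (dif k1 k2)
    · exact n1 (dif k1 k2)
  -- (2) the subgroup `{a^u : u ∈ T1} ∪ {1}`
  have hw1 : ∀ u ∈ T1, u ≠ 1 → ∃ w ∈ T1, w * a * w⁻¹ = a * (u * a * u⁻¹) := by
    intro u hu hu1
    have huT := hT1T hu
    have hne : u * a * u⁻¹ ≠ a := fun h => hu1 (hreg a haA ha1 u huT h)
    have hmem : a * (u * a * u⁻¹) ∈ A := A.mul_mem haA (hTA u huT a haA)
    have hne1 : a * (u * a * u⁻¹) ≠ 1 := by
      intro h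
      apply hne
      have h1 := hA2 a haA
      exact mul_left_cancel (h.trans h1.symm)
    obtain ⟨w, hw, hwa⟩ := htrans a haA ha1 _ hmem hne1
    refine ⟨w, ?_, hwa⟩
    -- `s⁻¹` is not moved by the product
    by_contra hwn
    -- `w` lies in `s T1` or `s⁻¹ T1`
    have hss : s * s ∉ T1 := fun h => hs1 (hsq s hs h)
    have hv : ∃ v ∈ T, v ∉ T1 ∧ s⁻¹ * v ∉ T1 ∧
        ∃ y ∈ K, w * a * w⁻¹ * (v * y * v⁻¹) ≠ v * y * v⁻¹ * (w * a * w⁻¹) := by
      rcases hthree w hw with h | h | h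
      · exact absurd h hwn
      · -- `w ∈ s T1` : take `v = s s`
        refine ⟨s * s, T.mul_mem hs hs, hss, ?_, ?_⟩
        · simpa using hs1
        · obtain ⟨y, hy, hne⟩ := hmove (w * s) (T.mul_mem hw hs) (s * s) (T.mul_mem hs hs) (by
            have e : (w * s)⁻¹ * (s * s) = (s⁻¹ * w)⁻¹ := by
              rw [hTc w hw s hs]; group
            rw [e]
            exact T1.inv_mem h)
          refine ⟨y, hy, fun hh => hne ?_⟩
          rw [hconj] at hh
          have d1 : Commute (w * x⁻¹ * w⁻¹) (s * s * y * (s * s)⁻¹) := by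
            refine hfix' w hw _ (T.mul_mem hs hs) ?_ y hy
            intro h'
            have := T1.mul_mem h h'
            have e : s⁻¹ * w * (w⁻¹ * (s * s)) = s := by group
            rw [e] at this
            exact hs1 this
          have d2 : Commute (w * x⁻¹ * w⁻¹ * (w * s * x * (w * s)⁻¹)) (s * s * y * (s * s)⁻¹) := hh
          have := d1.inv_left.mul_left d2
          have d3 : Commute (w * s * x * (w * s)⁻¹) (s * s * y * (s * s)⁻¹) := by
            simpa [mul_assoc] using this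
          exact d3.eq
      · -- `w ∈ s⁻¹ T1` : take `v = w`
        have hsw : s⁻¹ * w ∉ T1 := by
          intro h'
          have h1 := T1.mul_mem h (T1.inv_mem h')
          have e : s * w * (s⁻¹ * w)⁻¹ = s * s := by group
          rw [e] at h1
          exact hss h1
        refine ⟨w, hw, hwn, hsw, ?_⟩
        obtain ⟨y, hy, hne⟩ := hmove w hw w hw (by simp)
        refine ⟨y, hy, fun hh => hne ?_⟩
        rw [hconj] at hh
        have d1 : Commute (w * s * x * (w * s)⁻¹) (w * y * w⁻¹) := by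
          refine hfix _ (T.mul_mem hw hs) w hw ?_ y hy
          intro h'
          have e : (w * s)⁻¹ * w = s⁻¹ := by group
          rw [e] at h'
          exact hs1 (by simpa using T1.inv_mem h')
        have d2 : Commute (w * x⁻¹ * w⁻¹ * (w * s * x * (w * s)⁻¹)) (w * y * w⁻¹) := hh
        have d3 : Commute (w * x⁻¹ * w⁻¹) (w * y * w⁻¹) := by
          have := d2.mul_left d1.inv_left
          simpa [mul_assoc] using this
        have d6 := d3.inv_left
        have e : (w * x⁻¹ * w⁻¹)⁻¹ = w * x * w⁻¹ := by group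
        rw [e] at d6
        exact d6.eq
    obtain ⟨v, hv, hv1, hv2, y, hy, hne⟩ := hv
    apply hne
    rw [hwa]
    have d1 : Commute a (v * y * v⁻¹) := by
      have := hDa 1 T.one_mem v hv (by simpa using hv1) (by simpa using hv2) y hy
      rw [one_mul, inv_one, mul_one] at this
      exact this
    have d2 : Commute (u * a * u⁻¹) (v * y * v⁻¹) := by
      refine hDa u huT v hv ?_ ?_ y hy
      · intro h
        have := T1.mul_mem hu h
        have e : u * (u⁻¹ * v) = v := by group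
        rw [e] at this
        exact hv1 this
      · intro h
        have := T1.mul_mem hu h
        have e : u * ((u * s)⁻¹ * v) = s⁻¹ * v := by
          rw [hTc u huT s hs]
          rw [mul_inv_rev, hTc u⁻¹ (T.inv_mem huT) s⁻¹ (T.inv_mem hs)]
          have c : u * s⁻¹ = s⁻¹ * u := hTc u huT s⁻¹ (T.inv_mem hs)
          rw [← mul_assoc, ← mul_assoc, c]
          group
        rw [e] at this
        exact hv2 this
    exact (d1.mul_left d2).eq
  let B : Subgroup G := {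
    carrier := {b | b = 1 ∨ ∃ u ∈ T1, b = u * a * u⁻¹}
    one_mem' := Or.inl rfl
    mul_mem' := by
      rintro b c (rfl | ⟨u, hu, rfl⟩) (rfl | ⟨v, hv, rfl⟩)
      · exact Or.inl (one_mul 1)
      · exact Or.inr ⟨v, hv, one_mul _⟩
      · exact Or.inr ⟨u, hu, mul_one _⟩
      · by_cases huv : u⁻¹ * v = 1
        · left
          have e : u = v := inv_mul_eq_one.1 huv
          subst e
          have := hA2 _ (hTA u (hT1T hu) a haA)
          exact this
        · right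
          obtain ⟨w, hw, hwa⟩ := hw1 _ (T1.mul_mem (T1.inv_mem hu) hv) huv
          refine ⟨u * w, T1.mul_mem hu hw, ?_⟩
          calc u * a * u⁻¹ * (v * a * v⁻¹) = u * (a * (u⁻¹ * v * a * (u⁻¹ * v)⁻¹)) * u⁻¹ := by group
            _ = u * (w * a * w⁻¹) * u⁻¹ := by rw [hwa]
            _ = _ := by group
    inv_mem' := by
      rintro b (rfl | ⟨u, hu, rfl⟩)
      · exact Or.inl inv_one
      · right
        refine ⟨u, hu, ?_⟩
        have := hA2 _ (hTA u (hT1T hu) a haA)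
        exact inv_eq_of_mul_eq_one_left this }
  have hBA : B ≤ A := by
    rintro b (rfl | ⟨u, hu, rfl⟩)
    · exact A.one_mem
    · exact hTA u (hT1T hu) a haA
  have hBc : Nat.card T1 + 1 = Nat.card B := by
    refine card_regular (A := B) (T := T1) ?_ ?_ ?_ (a := a) (Or.inr ⟨1, T1.one_mem, by group⟩) ha1
    · rintro t ht b (rfl | ⟨u, hu, rfl⟩)
      · exact Or.inl (by group)
      · exact Or.inr ⟨t * u, T1.mul_mem ht hu, by group⟩
    · rintro b (rfl | ⟨u, hu, rfl⟩) hb1 c (rfl | ⟨v, hv, rfl⟩) hc1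
      · exact absurd rfl hb1
      · exact absurd rfl hb1
      · exact absurd rfl hc1
      · exact ⟨v * u⁻¹, T1.mul_mem hv (T1.inv_mem hu), by group⟩
    · intro b hb hb1 t ht
      exact hreg b (hBA hb) hb1 t (hT1T ht)
  -- the index of `T1` is `3`
  have hidx : Nat.card T = 3 * Nat.card T1 := by
    let f : Fin 3 × T1 → T := fun p =>
      if p.1 = 0 then ⟨p.2, hT1T p.2.2⟩
      else if p.1 = 1 then ⟨s * p.2, T.mul_mem hs (hT1T p.2.2)⟩
      else ⟨s⁻¹ * p.2, T.mul_mem (T.inv_mem hs) (hT1T p.2.2)⟩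
    have hss : s * s ∉ T1 := fun h => hs1 (hsq s hs h)
    have hf : Function.Bijective f := by
      constructor
      · rintro ⟨i, ⟨u, hu⟩⟩ ⟨j, ⟨v, hv⟩⟩ h
        have h' : ((f (i, ⟨u, hu⟩) : T) : G) = (f (j, ⟨v, hv⟩) : T) := congrArg Subtype.val h
        fin_cases i <;> fin_cases j <;> simp [f] at h' ⊢
        · exact h'
        · exact hs1 (by
            have e : s = u * v⁻¹ := by rw [h']; group
            rw [e]; exact T1.mul_mem hu (T1.inv_mem hv))
        · exact hs1 (by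
            have e : s = v * u⁻¹ := by rw [h']; group
            rw [e]; exact T1.mul_mem hv (T1.inv_mem hu))
        · exact hs1 (by
            have e : s = v * u⁻¹ := by rw [← h']; group
            rw [e]; exact T1.mul_mem hv (T1.inv_mem hu))
        · exact h'
        · exact hss (by
            have e : s * s = v * u⁻¹ := by
              have : v = s * (s * u) := by rw [h']; group
              rw [this]; group
            rw [e]; exact T1.mul_mem hv (T1.inv_mem hu))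
        · exact hs1 (by
            have e : s = u * v⁻¹ := by rw [← h']; group
            rw [e]; exact T1.mul_mem hu (T1.inv_mem hv))
        · exact hss (by
            have e : s * s = u * v⁻¹ := by
              have : u = s * (s * v) := by rw [← h']; group
              rw [this]; group
            rw [e]; exact T1.mul_mem hu (T1.inv_mem hv))
        · exact h'
      · rintro ⟨u, hu⟩
        rcases hthree u hu with h | h | h
        · exact ⟨(0, ⟨u, h⟩), by simp [f]⟩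
        · exact ⟨(1, ⟨s⁻¹ * u, h⟩), Subtype.ext (by simp [f])⟩
        · exact ⟨(2, ⟨s * u, h⟩), Subtype.ext (by simp [f])⟩
    have := Nat.card_congr (Equiv.ofBijective f hf)
    rw [Nat.card_prod, Nat.card_eq_fintype_card (α := Fin 3), Fintype.card_fin] at this
    exact this.symm
  -- powers of two
  have h2A : IsPGroup 2 A := by
    intro ⟨g, hg⟩
    exact ⟨1, Subtype.ext (by simpa [pow_succ] using hA2 g hg)⟩
  have h2B : IsPGroup 2 B := by
    intro ⟨g, hg⟩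
    exact ⟨1, Subtype.ext (by simpa [pow_succ] using hA2 g (hBA hg))⟩
  obtain ⟨n, hn⟩ := (IsPGroup.iff_card (p := 2)).1 h2A
  obtain ⟨b, hb⟩ := (IsPGroup.iff_card (p := 2)).1 h2B
  have hn2 : 2 ≤ n := by
    by_contra hlt
    have : n ≤ 1 := by omega
    have h4 : 2 ^ n ≤ 2 ^ 1 := Nat.pow_le_pow_right (by norm_num) this
    rw [hn] at hq
    omega
  obtain ⟨h5, h6⟩ := arith_two (n := n) (b := b) hn2 (by omega)
  subst h5
  subst h6
  have hT1 : Nat.card T1 = 1 := by omega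
  refine ⟨by omega, fun t ht h => ?_⟩
  have h7 : T1 = ⊥ := Subgroup.card_eq_one.1 hT1
  have h8 : t ∈ T1 := ⟨ht, h⟩
  rw [h7] at h8
  exact Subgroup.mem_bot.1 h8



/-! ### Lines -/

/-- The scalar action of `T` on `A`: `T` is regular on every `line` `{a^t} ∪ {1}`, and lines are closed under products. -/
structure Scal (A T : Subgroup G) : Prop where
  comm : ∀ s ∈ T, ∀ t ∈ T, s * t = t * s
  sq : ∀ a ∈ A, a * a = 1
  norm : ∀ t ∈ T, ∀ a ∈ A, t * a * t⁻¹ ∈ A
  reg : ∀ a ∈ A, a ≠ 1 → ∀ t ∈ T, t * a * t⁻¹ = a → t = 1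
  line : ∀ a ∈ A, ∀ t ∈ T, a * (t * a * t⁻¹) = 1 ∨ ∃ u ∈ T, a * (t * a * t⁻¹) = u * a * u⁻¹

/-- The line of `a`. -/
def Scal.L (h : Scal A T) {a : G} (ha : a ∈ A) : Subgroup G where
  carrier := {b | b = 1 ∨ ∃ u ∈ T, b = u * a * u⁻¹}
  one_mem' := Or.inl rfl
  mul_mem' := by
    rintro b c (rfl | ⟨u, hu, rfl⟩) (rfl | ⟨v, hv, rfl⟩)
    · exact Or.inl (one_mul 1)
    · exact Or.inr ⟨v, hv, one_mul _⟩
    · exact Or.inr ⟨u, hu, mul_one _⟩
    · have e : u * a * u⁻¹ * (v * a * v⁻¹) = u * (a * (u⁻¹ * v * a * (u⁻¹ * v)⁻¹)) * u⁻¹ := by group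
      rcases h.line a ha _ (T.mul_mem (T.inv_mem hu) hv) with h1 | ⟨w, hw, h1⟩
      · left
        rw [e, h1]
        group
      · right
        refine ⟨u * w, T.mul_mem hu hw, ?_⟩
        rw [e, h1]
        group
  inv_mem' := by
    rintro b (rfl | ⟨u, hu, rfl⟩)
    · exact Or.inl inv_one
    · right
      refine ⟨u, hu, ?_⟩
      exact inv_eq_of_mul_eq_one_left (h.sq _ (h.norm u hu a ha))

theorem Scal.mem_L (h : Scal A T) {a : G} (ha : a ∈ A) {b : G} :
    b ∈ h.L ha ↔ b = 1 ∨ ∃ u ∈ T, b = u * a * u⁻¹ := Iff.rfl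

theorem Scal.L_le (h : Scal A T) {a : G} (ha : a ∈ A) : h.L ha ≤ A := by
  rintro b (rfl | ⟨u, hu, rfl⟩)
  · exact A.one_mem
  · exact h.norm u hu a ha

theorem Scal.self_mem_L (h : Scal A T) {a : G} (ha : a ∈ A) : a ∈ h.L ha := Or.inr ⟨1, T.one_mem, by group⟩

theorem Scal.norm_L (h : Scal A T) {a : G} (ha : a ∈ A) : ∀ t ∈ T, ∀ b ∈ h.L ha, t * b * t⁻¹ ∈ h.L ha := by
  rintro t ht b (rfl | ⟨u, hu, rfl⟩)
  · exact Or.inl (by group)
  · exact Or.inr ⟨t * u, T.mul_mem ht hu, by group⟩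

theorem Scal.trans_L (h : Scal A T) {a : G} (ha : a ∈ A) :
    ∀ b ∈ h.L ha, b ≠ 1 → ∀ c ∈ h.L ha, c ≠ 1 → ∃ t ∈ T, t * b * t⁻¹ = c := by
  rintro b (rfl | ⟨u, hu, rfl⟩) hb1 c (rfl | ⟨v, hv, rfl⟩) hc1
  · exact absurd rfl hb1
  · exact absurd rfl hb1
  · exact absurd rfl hc1
  · exact ⟨v * u⁻¹, T.mul_mem hv (T.inv_mem hu), by group⟩

theorem Scal.card_L [Finite G] (h : Scal A T) {a : G} (ha : a ∈ A) (ha1 : a ≠ 1) :
    Nat.card T + 1 = Nat.card (h.L ha) :=
  card_regular (h.norm_L ha) (h.trans_L ha) (fun b hb hb1 t ht => h.reg b (h.L_le ha hb) hb1 t ht)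
    (h.self_mem_L ha) ha1

/-- A different conjugate of `K` centralises `K`. -/
def Comp (K T : Subgroup G) : Prop :=
  ∀ t ∈ T, (∀ y, t * y * t⁻¹ ∈ K ↔ y ∈ K) ∨ ∀ y ∈ K, ∀ z ∈ K, y * (t * z * t⁻¹) = t * z * t⁻¹ * y

/-- `x⁻¹ x^s = 1` and `[K, K^s] = 1` only for central `x`. -/
theorem ne_one {s : G} (hc : ∀ y ∈ K, ∀ z ∈ K, y * (s * z * s⁻¹) = s * z * s⁻¹ * y) (hxK : x ∈ K)
    (hxz : ∃ y ∈ K, x * y ≠ y * x) : x⁻¹ * (s * x * s⁻¹) ≠ 1 := by
  intro h
  obtain ⟨y, hy, hne⟩ := hxz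
  have h1 : x = s * x * s⁻¹ := inv_mul_eq_one.1 h
  have h2 := hc y hy x hxK
  rw [← h1] at h2
  exact hne h2.symm

/-- **(T2), combinatorics.**  `T` normalises `K`, or `|T| = 3` and `T` is regular on the conjugates of `K`. -/
theorem torus [Finite G] (h : Scal A T) (hT : 3 ≤ Nat.card T) (hK : Comp K T) (hxK : x ∈ K)
    (hxz : ∃ y ∈ K, x * y ≠ y * x) (hxA : ∀ t ∈ T, x⁻¹ * (t * x * t⁻¹) ∈ A) :
    (∀ t ∈ T, ∀ y, t * y * t⁻¹ ∈ K ↔ y ∈ K) ∨
      Nat.card T = 3 ∧ ∀ t ∈ T, (∀ y, t * y * t⁻¹ ∈ K ↔ y ∈ K) → t = 1 := by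
  by_cases hcon : ∀ t ∈ T, ∀ y, t * y * t⁻¹ ∈ K ↔ y ∈ K
  · exact Or.inl hcon
  · right
    simp only [not_forall] at hcon
    obtain ⟨s, hs, hsK⟩ := hcon
    have hsK' : ¬ ∀ y, s * y * s⁻¹ ∈ K ↔ y ∈ K := by
      simpa only [not_forall] using hsK
    have hsc : ∀ y ∈ K, ∀ z ∈ K, y * (s * z * s⁻¹) = s * z * s⁻¹ * y := by
      rcases hK s hs with h1 | h1
      · exact absurd h1 hsK'
      · exact h1
    have ha := hxA s hs
    have ha1 := ne_one hsc hxK hxz
    have hc := h.card_L ha ha1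
    exact card_three (A := h.L ha) h.comm (fun b hb => h.sq b (h.L_le ha hb)) (h.norm_L ha) (h.trans_L ha)
      (fun b hb hb1 t ht => h.reg b (h.L_le ha hb) hb1 t ht) (by omega) hK hxK hxz hs hsK'
      (h.self_mem_L ha)

/-- `P` is elementary abelian if some `s ∈ T` moves `K`. -/
theorem elementary {P : Subgroup G} (hA2 : ∀ a ∈ A, a * a = 1) {s : G}
    (hc : ∀ y ∈ K, ∀ z ∈ K, y * (s * z * s⁻¹) = s * z * s⁻¹ * y) (hPK : P ≤ K)
    (hPz : ∀ x ∈ P, (∀ y ∈ K, x * y = y * x) → x = 1) (hPA : ∀ x ∈ P, x⁻¹ * (s * x * s⁻¹) ∈ A) :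
    (∀ x ∈ P, x * x = 1) ∧ ∀ x ∈ P, ∀ y ∈ P, x * y = y * x := by
  have hcen : ∀ z ∈ K, (∃ w ∈ K, z = s * w * s⁻¹) → ∀ y ∈ K, z * y = y * z := by
    rintro z hz ⟨w, hw, rfl⟩ y hy
    exact (hc y hy w hw).symm
  have hsq : ∀ x ∈ P, x * x = 1 := by
    intro x hx
    have h1 := hA2 _ (hPA x hx)
    have c1 : Commute x (s * x * s⁻¹) := hc x (hPK hx) x (hPK hx)
    have h2 : x⁻¹ * x⁻¹ * ((s * x * s⁻¹) * (s * x * s⁻¹)) = 1 := by
      have c2 : Commute x⁻¹ (s * x * s⁻¹) := c1.inv_left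
      calc x⁻¹ * x⁻¹ * ((s * x * s⁻¹) * (s * x * s⁻¹)) = x⁻¹ * (x⁻¹ * (s * x * s⁻¹)) * (s * x * s⁻¹) := by
            simp only [mul_assoc]
        _ = x⁻¹ * ((s * x * s⁻¹) * x⁻¹) * (s * x * s⁻¹) := by rw [c2.eq]
        _ = x⁻¹ * (s * x * s⁻¹) * (x⁻¹ * (s * x * s⁻¹)) := by simp only [mul_assoc]
        _ = 1 := h1
    have h3 : x * x = s * (x * x) * s⁻¹ := by
      have e : s * (x * x) * s⁻¹ = (s * x * s⁻¹) * (s * x * s⁻¹) := by group
      rw [e]
      calc x * x = (x⁻¹ * x⁻¹)⁻¹ := by rw [mul_inv_rev, inv_inv]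
        _ = _ := inv_eq_of_mul_eq_one_right h2
    exact hPz _ (P.mul_mem hx hx) (hcen _ (hPK (P.mul_mem hx hx)) ⟨x * x, hPK (P.mul_mem hx hx), h3⟩)
  refine ⟨hsq, fun x hx y hy => ?_⟩
  have hx1 : x⁻¹ = x := inv_eq_of_mul_eq_one_left (hsq x hx)
  have hy1 : y⁻¹ = y := inv_eq_of_mul_eq_one_left (hsq y hy)
  have hxy := hsq _ (P.mul_mem hx hy)
  calc x * y = (x * y)⁻¹ := (inv_eq_of_mul_eq_one_left hxy).symm
    _ = y⁻¹ * x⁻¹ := mul_inv_rev _ _
    _ = y * x := by rw [hx1, hy1]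


/-! ### The three components -/

/-- The exceptional output of (T2): `|T| = 3`, the conjugates of `K` under `T` commute, `P` is elementary abelian, and
`A` contains all `x^s x^t`. -/
structure Three (A T K P : Subgroup G) : Prop where
  card : Nat.card T = 3
  reg : ∀ t ∈ T, (∀ y, t * y * t⁻¹ ∈ K ↔ y ∈ K) → t = 1
  com : ∀ s ∈ T, ∀ t ∈ T, s ≠ t → ∀ y ∈ K, ∀ z ∈ K, s * y * s⁻¹ * (t * z * t⁻¹) = t * z * t⁻¹ * (s * y * s⁻¹)
  sq : ∀ x ∈ P, x * x = 1
  ab : ∀ x ∈ P, ∀ y ∈ P, x * y = y * x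
  mem : ∀ x ∈ P, ∀ s ∈ T, ∀ t ∈ T, s * x * s⁻¹ * (t * x * t⁻¹) ∈ A

/-- A generator of a group of order three. -/
theorem Three.gen {P : Subgroup G} (h : Three A T K P) :
    ∃ t ∈ T, t ≠ 1 ∧ t * t * t = 1 ∧ t * t ≠ 1 ∧ t * t ≠ t ∧ ∀ s ∈ T, s = 1 ∨ s = t ∨ s = t * t := by
  have hf : Fact (Nat.Prime 3) := ⟨Nat.prime_three⟩
  have hfin : Finite T := Nat.finite_of_card_ne_zero (by rw [h.card]; norm_num)
  have hne : T ≠ ⊥ := by
    rintro rfl
    have := h.card
    simp at this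
  obtain ⟨t, ht, ht1⟩ := (Subgroup.ne_bot_iff_exists_ne_one.1 hne : ∃ a : T, a ≠ 1).elim
    (fun a ha => ⟨(a : G), a.2, fun h => ha (Subtype.ext h)⟩) |> fun (h : ∃ t : G, t ∈ T ∧ t ≠ 1) => h
  have hord : orderOf t = 3 := by
    have h1 : orderOf t ∣ 3 := by
      have := Subgroup.orderOf_dvd_natCard T ht
      rwa [h.card] at this
    rcases (Nat.dvd_prime Nat.prime_three).1 h1 with h2 | h2
    · exact absurd (orderOf_eq_one_iff.1 h2) ht1
    · exact h2
  have h3 : t * t * t = 1 := by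
    have := pow_orderOf_eq_one t
    rw [hord, pow_succ, pow_two] at this
    exact this
  have htt : t * t ≠ t := fun e => ht1 (by simpa using e)
  have htt1 : t * t ≠ 1 := by
    intro e
    rw [e, one_mul] at h3
    exact ht1 h3
  refine ⟨t, ht, ht1, h3, htt1, htt, fun s hs => ?_⟩
  have hz : Subgroup.zpowers t = T := by
    apply Subgroup.eq_of_le_of_card_ge
    · rwa [Subgroup.zpowers_le]
    · rw [Nat.card_zpowers, hord, h.card]
  rw [← hz] at hs
  obtain ⟨n, hn⟩ := (Subgroup.mem_zpowers_iff.1 hs)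
  have h4 : t ^ (3 : ℤ) = 1 := by
    rw [show (3 : ℤ) = ((3 : ℕ) : ℤ) by norm_num, zpow_natCast, pow_succ, pow_two, h3]
  have h5 : s = t ^ (n % 3) := by
    rw [← hn]
    conv_lhs => rw [← Int.emod_add_mul_ediv n 3, zpow_add, zpow_mul, h4, one_zpow, mul_one]
  have h6 : n % 3 = 0 ∨ n % 3 = 1 ∨ n % 3 = 2 := by omega
  rcases h6 with h6 | h6 | h6
  · left; rw [h5, h6, zpow_zero]
  · right; left; rw [h5, h6, zpow_one]
  · right; right; rw [h5, h6, show (2 : ℤ) = ((2 : ℕ) : ℤ) by norm_num, zpow_natCast, pow_two]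

/-- **(T2), combinatorics, final form.** -/
theorem torus_or_three [Finite G] {P : Subgroup G} (h : Scal A T) (hT : 3 ≤ Nat.card T) (hK : Comp K T)
    (hPK : P ≤ K) (hP1 : P ≠ ⊥) (hPz : ∀ x ∈ P, (∀ y ∈ K, x * y = y * x) → x = 1)
    (hPA : ∀ x ∈ P, ∀ t ∈ T, x⁻¹ * (t * x * t⁻¹) ∈ A) :
    (∀ t ∈ T, ∀ y, t * y * t⁻¹ ∈ K ↔ y ∈ K) ∨ Three A T K P := by
  obtain ⟨⟨x, hx⟩, hx1⟩ := (Subgroup.ne_bot_iff_exists_ne_one.1 hP1)
  have hxz : ∃ y ∈ K, x * y ≠ y * x := by
    by_contra hc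
    push Not at hc
    exact hx1 (Subtype.ext (hPz x hx hc))
  rcases torus h hT hK (hPK hx) hxz (hPA x hx) with h1 | ⟨h1, h2⟩
  · exact Or.inl h1
  · right
    -- an element moving `K`
    have hcom : ∀ t ∈ T, t ≠ 1 → ∀ y ∈ K, ∀ z ∈ K, y * (t * z * t⁻¹) = t * z * t⁻¹ * y := by
      intro t ht ht1
      rcases hK t ht with h3 | h3
      · exact absurd (h2 t ht h3) ht1
      · exact h3
    have hcom2 : ∀ s ∈ T, ∀ t ∈ T, s ≠ t → ∀ y ∈ K, ∀ z ∈ K,
        s * y * s⁻¹ * (t * z * t⁻¹) = t * z * t⁻¹ * (s * y * s⁻¹) := by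
      intro s hs t ht hst y hy z hz
      have hne : s⁻¹ * t ≠ 1 := fun e => hst (inv_mul_eq_one.1 e)
      have h3 := hcom _ (T.mul_mem (T.inv_mem hs) ht) hne y hy z hz
      calc s * y * s⁻¹ * (t * z * t⁻¹) = s * (y * (s⁻¹ * t * z * (s⁻¹ * t)⁻¹)) * s⁻¹ := by group
        _ = s * (s⁻¹ * t * z * (s⁻¹ * t)⁻¹ * y) * s⁻¹ := by rw [h3]
        _ = _ := by group
    have hTne : ∃ s ∈ T, s ≠ 1 := by
      by_contra hc
      push Not at hc
      have h4 : T = ⊥ := (Subgroup.eq_bot_iff_forall T).2 hc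
      rw [h4] at h1
      simp at h1
    obtain ⟨s, hs, hs1⟩ := hTne
    obtain ⟨hsq, hab⟩ := elementary h.sq (hcom s hs hs1) hPK hPz (fun y hy => hPA y hy s hs)
    refine ⟨h1, h2, hcom2, hsq, hab, fun y hy u hu v hv => ?_⟩
    have hy1 : y⁻¹ = y := inv_eq_of_mul_eq_one_left (hsq y hy)
    have h5 := hPA y hy _ (T.mul_mem (T.inv_mem hu) hv)
    rw [hy1] at h5
    have h6 := h.norm u hu _ h5
    have e : u * (y * (u⁻¹ * v * y * (u⁻¹ * v)⁻¹)) * u⁻¹ = u * y * u⁻¹ * (v * y * v⁻¹) := by group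
    rwa [e] at h6

/-! ### Components -/

/-- Conjugates of a component. -/
theorem comp_of_isComponent [Finite G] (hK : Cfsg.IsComponent K) : Comp K T := by
  intro t _
  by_cases ht : t ∈ Subgroup.normalizer (K : Set G)
  · left
    intro y
    exact (Subgroup.mem_normalizer_iff.1 ht y).symm
  · right
    intro y hy z hz
    exact (Cfsg.Agent.SylowL.NoComp.commute_of_notMem_normalizer hK ht hz hy).symm

/-- **(T2), combinatorics, for components**: `S` a 2-subgroup with `[S,T] ≤ A`, `S ∩ K` not trivial and `S ∩ Z(K) = 1`.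
-/
theorem torus_component [Finite G] {S : Subgroup G} (h : Scal A T) (hT : 3 ≤ Nat.card T)
    (hK : Cfsg.IsComponent K) (hS1 : S ⊓ K ≠ ⊥) (hZ : ∀ x ∈ S ⊓ K, (∀ y ∈ K, x * y = y * x) → x = 1)
    (hSA : ∀ x ∈ S, ∀ t ∈ T, x⁻¹ * (t * x * t⁻¹) ∈ A) :
    T ≤ Subgroup.normalizer (K : Set G) ∨ Three A T K (S ⊓ K) := by
  rcases torus_or_three h hT (comp_of_isComponent hK) inf_le_right hS1 hZ (fun x hx => hSA x hx.1) with h1 | h1
  · left
    intro t ht
    exact Subgroup.mem_normalizer_iff.2 fun y => (h1 t ht y).symm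
  · exact Or.inr h1

end Cfsg.Agent.Omega.Lie.CompT
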