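import Cfsg.Agent.Omega.Lie.Heis

/-!
# Lower bounds for actions of perfect central extensions on `2`-groups

* `exists_irr`: a nontrivial action of a perfect group on a finite abelian group has a nontrivial irreducible
  subquotient;
* `LB K m`: every nontrivial action of a finite perfect central extension of `K` with odd kernel on a finite
  abelian `2`-group `V` has `|V| ≥ 2 ^ m`; `LB.of_irr`: it is enough to treat faithful irreducible actions;
* `Heis.lift`: a Heisenberg configuration lifts to a central extension with kernel of order prime to `r`;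
* `Heis.two_pow_le_lcm`: the Heisenberg bound with a fixed point free central element of prime order `s`;
* `two_pow_le_lcm`: the case of one element of prime order.
-/

set_option autoImplicit false
set_option linter.dupNamespace false
set_option linter.style.haveILetI false
set_option linter.unusedVariables false

universe u u' v w

namespace Cfsg.Agent.Omega.Lie.Heis

section irr

variable {L : Type u} [Group L]

/-- Irreducible: no proper nontrivial invariant subgroup. -/
def Irr {V : Type w} [Group V] (φ : L →* MulAut V) : Prop :=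
  ∀ U : Subgroup V, (∀ g, ∀ x ∈ U, φ g x ∈ U) → U = ⊥ ∨ U = ⊤

/-- The action on an invariant subgroup. -/
def resAct {V : Type w} [Group V] (φ : L →* MulAut V) (U : Subgroup V) (hU : ∀ g, ∀ x ∈ U, φ g x ∈ U) :
    L →* MulAut U where
  toFun g :=
    { toFun := fun x => ⟨φ g x, hU g x x.2⟩
      invFun := fun x => ⟨φ g⁻¹ x, hU g⁻¹ x x.2⟩
      left_inv := fun x => Subtype.ext (by
        show φ g⁻¹ (φ g x) = x
        rw [← MulAut.mul_apply, ← map_mul, inv_mul_cancel, map_one]; rfl)
      right_inv := fun x => Subtype.ext (by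
        show φ g (φ g⁻¹ x) = x
        rw [← MulAut.mul_apply, ← map_mul, mul_inv_cancel, map_one]; rfl)
      map_mul' := fun x y => Subtype.ext (map_mul (φ g) _ _) }
  map_one' := MulEquiv.ext fun x => Subtype.ext (by
    show φ 1 (x : V) = x
    rw [map_one]; rfl)
  map_mul' g h := MulEquiv.ext fun x => Subtype.ext (by
    show φ (g * h) (x : V) = φ g (φ h x)
    rw [map_mul]; rfl)

@[simp] theorem resAct_apply {V : Type w} [Group V] (φ : L →* MulAut V) (U : Subgroup V)
    (hU : ∀ g, ∀ x ∈ U, φ g x ∈ U) (g : L) (x : U) : (resAct φ U hU g x : V) = φ g x := rfl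

/-- The action on the quotient by an invariant subgroup. -/
def quoAct {V : Type w} [CommGroup V] (φ : L →* MulAut V) (U : Subgroup V) (hU : ∀ g, ∀ x ∈ U, φ g x ∈ U) :
    L →* MulAut (V ⧸ U) where
  toFun g :=
    { toFun := QuotientGroup.map U U (φ g).toMonoidHom (fun x hx => hU g x hx)
      invFun := QuotientGroup.map U U (φ g⁻¹).toMonoidHom (fun x hx => hU g⁻¹ x hx)
      left_inv := fun x => by
        obtain ⟨x, rfl⟩ := QuotientGroup.mk_surjective x
        show ((φ g⁻¹ (φ g x) : V) : V ⧸ U) = x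
        rw [← MulAut.mul_apply, ← map_mul, inv_mul_cancel, map_one]; rfl
      right_inv := fun x => by
        obtain ⟨x, rfl⟩ := QuotientGroup.mk_surjective x
        show ((φ g (φ g⁻¹ x) : V) : V ⧸ U) = x
        rw [← MulAut.mul_apply, ← map_mul, mul_inv_cancel, map_one]; rfl
      map_mul' := fun x y => map_mul _ _ _ }
  map_one' := MulEquiv.ext fun x => by
    obtain ⟨x, rfl⟩ := QuotientGroup.mk_surjective x
    show ((φ 1 x : V) : V ⧸ U) = x
    rw [map_one]; rfl
  map_mul' g h := MulEquiv.ext fun x => by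
    obtain ⟨x, rfl⟩ := QuotientGroup.mk_surjective x
    show ((φ (g * h) x : V) : V ⧸ U) = ((φ g (φ h x) : V) : V ⧸ U)
    rw [map_mul]; rfl

@[simp] theorem quoAct_apply {V : Type w} [CommGroup V] (φ : L →* MulAut V) (U : Subgroup V)
    (hU : ∀ g, ∀ x ∈ U, φ g x ∈ U) (g : L) (x : V) : quoAct φ U hU g (x : V ⧸ U) = ((φ g x : V) : V ⧸ U) := rfl

/-- A perfect group acting trivially on `U` and `V ⧸ U` acts trivially. -/
theorem trivial_of_res_quo (hL : commutator L = ⊤) {V : Type w} [CommGroup V] (φ : L →* MulAut V) (U : Subgroup V)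
    (h1 : ∀ g, ∀ x ∈ U, φ g x = x) (h2 : ∀ g x, φ g x * x⁻¹ ∈ U) : φ = 1 := by
  ext g x
  -- `g ↦ φ g x * x⁻¹` is a homomorphism into the abelian group `U`
  let f : L →* U :=
    { toFun := fun g => ⟨φ g x * x⁻¹, h2 g x⟩
      map_one' := Subtype.ext (by simp)
      map_mul' := fun g h => Subtype.ext (by
        show φ (g * h) x * x⁻¹ = (φ g x * x⁻¹) * (φ h x * x⁻¹)
        have h3 : φ h x = (φ h x * x⁻¹) * x := by group
        rw [map_mul, MulAut.mul_apply]
        conv_lhs => rw [h3, map_mul, h1 g _ (h2 h x)]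
        rw [mul_assoc, mul_comm]) }
  have h3 : f g = 1 := by
    have h4 : g ∈ commutator L := hL ▸ Subgroup.mem_top g
    exact (Abelianization.commutator_subset_ker f) h4
  have h5 : φ g x * x⁻¹ = 1 := congrArg Subtype.val h3
  simpa using (mul_inv_eq_one.1 h5)

/-- A nontrivial irreducible subquotient. -/
theorem exists_irr (hL : commutator L = ⊤) {V : Type w} [CommGroup V] [Finite V] (φ : L →* MulAut V) (hφ : φ ≠ 1)
    (h2 : IsPGroup 2 V) :
    ∃ (W : Type w) (_ : CommGroup W) (_ : Finite W) (ψ : L →* MulAut W),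
      IsPGroup 2 W ∧ ψ ≠ 1 ∧ Irr ψ ∧ Nat.card W ≤ Nat.card V := by
  suffices H : ∀ (m : ℕ) (V : Type w) [CommGroup V] [Finite V] (φ : L →* MulAut V), φ ≠ 1 → IsPGroup 2 V →
      Nat.card V ≤ m → ∃ (W : Type w) (_ : CommGroup W) (_ : Finite W) (ψ : L →* MulAut W),
      IsPGroup 2 W ∧ ψ ≠ 1 ∧ Irr ψ ∧ Nat.card W ≤ Nat.card V from H _ V φ hφ h2 le_rfl
  intro m
  induction m with
  | zero =>
    intro V _ _ φ _ _ hm
    have := Nat.card_pos (α := V)
    omega
  | succ m ih =>
    intro V _ _ φ hφ h2 hm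
    by_cases hirr : Irr φ
    · exact ⟨V, inferInstance, inferInstance, φ, h2, hφ, hirr, le_rfl⟩
    · unfold Irr at hirr
      push Not at hirr
      obtain ⟨U, hU, hb, ht⟩ := hirr
      have hc := Subgroup.card_mul_index U
      have hU1 : 1 < Nat.card U := (Subgroup.one_lt_card_iff_ne_bot U).2 hb
      have hU2 : 1 < U.index := by
        have h3 : U.index ≠ 0 := Subgroup.index_ne_zero_of_finite
        have h4 : U.index ≠ 1 := fun e => ht (Subgroup.index_eq_one.1 e)
        omega
      by_cases h3 : resAct φ U hU = 1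
      · by_cases h4 : quoAct φ U hU = 1
        · exfalso
          apply hφ
          apply trivial_of_res_quo hL φ U
          · intro g x hx
            have := congrArg Subtype.val (DFunLike.congr_fun (DFunLike.congr_fun h3 g) ⟨x, hx⟩)
            simpa using this
          · intro g x
            have h5 := DFunLike.congr_fun (DFunLike.congr_fun h4 g) (x : V ⧸ U)
            have h6 : ((φ g x : V) : V ⧸ U) = (x : V ⧸ U) := h5
            have h7 := (QuotientGroup.eq.1 h6.symm)
            rwa [mul_comm] at h7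
        · have h5 : Nat.card (V ⧸ U) < Nat.card V := by
            rw [← Subgroup.index_eq_card, ← hc]
            nlinarith
          obtain ⟨W, i1, i2, ψ, h6, h7, h8, h9⟩ := ih (V ⧸ U) (quoAct φ U hU) h4
            (h2.to_quotient U) (by omega)
          exact ⟨W, i1, i2, ψ, h6, h7, h8, h9.trans h5.le⟩
      · have h5 : Nat.card U < Nat.card V := by
          rw [← hc]
          nlinarith
        obtain ⟨W, i1, i2, ψ, h6, h7, h8, h9⟩ := ih U (resAct φ U hU) h3 (h2.to_subgroup U) (by omega)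
        exact ⟨W, i1, i2, ψ, h6, h7, h8, h9.trans h5.le⟩

/-- A central element acting nontrivially in an irreducible action is fixed point free. -/
theorem Irr.free {V : Type w} [Group V] {φ : L →* MulAut V} (hi : Irr φ) {c : L}
    (hc : c ∈ Subgroup.center L) (hc1 : φ c ≠ 1) {x : V} (hx : φ c x = x) : x = 1 := by
  let U : Subgroup V :=
    { carrier := {x | φ c x = x}
      one_mem' := map_one _
      mul_mem' := fun {a b} ha hb => by
        show φ c (a * b) = a * b
        rw [map_mul, show φ c a = a from ha, show φ c b = b from hb]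
      inv_mem' := fun {a} ha => by
        show φ c a⁻¹ = a⁻¹
        rw [map_inv, show φ c a = a from ha] }
  have hU : ∀ g, ∀ x ∈ U, φ g x ∈ U := by
    intro g x hx
    show φ c (φ g x) = φ g x
    rw [← MulAut.mul_apply, ← map_mul, ← Subgroup.mem_center_iff.1 hc g, map_mul, MulAut.mul_apply,
      show φ c x = x from hx]
  rcases hi U hU with h | h
  · have : x ∈ U := hx
    rw [h] at this
    exact Subgroup.mem_bot.1 this
  · exfalso
    apply hc1
    ext y
    have : y ∈ U := h ▸ Subgroup.mem_top y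
    exact this

end irr

/-! ### Perfect central extensions with odd kernel -/

/-- Every nontrivial action of a finite perfect central extension of `K` with kernel of odd order on a finite
abelian `2`-group `V` has `|V| ≥ 2 ^ m`. -/
def LB (K : Type u) [Group K] (m : ℕ) : Prop :=
  ∀ (L : Type v) [Group L] [Finite L] (π : L →* K), Function.Surjective π → π.ker ≤ Subgroup.center L →
    Odd (Nat.card π.ker) → commutator L = ⊤ → ∀ (V : Type w) [CommGroup V] [Finite V], IsPGroup 2 V →
    ∀ φ : L →* MulAut V, φ ≠ 1 → 2 ^ m ≤ Nat.card V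

theorem LB.mono {K : Type u} [Group K] {m k : ℕ} (h : LB.{u, v, w} K m) (hk : k ≤ m) : LB.{u, v, w} K k :=
  fun L _ _ π h1 h2 h3 h4 V _ _ h5 φ h6 =>
    (Nat.pow_le_pow_right (by norm_num) hk).trans (h L π h1 h2 h3 h4 V h5 φ h6)

/-- Transport along an isomorphism. -/
theorem LB.congr {K : Type u} [Group K] {K' : Type u'} [Group K'] {m : ℕ} (h : LB.{u, v, w} K m) (e : K ≃* K') :
    LB.{u', v, w} K' m := by
  intro L _ _ π h1 h2 h3 h4 V _ _ h5 φ h6
  have hk : (e.symm.toMonoidHom.comp π).ker = π.ker := by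
    ext x
    simp [MonoidHom.mem_ker]
  exact h L (e.symm.toMonoidHom.comp π) (e.symm.surjective.comp h1) (hk ▸ h2) (hk ▸ h3) h4 V h5 φ h6

/-- The kernel of a nontrivial action of a perfect central extension of a simple group is central. -/
theorem ker_le_ker {K : Type u} [Group K] [IsSimpleGroup K] {L : Type v} [Group L] {M : Type w} [Group M]
    {π : L →* K} (hπ : Function.Surjective π) (hc : π.ker ≤ Subgroup.center L) (hL : commutator L = ⊤)
    {φ : L →* M} (hφ : φ ≠ 1) : φ.ker ≤ π.ker := by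
  have h1 : (φ.ker.map π).Normal := Subgroup.Normal.map inferInstance π hπ
  rcases h1.eq_bot_or_eq_top with h2 | h2
  · exact fun x hx => by
      have : π x ∈ φ.ker.map π := ⟨x, hx, rfl⟩
      rw [h2] at this
      exact Subgroup.mem_bot.1 this
  · exfalso
    apply hφ
    -- `L = ker φ * ker π`
    have h3 : ∀ g : L, ∃ a ∈ φ.ker, ∃ c ∈ π.ker, g = a * c := by
      intro g
      have h4 : π g ∈ φ.ker.map π := h2 ▸ Subgroup.mem_top _
      obtain ⟨a, ha, hag⟩ := h4
      exact ⟨a, ha, a⁻¹ * g, by rw [MonoidHom.mem_ker, map_mul, map_inv, hag, inv_mul_cancel], by group⟩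
    -- the image of `φ` is abelian
    have h5 : ∀ g h : L, φ g * φ h = φ h * φ g := by
      intro g h
      obtain ⟨a, ha, c, hc', rfl⟩ := h3 g
      obtain ⟨b, hb, d, hd, rfl⟩ := h3 h
      rw [map_mul, map_mul, MonoidHom.mem_ker.1 ha, MonoidHom.mem_ker.1 hb, one_mul, one_mul, ← map_mul,
        ← map_mul, Subgroup.mem_center_iff.1 (hc hd) c]
    have h6 : commutator L ≤ φ.ker := by
      rw [commutator_def, Subgroup.commutator_le]
      intro g _ h _
      rw [MonoidHom.mem_ker, map_commutatorElement, commutatorElement_eq_one_iff_mul_comm]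
      exact h5 g h
    ext g
    exact h6 (hL ▸ Subgroup.mem_top g)

/-- It is enough to treat faithful irreducible actions. -/
theorem LB.of_irr {K : Type u} [Group K] [IsSimpleGroup K] {m : ℕ}
    (H : ∀ (L : Type v) [Group L] [Finite L] (π : L →* K), Function.Surjective π → π.ker ≤ Subgroup.center L →
      Odd (Nat.card π.ker) → commutator L = ⊤ → ∀ (V : Type w) [CommGroup V] [Finite V], IsPGroup 2 V →
      ∀ φ : L →* MulAut V, Function.Injective φ → Irr φ → 2 ^ m ≤ Nat.card V) : LB.{u, v, w} K m := by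
  intro L _ _ π hπ hc ho hL V _ _ h2 φ hφ
  obtain ⟨W, _, _, ψ, h3, h4, h5, h6⟩ := exists_irr hL φ hφ h2
  refine le_trans ?_ h6
  have h7 : ψ.ker ≤ π.ker := ker_le_ker hπ hc hL h4
  let π' : L ⧸ ψ.ker →* K := QuotientGroup.lift ψ.ker π h7
  have hπ' : ∀ g : L, π' (g : L ⧸ ψ.ker) = π g := fun g => rfl
  have hk : π'.ker = π.ker.map (QuotientGroup.mk' ψ.ker) := by
    ext x
    obtain ⟨g, rfl⟩ := QuotientGroup.mk_surjective x
    rw [MonoidHom.mem_ker, hπ']
    constructor
    · intro hg
      exact ⟨g, hg, rfl⟩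
    · rintro ⟨a, ha, hag⟩
      have h8 : (a : L ⧸ ψ.ker) = (g : L ⧸ ψ.ker) := hag
      have h9 := congrArg π' h8
      rw [hπ', hπ'] at h9
      rw [← h9]
      exact ha
  refine H (L ⧸ ψ.ker) π' ?_ ?_ ?_ ?_ W h3 (QuotientGroup.kerLift ψ) (QuotientGroup.kerLift_injective ψ) ?_
  · intro k
    obtain ⟨g, rfl⟩ := hπ k
    exact ⟨g, rfl⟩
  · rw [hk]
    rintro _ ⟨a, ha, rfl⟩
    rw [Subgroup.mem_center_iff]
    intro y
    obtain ⟨g, rfl⟩ := QuotientGroup.mk_surjective y
    show ((g * a : L) : L ⧸ ψ.ker) = ((a * g : L) : L ⧸ ψ.ker)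
    rw [Subgroup.mem_center_iff.1 (hc ha) g]
  · rw [hk]
    exact Odd.of_dvd_nat ho (Subgroup.card_map_dvd _ _)
  · rw [eq_top_iff]
    rintro x -
    obtain ⟨g, rfl⟩ := QuotientGroup.mk_surjective x
    have h8 : g ∈ commutator L := hL ▸ Subgroup.mem_top g
    have h9 : (commutator L).map (QuotientGroup.mk' ψ.ker) ≤ commutator (L ⧸ ψ.ker) := by
      rw [commutator_def, commutator_def, Subgroup.map_commutator]
      exact Subgroup.commutator_mono le_top le_top
    exact h9 ⟨g, h8, rfl⟩
  · intro U hU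
    exact h5 U (fun g x hx => hU (g : L ⧸ ψ.ker) x hx)

/-! ### Lifting Heisenberg configurations -/

section lift

variable {L : Type v} {K : Type u} [Group L] [Group K] {π : L →* K}

/-- Elements of order `r` lift to elements of order `r` if `r` is prime to the order of the kernel. -/
theorem exists_lift {r : ℕ} (hπ : Function.Surjective π) (hc : π.ker ≤ Subgroup.center L) [Finite π.ker]
    (hco : Nat.Coprime r (Nat.card π.ker)) {g : K} (hg : g ^ r = 1) : ∃ a : L, π a = g ∧ a ^ r = 1 := by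
  obtain ⟨b, rfl⟩ := hπ g
  have hb : b ^ r ∈ π.ker := by rw [MonoidHom.mem_ker, map_pow, hg]
  -- `c ∈ ker π` with `c ^ r = b ^ r`
  obtain ⟨k, hk⟩ := exists_pow_eq_self_of_coprime (n := r) (x := b ^ r) (by
    have h1 : orderOf (b ^ r) ∣ Nat.card π.ker := by
      have := orderOf_dvd_natCard (⟨b ^ r, hb⟩ : π.ker)
      rwa [Subgroup.orderOf_mk] at this
    exact Nat.Coprime.coprime_dvd_right h1 hco)
  have hck : (b ^ r) ^ k ∈ π.ker := π.ker.pow_mem hb k
  refine ⟨b * ((b ^ r) ^ k)⁻¹, ?_, ?_⟩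
  · rw [map_mul, map_inv, MonoidHom.mem_ker.1 hck, inv_one, mul_one]
  · have h2 : Commute b ((b ^ r) ^ k)⁻¹ :=
      ((Commute.refl b).pow_right r |>.pow_right k).inv_right
    rw [h2.mul_pow, inv_pow, ← pow_mul, mul_comm k r, pow_mul, hk, mul_inv_cancel]

/-- Commuting modulo a central kernel of order prime to `r` and `a ^ r = 1` imply commuting. -/
theorem comm_of_comm {r : ℕ} (hc : π.ker ≤ Subgroup.center L) [Finite π.ker]
    (hco : Nat.Coprime r (Nat.card π.ker)) {a b : L} (ha : a ^ r = 1) (h : π a * π b = π b * π a) :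
    a * b = b * a := by
  -- `b⁻¹ a b = a c`, `c` central
  set c := a⁻¹ * (b⁻¹ * a * b) with hcd
  have h1 : c ∈ π.ker := by
    rw [MonoidHom.mem_ker, hcd, map_mul, map_mul, map_mul, map_inv, map_inv]
    calc (π a)⁻¹ * ((π b)⁻¹ * π a * π b) = (π a)⁻¹ * (π b)⁻¹ * (π a * π b) := by group
      _ = (π a)⁻¹ * (π b)⁻¹ * (π b * π a) := by rw [h]
      _ = 1 := by group
  have h2 : Commute a c := (Subgroup.mem_center_iff.1 (hc h1) a)
  have h3 : c ^ r = 1 := by
    have h4 : (a * c) ^ r = 1 := by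
      have h5 : a * c = b⁻¹ * a * b := by rw [hcd]; group
      have h6 : (b⁻¹ * a * b) ^ r = b⁻¹ * a ^ r * b := by
        have := conj_pow (i := r) (a := b⁻¹) (b := a)
        rwa [inv_inv] at this
      rw [h5, h6, ha]; group
    rw [h2.mul_pow, ha, one_mul] at h4
    exact h4
  have h4 : c = 1 := by
    have h5 : orderOf c ∣ r := orderOf_dvd_of_pow_eq_one h3
    have h6 : orderOf c ∣ Nat.card π.ker := by
      have := orderOf_dvd_natCard (⟨c, h1⟩ : π.ker)
      rwa [Subgroup.orderOf_mk] at this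
    exact orderOf_eq_one_iff.1 (Nat.eq_one_of_dvd_coprimes hco h5 h6)
  have h5 : b⁻¹ * a * b = a := by
    calc b⁻¹ * a * b = a * c := by rw [hcd]; group
      _ = a := by rw [h4, mul_one]
  calc a * b = b * (b⁻¹ * a * b) := by group
    _ = b * a := by rw [h5]

/-- Two lifts of the same element with trivial `r`-th powers are equal. -/
theorem lift_unique {r : ℕ} (hc : π.ker ≤ Subgroup.center L) [Finite π.ker]
    (hco : Nat.Coprime r (Nat.card π.ker)) {a b : L} (ha : a ^ r = 1) (hb : b ^ r = 1) (h : π a = π b) :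
    a = b := by
  have h1 : a * b⁻¹ ∈ π.ker := by rw [MonoidHom.mem_ker, map_mul, map_inv, h, mul_inv_cancel]
  have h0 : a * b = b * a := comm_of_comm hc hco ha (by rw [h])
  have h2 : (a * b⁻¹) ^ r = 1 := by
    have h3 : Commute a b⁻¹ := (show Commute a b from h0).inv_right
    rw [h3.mul_pow, ha, inv_pow, hb, inv_one, one_mul]
  have h5 : orderOf (a * b⁻¹) ∣ r := orderOf_dvd_of_pow_eq_one h2
  have h6 : orderOf (a * b⁻¹) ∣ Nat.card π.ker := by
    have := orderOf_dvd_natCard (⟨a * b⁻¹, h1⟩ : π.ker)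
    rwa [Subgroup.orderOf_mk] at this
  exact mul_inv_eq_one.1 (orderOf_eq_one_iff.1 (Nat.eq_one_of_dvd_coprimes hco h5 h6))

/-- **Lifting of Heisenberg configurations.** -/
theorem Heis.lift {r n : ℕ} {z : K} {x y : Fin n → K} (h : Heis r n z x y)
    (hπ : Function.Surjective π) (hc : π.ker ≤ Subgroup.center L) [Finite π.ker]
    (hco : Nat.Coprime r (Nat.card π.ker)) :
    ∃ (z' : L) (x' y' : Fin n → L), π z' = z ∧ (∀ i, π (x' i) = x i) ∧ (∀ i, π (y' i) = y i) ∧
      Heis r n z' x' y' := by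
  obtain ⟨z', hz', hzr⟩ := exists_lift hπ hc hco h.zr
  choose x' hx' hxr using fun i => exists_lift hπ hc hco (h.xr i)
  choose y' hy' using fun i => hπ (y i)
  refine ⟨z', x', y', hz', hx', hy', h.prime, hzr, hxr, fun i => ?_, fun i => ?_, fun i j => ?_, fun i j hij => ?_,
    fun i => ?_⟩
  · exact comm_of_comm hc hco hzr (by rw [hz', hx', h.zx])
  · exact comm_of_comm hc hco hzr (by rw [hz', hy', h.zy])
  · exact comm_of_comm hc hco (hxr i) (by rw [hx', hx', h.xx])
  · exact (comm_of_comm hc hco (hxr j) (by rw [hx', hy', h.yx i j hij])).symm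
  · apply lift_unique (r := r) hc hco
    · rw [conj_pow, hxr]; group
    · have h1 : Commute (x' i) z' := (comm_of_comm hc hco hzr (by rw [hz', hx', h.zx])).symm
      rw [h1.mul_pow, hxr, hzr, one_mul]
    · rw [map_mul, map_mul, map_mul, map_inv, hx', hy', hz', h.conj]

end lift

/-! ### Two primes -/

section lcm

variable {E : Type u} {A : Type v} [Group E] [AddCommGroup A] [DistribMulAction E A]

theorem card_comm_modEq {s : ℕ} (hs : s.Prime) {c : E} (hc : c ^ s = 1) [Finite A]
    (hcf : ∀ v : A, c • v = v → v = 0) {C : AddSubgroup A} (hC : ∀ v ∈ C, c • v ∈ C) :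
    Nat.card C ≡ 1 [MOD s] :=
  modEq_one hs hc hC (fun v _ => hcf v)

theorem orderOf_dvd_of_modEq {r k : ℕ} (h : 2 ^ k ≡ 1 [MOD r]) : orderOf (2 : ZMod r) ∣ k := by
  apply orderOf_dvd_of_pow_eq_one
  have := (ZMod.natCast_eq_natCast_iff _ _ _).2 h
  simpa using this

/-- **The Heisenberg bound with a fixed point free element `c` of prime order `s`** commuting with `z` and the
`x i`. -/
theorem Heis.two_pow_le_lcm {r n s : ℕ} {z c : E} {x y : Fin n → E} [Finite A] (h : Heis r n z x y)
    (h2 : IsPGroup 2 (Multiplicative A)) (hr2 : r ≠ 2) (hf : ∃ v : A, z • v ≠ v)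
    (hs : s.Prime) (hc : c ^ s = 1) (hcz : z * c = c * z) (hcx : ∀ i, x i * c = c * x i)
    (hcf : ∀ v : A, c • v = v → v = 0) :
    2 ^ (Nat.lcm (orderOf (2 : ZMod r)) (orderOf (2 : ZMod s)) * r ^ n) ≤ Nat.card A := by
  haveI : Fact (Nat.Prime 2) := ⟨Nat.prime_two⟩
  obtain ⟨m, hm⟩ := IsPGroup.iff_card.1 h2
  have hm' : Nat.card A = 2 ^ m := hm
  have ht := tors_of_two (A := A) h.prime h2 hr2
  have hB0 : Heis.comm A z ≠ ⊥ := by
    obtain ⟨v, hv⟩ := hf
    intro hb
    have h3 : z • v - v ∈ Heis.comm A z := ⟨v, rfl⟩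
    rw [hb] at h3
    exact hv (sub_eq_zero.1 h3)
  obtain ⟨B, hB, hBi, hle⟩ := h.exists_sub hB0 (fun g hg v hv => Heis.comm_inv hg hv) (fun v _ => ht v)
    (fun v hv => Heis.comm_free h.zr ht hv)
  have h6 := modEq_one h.prime h.zr (B := B)
    (fun v hv => (hBi _).2 ⟨Heis.comm_inv rfl ((hBi v).1 hv).1, fun i => by
      rw [smul_smul, ← h.zx i, mul_smul, ((hBi v).1 hv).2 i]⟩)
    (fun v hv => Heis.comm_free h.zr ht ((hBi v).1 hv).1)
  have h6' := card_comm_modEq hs hc hcf (C := B)
    (fun v hv => (hBi _).2 ⟨Heis.comm_inv hcz ((hBi v).1 hv).1, fun i => by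
      rw [smul_smul, hcx i, mul_smul, ((hBi v).1 hv).2 i]⟩)
  obtain ⟨k, -, hk⟩ := (Nat.dvd_prime_pow Nat.prime_two).1 (hm' ▸ AddSubgroup.card_addSubgroup_dvd_card B)
  have h9 : k ≠ 0 := by
    rintro rfl
    apply hB
    rw [pow_zero] at hk
    exact AddSubgroup.card_eq_one.1 hk
  rw [hk] at h6 h6'
  have h7 : Nat.lcm (orderOf (2 : ZMod r)) (orderOf (2 : ZMod s)) ≤ k :=
    Nat.le_of_dvd (Nat.pos_of_ne_zero h9) (Nat.lcm_dvd (orderOf_dvd_of_modEq h6) (orderOf_dvd_of_modEq h6'))
  calc 2 ^ (Nat.lcm (orderOf (2 : ZMod r)) (orderOf (2 : ZMod s)) * r ^ n) ≤ 2 ^ (k * r ^ n) :=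
        Nat.pow_le_pow_right (by norm_num) (Nat.mul_le_mul_right _ h7)
    _ = Nat.card B ^ r ^ n := by rw [hk, pow_mul]
    _ ≤ Nat.card (Heis.comm A z) := hle
    _ ≤ Nat.card A := Nat.card_le_card_of_injective _ Subtype.val_injective

end lcm

/-- The additive group with the action of a homomorphism `φ : E →* MulAut V`. -/
@[reducible] def addAct {E : Type u} [Group E] {V : Type v} [CommGroup V] (φ : E →* MulAut V) :
    DistribMulAction E (Additive V) where
  smul := fun g v => Additive.ofMul (φ g v.toMul)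
  one_smul := fun v => by
    show Additive.ofMul (φ 1 v.toMul) = v
    rw [map_one]; rfl
  mul_smul := fun g k v => by
    show Additive.ofMul (φ (g * k) v.toMul) = Additive.ofMul (φ g (φ k v.toMul))
    rw [map_mul]; rfl
  smul_zero := fun g => by
    show Additive.ofMul (φ g 1) = 0
    rw [map_one]; rfl
  smul_add := fun g v w => by
    show Additive.ofMul (φ g (v.toMul * w.toMul)) = _
    rw [map_mul]; rfl

/-- Group form of `Heis.two_pow_le_lcm`. -/
theorem Heis.two_pow_le_lcm_mulAut {E : Type u} [Group E] {r n s : ℕ} {z c : E} {x y : Fin n → E} {V : Type v}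
    [CommGroup V] [Finite V] (φ : E →* MulAut V) (h : Heis r n z x y)
    (h2 : IsPGroup 2 V) (hr2 : r ≠ 2) (hz : φ z ≠ 1)
    (hs : s.Prime) (hc : c ^ s = 1) (hcz : z * c = c * z) (hcx : ∀ i, x i * c = c * x i)
    (hcf : ∀ v : V, φ c v = v → v = 1) :
    2 ^ (Nat.lcm (orderOf (2 : ZMod r)) (orderOf (2 : ZMod s)) * r ^ n) ≤ Nat.card V := by
  letI := addAct φ
  haveI : Finite (Additive V) := inferInstanceAs (Finite V)
  have h3 : ∃ v : Additive V, z • v ≠ v := by
    by_contra hcon
    push Not at hcon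
    apply hz
    ext v
    exact congrArg Additive.toMul (hcon (Additive.ofMul v))
  have h4 : IsPGroup 2 (Multiplicative (Additive V)) := by
    intro g
    obtain ⟨k, hk⟩ := h2 (Additive.toMul (Multiplicative.toAdd g))
    exact ⟨k, hk⟩
  exact h.two_pow_le_lcm (A := Additive V) h4 hr2 h3 hs hc hcz hcx (fun v hv => hcf v.toMul hv)

/-- One element of prime order. -/
theorem heis_zero {E : Type u} [Group E] {r : ℕ} (hr : r.Prime) {z : E} (hz : z ^ r = 1) :
    Heis r 0 z (fun i : Fin 0 => i.elim0) (fun i : Fin 0 => i.elim0) where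
  prime := hr
  zr := hz
  xr := fun i => i.elim0
  zx := fun i => i.elim0
  zy := fun i => i.elim0
  xx := fun i => i.elim0
  yx := fun i => i.elim0
  conj := fun i => i.elim0

/-! ### Rows -/

/-- A prime divisor `p` of `|K|`: `|V| ≥ 2 ^ ord_p(2)`. -/
theorem LB.prime {K : Type u} [Group K] [Finite K] [IsSimpleGroup K] {p m : ℕ} (hp : p.Prime) (hp2 : p ≠ 2)
    (hpK : p ∣ Nat.card K) (hm : m ≤ orderOf (2 : ZMod p)) : LB.{u, v, w} K m := by
  apply LB.of_irr
  intro L _ _ π hπ hc ho hL V _ _ h2 φ hφ hirr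
  haveI : Fact p.Prime := ⟨hp⟩
  have h3 : p ∣ Nat.card L := hpK.trans (Subgroup.card_dvd_of_surjective π hπ)
  obtain ⟨g, hg⟩ := exists_prime_orderOf_dvd_card' p h3
  have h4 : φ g ≠ 1 := by
    intro h5
    have h6 : g = 1 := hφ (h5.trans (map_one φ).symm)
    rw [h6, orderOf_one] at hg
    exact hp.ne_one hg.symm
  have h5 := (heis_zero hp (z := g) (by rw [← hg]; exact pow_orderOf_eq_one g)).two_pow_le_mulAut φ h2 hp2 h4
  rw [pow_zero, mul_one] at h5
  exact (Nat.pow_le_pow_right (by norm_num) hm).trans h5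

/-- **The Heisenberg row**: a Heisenberg configuration in `K` for the prime `r`, and another prime `p` for the
covers whose centre has order divisible by `r`. -/
theorem LB.heis {K : Type u} [Group K] [Finite K] [IsSimpleGroup K] {r n : ℕ} {z : K} {x y : Fin n → K}
    (h : Heis r n z x y) (hr2 : r ≠ 2) (hz : z ≠ 1) {p m : ℕ} (hp : p.Prime) (hp2 : p ≠ 2)
    (hpK : p ∣ Nat.card K) (hm : m ≤ orderOf (2 : ZMod r) * r ^ n)
    (hm' : m ≤ Nat.lcm (orderOf (2 : ZMod p)) (orderOf (2 : ZMod r))) : LB.{u, v, w} K m := by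
  apply LB.of_irr
  intro L _ _ π hπ hc ho hL V _ _ h2 φ hφ hirr
  haveI : Fact r.Prime := ⟨h.prime⟩
  haveI : Fact p.Prime := ⟨hp⟩
  by_cases hrZ : r ∣ Nat.card π.ker
  · -- an element `c` of order `r` in the centre
    obtain ⟨c, hc1⟩ := exists_prime_orderOf_dvd_card' r hrZ
    have hcr : (c : L) ^ r = 1 := by
      have : c ^ r = 1 := by rw [← hc1]; exact pow_orderOf_eq_one c
      exact congrArg Subtype.val this
    have hcne : (c : L) ≠ 1 := by
      intro h5
      have h6 : c = 1 := Subtype.ext h5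
      rw [h6, orderOf_one] at hc1
      exact h.prime.ne_one hc1.symm
    have hcc : (c : L) ∈ Subgroup.center L := hc c.2
    have hcf : ∀ v : V, φ c v = v → v = 1 := fun v hv =>
      hirr.free hcc (fun h5 => hcne (hφ (h5.trans (map_one φ).symm))) hv
    have h3 : p ∣ Nat.card L := hpK.trans (Subgroup.card_dvd_of_surjective π hπ)
    obtain ⟨g, hg⟩ := exists_prime_orderOf_dvd_card' p h3
    have h4 : φ g ≠ 1 := by
      intro h5
      have h6 : g = 1 := hφ (h5.trans (map_one φ).symm)
      rw [h6, orderOf_one] at hg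
      exact hp.ne_one hg.symm
    have h5 := (heis_zero hp (z := g) (by rw [← hg]; exact pow_orderOf_eq_one g)).two_pow_le_lcm_mulAut φ h2 hp2 h4
      h.prime hcr (Subgroup.mem_center_iff.1 hcc g) (fun i => i.elim0) hcf
    rw [pow_zero, mul_one] at h5
    exact (Nat.pow_le_pow_right (by norm_num) hm').trans h5
  · obtain ⟨z', x', y', hz', -, -, h'⟩ := h.lift hπ hc ((Nat.Prime.coprime_iff_not_dvd h.prime).2 hrZ)
    have h4 : φ z' ≠ 1 := by
      intro h5
      have h6 : z' = 1 := hφ (h5.trans (map_one φ).symm)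
      rw [h6, map_one] at hz'
      exact hz hz'.symm
    exact (Nat.pow_le_pow_right (by norm_num) hm).trans (h'.two_pow_le_mulAut φ h2 hr2 h4)

end Cfsg.Agent.Omega.Lie.Heis
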