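import Mathlib.GroupTheory.PGroup
import Mathlib.GroupTheory.Commutator.Basic
import Mathlib.GroupTheory.Index
import Mathlib.Algebra.Polynomial.AlgebraMap
import Mathlib.Tactic

/-!
# The end of (T2) of TEXT LIE-1 (bb OMEGA #12098), K-free

`q = 4`, `t` permutes `K = K₁, K₂, K₃` (pairwise commuting), `y₁` an involution of `K₁` inverting an element `g₁` of
prime order `r ≥ 5`, `a = y₂ y₃`, `b = y₃ y₁`.  If `|[M, a, b]| ≤ 4` then `K₁` centralises `[M, a]`.
-/

set_option autoImplicit false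

namespace Cfsg.Agent.Omega.Lie.TwoEnd

variable {H M : Type*} [Group H] [AddCommGroup M] [DistribMulAction H M]

/-- `m ↦ g m - m` -/
def D (g : H) : M →+ M where
  toFun m := g • m - m
  map_zero' := by simp
  map_add' := by intro a b; simp only [smul_add]; abel

@[simp] theorem D_apply (g : H) (m : M) : D g m = g • m - m := rfl

/-- `[V, g]` -/
def cm (V : AddSubgroup M) (g : H) : AddSubgroup M := V.map (D g)

theorem mem_cm {V : AddSubgroup M} {g : H} {v : M} : v ∈ cm V g ↔ ∃ w ∈ V, g • w - w = v := Iff.rfl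

/-- `C_V(g)` -/
def cn (V : AddSubgroup M) (g : H) : AddSubgroup M where
  carrier := {v | v ∈ V ∧ g • v = v}
  zero_mem' := ⟨V.zero_mem, smul_zero g⟩
  add_mem' := by
    rintro a b ⟨ha, ha'⟩ ⟨hb, hb'⟩
    exact ⟨V.add_mem ha hb, by rw [smul_add, ha', hb']⟩
  neg_mem' := by
    rintro a ⟨ha, ha'⟩
    exact ⟨V.neg_mem ha, by rw [smul_neg, ha']⟩

theorem mem_cn {V : AddSubgroup M} {g : H} {v : M} : v ∈ cn V g ↔ v ∈ V ∧ g • v = v := Iff.rfl

/-- `V` is `g`-invariant -/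
def Inv (V : AddSubgroup M) (g : H) : Prop := ∀ v ∈ V, g • v ∈ V

theorem Inv.top (g : H) : Inv (⊤ : AddSubgroup M) g := fun _ _ => AddSubgroup.mem_top _

theorem Inv.mul {V : AddSubgroup M} {g h : H} (hg : Inv V g) (hh : Inv V h) : Inv V (g * h) := fun v hv => by
  rw [mul_smul]; exact hg _ (hh v hv)

theorem Inv.pow {V : AddSubgroup M} {g : H} (hg : Inv V g) (n : ℕ) : Inv V (g ^ n) := by
  induction n with
  | zero => intro v hv; simpa using hv
  | succ n ih => rw [pow_succ]; exact ih.mul hg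

theorem Inv.inv {V : AddSubgroup M} {g : H} (hg : Inv V g) {n : ℕ} (hn : g ^ (n + 1) = 1) : Inv V g⁻¹ := by
  have e : g⁻¹ = g ^ n := by
    rw [inv_eq_iff_mul_eq_one, ← pow_succ']
    exact hn
  rw [e]
  exact hg.pow n

theorem cm_le {V : AddSubgroup M} {g : H} (hg : Inv V g) : cm V g ≤ V := by
  rintro v ⟨w, hw, rfl⟩
  exact V.sub_mem (hg w hw) hw

theorem cn_le (V : AddSubgroup M) (g : H) : cn V g ≤ V := fun _ h => h.1

theorem cm_mono {V W : AddSubgroup M} (h : V ≤ W) (g : H) : cm V g ≤ cm W g := AddSubgroup.map_mono h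

theorem Inv.cm {V : AddSubgroup M} {g x : H} (hx : Inv V x) (hc : x * g = g * x) : Inv (cm V g) x := by
  rintro v ⟨w, hw, rfl⟩
  refine ⟨x • w, hx w hw, ?_⟩
  simp only [D_apply]
  rw [smul_sub, ← mul_smul, ← mul_smul, hc]

theorem Inv.cm' {V : AddSubgroup M} {g b : H} (hb : Inv V b) (hg : Inv V g⁻¹) (hc : b * g * b⁻¹ = g⁻¹) :
    Inv (TwoEnd.cm V g) b := by
  rintro v ⟨w, hw, rfl⟩
  refine ⟨-(g⁻¹ • b • w), V.neg_mem (hg _ (hb w hw)), ?_⟩
  have e : b * g = g⁻¹ * b := by rw [← hc]; group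
  simp only [D_apply]
  rw [smul_neg, smul_inv_smul, smul_sub, ← mul_smul b g, e, mul_smul]
  abel

theorem Inv.cn {V : AddSubgroup M} {g x : H} (hx : Inv V x) (hc : x * g = g * x) : Inv (cn V g) x := by
  rintro v ⟨hv, hgv⟩
  refine ⟨hx v hv, ?_⟩
  rw [← mul_smul, ← hc, mul_smul, hgv]

theorem cm_comm (V : AddSubgroup M) {g h : H} (hc : g * h = h * g) : cm (cm V g) h = cm (cm V h) g := by
  ext v
  constructor
  · rintro ⟨-, ⟨w, hw, rfl⟩, rfl⟩
    refine ⟨_, ⟨w, hw, rfl⟩, ?_⟩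
    simp only [D_apply, smul_sub, ← mul_smul, hc]
    abel
  · rintro ⟨-, ⟨w, hw, rfl⟩, rfl⟩
    refine ⟨_, ⟨w, hw, rfl⟩, ?_⟩
    simp only [D_apply, smul_sub, ← mul_smul, hc]
    abel

/-- `|V| = |[V, g]| |C_V(g)|` -/
theorem card_eq [Finite M] (V : AddSubgroup M) (g : H) : Nat.card V = Nat.card (cm V g) * Nat.card (cn V g) := by
  let f : V →+ M := (D g).comp V.subtype
  have h1 : Nat.card f.ker * f.ker.index = Nat.card V := AddSubgroup.card_mul_index _
  have h2 : f.ker.index = Nat.card f.range := AddSubgroup.index_ker f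
  have h3 : f.range = cm V g := by
    ext v
    constructor
    · rintro ⟨w, rfl⟩
      exact ⟨w, w.2, rfl⟩
    · rintro ⟨w, hw, rfl⟩
      exact ⟨⟨w, hw⟩, rfl⟩
  have h4 : Nat.card f.ker = Nat.card (cn V g) :=
    Nat.card_congr
      { toFun := fun v => ⟨v.1, v.1.2, sub_eq_zero.1 v.2⟩
        invFun := fun v => ⟨⟨v.1, v.2.1⟩, sub_eq_zero.2 v.2.2⟩
        left_inv := fun v => rfl
        right_inv := fun v => rfl }
  rw [← h1, h2, h3, h4, mul_comm]

/-- An element of odd order is fixed point free on `[V, g]`. -/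
theorem fpf (h2 : ∀ m : M, m + m = 0) {g : H} {k : ℕ} (hg : g ^ (2 * k + 1) = 1) {V : AddSubgroup M} {v : M}
    (hv : v ∈ cm V g) (hgv : g • v = v) : v = 0 := by
  obtain ⟨w, hw, rfl⟩ := hv
  simp only [D_apply] at hgv ⊢
  set v := g • w - w with hvdef
  have h1 : ∀ n : ℕ, g ^ n • w = w + n • v := by
    intro n
    induction n with
    | zero => simp
    | succ n ih =>
      rw [pow_succ', mul_smul, ih, smul_add, succ_nsmul]
      have e : g • w = w + v := by rw [hvdef]; abel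
      have e2 : g • (n • v) = n • v := by
        rw [smul_comm g n v, hgv]
      rw [e, e2]; abel
  have h3 := h1 (2 * k + 1)
  rw [hg, one_smul] at h3
  have h4 : (2 * k + 1) • v = 0 := by
    have : w + (2 * k + 1) • v = w + 0 := by rw [← h3, add_zero]
    exact add_left_cancel this
  rw [add_smul, one_smul, mul_comm, mul_smul, two_smul, h2 v, smul_zero, zero_add] at h4
  exact h4

/-- if `g ^ 2` fixes `v` then `g` does (odd order) -/
theorem fix_of_sq {g : H} {k : ℕ} (hg : g ^ (2 * k + 1) = 1) {v : M} (hv : (g * g) • v = v) : g • v = v := by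
  have e : g = (g * g) ^ (k + 1) := by
    rw [← pow_two, ← pow_mul, show 2 * (k + 1) = 2 * k + 1 + 1 by ring, pow_succ, hg, one_mul]
  have h1 : ∀ n : ℕ, (g * g) ^ n • v = v := by
    intro n
    induction n with
    | zero => simp
    | succ n ih => rw [pow_succ, mul_smul, hv, ih]
  rw [e]
  exact h1 _

/-- An involution inverting an element of odd order which is fixed point free. -/
theorem card_sq [Finite M] (h2 : ∀ m : M, m + m = 0) {V : AddSubgroup M} {g b : H} {k : ℕ}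
    (hg : g ^ (2 * k + 1) = 1) (hVg : Inv V g) (hVb : Inv V b) (hbb : b * b = 1) (hinv : b * g * b⁻¹ = g⁻¹)
    (hfix : ∀ v ∈ V, g • v = v → v = 0) :
    Nat.card V = Nat.card (cn V b) * Nat.card (cn V b) ∧ Nat.card (cm V b) = Nat.card (cn V b) ∧
      ∀ v ∈ V, ∃ x ∈ cn V b, ∃ y ∈ cn V b, v = x + g • y := by
  have hle : cm V b ≤ cn V b := by
    rintro v ⟨w, hw, rfl⟩
    refine ⟨V.sub_mem (hVb w hw) hw, ?_⟩
    simp only [D_apply]
    rw [smul_sub, ← mul_smul, hbb, one_smul]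
    have h3 := h2 (w - b • w)
    have h4 : w - b • w = -(w - b • w) := eq_neg_of_add_eq_zero_left h3
    rw [h4]; abel
  have h1 := card_eq V b
  have h3 : Nat.card (cm V b) ≤ Nat.card (cn V b) := Nat.card_le_card_of_injective _ (AddSubgroup.inclusion_injective hle)
  let f : cn V b × cn V b → V := fun p => ⟨p.1 + g • (p.2 : M), V.add_mem p.1.2.1 (hVg _ p.2.2.1)⟩
  have hf : Function.Injective f := by
    rintro ⟨x, y⟩ ⟨x', y'⟩ h
    have h' : (x : M) + g • (y : M) = x' + g • (y' : M) := congrArg Subtype.val h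
    -- `u = x - x'`, `w = y' - y`, `u = g w`
    have h4 : (x : M) - x' = g • ((y' : M) - y) := by
      rw [smul_sub, sub_eq_sub_iff_add_eq_add, h', add_comm]
    have hu : ((x : M) - x') ∈ cn V b := (cn V b).sub_mem x.2 x'.2
    have hw : ((y' : M) - y) ∈ cn V b := (cn V b).sub_mem y'.2 y.2
    have h5 : b • (g • ((y' : M) - y)) = g • ((y' : M) - y) := by rw [← h4]; exact hu.2
    have h6 : b • (g • ((y' : M) - y)) = g⁻¹ • ((y' : M) - y) := by
      have e : b * g = g⁻¹ * b := by rw [← hinv]; group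
      rw [← mul_smul, e, mul_smul, hw.2]
    have h7 : (g * g) • ((y' : M) - y) = (y' : M) - y := by
      rw [mul_smul, ← h5, h6, smul_inv_smul]
    have h8 := hfix _ hw.1 (fix_of_sq hg h7)
    rw [h8, smul_zero] at h4
    refine Prod.ext (Subtype.ext (sub_eq_zero.1 h4)) (Subtype.ext (sub_eq_zero.1 h8).symm)
  have h4 : Nat.card (cn V b) * Nat.card (cn V b) ≤ Nat.card V := by
    rw [← Nat.card_prod]
    exact Nat.card_le_card_of_injective f hf
  have hpos : 0 < Nat.card (cn V b) := Nat.card_pos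
  have h5 : Nat.card (cn V b) ≤ Nat.card (cm V b) := by
    rw [h1] at h4
    exact Nat.le_of_mul_le_mul_right h4 hpos
  have h6 : Nat.card (cm V b) = Nat.card (cn V b) := le_antisymm h3 h5
  have h7 : Nat.card V = Nat.card (cn V b) * Nat.card (cn V b) := by rw [h1, h6]
  refine ⟨h7, h6, fun v hv => ?_⟩
  have hs : Function.Surjective f := by
    have h8 : Nat.card V ≤ Nat.card (cn V b × cn V b) := by rw [Nat.card_prod, h7]
    exact (Function.Injective.bijective_of_nat_card_le hf h8).2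
  obtain ⟨⟨x, y⟩, hxy⟩ := hs ⟨v, hv⟩
  exact ⟨x, x.2, y, y.2, (congrArg Subtype.val hxy).symm⟩

/-- A fixed point free element of prime order `r`: `|V| ≡ 1 mod r`. -/
theorem card_mod [Finite M] {V : AddSubgroup M} {g : H} {r : ℕ} [hr : Fact r.Prime] (hg : g ^ r = 1)
    (hVg : Inv V g) (hfix : ∀ v ∈ V, g • v = v → v = 0) : Nat.card V ≡ 1 [MOD r] := by
  have hgi : Inv V g⁻¹ := by
    have e : r = (r - 1) + 1 := (Nat.succ_pred_eq_of_pos hr.out.pos).symm
    rw [e] at hg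
    exact hVg.inv hg
  have hz : ∀ h ∈ Subgroup.zpowers g, Inv V h := by
    intro h hh
    obtain ⟨n, rfl⟩ := Subgroup.mem_zpowers_iff.1 hh
    rcases n with n | n
    · simpa using hVg.pow n
    · rw [zpow_negSucc, ← inv_pow]
      exact hgi.pow _
  let act : MulAction (Subgroup.zpowers g) V :=
    { smul := fun h v => ⟨(h : H) • (v : M), hz h h.2 v v.2⟩
      one_smul := fun v => Subtype.ext (one_smul H (v : M))
      mul_smul := fun h k v => Subtype.ext (mul_smul (h : H) (k : H) (v : M)) }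
  have hp : IsPGroup r (Subgroup.zpowers g) := by
    rintro ⟨x, hx⟩
    obtain ⟨m, rfl⟩ := Subgroup.mem_zpowers_iff.1 hx
    refine ⟨1, Subtype.ext ?_⟩
    change (g ^ m) ^ r ^ 1 = 1
    rw [pow_one, ← zpow_natCast, ← zpow_mul, mul_comm, zpow_mul, zpow_natCast, hg, one_zpow]
  have h1 := hp.card_modEq_card_fixedPoints V
  have h3 : Nat.card (MulAction.fixedPoints (Subgroup.zpowers g) V) = 1 := by
    rw [Nat.card_eq_one_iff_unique]
    refine ⟨⟨fun x y => ?_⟩, ⟨⟨0, fun h => Subtype.ext (smul_zero (h : H))⟩⟩⟩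
    have h4 : ∀ x : MulAction.fixedPoints (Subgroup.zpowers g) V, ((x : V) : M) = 0 := by
      intro x
      refine hfix _ x.1.2 ?_
      exact congrArg Subtype.val (x.2 ⟨g, Subgroup.mem_zpowers g⟩)
    exact Subtype.ext (Subtype.ext ((h4 x).trans (h4 y).symm))
  rwa [h3] at h1

/-! ### The centralizer of an irreducible element is commutative -/

/-- polynomials in `g` -/
noncomputable def ev (g : H) (P : Polynomial ℤ) : AddMonoid.End M :=
  Polynomial.aeval (DistribMulAction.toAddMonoidEnd H M g) P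

theorem ev_add (g : H) (P Q : Polynomial ℤ) (v : M) : ev g (P + Q) v = ev g P v + ev g Q v := by
  unfold ev; rw [map_add]; rfl

theorem ev_mul (g : H) (P Q : Polynomial ℤ) (v : M) : ev g (P * Q) v = ev g P (ev g Q v) := by
  unfold ev; rw [map_mul]; rfl

theorem ev_X (g : H) (v : M) : ev g Polynomial.X v = g • v := by
  unfold ev; rw [Polynomial.aeval_X]; rfl

theorem ev_C (g : H) (n : ℤ) (v : M) : ev g (Polynomial.C n) v = n • v := by
  simp [ev]

theorem ev_comm {g x : H} (hc : x * g = g * x) (P : Polynomial ℤ) (v : M) : x • ev g P v = ev g P (x • v) := by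
  induction P using Polynomial.induction_on' generalizing v with
  | add P Q hP hQ => rw [ev_add, ev_add, smul_add, hP, hQ]
  | monomial n a =>
    rw [← Polynomial.C_mul_X_pow_eq_monomial, ev_mul, ev_mul, ev_C, ev_C, smul_comm x a]
    congr 1
    induction n generalizing v with
    | zero => simp [ev]
    | succ n ih =>
      rw [pow_succ, ev_mul, ev_mul, ev_X, ev_X, ih, ← mul_smul, hc, mul_smul]

theorem ev_mem {g : H} {V : AddSubgroup M} (hV : Inv V g) (P : Polynomial ℤ) {v : M} (hv : v ∈ V) : ev g P v ∈ V := by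
  induction P using Polynomial.induction_on' generalizing v with
  | add P Q hP hQ => rw [ev_add]; exact V.add_mem (hP hv) (hQ hv)
  | monomial n a =>
    rw [← Polynomial.C_mul_X_pow_eq_monomial, ev_mul, ev_C]
    refine V.zsmul_mem ?_ a
    induction n generalizing v with
    | zero => simpa [ev] using hv
    | succ n ih => rw [pow_succ, ev_mul, ev_X]; exact ih (hV v hv)

/-- The polynomials in `g` applied to `v`. -/
noncomputable def Sp (g : H) (v : M) : AddSubgroup M where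
  carrier := {u | ∃ P, ev g P v = u}
  zero_mem' := ⟨0, by simp [ev]⟩
  add_mem' := by
    rintro _ _ ⟨P, rfl⟩ ⟨Q, rfl⟩
    exact ⟨P + Q, ev_add g P Q v⟩
  neg_mem' := by
    rintro _ ⟨P, rfl⟩
    exact ⟨-P, by unfold ev; rw [map_neg]; rfl⟩

theorem Sp_inv (g : H) (v : M) : Inv (Sp g v) g := by
  rintro _ ⟨P, rfl⟩
  exact ⟨Polynomial.X * P, by rw [ev_mul, ev_X]⟩

theorem mem_Sp (g : H) (v : M) : v ∈ Sp g v := ⟨1, by simp [ev]⟩

theorem card_two_pow [Finite M] (h2 : ∀ m : M, m + m = 0) (V : AddSubgroup M) : ∃ n, Nat.card V = 2 ^ n := by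
  have h : IsPGroup 2 (Multiplicative V) := fun v => ⟨1, by
    apply Multiplicative.toAdd.injective
    apply Subtype.ext
    change ((2 ^ 1) • (Multiplicative.toAdd v : V) : M) = 0
    rw [pow_one, two_nsmul]
    exact h2 _⟩
  obtain ⟨n, hn⟩ := IsPGroup.iff_card.1 h
  exact ⟨n, hn⟩

/-- `|V| ≤ 16`, an element of order `5` without fixed points: `V = 0` or `|V| = 16`. -/
theorem card_five [Finite M] (h2 : ∀ m : M, m + m = 0) {V : AddSubgroup M} {g : H} (hg : g ^ 5 = 1)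
    (hVg : Inv V g) (hfix : ∀ v ∈ V, g • v = v → v = 0) (h16 : Nat.card V ≤ 16) (hne : V ≠ ⊥) : Nat.card V = 16 := by
  have : Fact (Nat.Prime 5) := ⟨by norm_num⟩
  have h1 := card_mod hg hVg hfix
  obtain ⟨n, hn⟩ := card_two_pow h2 V
  have h3 : Nat.card V ≠ 1 := fun h => hne (AddSubgroup.eq_bot_of_card_eq V h)
  rw [hn] at h1 h16 h3 ⊢
  have h4 : n ≤ 4 := by
    by_contra h
    have : 2 ^ 5 ≤ 2 ^ n := Nat.pow_le_pow_right (by norm_num) (by omega)
    omega
  interval_cases n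
  · exact absurd rfl h3
  · exact absurd h1 (by decide)
  · exact absurd h1 (by decide)
  · exact absurd h1 (by decide)
  · rfl

theorem Sp_eq [Finite M] (h2 : ∀ m : M, m + m = 0) {V : AddSubgroup M} {g : H} (hg : g ^ 5 = 1)
    (hVg : Inv V g) (hfix : ∀ v ∈ V, g • v = v → v = 0) (h16 : Nat.card V ≤ 16) {v : M} (hv : v ∈ V) (hv0 : v ≠ 0) :
    Sp g v = V := by
  have hle : Sp g v ≤ V := by
    rintro _ ⟨P, rfl⟩
    exact ev_mem hVg P hv
  have hne : Sp g v ≠ ⊥ := fun h => hv0 (by have := mem_Sp g v; rw [h] at this; exact this)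
  have hneV : V ≠ ⊥ := fun h => hv0 (by rw [h] at hv; exact hv)
  have hc : Nat.card (Sp g v) ≤ Nat.card V :=
    Nat.card_le_card_of_injective _ (AddSubgroup.inclusion_injective hle)
  have h1 := card_five h2 hg (Sp_inv g v) (fun u hu => hfix u (hle hu)) (hc.trans h16) hne
  have h3 := card_five h2 hg hVg hfix h16 hneV
  exact AddSubgroup.eq_of_le_of_card_ge hle (by rw [h1, h3])

/-- Two elements commuting with `g` commute on `V`. -/
theorem comm_on [Finite M] (h2 : ∀ m : M, m + m = 0) {V : AddSubgroup M} {g : H} (hg : g ^ 5 = 1)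
    (hVg : Inv V g) (hfix : ∀ v ∈ V, g • v = v → v = 0) (h16 : Nat.card V ≤ 16) {x z : H} (hx : Inv V x)
    (hz : Inv V z) (hxg : x * g = g * x) (hzg : z * g = g * z) {v : M} (hv : v ∈ V) : x • z • v = z • x • v := by
  by_cases hv0 : v = 0
  · simp [hv0]
  have hS := Sp_eq h2 hg hVg hfix h16 hv hv0
  have h1 : x • v ∈ Sp g v := by rw [hS]; exact hx v hv
  have h3 : z • v ∈ Sp g v := by rw [hS]; exact hz v hv
  obtain ⟨P, hP⟩ := h1
  obtain ⟨Q, hQ⟩ := h3
  calc x • z • v = x • ev g Q v := by rw [hQ]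
    _ = ev g Q (x • v) := ev_comm hxg Q v
    _ = ev g Q (ev g P v) := by rw [hP]
    _ = ev g P (ev g Q v) := by rw [← ev_mul, mul_comm, ev_mul]
    _ = ev g P (z • v) := by rw [hQ]
    _ = z • ev g P v := (ev_comm hzg P v).symm
    _ = z • x • v := by rw [hP]

/-- A perfect group commuting with `g` is trivial on `V`. -/
theorem perfect_trivial [Finite M] (h2 : ∀ m : M, m + m = 0) {V : AddSubgroup M} {g : H} (hg : g ^ 5 = 1)
    (hVg : Inv V g) (hfix : ∀ v ∈ V, g • v = v → v = 0) (h16 : Nat.card V ≤ 16) {L : Subgroup H}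
    (hL : ⁅L, L⁆ = L) (hLV : ∀ l ∈ L, Inv V l) (hLg : ∀ l ∈ L, l * g = g * l) :
    ∀ l ∈ L, ∀ v ∈ V, l • v = v := by
  let F : Subgroup H :=
    { carrier := {l | l ∈ L ∧ ∀ v ∈ V, l • v = v}
      one_mem' := ⟨L.one_mem, fun v _ => one_smul H v⟩
      mul_mem' := by
        rintro a b ⟨ha, ha'⟩ ⟨hb, hb'⟩
        exact ⟨L.mul_mem ha hb, fun v hv => by rw [mul_smul, hb' v hv, ha' v hv]⟩
      inv_mem' := by
        rintro a ⟨ha, ha'⟩
        exact ⟨L.inv_mem ha, fun v hv => by rw [inv_smul_eq_iff, ha' v hv]⟩ }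
  have hF : ⁅L, L⁆ ≤ F := by
    rw [Subgroup.commutator_le]
    intro a ha b hb
    refine ⟨?_, fun v hv => ?_⟩
    · rw [commutatorElement_def]
      exact L.mul_mem (L.mul_mem (L.mul_mem ha hb) (L.inv_mem ha)) (L.inv_mem hb)
    · have h1 : a⁻¹ • b⁻¹ • v ∈ V := hLV _ (L.inv_mem ha) _ (hLV _ (L.inv_mem hb) v hv)
      have h3 := comm_on h2 hg hVg hfix h16 (hLV a ha) (hLV b hb) (hLg a ha) (hLg b hb) h1
      rw [commutatorElement_def, mul_smul, mul_smul, mul_smul, h3, smul_inv_smul, smul_inv_smul]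
  rw [hL] at hF
  exact fun l hl => (hF hl).2

/-! ### The configuration -/

/-- `t` of order three permutes `K`, `K^t`, `K^{t²}`, which commute; `y` an involution of `K` inverting `g ∈ K` of
prime order `r ≥ 5`. -/
structure Dat (K : Subgroup H) (t y g : H) (r : ℕ) : Prop where
  t3 : t * t * t = 1
  comm : ∀ x ∈ K, ∀ z ∈ K, x * (t * z * t⁻¹) = t * z * t⁻¹ * x
  qs : ∀ L : Subgroup H, L ≤ K → (∀ k ∈ K, ∀ l ∈ L, k * l * k⁻¹ ∈ L) → L = K ∨ ∀ l ∈ L, ∀ k ∈ K, l * k = k * l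
  perf : ⁅K, K⁆ = K
  yK : y ∈ K
  y2 : y * y = 1
  gK : g ∈ K
  inv : y * g * y⁻¹ = g⁻¹
  pr : r.Prime
  five : 5 ≤ r
  gr : g ^ r = 1
  g1 : g ≠ 1

namespace Dat

variable {K : Subgroup H} {t y g : H} {r : ℕ}

/-- `K` commutes with `K^{t⁻¹}` -/
theorem comm' (d : Dat K t y g r) {x z : H} (hx : x ∈ K) (hz : z ∈ K) : x * (t⁻¹ * z * t) = t⁻¹ * z * t * x := by
  have h := d.comm z hz x hx
  calc x * (t⁻¹ * z * t) = t⁻¹ * (t * x * t⁻¹ * z) * t := by group
    _ = t⁻¹ * (z * (t * x * t⁻¹)) * t := by rw [h]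
    _ = t⁻¹ * z * t * x := by group

theorem tt (d : Dat K t y g r) : t * t = t⁻¹ := eq_inv_of_mul_eq_one_left d.t3

theorem tt' (d : Dat K t y g r) : t⁻¹ * t⁻¹ = t := by
  rw [← mul_inv_rev, d.tt, inv_inv]

/-- the data with `t⁻¹` -/
theorem symm (d : Dat K t y g r) : Dat K t⁻¹ y g r where
  t3 := by rw [d.tt', mul_inv_cancel]
  comm := fun x hx z hz => by
    have := d.comm' hx hz
    rwa [inv_inv]
  qs := d.qs
  perf := d.perf
  yK := d.yK
  y2 := d.y2
  gK := d.gK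
  inv := d.inv
  pr := d.pr
  five := d.five
  gr := d.gr
  g1 := d.g1

/-- `K^t` commutes with `K^{t⁻¹}` -/
theorem comm'' (d : Dat K t y g r) {x z : H} (hx : x ∈ K) (hz : z ∈ K) :
    t * x * t⁻¹ * (t⁻¹ * z * t) = t⁻¹ * z * t * (t * x * t⁻¹) := by
  have h := d.comm z hz x hx
  -- conjugate by `t`: `t (t z t⁻¹) t⁻¹ = t⁻¹ z t`
  have e : ∀ w : H, t⁻¹ * w * t = t * (t * w * t⁻¹) * t⁻¹ := by
    intro w
    have h1 := d.tt
    calc t⁻¹ * w * t = (t * t) * w * (t * t)⁻¹ := by rw [h1]; group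
      _ = t * (t * w * t⁻¹) * t⁻¹ := by group
  have h3 := d.comm x hx z hz
  rw [e z]
  calc t * x * t⁻¹ * (t * (t * z * t⁻¹) * t⁻¹) = t * (x * (t * z * t⁻¹)) * t⁻¹ := by group
    _ = t * (t * z * t⁻¹ * x) * t⁻¹ := by rw [h3]
    _ = t * (t * z * t⁻¹) * t⁻¹ * (t * x * t⁻¹) := by group

/-- `a = y₂ y₃` -/
def a (t y : H) : H := t * y * t⁻¹ * (t⁻¹ * y * t)

/-- `b = y₃ y₁` -/
def b (t y : H) : H := t⁻¹ * y * t * y

theorem odd (d : Dat K t y g r) : ∃ k, r = 2 * k + 1 := by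
  rcases d.pr.eq_two_or_odd' with h | h
  · have := d.five; omega
  · exact h

theorem g_mul_ne (d : Dat K t y g r) : g * y ≠ y * g := by
  intro h
  have h1 : g = g⁻¹ := by
    have h3 := d.inv
    rw [← h] at h3
    have e : g * y * y⁻¹ = g := by group
    rwa [e] at h3
  have h3 : g * g = 1 := by
    have : g * g = g * g⁻¹ := by rw [← h1]
    rwa [mul_inv_cancel] at this
  obtain ⟨k, hk⟩ := d.odd
  have h4 := d.gr
  rw [hk, pow_succ, pow_mul, pow_two, h3, one_pow, one_mul] at h4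
  exact d.g1 h4

/-- If `g` is trivial on the `K`-invariant `V` then so is `K`. -/
theorem ker_all (d : Dat K t y g r) {V : AddSubgroup M} (hV : ∀ k ∈ K, Inv V k) (hg : ∀ v ∈ V, g • v = v) :
    ∀ k ∈ K, ∀ v ∈ V, k • v = v := by
  let F : Subgroup H :=
    { carrier := {l | l ∈ K ∧ ∀ v ∈ V, l • v = v}
      one_mem' := ⟨K.one_mem, fun v _ => one_smul H v⟩
      mul_mem' := by
        rintro a b ⟨ha, ha'⟩ ⟨hb, hb'⟩
        exact ⟨K.mul_mem ha hb, fun v hv => by rw [mul_smul, hb' v hv, ha' v hv]⟩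
      inv_mem' := by
        rintro a ⟨ha, ha'⟩
        exact ⟨K.inv_mem ha, fun v hv => by rw [inv_smul_eq_iff, ha' v hv]⟩ }
  have hgF : g ∈ F := ⟨d.gK, hg⟩
  rcases d.qs F (fun x hx => hx.1) (fun k hk l hl =>
    ⟨K.mul_mem (K.mul_mem hk hl.1) (K.inv_mem hk), fun v hv => by
      rw [mul_smul, mul_smul, hl.2 _ (hV _ (K.inv_mem hk) v hv), smul_inv_smul]⟩) with h | h
  · intro k hk
    have : k ∈ F := by rw [h]; exact hk
    exact this.2
  · exact absurd (h g hgF y d.yK) d.g_mul_ne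

theorem comm_a (d : Dat K t y g r) {x : H} (hx : x ∈ K) : x * a t y = a t y * x := by
  unfold a
  have h1 := d.comm x hx y d.yK
  have h3 := d.comm' hx d.yK
  calc x * (t * y * t⁻¹ * (t⁻¹ * y * t)) = x * (t * y * t⁻¹) * (t⁻¹ * y * t) := by group
    _ = t * y * t⁻¹ * x * (t⁻¹ * y * t) := by rw [h1]
    _ = t * y * t⁻¹ * (x * (t⁻¹ * y * t)) := by group
    _ = t * y * t⁻¹ * (t⁻¹ * y * t * x) := by rw [h3]
    _ = t * y * t⁻¹ * (t⁻¹ * y * t) * x := by group

theorem a_sq (d : Dat K t y g r) : a t y * a t y = 1 := by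
  unfold a
  have h := d.comm'' d.yK d.yK
  calc t * y * t⁻¹ * (t⁻¹ * y * t) * (t * y * t⁻¹ * (t⁻¹ * y * t))
      = t * y * t⁻¹ * (t⁻¹ * y * t * (t * y * t⁻¹)) * (t⁻¹ * y * t) := by group
    _ = t * y * t⁻¹ * (t * y * t⁻¹ * (t⁻¹ * y * t)) * (t⁻¹ * y * t) := by rw [h]
    _ = t * (y * y) * t⁻¹ * (t⁻¹ * (y * y) * t) := by group
    _ = 1 := by rw [d.y2]; group

theorem a_symm (d : Dat K t y g r) : a t⁻¹ y = a t y := by
  unfold a
  have h := d.comm'' d.yK d.yK
  rw [inv_inv]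
  exact h.symm

theorem comm_b (d : Dat K t y g r) : b t y * a t y = a t y * b t y := by
  unfold b
  have h1 := d.comm_a d.yK
  have h3 : t⁻¹ * y * t * a t y = a t y * (t⁻¹ * y * t) := by
    unfold a
    have h := d.comm'' d.yK d.yK
    calc t⁻¹ * y * t * (t * y * t⁻¹ * (t⁻¹ * y * t)) = t⁻¹ * y * t * (t * y * t⁻¹) * (t⁻¹ * y * t) := by group
      _ = t * y * t⁻¹ * (t⁻¹ * y * t) * (t⁻¹ * y * t) := by rw [h]
  calc t⁻¹ * y * t * y * a t y = t⁻¹ * y * t * (y * a t y) := by group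
    _ = t⁻¹ * y * t * (a t y * y) := by rw [h1]
    _ = t⁻¹ * y * t * a t y * y := by group
    _ = a t y * (t⁻¹ * y * t * y) := by rw [h3]; group

theorem b_sq (d : Dat K t y g r) : b t y * b t y = 1 := by
  unfold b
  have h := d.comm' d.yK d.yK
  calc t⁻¹ * y * t * y * (t⁻¹ * y * t * y) = t⁻¹ * y * t * (y * (t⁻¹ * y * t)) * y := by group
    _ = t⁻¹ * y * t * (t⁻¹ * y * t * y) * y := by rw [h]
    _ = t⁻¹ * (y * y) * t * (y * y) := by group
    _ = 1 := by rw [d.y2]; group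

theorem b_inv (d : Dat K t y g r) : b t y * g * (b t y)⁻¹ = g⁻¹ := by
  unfold b
  have h := d.comm' (K.inv_mem d.gK) d.yK
  calc t⁻¹ * y * t * y * g * (t⁻¹ * y * t * y)⁻¹ = t⁻¹ * y * t * (y * g * y⁻¹) * (t⁻¹ * y * t)⁻¹ := by group
    _ = t⁻¹ * y * t * g⁻¹ * (t⁻¹ * y * t)⁻¹ := by rw [d.inv]
    _ = g⁻¹ * (t⁻¹ * y * t) * (t⁻¹ * y * t)⁻¹ := by rw [← h]
    _ = g⁻¹ := by group

/-- (1) -/
theorem part1 [Finite M] (h2 : ∀ m : M, m + m = 0) (d : Dat K t y g r)
    (hN0 : Nat.card (cm (cm (⊤ : AddSubgroup M) (a t y)) (b t y)) ≤ 4)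
    (hN : ∃ k ∈ K, ∃ m ∈ cm (⊤ : AddSubgroup M) (a t y), k • m ≠ m) :
    r = 5 ∧ Nat.card (cm (cm (⊤ : AddSubgroup M) g) (a t y)) = 16 := by
  obtain ⟨k, hk⟩ := d.odd
  have hgr : g ^ (2 * k + 1) = 1 := by rw [← hk]; exact d.gr
  set N := cm (⊤ : AddSubgroup M) (a t y) with hNdef
  have hNK : ∀ x ∈ K, Inv N x := fun x hx => (Inv.top x).cm (d.comm_a hx)
  have hNb : Inv N (b t y) := (Inv.top _).cm d.comm_b
  have hXg : Inv (cm N g) g := (hNK g d.gK).cm rfl
  have hXb : Inv (cm N g) (b t y) := hNb.cm' (hNK _ (K.inv_mem d.gK)) d.b_inv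
  have hX0 : cm N g ≠ ⊥ := by
    intro h
    have h1 : ∀ v ∈ N, g • v = v := by
      intro v hv
      have : g • v - v ∈ cm N g := ⟨v, hv, rfl⟩
      rw [h] at this
      exact sub_eq_zero.1 this
    obtain ⟨x, hx, m, hm, hne⟩ := hN
    exact hne (d.ker_all hNK h1 x hx m hm)
  have hfix : ∀ v ∈ cm N g, g • v = v → v = 0 := fun v hv h => fpf h2 hgr hv h
  obtain ⟨h1, h3, -⟩ := card_sq h2 hgr hXg hXb d.b_sq d.b_inv hfix
  have h4 : Nat.card (cm (cm N g) (b t y)) ≤ 4 :=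
    (Nat.card_le_card_of_injective _ (AddSubgroup.inclusion_injective (cm_mono (cm_le (hNK g d.gK)) _))).trans hN0
  have := Fact.mk d.pr
  have h5 := card_mod d.gr hXg hfix
  rw [h3] at h4
  set s := Nat.card (cn (cm N g) (b t y)) with hs
  have hs1 : s ≠ 1 := by
    intro h
    rw [h] at h1
    exact hX0 (AddSubgroup.eq_bot_of_card_eq _ h1)
  have hs0 : 0 < s := Nat.card_pos
  rw [h1] at h5
  have h6 : r ∣ s * s - 1 := by
    have := (Nat.modEq_iff_dvd' (Nat.mul_pos hs0 hs0)).1 h5.symm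
    exact this
  have hXc : cm N g = cm (cm (⊤ : AddSubgroup M) g) (a t y) := cm_comm _ (d.comm_a d.gK).symm
  rw [← hXc, h1]
  have hr5 := d.five
  have hle := Nat.le_of_dvd (by
    have : 2 ≤ s := by omega
    have : 2 * 2 ≤ s * s := Nat.mul_le_mul this this
    omega) h6
  interval_cases s
  · exact absurd rfl hs1
  · omega
  · have : r = 8 ∨ r ≤ 7 := by omega
    have h7 : r ∣ 8 := h6
    have h8 : r ∈ Nat.divisors 8 := Nat.mem_divisors.2 ⟨h7, by norm_num⟩
    have h9 : Nat.divisors 8 = {1, 2, 4, 8} := by decide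
    rw [h9] at h8
    simp only [Finset.mem_insert, Finset.mem_singleton] at h8
    rcases h8 with h | h | h | h
    · omega
    · omega
    · omega
    · rw [h] at this; exact absurd d.pr (by rw [h]; norm_num)
  · have h7 : r ∣ 15 := h6
    have h8 : r ∈ Nat.divisors 15 := Nat.mem_divisors.2 ⟨h7, by norm_num⟩
    have h9 : Nat.divisors 15 = {1, 3, 5, 15} := by decide
    rw [h9] at h8
    simp only [Finset.mem_insert, Finset.mem_singleton] at h8
    rcases h8 with h | h | h | h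
    · omega
    · omega
    · exact ⟨h, rfl⟩
    · exact absurd d.pr (by rw [h]; norm_num)

theorem g2_pow (_d : Dat K t y g r) {n : ℕ} (h : g ^ n = 1) : (t * g * t⁻¹) ^ n = 1 := by
  rw [conj_pow, h, mul_one, mul_inv_cancel]

/-- `a` inverts `g₂` -/
theorem a_inv (d : Dat K t y g r) : a t y * (t * g * t⁻¹) * (a t y)⁻¹ = (t * g * t⁻¹)⁻¹ := by
  unfold a
  have h := d.comm'' d.gK d.yK
  have hi : t⁻¹ * y * t * (t * g * t⁻¹) * (t⁻¹ * y * t)⁻¹ = t * g * t⁻¹ := by
    rw [← h]; group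
  have e : ∀ p q w : H, p * q * w * (p * q)⁻¹ = p * (q * w * q⁻¹) * p⁻¹ := fun p q w => by group
  calc t * y * t⁻¹ * (t⁻¹ * y * t) * (t * g * t⁻¹) * (t * y * t⁻¹ * (t⁻¹ * y * t))⁻¹
      = t * y * t⁻¹ * (t⁻¹ * y * t * (t * g * t⁻¹) * (t⁻¹ * y * t)⁻¹) * (t * y * t⁻¹)⁻¹ := e _ _ _
    _ = t * y * t⁻¹ * (t * g * t⁻¹) * (t * y * t⁻¹)⁻¹ := by rw [hi]
    _ = t * (y * g * y⁻¹) * t⁻¹ := by group
    _ = (t * g * t⁻¹)⁻¹ := by rw [d.inv]; group

/-- (2) -/
theorem part2 [Finite M] (h2 : ∀ m : M, m + m = 0) (d : Dat K t y g 5)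
    (hX : Nat.card (cm (cm (⊤ : AddSubgroup M) g) (a t y)) = 16) :
    (∀ k ∈ K, ∀ v ∈ cm (cm (⊤ : AddSubgroup M) g) (t * g * t⁻¹), (t⁻¹ * k * t) • v = v) ∧
      (cm (cm (⊤ : AddSubgroup M) g) (t * g * t⁻¹) ≠ ⊥ →
        cm (cm (⊤ : AddSubgroup M) g) (a t y) ≤ cm (cm (⊤ : AddSubgroup M) g) (t * g * t⁻¹)) := by
  have hgr : g ^ (2 * 2 + 1) = 1 := d.gr
  have hgr2 : (t * g * t⁻¹) ^ (2 * 2 + 1) = 1 := d.g2_pow hgr
  set W := cm (⊤ : AddSubgroup M) g with hW
  set g2 := t * g * t⁻¹ with hg2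
  set Y := cm W g2 with hY
  have c12 : g * g2 = g2 * g := d.comm g d.gK g d.gK
  have hWg : Inv W g := (Inv.top g).cm rfl
  have hWg2 : Inv W g2 := (Inv.top g2).cm c12.symm
  have hWa : Inv W (a t y) := (Inv.top _).cm (d.comm_a d.gK).symm
  have hWy : Inv W y := (Inv.top y).cm' (Inv.top _) d.inv
  have hYW : Y ≤ W := cm_le hWg2
  have hYg : Inv Y g := hWg.cm c12
  have hYg2 : Inv Y g2 := hWg2.cm rfl
  have hYa : Inv Y (a t y) := hWa.cm' (hWg2.inv (n := 4) hgr2) d.a_inv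
  have hYy : Inv Y y := hWy.cm (d.comm y d.yK g d.gK)
  have hf1 : ∀ v ∈ W, g • v = v → v = 0 := fun v hv h => fpf h2 hgr hv h
  have hf2 : ∀ v ∈ Y, g2 • v = v → v = 0 := fun v hv h => fpf h2 hgr2 hv h
  -- `a` inverts `g2`
  obtain ⟨p1, p2, -⟩ := card_sq h2 hgr2 hYg2 hYa d.a_sq d.a_inv hf2
  have hle : cm Y (a t y) ≤ cm W (a t y) := cm_mono hYW _
  have h16 : Nat.card (cm Y (a t y)) ≤ 16 := by
    rw [← hX]; exact Nat.card_le_card_of_injective _ (AddSubgroup.inclusion_injective hle)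
  -- `y` inverts `g`
  obtain ⟨q1, q2, q3⟩ := card_sq h2 hgr hYg hYy d.y2 d.inv (fun v hv => hf1 v (hYW hv))
  have h16' : Nat.card (cn Y y) ≤ 16 := by
    have : Nat.card (cn Y y) * Nat.card (cn Y y) ≤ 16 * 16 := by
      rw [← q1, p1, ← p2]; exact Nat.mul_le_mul h16 h16
    exact Nat.mul_self_le_mul_self_iff.1 this
  refine ⟨fun k hk v hv => ?_, fun hne => ?_⟩
  · -- `K₃` is trivial on `C_Y(y)`
    let L : Subgroup H := K.map (MulAut.conj t⁻¹).toMonoidHom
    have hLm : ∀ l, l ∈ L ↔ ∃ k ∈ K, t⁻¹ * k * t = l := by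
      intro l
      constructor
      · rintro ⟨k, hk, rfl⟩
        exact ⟨k, hk, by simp⟩
      · rintro ⟨k, hk, rfl⟩
        exact ⟨k, hk, by simp⟩
    have hL : ⁅L, L⁆ = L := by
      rw [← Subgroup.map_commutator, d.perf]
    have hLY : ∀ l ∈ L, Inv Y l := by
      intro l hl
      obtain ⟨k, hk, rfl⟩ := (hLm l).1 hl
      exact ((Inv.top _).cm (d.comm' d.gK hk).symm).cm (d.comm'' d.gK hk).symm
    have hLv : ∀ l ∈ L, Inv (cn Y y) l := by
      intro l hl
      obtain ⟨k, hk, rfl⟩ := (hLm l).1 hl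
      exact (hLY _ hl).cn (d.comm' d.yK hk).symm
    have hLg : ∀ l ∈ L, l * g2 = g2 * l := by
      intro l hl
      obtain ⟨k, hk, rfl⟩ := (hLm l).1 hl
      exact (d.comm'' d.gK hk).symm
    have htriv := perfect_trivial h2 (V := cn Y y) hgr2 (hYg2.cn (d.comm y d.yK g d.gK).symm)
      (fun v hv => hf2 v hv.1) h16' hL hLv hLg
    obtain ⟨x, hx, z, hz, rfl⟩ := q3 v hv
    have hl : t⁻¹ * k * t ∈ L := (hLm _).2 ⟨k, hk, rfl⟩
    have e : t⁻¹ * k * t * g = g * (t⁻¹ * k * t) := (d.comm' d.gK hk).symm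
    rw [smul_add, htriv _ hl x hx, ← mul_smul, e, mul_smul, htriv _ hl z hz]
  · have h3 : cm Y (a t y) ≠ ⊥ := by
      intro h
      rw [h] at p2
      have h4 : Nat.card (⊥ : AddSubgroup M) = 1 := by simp
      rw [h4] at p2
      rw [← p2, mul_one] at p1
      exact hne (AddSubgroup.eq_bot_of_card_eq _ p1)
    have hYa' : Inv (cm Y (a t y)) g := hYg.cm (d.comm_a d.gK)
    have h5 := card_five h2 (V := cm Y (a t y)) d.gr hYa'
      (fun v hv => hf1 v (hYW (cm_le hYa hv))) h16 h3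
    have h6 : cm Y (a t y) = cm W (a t y) := AddSubgroup.eq_of_le_of_card_ge hle (by rw [h5, hX])
    rw [← h6]
    exact cm_le hYa

/-- **The end of (T2).** -/
theorem false_of [Finite M] (h2 : ∀ m : M, m + m = 0) (d : Dat K t y g r)
    (hN0 : Nat.card (cm (cm (⊤ : AddSubgroup M) (a t y)) (b t y)) ≤ 4)
    (hN : ∃ k ∈ K, ∃ m ∈ cm (⊤ : AddSubgroup M) (a t y), k • m ≠ m) : False := by
  obtain ⟨hr, hX⟩ := d.part1 h2 hN0 hN
  subst hr
  have hgr : g ^ (2 * 2 + 1) = 1 := d.gr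
  obtain ⟨A1, A2⟩ := d.part2 h2 hX
  obtain ⟨B1, B2⟩ := d.symm.part2 h2 (by rw [d.a_symm]; exact hX)
  rw [d.a_symm, inv_inv] at B2
  rw [inv_inv] at B1
  have h16 : cm (cm (⊤ : AddSubgroup M) g) (a t y) ≠ ⊥ := by
    intro h
    rw [h] at hX
    have h4 : Nat.card (⊥ : AddSubgroup M) = 1 := by simp
    rw [h4] at hX
    exact absurd hX (by norm_num)
  -- the two spaces are conjugate under `t`
  have htop : ∀ x : H, ∀ w : M, w ∈ cm (⊤ : AddSubgroup M) x → t • w ∈ cm (⊤ : AddSubgroup M) (t * x * t⁻¹) := by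
    rintro x w ⟨m, -, rfl⟩
    refine ⟨t • m, AddSubgroup.mem_top _, ?_⟩
    simp only [D_apply, smul_sub, ← mul_smul]
    congr 2
    group
  have key : cm (cm (⊤ : AddSubgroup M) g) (t * g * t⁻¹) = ⊥ ↔ cm (cm (⊤ : AddSubgroup M) g) (t⁻¹ * g * t) = ⊥ := by
    -- `[M, g, g₂] = t [M, g₃, g]`
    have e1 : cm (cm (⊤ : AddSubgroup M) g) (t⁻¹ * g * t) = cm (cm (⊤ : AddSubgroup M) (t⁻¹ * g * t)) g :=
      cm_comm _ (d.comm' d.gK d.gK)
    rw [e1]
    constructor
    · intro h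
      rw [eq_bot_iff]
      rintro _ ⟨w, hw, rfl⟩
      have h3 := htop _ w hw
      have e3 : t * (t⁻¹ * g * t) * t⁻¹ = g := by group
      rw [e3] at h3
      have h4 : (t * g * t⁻¹) • (t • w) - t • w ∈ cm (cm (⊤ : AddSubgroup M) g) (t * g * t⁻¹) := ⟨t • w, h3, rfl⟩
      rw [h] at h4
      have h5 : t • (g • w - w) = 0 := by
        have : (t * g * t⁻¹) • (t • w) - t • w = t • (g • w - w) := by
          rw [smul_sub, ← mul_smul, ← mul_smul]; congr 2; group
        rw [← this]; exact h4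
      exact (smul_eq_zero_iff_eq t).1 h5
    · intro h
      rw [eq_bot_iff]
      rintro _ ⟨w, hw, rfl⟩
      -- `w = t w'`, `w' ∈ [M, g₃]`
      have hw' : t⁻¹ • w ∈ cm (⊤ : AddSubgroup M) (t⁻¹ * g * t) := by
        obtain ⟨m, -, rfl⟩ := hw
        refine ⟨t⁻¹ • m, AddSubgroup.mem_top _, ?_⟩
        simp only [D_apply, smul_sub, ← mul_smul]
        congr 2
        group
      have h4 : g • (t⁻¹ • w) - t⁻¹ • w ∈ cm (cm (⊤ : AddSubgroup M) (t⁻¹ * g * t)) g := ⟨_, hw', rfl⟩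
      rw [h] at h4
      have h5 : t⁻¹ • ((t * g * t⁻¹) • w - w) = 0 := by
        have : g • (t⁻¹ • w) - t⁻¹ • w = t⁻¹ • ((t * g * t⁻¹) • w - w) := by
          rw [smul_sub, ← mul_smul, ← mul_smul]; congr 2; group
        rw [← this]; exact h4
      exact (smul_eq_zero_iff_eq t⁻¹).1 h5
  by_cases hY : cm (cm (⊤ : AddSubgroup M) g) (t * g * t⁻¹) = ⊥
  · have hY' := key.1 hY
    -- `K` is trivial on `[M, g₂]` and on `[M, g₃]`
    have c2 : cm (cm (⊤ : AddSubgroup M) (t * g * t⁻¹)) g = ⊥ := by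
      rw [← cm_comm _ (d.comm g d.gK g d.gK)]; exact hY
    have c3 : cm (cm (⊤ : AddSubgroup M) (t⁻¹ * g * t)) g = ⊥ := by
      rw [← cm_comm _ (d.comm' d.gK d.gK)]; exact hY'
    have f2 : ∀ v ∈ cm (⊤ : AddSubgroup M) (t * g * t⁻¹), g • v = v := by
      intro v hv
      have : g • v - v ∈ cm (cm (⊤ : AddSubgroup M) (t * g * t⁻¹)) g := ⟨v, hv, rfl⟩
      rw [c2] at this
      exact sub_eq_zero.1 this
    have f3 : ∀ v ∈ cm (⊤ : AddSubgroup M) (t⁻¹ * g * t), g • v = v := by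
      intro v hv
      have : g • v - v ∈ cm (cm (⊤ : AddSubgroup M) (t⁻¹ * g * t)) g := ⟨v, hv, rfl⟩
      rw [c3] at this
      exact sub_eq_zero.1 this
    have k2 := d.ker_all (V := cm (⊤ : AddSubgroup M) (t * g * t⁻¹))
      (fun k hk => (Inv.top k).cm (d.comm k hk g d.gK)) f2 y d.yK
    have k3 := d.ker_all (V := cm (⊤ : AddSubgroup M) (t⁻¹ * g * t))
      (fun k hk => (Inv.top k).cm (d.comm' hk d.gK)) f3 y d.yK
    -- hence `a` is trivial on `[M, g]`
    apply h16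
    rw [eq_bot_iff]
    rintro _ ⟨w, hw, rfl⟩
    have hw2 : t • w ∈ cm (⊤ : AddSubgroup M) (t * g * t⁻¹) := htop g w hw
    have hw3 : t⁻¹ • w ∈ cm (⊤ : AddSubgroup M) (t⁻¹ * g * t) := by
      obtain ⟨m, -, rfl⟩ := hw
      refine ⟨t⁻¹ • m, AddSubgroup.mem_top _, ?_⟩
      simp only [D_apply, smul_sub, ← mul_smul]
      congr 2
      group
    have e2 : (t⁻¹ * y * t) • w = w := by
      have := k2 _ hw2
      calc (t⁻¹ * y * t) • w = t⁻¹ • (y • (t • w)) := by rw [mul_smul, mul_smul]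
        _ = w := by rw [this, inv_smul_smul]
    have e3 : (t * y * t⁻¹) • w = w := by
      have := k3 _ hw3
      calc (t * y * t⁻¹) • w = t • (y • (t⁻¹ • w)) := by rw [mul_smul, mul_smul]
        _ = w := by rw [this, smul_inv_smul]
    show a t y • w - w ∈ (⊥ : AddSubgroup M)
    have : a t y • w = w := by
      unfold a
      rw [mul_smul, e2, e3]
    rw [this, sub_self]
    exact AddSubgroup.zero_mem _
  · have hY' : cm (cm (⊤ : AddSubgroup M) g) (t⁻¹ * g * t) ≠ ⊥ := fun h => hY (key.2 h)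
    have hXY := A2 hY
    have hXY' := B2 hY'
    apply h16
    rw [eq_bot_iff]
    intro v hv
    have h3 := A1 g d.gK v (hXY hv)
    have hgr3 : (t⁻¹ * g * t) ^ (2 * 2 + 1) = 1 := by
      have := d.symm.g2_pow hgr
      rwa [inv_inv] at this
    exact fpf h2 hgr3 (hXY' hv) h3

end Dat

end Cfsg.Agent.Omega.Lie.TwoEnd
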