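import Cfsg.Agent.Omega.Lie.OutRgd
import Cfsg.Agent.OddHalf.Table.OutChevTwo
import Cfsg.Agent.KFacts.RgdChevCoord
import Cfsg.Agent.FixBN.ChevGood

/-!
# `OutNil` for the Chevalley groups `D.group F`, `F` of characteristic two

* `Scal T V` : `T` acts on `V ≅ (F, +)` as the full group of scalars; `tor_of_scal`;
* `tor_group`, `outNil_group` : all tabulated data;
* `outNil_G2`, `outNil_F4`.
-/

set_option autoImplicit false
set_option linter.unusedSectionVars false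

namespace Cfsg.Agent.Omega.Lie.OutRgd

open CoxeterSystem Cfsg.Agent.ChevalleyStructure.CoxeterGeom Cfsg.Agent.Tits.Roots Cfsg.Agent.Tits.Core
  Cfsg.Agent.Tits.RootComb Cfsg.Agent.Nodes.Comb Cfsg.Agent.Nodes.Reps Cfsg.Agent.Nodes.BNOf Cfsg.Agent.Nodes.BNOf.RGD
  Cfsg.Agent.Nodes.RGDChev Cfsg.Agent.OddHalf.Table.AutRGD Cfsg.Agent.Omega.Lie.OutT
  Cfsg.Agent.KFacts.RgdChevCoord Cfsg.Agent.KFacts.RgdField
open Cfsg.Lie Cfsg.Agent.ChevalleyStructure Cfsg.Agent.ChevalleyStructure.Elts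
  Cfsg.Agent.ChevalleyStructure.RootVec Cfsg.Agent.ChevalleyStructure.RootVecTab
  Cfsg.Agent.ChevalleyStructure.NPerm Cfsg.Agent.ChevalleyStructure.CoxeterGeomTypes

universe u

/-! ### Scalars -/

/-- `T` acts on `V ≅ (F, +)` as the full group of scalars. -/
structure Scal {Y : Type*} [Group Y] (T V : Subgroup Y) (F : Type*) [Field F] (x : F → Y) : Prop where
  mem : ∀ y ∈ V, ∃ a, x a = y
  zero : x 0 = 1
  inj : Function.Injective x
  act : ∀ t ∈ T, ∃ c : F, ∀ a, t * x a * t⁻¹ = x (c * a)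
  onto : ∀ c : F, c ≠ 0 → ∃ t ∈ T, ∀ a, t * x a * t⁻¹ = x (c * a)

namespace Scal

variable {Y : Type*} [Group Y] {T V : Subgroup Y} {F : Type*} [Field F] {x : F → Y}

theorem tr (S : Scal T V F x) : ∀ y ∈ V, ∀ z ∈ V, y ≠ 1 → z ≠ 1 → ∃ t ∈ T, t * y * t⁻¹ = z := by
  intro y hy z hz hy1 hz1
  obtain ⟨a, rfl⟩ := S.mem y hy
  obtain ⟨b, rfl⟩ := S.mem z hz
  have ha : a ≠ 0 := fun e => hy1 (by rw [e, S.zero])
  have hb : b ≠ 0 := fun e => hz1 (by rw [e, S.zero])
  obtain ⟨t, ht, h⟩ := S.onto (b / a) (div_ne_zero hb ha)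
  exact ⟨t, ht, by rw [h, div_mul_cancel₀ b ha]⟩

theorem cyc [Finite F] (S : Scal T V F x) :
    ∃ k ∈ T, ∀ t ∈ T, ∃ m : ℕ, ∀ y ∈ V, t * y * t⁻¹ = k ^ m * y * (k ^ m)⁻¹ := by
  obtain ⟨ζ, hζ⟩ := IsCyclic.exists_generator (α := Fˣ)
  obtain ⟨k, hk, hkx⟩ := S.onto ζ ζ.ne_zero
  have hpow : ∀ m : ℕ, ∀ a, k ^ m * x a * (k ^ m)⁻¹ = x ((ζ : F) ^ m * a) := by
    intro m
    induction m with
    | zero => intro a; rw [pow_zero, pow_zero, one_mul, one_mul, inv_one, mul_one]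
    | succ m ih =>
      intro a
      have e : k ^ (m + 1) * x a * (k ^ (m + 1))⁻¹ = k * (k ^ m * x a * (k ^ m)⁻¹) * k⁻¹ := by
        rw [pow_succ']; group
      rw [e, ih, hkx, pow_succ', mul_assoc]
  refine ⟨k, hk, fun t ht => ?_⟩
  obtain ⟨c, hc⟩ := S.act t ht
  have hc0 : c ≠ 0 := by
    rintro rfl
    have h1 := hc 1
    rw [zero_mul, S.zero] at h1
    have h2 : x 1 = 1 := by
      have : x 1 = t⁻¹ * (t * x 1 * t⁻¹) * t := by group
      rw [this, h1]; group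
    exact one_ne_zero (S.inj (h2.trans S.zero.symm))
  obtain ⟨m, hm⟩ := (mem_powers_iff_mem_zpowers.2 (hζ (Units.mk0 c hc0)))
  refine ⟨m, fun y hy => ?_⟩
  obtain ⟨a, rfl⟩ := S.mem y hy
  have hm' : (ζ : F) ^ m = c := by
    have := congrArg Units.val hm
    simpa using this
  rw [hc, hpow, hm']

end Scal

/-! ### Chevalley groups -/

section

variable {D : ChevalleyDatum} {l : ℕ} {M : CoxeterMatrix (Fin l)}

theorem exists_sq {F : Type*} [Field F] [Finite F] [CharP F 2] (c : F) : ∃ a : F, a ^ 2 = c := by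
  obtain ⟨a, ha⟩ := FiniteField.isSquare_of_char_two (ringChar.eq F 2) c
  exact ⟨a, by rw [pow_two, ha]⟩

theorem scal_group (hp : IsType D l M) (F : Type u) [Field F] [Finite F] [CharP F 2] (i : Fin l) :
    Scal (TT D F) (XX D l F (sr i)) F (xc hp (sr i)) := by
  have hs : vec D l (D.simple i) = sr i := vec_simple hp i
  have hr := simple_lt hp.inList (lt_rank hp i)
  have C := (coords (K := F) hp M.toCoxeterSystem 2).coord (sr i) (isRoot_sr M.toCoxeterSystem hp.isCartan i)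
  refine ⟨fun y hy => (C.mem y).1 hy, C.zero, C.inj, fun t ht => ⟨_, C.act t ht⟩, fun c hc0 => ?_⟩
  obtain ⟨a, ha⟩ := exists_sq c
  have ha0 : a ≠ 0 := by
    rintro rfl
    exact hc0 (by rw [← ha]; simp)
  refine ⟨Cfsg.Agent.KFacts.RgdChevCoord.hc hp i a, hc_mem hp i ha0, fun b => ?_⟩
  rw [C.act _ (hc_mem hp i ha0)]
  have h1 : ch hp (sr i) (Cfsg.Agent.KFacts.RgdChevCoord.hc hp i a) = c := by
    rw [← hs, ch_hc hp i ha0 hr, ← cartanOf_def D l i i, hp.isCartan.diag]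
    rw [← ha]
    exact zpow_natCast a 2
  rw [h1]

theorem tor_group (hp : IsType D l M) (F : Type u) [Field F] [Finite F] [CharP F 2] :
    Tor (TT D F) (fun i : Fin l => XX D l F (sr i)) := by
  have : Fact (Nat.Prime 2) := ⟨Nat.prime_two⟩
  have R := rgd (K := F) hp M.toCoxeterSystem 2
  refine ⟨?_, ?_, ?_, fun i => (scal_group hp F i).tr, fun i => (scal_group hp F i).cyc⟩
  · rintro ⟨a, ha'⟩ ha ⟨b, hb'⟩ hb
    apply Subtype.ext
    exact FixBN.ChevGood.diag_comm F hp (Subgroup.mem_subgroupOf.1 ha) (Subgroup.mem_subgroupOf.1 hb)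
  · exact (Nat.coprime_two_right).1 R.tcop
  · intro i t ht y hy
    have h1 := R.tor (sr i) (isRoot_sr M.toCoxeterSystem hp.isCartan i) t ht
    have h2 : t * y * t⁻¹ ∈ cj t ((XV D l F (sr i)).subgroupOf (D.group F)) := conj_mem_cj.2 hy
    rw [h1] at h2
    exact h2

/-- **`OutNil` for the tabulated Chevalley groups.** -/
theorem outNil_group [Nonempty (Fin l)] (hp : IsType D l M) (F : Type u) [Field F] [Finite F] [CharP F 2]
    [IsSimpleGroup ↥(D.group F)]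
    (hM : ∀ σ τ : Fin l → Fin l, Function.Injective σ → Function.Injective τ →
      (∀ i j, M (σ i) (σ j) = M i j) →
      (∀ i j, M (τ i) (τ j) = M i j) → (∃ i, σ i ≠ i) → (∃ i, τ i ≠ i) → ∀ i, σ (τ i) = i) :
    OutNil ↥(D.group F) := by
  have hprime : Fact (Nat.Prime 2) := ⟨Nat.prime_two⟩
  have hW := finite_W hp M.toCoxeterSystem
  have R := rgd (K := F) hp M.toCoxeterSystem 2
  have hgen := gen (K := F) hp M.toCoxeterSystem 2
  obtain ⟨i₀⟩ := (inferInstance : Nonempty (Fin l))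
  have hcore := Cfsg.Agent.Tits.OfBN.normalCore_eq_bot (R.bnPair hgen) ⟨_, i₀, rfl⟩
  exact outNil R hgen hcore (tor_group hp F) hM

theorem outNil_G2 (F : Type u) [Field F] [Finite F] [CharP F 2] [IsSimpleGroup ↥(chevG2.group F)] :
    OutNil ↥(chevG2.group F) := by
  refine outNil_group (l := 2) (M := CoxeterMatrix.G₂) (by simp [IsType, typeList]) F ?_
  intro σ τ h1 h2 _ _ h3 h4 i
  have key : ∀ σ : Fin 2 → Fin 2, Function.Injective σ → (∃ i, σ i ≠ i) → ∀ i, σ i = 1 - i := by decide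
  rw [key σ h1 h3, key τ h2 h4]
  revert i
  decide

theorem outNil_F4 (F : Type u) [Field F] [Finite F] [CharP F 2] [IsSimpleGroup ↥(chevF4.group F)] :
    OutNil ↥(chevF4.group F) := by
  refine outNil_group (l := 4) (M := CoxeterMatrix.F₄) (by simp [IsType, typeList]) F ?_
  intro σ τ _ _ hσ hτ hσ1 hτ1 i
  rw [OddHalf.Table.OutChevTwo.diag_F4 σ hσ hσ1, OddHalf.Table.OutChevTwo.diag_F4 τ hτ hτ1]
  revert i
  decide

end

end Cfsg.Agent.Omega.Lie.OutRgd
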