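import Cfsg.Agent.Lib.GenFitting
import Cfsg.Agent.SignalizersComponents.Components
import Cfsg.Agent.SignalizersComponents.CompBasic
import Cfsg.Agent.Omega.Lie.CompB

/-!
# NODE LIE: the end of the component theorem, abstract (bb OMEGA #11541 (5), `A ≤ E(H⁰)`)

`H` finite, `O₂(H) = 1`, `H⁰` normal, `A ≤ H⁰` a 2-group; `A` centralises every nilpotent normal subgroup `N ≤ H⁰`
of `H` of odd order, and acts on every component `K ≤ H⁰` as `A ⊓ K`.  Then `A` is contained in the product of
the `A ⊓ K`, and `A ≤ [N, N]` for `N = ⟨A^H⟩`.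
-/

set_option autoImplicit false

namespace Cfsg.Agent.Omega.Lie.Layer

open Subgroup Cfsg Cfsg.Agent.Omega.Lie.CompB

variable {H : Type*} [Group H]

/-- `A` acts on `K` as `A ⊓ K` -/
def InnA (A K : Subgroup H) : Prop := ∀ a ∈ A, ∃ b ∈ A ⊓ K, Acts K a b

theorem InnA.of_comm {A K : Subgroup H} (h : ∀ a ∈ A, ∀ x ∈ K, a * x = x * a) : InnA A K := fun a ha =>
  ⟨1, one_mem _, fun x hx => by rw [h a ha x hx]; group⟩

theorem InnA.of_hyp {S A T K : Subgroup H} (h : CompB.Hyp S A T K) : InnA A K := fun _ ha => h.acts ha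

/-- the components in `H⁰` -/
def Cps (H0 K : Subgroup H) : Prop := IsComponent K ∧ K ≤ H0

/-- elements of different components commute -/
theorem comm_of_ne [Finite H] {K L : Subgroup H} (hK : IsComponent K) (hL : IsComponent L) (hne : K ≠ L) {x y : H}
    (hx : x ∈ K) (hy : y ∈ L) : x * y = y * x :=
  (mem_centralizer_iff.1 (SignalizersComponents.Components.component_le_centralizer_of_ne hK hL hne hx) y hy).symm

/-- correcting `a` on finitely many components -/
theorem exists_mul [Finite H] {A : Subgroup H} (s : Finset (Subgroup H)) (hs : ∀ K ∈ s, IsComponent K)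
    (hI : ∀ K ∈ s, InnA A K) {a : H} (ha : a ∈ A) :
    ∃ b ∈ (⨆ K ∈ s, A ⊓ K), ∀ K ∈ s, ∀ x ∈ K, b⁻¹ * a * x = x * (b⁻¹ * a) := by
  classical
  induction s using Finset.induction_on with
  | empty => exact ⟨1, one_mem _, fun K hK => absurd hK (Finset.notMem_empty K)⟩
  | insert K s hK ih =>
    obtain ⟨b, hb, hb'⟩ := ih (fun L hL => hs L (Finset.mem_insert_of_mem hL))
      (fun L hL => hI L (Finset.mem_insert_of_mem hL))
    have hbA : b ∈ A := by
      have : (⨆ L ∈ s, A ⊓ L) ≤ A := iSup₂_le fun L _ => inf_le_left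
      exact this hb
    have ha' : b⁻¹ * a ∈ A := mul_mem (inv_mem hbA) ha
    obtain ⟨c, hc, hc'⟩ := hI K (Finset.mem_insert_self K s) _ ha'
    refine ⟨b * c, mul_mem ?_ ?_, ?_⟩
    · have : (⨆ L ∈ s, A ⊓ L) ≤ ⨆ L ∈ insert K s, A ⊓ L :=
        iSup₂_le fun L hL => le_iSup₂ (f := fun (L : Subgroup H) (_ : L ∈ insert K s) => A ⊓ L) L
          (Finset.mem_insert_of_mem hL)
      exact this hb
    · exact (le_iSup₂ (f := fun (L : Subgroup H) (_ : L ∈ insert K s) => A ⊓ L) K
        (Finset.mem_insert_self K s)) hc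
    · intro L hL x hx
      rcases Finset.mem_insert.1 hL with rfl | hL
      · have h1 := hc' x hx
        calc (b * c)⁻¹ * a * x = c⁻¹ * (b⁻¹ * a * x * (b⁻¹ * a)⁻¹) * (b⁻¹ * a) := by group
          _ = c⁻¹ * (c * x * c⁻¹) * (b⁻¹ * a) := by rw [h1]
          _ = x * ((b * c)⁻¹ * a) := by group
      · have hne : K ≠ L := by rintro rfl; exact hK hL
        have h1 := hb' L hL x hx
        have h2 := comm_of_ne (hs K (Finset.mem_insert_self K s)) (hs L (Finset.mem_insert_of_mem hL)) hne
          (inv_mem hc.2) hx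
        calc (b * c)⁻¹ * a * x = c⁻¹ * (b⁻¹ * a * x) := by group
          _ = (c⁻¹ * x) * (b⁻¹ * a) := by rw [h1]; group
          _ = x * ((b * c)⁻¹ * a) := by rw [h2]; group

variable {A H0 : Subgroup H}

/-- **`A ≤ ∏ (A ⊓ K)`** -/
theorem le_iSup_inf [Finite H] (hO : pCore 2 H = ⊥) (hn : H0.Normal) (hA0 : A ≤ H0) (hA2 : ∀ a ∈ A, a * a = 1)
    (hF : ∀ N : Subgroup H, N.Normal → N ≤ H0 → Group.IsNilpotent N → Odd (Nat.card N) →
      ∀ x ∈ N, ∀ a ∈ A, a * x = x * a)
    (hI : ∀ K, IsComponent K → K ≤ H0 → InnA A K) :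
    A ≤ ⨆ K ∈ {K : Subgroup H | Cps H0 K}, A ⊓ K := by
  classical
  have hfact : Fact (Nat.Prime 2) := ⟨Nat.prime_two⟩
  -- the Fitting subgroup has odd order
  have hFn : (fittingSubgroup H).Normal := Lib.Cores.fittingSubgroup_normal
  have hFnil : Group.IsNilpotent (fittingSubgroup H) := Lib.Cores.fittingSubgroup_isNilpotent
  have hsmall : ∀ z ∈ fittingSubgroup H, ∀ k : ℕ, z ^ 2 ^ k = 1 → z = 1 := by
    intro z hz k hk
    have := Lib.GenFitting.mem_pCore_of_mem_fitting (p := 2) hz hk
    rw [hO] at this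
    exact mem_bot.1 this
  have hodd : ∀ N : Subgroup H, N ≤ fittingSubgroup H → Odd (Nat.card N) := by
    intro N hN
    rw [← Nat.not_even_iff_odd, even_iff_two_dvd]
    intro h2
    obtain ⟨x, hx⟩ := exists_prime_orderOf_dvd_card' 2 h2
    have h3 : (x : H) = 1 := by
      refine hsmall _ (hN x.2) 1 ?_
      have h4 := pow_orderOf_eq_one x
      rw [hx] at h4
      rw [pow_one]
      exact congrArg Subtype.val h4
    have h5 : x = 1 := Subtype.ext h3
    rw [h5, orderOf_one] at hx
    exact absurd hx (by norm_num)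
  -- `A` centralises `F(H)`
  have hAF : ∀ x ∈ fittingSubgroup H, ∀ a ∈ A, a * x = x * a := by
    intro x hx a ha
    have hNn : (fittingSubgroup H ⊓ H0).Normal := inferInstance
    have hNnil : Group.IsNilpotent (fittingSubgroup H ⊓ H0 : Subgroup H) := by
      have h1 : Group.IsNilpotent ((fittingSubgroup H ⊓ H0).subgroupOf (fittingSubgroup H)) := inferInstance
      exact Group.nilpotent_of_mulEquiv (subgroupOfEquivOfLe (inf_le_left : fittingSubgroup H ⊓ H0 ≤ fittingSubgroup H))
    have hc : a * x * a⁻¹ * x⁻¹ ∈ fittingSubgroup H ⊓ H0 := by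
      refine mem_inf.2 ⟨mul_mem (hFn.conj_mem x hx a) (inv_mem hx), ?_⟩
      have e : a * x * a⁻¹ * x⁻¹ = a * (x * a⁻¹ * x⁻¹) := by group
      rw [e]
      exact mul_mem (hA0 ha) (hn.conj_mem _ (inv_mem (hA0 ha)) x)
    have h1 := hF _ hNn inf_le_right hNnil (hodd _ inf_le_left) _ hc a ha
    set c := a * x * a⁻¹ * x⁻¹ with hcdef
    have h2 : c * c = 1 := by
      have hai : a⁻¹ = a := inv_eq_of_mul_eq_one_left (hA2 a ha)
      have e1 : a * x * a⁻¹ = c * x := by rw [hcdef]; group
      have e2 : a * (a * x * a⁻¹) * a⁻¹ = x := by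
        calc a * (a * x * a⁻¹) * a⁻¹ = (a * a) * x * (a * a)⁻¹ := by group
          _ = x := by rw [hA2 a ha]; group
      rw [e1] at e2
      have e3 : a * (c * x) * a⁻¹ = c * (c * x) := by
        calc a * (c * x) * a⁻¹ = (a * c) * x * a⁻¹ := by group
          _ = c * (a * x * a⁻¹) := by rw [h1]; group
          _ = c * (c * x) := by rw [e1]
      rw [e3] at e2
      have e4 : c * c * x = x := by rw [mul_assoc]; exact e2
      exact mul_eq_right.1 e4
    have h3 : c = 1 := hsmall c hc.1 1 (by rw [pow_one, pow_two]; exact h2)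
    rw [hcdef, mul_inv_eq_one, mul_inv_eq_iff_eq_mul] at h3
    exact h3
  -- the finite set of components in `H0`
  intro a ha
  have hfin : {K : Subgroup H | Cps H0 K}.Finite := Set.toFinite _
  obtain ⟨b, hb, hb'⟩ := exists_mul (A := A) hfin.toFinset (fun K hK => (hfin.mem_toFinset.1 hK).1)
    (fun K hK => hI K (hfin.mem_toFinset.1 hK).1 (hfin.mem_toFinset.1 hK).2) ha
  have hbS : b ∈ ⨆ K ∈ {K : Subgroup H | Cps H0 K}, A ⊓ K := by
    have : (⨆ K ∈ hfin.toFinset, A ⊓ K) ≤ ⨆ K ∈ {K : Subgroup H | Cps H0 K}, A ⊓ K :=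
      iSup₂_le fun K hK => le_iSup₂ (f := fun (K : Subgroup H) (_ : K ∈ {K : Subgroup H | Cps H0 K}) => A ⊓ K) K
        (hfin.mem_toFinset.1 hK)
    exact this hb
  have hbA : b ∈ A := by
    have : (⨆ K ∈ {K : Subgroup H | Cps H0 K}, A ⊓ K) ≤ A := iSup₂_le fun L _ => inf_le_left
    exact this hbS
  have hcA : b⁻¹ * a ∈ A := mul_mem (inv_mem hbA) ha
  -- `c` centralises the layer
  have hc1 : ∀ K, IsComponent K → ∀ x ∈ K, b⁻¹ * a * x = x * (b⁻¹ * a) := by
    intro K hK x hx
    by_cases hK0 : K ≤ H0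
    · exact hb' K (hfin.mem_toFinset.2 ⟨hK, hK0⟩) x hx
    · rcases SignalizersComponents.Components.component_le_or_commutator_eq_bot hK
        (H := H0) (Normal.isSubnormal hn) with h | h
      · exact absurd h hK0
      · have h1 := commutator_eq_bot_iff_le_centralizer.mp h hx
        exact mem_centralizer_iff.1 h1 _ (hA0 hcA)
  have hc2 : b⁻¹ * a ∈ centralizer (generalizedFittingSubgroup H : Set H) := by
    have h1 : generalizedFittingSubgroup H ≤ centralizer {b⁻¹ * a} := by
      rw [Lib.GenFitting.genFitting_def, Lib.GenFitting.layer_def]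
      refine sup_le (sSup_le fun K hK x hx => ?_) fun x hx => ?_
      · rw [mem_centralizer_singleton_iff]
        exact (hc1 K hK x hx).symm
      · rw [mem_centralizer_singleton_iff]
        exact (hAF x hx _ hcA).symm
    rw [mem_centralizer_iff]
    intro x hx
    exact mem_centralizer_singleton_iff.1 (h1 hx)
  have hZn : (centralizer (generalizedFittingSubgroup H : Set H)).Normal := by
    have := Lib.GenFitting.genFitting_normal (G := H)
    infer_instance
  have hZc : IsMulCommutative (centralizer (generalizedFittingSubgroup H : Set H)) := by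
    refine ⟨⟨fun x y => Subtype.ext ?_⟩⟩
    exact (mem_centralizer_iff.1 x.2 y (Lib.GenFitting.centralizer_genFitting_le y.2)).symm
  have hZnil : Group.IsNilpotent (centralizer (generalizedFittingSubgroup H : Set H)) := by
    let _ : CommGroup (centralizer (generalizedFittingSubgroup H : Set H)) :=
      { (inferInstance : Group (centralizer (generalizedFittingSubgroup H : Set H))) with
        mul_comm := hZc.1.1 }
    infer_instance
  have h3 := Lib.GenFitting.mem_pCore_of_mem_nilpotent_normal (p := 2) hZn hZnil hc2 (k := 1)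
    (by rw [pow_one, pow_two]; exact hA2 _ hcA)
  rw [hO] at h3
  have h4 : b = a := inv_mul_eq_one.1 (mem_bot.1 h3)
  rw [← h4]
  exact hbS

/-- a component meeting `A` is contained in `⟨A^H⟩` -/
theorem le_normalClosure [Finite H] (hO : pCore 2 H = ⊥) (hA2 : ∀ a ∈ A, a * a = 1) {K : Subgroup H}
    (hK : IsComponent K) (hne : A ⊓ K ≠ ⊥) : K ≤ normalClosure (A : Set H) := by
  have hfact : Fact (Nat.Prime 2) := ⟨Nat.prime_two⟩
  have hn : ((normalClosure (A : Set H)).subgroupOf K).Normal := inferInstance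
  rcases SignalizersComponents.Components.quasisimple_normal hK.2 _ hn with h | h
  · exact subgroupOf_eq_top.1 h
  · exfalso
    apply hne
    rw [eq_bot_iff]
    rintro x ⟨hxA, hxK⟩
    have h1 : (⟨x, hxK⟩ : K) ∈ center K := h (mem_subgroupOf.2 (subset_normalClosure hxA))
    -- the subgroup generated by `x` is subnormal
    let Z : Subgroup K := zpowers ⟨x, hxK⟩
    have hZc : Z ≤ center K := zpowers_le.2 h1
    have hZn : Z.Normal := ⟨fun z hz y => by
      have h1 := mem_center_iff.1 (hZc hz) y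
      have h2 : y * z * y⁻¹ = z := by rw [h1]; group
      rwa [h2]⟩
    have hZp : IsPGroup 2 Z := by
      rw [IsPGroup.iff_card]
      have h2 : Nat.card Z ∣ 2 := by
        rw [Nat.card_zpowers]
        exact orderOf_dvd_of_pow_eq_one (by rw [pow_two]; exact Subtype.ext (hA2 x hxA))
      rcases (Nat.dvd_prime Nat.prime_two).1 h2 with h3 | h3
      · exact ⟨0, by rw [h3, pow_zero]⟩
      · exact ⟨1, by rw [h3, pow_one]⟩
    have hZs : (Z.map K.subtype).IsSubnormal := (Normal.isSubnormal hZn).trans' hK.1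
    have h2 := SignalizersComponents.CompBasic.subnormal_pGroup_le_pCore hZs (hZp.map K.subtype)
    rw [hO] at h2
    exact h2 ⟨⟨x, hxK⟩, mem_zpowers _, rfl⟩

/-- **`A ≤ [N, N]`, `N = ⟨A^H⟩`** -/
theorem le_commutator [Finite H] (hO : pCore 2 H = ⊥) (hn : H0.Normal) (hA0 : A ≤ H0) (hA2 : ∀ a ∈ A, a * a = 1)
    (hF : ∀ N : Subgroup H, N.Normal → N ≤ H0 → Group.IsNilpotent N → Odd (Nat.card N) →
      ∀ x ∈ N, ∀ a ∈ A, a * x = x * a)
    (hI : ∀ K, IsComponent K → K ≤ H0 → InnA A K) :
    A ≤ ⁅normalClosure (A : Set H), normalClosure (A : Set H)⁆ := by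
  refine (le_iSup_inf hO hn hA0 hA2 hF hI).trans (iSup₂_le fun K hK => ?_)
  by_cases hne : A ⊓ K = ⊥
  · rw [hne]; exact bot_le
  · have h1 := le_normalClosure hO hA2 hK.1 hne
    have h2 : K ≤ ⁅K, K⁆ := by
      have hp := hK.1.2.1
      have h3 : (commutator K).map K.subtype = ⁅K, K⁆ := by
        rw [_root_.commutator_def, map_commutator, ← MonoidHom.range_eq_map, K.range_subtype]
      rw [← h3, hp.commutator_eq_top, ← MonoidHom.range_eq_map, K.range_subtype]
    exact inf_le_right.trans (h2.trans (commutator_mono h1 h1))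

end Cfsg.Agent.Omega.Lie.Layer
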