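import Cfsg.Agent.Omega.Lie.Quot
import Cfsg.Agent.Omega.Lie.Layer

/-!
# NODE LIE: from `H = N(R i)/O₂(N(R i))` back to `G`

`perf_of`: if `A = AA V R i j` centralises the normal nilpotent odd subgroups of `H` in `H⁰` and acts on every
component `K ≤ H⁰` as `A ⊓ K`, then `U j ≤ [N, N] Q i`, `N = ⟨(U j)^{N(R i)}⟩` (`IIa4.Perf`).
-/

set_option autoImplicit false
set_option linter.unusedSectionVars false

namespace Cfsg.Agent.Omega.Lie.Layer

open Subgroup Cfsg Cfsg.Agent.Omega.BTwo Cfsg.Agent.Omega.Lie Cfsg.Agent.Omega.Lie.Quot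

universe u v w

section im

variable {G : Type u} [Group G] {R A B : Subgroup G}

theorem commutator_im_le (hA : A ≤ normalizer (R : Set G)) (hB : B ≤ normalizer (R : Set G)) :
    ⁅im R A, im R B⁆ ≤ im R ⁅A, B⁆ := by
  unfold im
  rw [← map_commutator]
  apply map_mono
  intro x hx
  rw [mem_subgroupOf]
  have h1 : (⁅A.subgroupOf (normalizer (R : Set G)), B.subgroupOf (normalizer (R : Set G))⁆).map
      (normalizer (R : Set G)).subtype = ⁅A, B⁆ := by
    rw [map_commutator, subgroupOf_map_subtype, subgroupOf_map_subtype, inf_eq_left.2 hA, inf_eq_left.2 hB]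
  rw [← h1]
  exact ⟨x, hx, rfl⟩

/-- the image of a subgroup normalised by `N(R)` is normal -/
theorem im_normal (hA : ∀ g ∈ normalizer (R : Set G), ∀ x ∈ A, g * x * g⁻¹ ∈ A) : (im R A).Normal := by
  refine ⟨fun x hx y => ?_⟩
  obtain ⟨g, hg, rfl⟩ := exists_pr y
  obtain ⟨a, ha, haA, rfl⟩ := mem_im.1 hx
  exact mem_im.2 ⟨_, _, hA g hg a haA, rfl⟩

theorem H0_normal {ι : Type w} (R : ι → Subgroup G) (i : ι) : (H0 R i).Normal :=
  im_normal fun _ hg _ hx => conj_mem_of_normalizer (normalizer_le_normalizer_centralizer _ hg) hx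

end im

variable {G : Type u} [Group G] {ι : Type w} {V : Subgroup G} {R : ι → Subgroup G} {i j : ι}

/-- `⟨(U j)^{N(R i)}⟩` -/
def NU (V : Subgroup G) (R : ι → Subgroup G) (i j : ι) : Subgroup G :=
  ⨆ h : normalizer (R i : Set G), cj (h : G) (UU V R j)

theorem U_le_NU : UU V R j ≤ NU V R i j := by
  have h1 := le_iSup (fun h : normalizer (R i : Set G) => cj (h : G) (UU V R j)) 1
  have h2 : cj ((1 : normalizer (R i : Set G)) : G) (UU V R j) = UU V R j := cj_one _
  rw [h2] at h1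
  exact h1

theorem NU_conj {g : G} (hg : g ∈ normalizer (R i : Set G)) : ∀ x ∈ NU V R i j, g * x * g⁻¹ ∈ NU V R i j := by
  intro x hx
  have h1 : cj g (NU V R i j) ≤ NU V R i j := by
    rw [NU, cj_iSup]
    refine iSup_le fun h => ?_
    rw [← cj_mul]
    exact le_iSup (fun h : normalizer (R i : Set G) => cj (h : G) (UU V R j)) (⟨g, hg⟩ * h)
  exact h1 (conj_mem_cj hx)

theorem NU_le_N (b : BT V R) : NU V R i j ≤ normalizer (R i : Set G) := by
  refine iSup_le fun h => ?_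
  rw [cj_le_iff]
  intro x hx
  exact mul_mem (mul_mem h.2 (U_le_N b i j hx)) (inv_mem h.2)

theorem normalClosure_AA_le (b : BT V R) :
    normalClosure (AA V R i j : Set (HQ (R i))) ≤ im (R i) (NU V R i j) := by
  have h1 : (im (R i) (NU V R i j)).Normal := im_normal fun _ hg => NU_conj hg
  refine normalClosure_le_normal ?_
  exact fun x hx => im_mono (U_le_NU (i := i)) hx

/-- from `H` to `G` -/
theorem le_of_AA_le (b : BT V R)
    (h : AA V R i j ≤ ⁅normalClosure (AA V R i j : Set (HQ (R i))), normalClosure (AA V R i j : Set (HQ (R i)))⁆) :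
    UU V R j ≤ ⁅NU V R i j, NU V R i j⁆ ⊔ QQ (R i) := by
  intro u hu
  have h1 : pr (R i) ⟨u, U_le_N b i j hu⟩ ∈ AA V R i j := (mem_AA b).2 ⟨u, hu, rfl⟩
  have h2 := commutator_im_le (NU_le_N b) (NU_le_N b)
    (commutator_mono (normalClosure_AA_le b) (normalClosure_AA_le b) (h h1))
  obtain ⟨g, hg, hgN, e⟩ := mem_im.1 h2
  have h3 := (pr_eq_pr _ _).1 e
  have e2 : u = g * (g⁻¹ * u) := by group
  rw [e2]
  exact mul_mem (mem_sup_left hgN) (mem_sup_right h3)

/-- the odd part -/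
def OddC (V : Subgroup G) (R : ι → Subgroup G) (i j : ι) : Prop :=
  ∀ N : Subgroup (HQ (R i)), N.Normal → N ≤ H0 R i → Group.IsNilpotent N → Odd (Nat.card N) →
    ∀ x ∈ N, ∀ a ∈ AA V R i j, a * x = x * a

/-- the components -/
def InnC (V : Subgroup G) (R : ι → Subgroup G) (i j : ι) : Prop :=
  ∀ K : Subgroup (HQ (R i)), IsComponent K → K ≤ H0 R i → InnA (AA V R i j) K

theorem A_le_H0 (b : BT V R) : AA V R i j ≤ H0 R i :=
  im_mono ((UU_le_cen j).trans (centralizer_le (b.R_le i)))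

/-- `A ≤ ∏ (A ⊓ K)` in `H` -/
theorem A_le_iSup [Finite G] (b : BT V R) (hij : i ≠ j) (hodd : OddC V R i j) (hinn : InnC V R i j) :
    AA V R i j ≤ ⨆ K ∈ {K : Subgroup (HQ (R i)) | Cps (H0 R i) K}, AA V R i j ⊓ K :=
  le_iSup_inf (pCore_HQ (R i)) (H0_normal R i) (A_le_H0 b) (fun _ ha => A_sq b hij ha) hodd hinn

/-- **`U j ≤ [N, N] Q i`** -/
theorem perf_of [Finite G] (b : BT V R) (hij : i ≠ j) (hodd : OddC V R i j) (hinn : InnC V R i j) :
    UU V R j ≤ ⁅NU V R i j, NU V R i j⁆ ⊔ QQ (R i) :=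
  le_of_AA_le b (le_commutator (pCore_HQ (R i)) (H0_normal R i) (A_le_H0 b) (fun _ ha => A_sq b hij ha) hodd hinn)

end Cfsg.Agent.Omega.Lie.Layer
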