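import Cfsg.Agent.Omega.BTwo.Cen

/-!
# NODE LIE: the torus of a natural line (`#10745` (A2), (A3), `#11263` (0)), interface

`V` natural, points `R k`, coordinates `v b c` of `V` with `R i = {v b 0}`, `R j = {v 0 c}`; `t : Fˣ → X`
(written as a function on `F`, only used at nonzero arguments) multiplicative, of odd order, acting with
weights `1, -1` on `R i, R j`, `0` on `D/V` (automatic), `1, -1` on `U i/D, U j/D`, `2` on `W i/U i`.
-/

set_option autoImplicit false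

namespace Cfsg.Agent.Omega.Lie

open Subgroup Cfsg.Agent.Omega.BTwo

variable {G : Type*} [Group G] {ι : Type*} {F : Type*} [Field F]

/-- the torus data -/
structure TorD (V : Subgroup G) (R : ι → Subgroup G) (i j : ι) (v : F → F → G) (t : F → G) : Prop where
  ne : i ≠ j
  v_add : ∀ b c b' c', v (b + b') (c + c') = v b c * v b' c'
  v_inj : ∀ b c, v b c = 1 → b = 0 ∧ c = 0
  v_mem : ∀ g, g ∈ V ↔ ∃ b c, v b c = g
  Ri : ∀ g, g ∈ R i ↔ ∃ b, v b 0 = g
  Rj : ∀ g, g ∈ R j ↔ ∃ c, v 0 c = g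
  one : t 1 = 1
  mul : ∀ a b, a ≠ 0 → b ≠ 0 → t (a * b) = t a * t b
  memX : ∀ a, a ≠ 0 → t a ∈ XX V R
  odd : ∀ a, a ≠ 0 → Odd (orderOf (t a))
  act : ∀ a b c, a ≠ 0 → t a * v b c * (t a)⁻¹ = v (a * b) (a⁻¹ * c)
  /-- weight `1` on `U i / D` -/
  wU : ∀ a b, a ≠ 0 → b ≠ 0 → a + b ≠ 0 → ∀ u ∈ UU V R i,
    t (a + b) * u * (t (a + b))⁻¹ * (t a * u * (t a)⁻¹ * (t b * u * (t b)⁻¹))⁻¹ ∈ DD V R
  /-- weight `-1` on `U j / D` -/
  wU' : ∀ a b, a ≠ 0 → b ≠ 0 → a + b ≠ 0 → ∀ u ∈ UU V R j,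
    (t (a + b))⁻¹ * u * t (a + b) * ((t a)⁻¹ * u * t a * ((t b)⁻¹ * u * t b))⁻¹ ∈ DD V R
  /-- weight `2` on `W i / U i` -/
  wW : ∀ a b, a ≠ 0 → b ≠ 0 → a + b ≠ 0 → ∀ w ∈ WW V (R i),
    t (a + b) * w * (t (a + b))⁻¹ * (t a * w * (t a)⁻¹ * (t b * w * (t b)⁻¹))⁻¹ ∈ UU V R i
  /-- weight `-2` on `W j / U j` -/
  wW' : ∀ a b, a ≠ 0 → b ≠ 0 → a + b ≠ 0 → ∀ w ∈ WW V (R j),
    (t (a + b))⁻¹ * w * t (a + b) * ((t a)⁻¹ * w * t a * ((t b)⁻¹ * w * t b))⁻¹ ∈ UU V R j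

namespace TorD

variable {V : Subgroup G} {R : ι → Subgroup G} {i j : ι} {v : F → F → G} {t : F → G}

theorem inv (τ : TorD V R i j v t) {a : F} (ha : a ≠ 0) : t a⁻¹ = (t a)⁻¹ := by
  have h := τ.mul a a⁻¹ ha (inv_ne_zero ha)
  rw [mul_inv_cancel₀ ha, τ.one] at h
  exact eq_inv_of_mul_eq_one_right h.symm

theorem comm (τ : TorD V R i j v t) {a b : F} (ha : a ≠ 0) (hb : b ≠ 0) : t a * t b = t b * t a := by
  rw [← τ.mul a b ha hb, mul_comm, τ.mul b a hb ha]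

theorem normR (τ : TorD V R i j v t) {a : F} (ha : a ≠ 0) : t a ∈ normalizer (R i : Set G) := by
  have h : ∀ a : F, a ≠ 0 → ∀ g ∈ R i, t a * g * (t a)⁻¹ ∈ R i := by
    intro a ha g hg
    obtain ⟨b, rfl⟩ := (τ.Ri g).1 hg
    rw [τ.act a b 0 ha, mul_zero]
    exact (τ.Ri _).2 ⟨_, rfl⟩
  rw [mem_normalizer_iff]
  intro g
  refine ⟨h a ha g, fun hg => ?_⟩
  have := h a⁻¹ (inv_ne_zero ha) _ hg
  rw [τ.inv ha, inv_inv] at this
  rwa [show (t a)⁻¹ * (t a * g * (t a)⁻¹) * t a = g by group] at this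

theorem normR' (τ : TorD V R i j v t) {a : F} (ha : a ≠ 0) : t a ∈ normalizer (R j : Set G) := by
  have h : ∀ a : F, a ≠ 0 → ∀ g ∈ R j, t a * g * (t a)⁻¹ ∈ R j := by
    intro a ha g hg
    obtain ⟨b, rfl⟩ := (τ.Rj g).1 hg
    rw [τ.act a 0 b ha, mul_zero]
    exact (τ.Rj _).2 ⟨_, rfl⟩
  rw [mem_normalizer_iff]
  intro g
  refine ⟨h a ha g, fun hg => ?_⟩
  have := h a⁻¹ (inv_ne_zero ha) _ hg
  rw [τ.inv ha, inv_inv] at this
  rwa [show (t a)⁻¹ * (t a * g * (t a)⁻¹) * t a = g by group] at this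

/-- `T` as a subgroup -/
def grp (τ : TorD V R i j v t) : Subgroup G where
  carrier := {g | ∃ a, a ≠ 0 ∧ t a = g}
  one_mem' := ⟨1, one_ne_zero, τ.one⟩
  mul_mem' := by
    rintro _ _ ⟨a, ha, rfl⟩ ⟨b, hb, rfl⟩
    exact ⟨a * b, mul_ne_zero ha hb, τ.mul a b ha hb⟩
  inv_mem' := by
    rintro _ ⟨a, ha, rfl⟩
    exact ⟨a⁻¹, inv_ne_zero ha, τ.inv ha⟩

/-- fixed-point-free on `V`: an element of `V` fixed by one `t a`, `a ≠ 0, 1`, is trivial -/
theorem fpf_V (τ : TorD V R i j v t) {a : F} (ha : a ≠ 0) (ha1 : a ≠ 1) {g : G} (hg : g ∈ V)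
    (h : t a * g * (t a)⁻¹ = g) : g = 1 := by
  obtain ⟨b, c, rfl⟩ := (τ.v_mem g).1 hg
  rw [τ.act a b c ha] at h
  have h1 : v (a * b - b) (a⁻¹ * c - c) = 1 := by
    have h2 := τ.v_add (a * b - b) (a⁻¹ * c - c) b c
    rw [sub_add_cancel, sub_add_cancel, h] at h2
    exact right_eq_mul.mp h2
  obtain ⟨h2, h3⟩ := τ.v_inj _ _ h1
  have hb : b = 0 := by
    have : (a - 1) * b = 0 := by rw [← h2]; ring
    exact (mul_eq_zero.1 this).resolve_left (sub_ne_zero.2 ha1)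
  have hc : c = 0 := by
    have : (a⁻¹ - 1) * c = 0 := by rw [← h3]; ring
    refine (mul_eq_zero.1 this).resolve_left (sub_ne_zero.2 fun h4 => ha1 ?_)
    rw [← inv_inv a, h4, inv_one]
  rw [hb, hc]
  have h4 := τ.v_add 0 0 0 0
  rw [add_zero] at h4
  exact left_eq_mul.1 h4

end TorD

/-- the field of order at least 8 has an element outside `F_4` -/
theorem exists_outside {F : Type*} [Field F] [Finite F] (h : 5 ≤ Nat.card F) :
    ∃ a : F, a ≠ 0 ∧ a ≠ 1 ∧ a * a + a + 1 ≠ 0 := by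
  classical
  have := Fintype.ofFinite F
  by_contra hcon
  push Not at hcon
  let p : Polynomial F := Polynomial.X * (Polynomial.X - 1) *
    (Polynomial.X * Polynomial.X + Polynomial.X + 1)
  have hp : p ≠ 0 := by
    intro h0
    have hd : p.natDegree = 4 := by
      dsimp only [p]
      compute_degree!
    rw [h0] at hd
    simp at hd
  have hroot : ∀ a : F, p.eval a = 0 := by
    intro a
    simp only [p, Polynomial.eval_mul, Polynomial.eval_X, Polynomial.eval_sub, Polynomial.eval_one,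
      Polynomial.eval_add]
    by_cases h0 : a = 0
    · rw [h0]; ring
    by_cases h1 : a = 1
    · rw [h1]; ring
    · rw [hcon a h0 h1, mul_zero]
  have h1 : Nat.card F ≤ p.natDegree := by
    rw [Nat.card_eq_fintype_card, ← Finset.card_univ]
    calc (Finset.univ : Finset F).card ≤ p.roots.toFinset.card := by
          apply Finset.card_le_card
          intro a _
          rw [Multiset.mem_toFinset, Polynomial.mem_roots hp]
          exact hroot a
      _ ≤ Multiset.card p.roots := Multiset.toFinset_card_le _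
      _ ≤ p.natDegree := Polynomial.card_roots' p
  have hd : p.natDegree ≤ 4 := by
    dsimp only [p]
    compute_degree
  omega

end Cfsg.Agent.Omega.Lie
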