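import Cfsg.Agent.Omega.Lie.TorS
import Cfsg.Agent.Omega.BTwo.CoordNat

/-!
# NODE LIE: the torus on helper627's `Coord`
-/

set_option autoImplicit false
set_option linter.unusedSectionVars false

namespace Cfsg.Agent.Omega.Lie

open Subgroup Cfsg.Agent.Omega.BTwo

universe u v w

variable {G : Type u} [Group G] {ι : Type w} {F : Type v} [Field F]
  {V : Subgroup G} {R : ι → Subgroup G} {i j : ι} {v : F → F → G} {w1 w2 : F → G}

theorem Crd.of_coord (c : Coord V R i j v w1 w2) : Crd V R i j v w1 w2 where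
  ne := c.ne
  v_add := c.v_add
  v_inj := c.v_one
  v_mem := c.mem_V
  Ri := c.mem_R1
  Rj := c.mem_R2
  W1 := c.w1_mem
  W2 := c.w2_mem
  a1 := c.w1_act
  a2 := c.w2_act
  f1 := c.W1_act
  f2 := c.W2_act

theorem Crd.to_coord (c : Crd V R i j v w1 w2) : Coord V R i j v w1 w2 where
  ne := c.ne
  v_add := c.v_add
  v_one := c.v_inj
  mem_V := c.v_mem
  mem_R1 := c.Ri
  mem_R2 := c.Rj
  w1_mem := c.W1
  w2_mem := c.W2
  w1_act := c.a1
  w2_act := c.a2
  W1_act := c.f1
  W2_act := c.f2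

/-- **existence of the torus** from coordinates; `C(W i)` a 2-group (for `BTC`, `BTS`, `BTH`:
`cen_W_isPGroup`) -/
theorem coord_exists_torD [Finite G] [Finite F] [CharP F 2] (b : BT V R) (c : Coord V R i j v w1 w2)
    (hp : IsPGroup 2 (centralizer (WW V (R i) : Set G))) : ∃ t : F → G, TorD V R i j v t := by
  obtain ⟨M, _, _, p1, p2, y⟩ := c.exists_yMod b
  exact exists_torD' b (Crd.of_coord c) y hp

/-- `C_X(V)` is a 2-group -/
theorem coord_cen_X_V_isPGroup [Finite G] [Finite F] [CharP F 2] (b : BT V R)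
    (c : Coord V R i j v w1 w2) (hp : IsPGroup 2 (centralizer (WW V (R i) : Set G))) :
    IsPGroup 2 (XX V R ⊓ centralizer (V : Set G) : Subgroup G) := by
  obtain ⟨M, _, _, p1, p2, y⟩ := c.exists_yMod b
  exact cen_X_V_isPGroup' b (Crd.of_coord c) y hp

end Cfsg.Agent.Omega.Lie
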