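import Cfsg.Agent.Omega.Lie.HeisCover
import Cfsg.Agent.Lib.ElemAbGL

/-!
# Degree bounds from the order of `GL(n, 2)`

`LB.of_dvd`: if `K` is simple, `d` divides `|K|` and `d` does not divide `|GL(n, 2)|` for `n < m`, then `LB K m`.
-/

set_option autoImplicit false

namespace Cfsg.Agent.Omega.Lie.GLBound

open Cfsg.Agent.Omega.Lie.Heis

universe u v w

variable {K : Type u} [Group K]

/-- An irreducible abelian 2-group is elementary. -/
theorem sq_eq_one {L : Type v} [Group L] {V : Type w} [CommGroup V] [Finite V] (h2 : IsPGroup 2 V)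
    {φ : L →* MulAut V} (hi : Irr φ) (x : V) : x ^ 2 = 1 := by
  let U : Subgroup V :=
    { carrier := {x | x ^ 2 = 1}
      one_mem' := one_pow _
      mul_mem' := fun {a b} ha hb => by
        change (a * b) ^ 2 = 1
        rw [mul_pow, show a ^ 2 = 1 from ha, show b ^ 2 = 1 from hb, one_mul]
      inv_mem' := fun {a} ha => by
        change a⁻¹ ^ 2 = 1
        rw [inv_pow, show a ^ 2 = 1 from ha, inv_one] }
  have hU : ∀ g, ∀ x ∈ U, φ g x ∈ U := by
    intro g x hx
    change (φ g x) ^ 2 = 1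
    rw [← map_pow, show x ^ 2 = 1 from hx, map_one]
  rcases hi U hU with h | h
  · -- no involutions
    by_contra hx
    obtain ⟨k, hk⟩ := h2 x
    classical
    have hex : ∃ k : ℕ, x ^ 2 ^ k = 1 := ⟨k, hk⟩
    have h1 := Nat.find_spec hex
    obtain ⟨l, hl⟩ : ∃ l, Nat.find hex = l + 1 := by
      refine ⟨Nat.find hex - 1, ?_⟩
      have : Nat.find hex ≠ 0 := by
        intro h0
        rw [h0, pow_zero, pow_one] at h1
        exact hx (by rw [h1, one_pow])
      omega
    have h3 : x ^ 2 ^ l ∈ U := by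
      change (x ^ 2 ^ l) ^ 2 = 1
      rw [← pow_mul, ← pow_succ, ← hl]
      exact h1
    rw [h] at h3
    exact Nat.find_min hex (by omega) (Subgroup.mem_bot.1 h3)
  · have : x ∈ U := h ▸ Subgroup.mem_top x
    exact this

/-- **Bound from the order of `GL(n, 2)`.** -/
theorem LB.of_dvd [IsSimpleGroup K] {d m : ℕ} (hd : d ∣ Nat.card K)
    (h : ∀ n < m, ¬ d ∣ Nat.card (Matrix.GeneralLinearGroup (Fin n) (ZMod 2))) : LB.{u, v, w} K m := by
  refine LB.of_irr ?_
  intro L _ _ π hπ hc ho hL V _ _ h2 φ hφ hi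
  by_contra hlt
  push Not at hlt
  have : Fact (Nat.Prime 2) := ⟨Nat.prime_two⟩
  obtain ⟨n, hn⟩ := IsPGroup.iff_card.1 h2
  have hnm : n < m := by
    rw [hn] at hlt
    exact (Nat.pow_lt_pow_iff_right (by norm_num)).1 hlt
  obtain ⟨e⟩ := Cfsg.Agent.Lib.ElemAbGL.mulAut_equiv_GL (V := V) 2 n (sq_eq_one h2 hi) hn
  apply h n hnm
  rw [← Nat.card_congr e.toEquiv]
  refine hd.trans ((Subgroup.card_dvd_of_surjective π hπ).trans ?_)
  exact Subgroup.card_dvd_of_injective φ hφ

end Cfsg.Agent.Omega.Lie.GLBound
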