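import Cfsg.Agent.Omega.Lie.PairFact
import Cfsg.Agent.Omega.Lie.GLBound
import Cfsg.Agent.S1157
import Cfsg.Agent.S1073
import Cfsg.Agent.S1069

/-!
# K-facts (PAIR) and (ORD) for the small Ree groups (text #12707)

`pair : IsoRee K → Pair K`, `lb : IsoRee K → LB K 13` (from `3⁹ ∣ |K|`, `|GL(12, 2)|₃ = 3⁸`).
-/

set_option autoImplicit false

namespace Cfsg.Agent.Omega.Lie.PairRee

open Subgroup Cfsg.Agent.Omega.Lie.PairFact Cfsg.Agent.LieRecognition
open Cfsg.Agent.Omega.Lie.Heis (LB)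
open Matrix

universe u v w

theorem field_cond {F : Type*} [Field F] [Finite F] (hF : 4 ≤ Nat.card F) :
    ∃ a : F, a ≠ 0 ∧ a ^ 2 ≠ 1 := by
  obtain ⟨x, hx⟩ : IsCyclic Fˣ := by infer_instance
  refine ⟨x, Units.ne_zero x, fun h ↦ ?_⟩
  grw [Nat.card_eq_card_units_add_one F, ← orderOf_eq_card_of_forall_mem_zpowers hx,
    orderOf_le_of_pow_eq_one zero_lt_two (Units.ext <| by simpa using h)] at hF
  omega

/-- `PSL(2, F)`, `|F| ≥ 4`: perfect, not a 2-group, trivial center. -/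
theorem psl_facts {F : Type*} [Field F] [Finite F] (hF : 4 ≤ Nat.card F) :
    IsSimpleGroup (ProjectiveSpecialLinearGroup (Fin 2) F) ∧
      center (ProjectiveSpecialLinearGroup (Fin 2) F) = ⊥ ∧
      ¬ IsPGroup 2 (ProjectiveSpecialLinearGroup (Fin 2) F) := by
  have hs : IsSimpleGroup (ProjectiveSpecialLinearGroup (Fin 2) F) :=
    ProjectiveSpecialLinearGroup.rank_two_simple hF
  have hfin : Finite (ProjectiveSpecialLinearGroup (Fin 2) F) := inferInstance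
  have hperf : commutator (ProjectiveSpecialLinearGroup (Fin 2) F) = ⊤ :=
    SL2Simple.PSL_commutator_eq_top (field_cond hF)
  have hp2 : ¬ IsPGroup 2 (ProjectiveSpecialLinearGroup (Fin 2) F) := by
    intro h2
    have : Fact (Nat.Prime 2) := ⟨Nat.prime_two⟩
    have h1 : Group.IsNilpotent (ProjectiveSpecialLinearGroup (Fin 2) F) := h2.isNilpotent
    have h3 : Group.IsSolvable (ProjectiveSpecialLinearGroup (Fin 2) F) := inferInstance
    have h4 := Group.IsSolvable.commutator_lt_top_of_nontrivial (ProjectiveSpecialLinearGroup (Fin 2) F)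
    rw [hperf] at h4
    exact lt_irrefl _ h4
  refine ⟨hs, center_eq_bot fun h => ?_, hp2⟩
  have h5 : Group.IsSolvable (ProjectiveSpecialLinearGroup (Fin 2) F) :=
    Group.isSolvable_of_comm h.is_comm.comm
  have h4 := Group.IsSolvable.commutator_lt_top_of_nontrivial (ProjectiveSpecialLinearGroup (Fin 2) F)
  rw [hperf] at h4
  exact lt_irrefl _ h4

theorem card_ge {m : ℕ} (hm : 1 ≤ m) : 27 ≤ 3 ^ (2 * m + 1) := by
  calc 27 = 3 ^ 3 := by norm_num
    _ ≤ 3 ^ (2 * m + 1) := Nat.pow_le_pow_right (by norm_num) (by omega)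

theorem finite_ree {F : Type*} [Field F] [Fintype F] {m : ℕ} (hm : 1 ≤ m)
    (hF : Fintype.card F = 3 ^ (2 * m + 1)) : Finite ↥(Cfsg.Lie.twistedG2 F (3 ^ m)) := by
  apply Nat.finite_of_card_ne_zero
  rw [Cfsg.Agent.S1069.result hF]
  have := card_ge hm
  have h1 : 3 ^ (2 * m + 1) - 1 ≠ 0 := by omega
  positivity

/-- **(PAIR) for `²G₂(3^(2m+1))`, `m ≥ 1`.** -/
theorem pair_ree {F : Type*} [Field F] [Fintype F] {m : ℕ} (hm : 1 ≤ m)
    (hF : Fintype.card F = 3 ^ (2 * m + 1)) : Pair ↥(Cfsg.Lie.twistedG2 F (3 ^ m)) := by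
  have hfin := finite_ree hm hF
  have hchar := Cfsg.Agent.S1157.charP_three hF
  obtain ⟨a, haH, ha1, ha2⟩ := Cfsg.Agent.S1157.exists_involution hF
  obtain ⟨⟨e⟩, hS⟩ := Cfsg.Agent.S1152.result hF a haH ha1 ha2
  have hc := ReeCent.centData ha1 ha2 e ReePSL.klein
  have hF4 : 4 ≤ Nat.card F := by
    rw [Nat.card_eq_fintype_card, hF]
    have := card_ge hm
    omega
  obtain ⟨hs, hcen, hp⟩ := psl_facts hF4
  have hA : PairAt a := PairAt.of_prod ha1 e hcen (Inv.of_simple hp)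
  refine Pair.of_conj fun b hb hb1 => ?_
  obtain ⟨g, hg⟩ := ReeInv.isConj_involution hc ReePSL.klein (Cfsg.Agent.S1116.result hF hm) hS hb1 hb
  refine ⟨g⁻¹, a, ?_, hA⟩
  rw [← hg]
  group

theorem pair {K : Type*} [Group K] (h : Cfsg.Lie.IsoRee K) : Pair K := by
  obtain ⟨F, _, _, m, hm, hF, ⟨e⟩⟩ := h
  exact (pair_ree hm hF).congr e.symm

/-- `3⁹` does not divide `|GL(n, 2)|`, `n ≤ 12`. -/
theorem not_dvd_GL (n : ℕ) (hn : n < 13) :
    ¬ 3 ^ 9 ∣ Nat.card (Matrix.GeneralLinearGroup (Fin n) (ZMod 2)) := by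
  rw [Matrix.card_GL_field, ZMod.card]
  interval_cases n <;> simp [Fin.prod_univ_succ]

/-- **(ORD) for `²G₂(3^(2m+1))`, `m ≥ 1`.** -/
theorem lb {K : Type u} [Group K] (h : Cfsg.Lie.IsoRee K) : LB.{u, v, w} K 13 := by
  obtain ⟨F, _, _, m, hm, hF, ⟨e⟩⟩ := h
  have hs : IsSimpleGroup ↥(Cfsg.Lie.twistedG2 F (3 ^ m)) := (Cfsg.Agent.S1073.result hm hF).1
  refine LB.congr ?_ e.symm
  refine GLBound.LB.of_dvd (d := 3 ^ 9) ?_ not_dvd_GL
  rw [Cfsg.Agent.S1069.result hF, ← pow_mul, mul_assoc]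
  exact Dvd.dvd.mul_right (pow_dvd_pow 3 (by omega)) _

end Cfsg.Agent.Omega.Lie.PairRee
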