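import Mathlib

/-!
# Heisenberg groups over a field: the configuration

`z : F → G`, `x i, y i : F → G` additive, `z` central, `y i t * x i s * (y i t)⁻¹ = x i s * z (s * t)`, all other
pairs `x, x` and `y, x` commute.
-/

set_option autoImplicit false
set_option linter.dupNamespace false

namespace Cfsg.Agent.Omega.Lie.FHeis

/-- A Heisenberg configuration over the field `F`. -/
structure FHeis {F : Type*} [Field F] {ι : Type*} {G : Type*} [Group G] (z : F → G) (x y : ι → F → G) :
    Prop where
  z_add : ∀ s t, z (s + t) = z s * z t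
  x_add : ∀ i s t, x i (s + t) = x i s * x i t
  y_add : ∀ i s t, y i (s + t) = y i s * y i t
  zx : ∀ i s t, z s * x i t = x i t * z s
  zy : ∀ i s t, z s * y i t = y i t * z s
  xx : ∀ i j s t, i ≠ j → x i s * x j t = x j t * x i s
  yx : ∀ i j s t, i ≠ j → y i t * x j s = x j s * y i t
  conj : ∀ i s t, y i t * x i s * (y i t)⁻¹ = x i s * z (s * t)

variable {F : Type*} [Field F] {ι : Type*} {G : Type*} [Group G] {z : F → G} {x y : ι → F → G}

theorem add_zero' {f : F → G} (h : ∀ s t, f (s + t) = f s * f t) : f 0 = 1 := by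
  have := h 0 0
  rw [add_zero] at this
  exact left_eq_mul.1 this

theorem add_neg' {f : F → G} (h : ∀ s t, f (s + t) = f s * f t) (s : F) : f (-s) = (f s)⁻¹ := by
  have := h s (-s)
  rw [add_neg_cancel, add_zero' h] at this
  exact eq_inv_of_mul_eq_one_right this.symm

theorem add_comm' {f : F → G} (h : ∀ s t, f (s + t) = f s * f t) (s t : F) : f s * f t = f t * f s := by
  rw [← h, add_comm, h]

theorem add_pow' {f : F → G} (h : ∀ s t, f (s + t) = f s * f t) (s : F) (n : ℕ) : f s ^ n = f (n * s) := by
  induction n with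
  | zero => rw [pow_zero, Nat.cast_zero, zero_mul, add_zero' h]
  | succ n ih => rw [pow_succ, ih, ← h]; congr 1; push_cast; ring

theorem add_pow_char {f : F → G} (h : ∀ s t, f (s + t) = f s * f t) {p : ℕ} [CharP F p] (s : F) : f s ^ p = 1 := by
  rw [add_pow' h, CharP.cast_eq_zero, zero_mul, add_zero' h]

/-- A homomorphism maps configurations to configurations. -/
theorem FHeis.map {H : Type*} [Group H] (h : FHeis z x y) (f : G →* H) :
    FHeis (fun s => f (z s)) (fun i s => f (x i s)) (fun i s => f (y i s)) where
  z_add s t := by rw [h.z_add, map_mul]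
  x_add i s t := by rw [h.x_add, map_mul]
  y_add i s t := by rw [h.y_add, map_mul]
  zx i s t := by rw [← map_mul, h.zx, map_mul]
  zy i s t := by rw [← map_mul, h.zy, map_mul]
  xx i j s t hij := by rw [← map_mul, h.xx i j s t hij, map_mul]
  yx i j s t hij := by rw [← map_mul, h.yx i j s t hij, map_mul]
  conj i s t := by rw [← map_inv, ← map_mul, ← map_mul, h.conj, map_mul]

end Cfsg.Agent.Omega.Lie.FHeis
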