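import Cfsg.Agent.Omega.Lie.HeisCover
import Cfsg.Agent.Omega.Lie.FHeis

/-!
# Lifting Heisenberg configurations over a field to odd central extensions

`π : L → K` onto with central kernel of odd order (possibly divisible by the characteristic).
If the configuration `FHeis z x y` in `K` is accompanied by an element `g` inverting all `x i s, y i s`, by tori,
by elements permuting the pairs and by separating elements (`Force`), then it lifts to `L` (`lift`).
-/

set_option autoImplicit false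
set_option linter.dupNamespace false

universe u v w

namespace Cfsg.Agent.Omega.Lie.HeisLift

open Cfsg.Agent.Omega.Lie.FHeis

section lifts

variable {L : Type v} {K : Type u} [Group L] [Group K] {π : L →* K}

theorem mem_center (hc : π.ker ≤ Subgroup.center L) {c : L} (h : π c = 1) (x : L) : x * c = c * x :=
  Subgroup.mem_center_iff.1 (hc (MonoidHom.mem_ker.2 h)) x

theorem exists_mul (hc : π.ker ≤ Subgroup.center L) {a b : L} (h : π a = π b) :
    ∃ c, π c = 1 ∧ (∀ x : L, x * c = c * x) ∧ a = b * c :=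
  ⟨b⁻¹ * a, by rw [map_mul, map_inv, h, inv_mul_cancel],
    mem_center hc (by rw [map_mul, map_inv, h, inv_mul_cancel]), by group⟩

theorem pow_card (c : L) (h : π c = 1) : c ^ Nat.card π.ker = 1 := by
  have := pow_card_eq_one' (x := (⟨c, MonoidHom.mem_ker.2 h⟩ : π.ker))
  exact congrArg Subtype.val this

theorem eq_one_of_sq (ho : Odd (Nat.card π.ker)) {c : L} (h : π c = 1) (h2 : c * c = 1) : c = 1 := by
  obtain ⟨m, hm⟩ := ho
  have h3 := pow_card c h
  rw [hm, pow_succ, pow_mul, pow_two, h2, one_pow, one_mul] at h3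
  exact h3

theorem inv_lift_unique (hc : π.ker ≤ Subgroup.center L) (ho : Odd (Nat.card π.ker)) {g a b : L}
    (ha : g * a * g⁻¹ = a⁻¹) (hb : g * b * g⁻¹ = b⁻¹) (h : π a = π b) : a = b := by
  obtain ⟨c, hc1, hcc, rfl⟩ := exists_mul hc h
  have h1 : g * (b * c) * g⁻¹ = b⁻¹ * c := by
    calc g * (b * c) * g⁻¹ = g * b * (c * g⁻¹) := by group
      _ = g * b * (g⁻¹ * c) := by rw [hcc]
      _ = g * b * g⁻¹ * c := by group
      _ = b⁻¹ * c := by rw [hb]
  rw [h1, mul_inv_rev, hcc] at ha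
  have h2 : c = c⁻¹ := mul_right_cancel ha
  have h3 : c = 1 := eq_one_of_sq ho hc1 (by nth_rw 1 [h2]; exact inv_mul_cancel c)
  rw [h3, mul_one]

theorem exists_inv_lift (hπ : Function.Surjective π) (hc : π.ker ≤ Subgroup.center L)
    (ho : Odd (Nat.card π.ker)) {g : L} {k : K} (h : π g * k * (π g)⁻¹ = k⁻¹) :
    ∃ a : L, π a = k ∧ g * a * g⁻¹ = a⁻¹ := by
  obtain ⟨a, rfl⟩ := hπ k
  obtain ⟨m, hm⟩ := ho
  set c := g * a * g⁻¹ * a with hcd
  have hc1 : π c = 1 := by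
    rw [hcd, map_mul, map_mul, map_mul, map_inv, h, inv_mul_cancel]
  have hcc := mem_center hc hc1
  have hk : π (c ^ m) = 1 := by rw [map_pow, hc1, one_pow]
  have hcm := mem_center hc hk
  refine ⟨a * c ^ m, by rw [map_mul, hk, mul_one], ?_⟩
  have h3 := pow_card c hc1
  rw [hm] at h3
  have h1 : g * a * g⁻¹ = c * a⁻¹ := by rw [hcd]; group
  have h2 : g * (a * c ^ m) * g⁻¹ = c * a⁻¹ * c ^ m := by
    calc g * (a * c ^ m) * g⁻¹ = g * a * (c ^ m * g⁻¹) := by group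
      _ = g * a * (g⁻¹ * c ^ m) := by rw [hcm]
      _ = g * a * g⁻¹ * c ^ m := by group
      _ = c * a⁻¹ * c ^ m := by rw [h1]
  rw [h2, eq_inv_iff_mul_eq_one]
  calc c * a⁻¹ * c ^ m * (a * c ^ m) = c * a⁻¹ * (c ^ m * a) * c ^ m := by group
    _ = c * a⁻¹ * (a * c ^ m) * c ^ m := by rw [hcm a]
    _ = c ^ (2 * m + 1) := by group
    _ = 1 := h3

theorem conj_inv (hc : π.ker ≤ Subgroup.center L) {g a y : L} (ha : g * a * g⁻¹ = a⁻¹)
    (h2 : π y * π g = π g * π y) : g * (y * a * y⁻¹) * g⁻¹ = (y * a * y⁻¹)⁻¹ := by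
  have h3 : π (g * y) = π (y * g) := by rw [map_mul, map_mul, h2]
  obtain ⟨c, -, hcc, h4⟩ := exists_mul hc h3
  calc g * (y * a * y⁻¹) * g⁻¹ = (g * y) * a * (g * y)⁻¹ := by group
    _ = (y * g) * (c * a) * c⁻¹ * (y * g)⁻¹ := by rw [h4]; group
    _ = (y * g) * (a * c) * c⁻¹ * (y * g)⁻¹ := by rw [hcc]
    _ = y * (g * a * g⁻¹) * y⁻¹ := by group
    _ = (y * a * y⁻¹)⁻¹ := by rw [ha]; group

theorem comm_of_inv (hc : π.ker ≤ Subgroup.center L) (ho : Odd (Nat.card π.ker)) {g a y : L}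
    (ha : g * a * g⁻¹ = a⁻¹) (h1 : π y * π a = π a * π y) (h2 : π y * π g = π g * π y) : y * a = a * y := by
  have h3 : y * a * y⁻¹ = a := inv_lift_unique hc ho (conj_inv hc ha h2) ha (by
    rw [map_mul, map_mul, map_inv, h1, mul_inv_cancel_right])
  calc y * a = y * a * y⁻¹ * y := by group
    _ = a * y := by rw [h3]

theorem comm_of_sep (hπ : Function.Surjective π) (hc : π.ker ≤ Subgroup.center L)
    (ho : Odd (Nat.card π.ker)) {a b : L} {h : K} (h1 : π a * π b = π b * π a)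
    (h2 : h * π a * h⁻¹ = (π a)⁻¹) (h3 : h * π b = π b * h) : a * b = b * a := by
  obtain ⟨h', rfl⟩ := hπ h
  obtain ⟨a', ha', ha''⟩ := exists_inv_lift hπ hc ho h2
  obtain ⟨c, -, hcc, rfl⟩ := exists_mul hc ha'.symm
  have h4 : b * a' = a' * b := comm_of_inv hc ho ha'' (by rw [ha']; exact h1.symm) h3.symm
  calc a' * c * b = a' * (c * b) := by group
    _ = a' * (b * c) := by rw [hcc]
    _ = (a' * b) * c := by group
    _ = b * (a' * c) := by rw [← h4]; group

theorem comm_of_coprime (hc : π.ker ≤ Subgroup.center L) {a b : L} {m n : ℕ} (h : π a * π b = π b * π a)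
    (ha : π a ^ m = 1) (hb : π b ^ n = 1) (hmn : Nat.Coprime m n) : a * b = b * a := by
  have h0 : π (a * b * a⁻¹) = π b := by rw [map_mul, map_mul, map_inv, h, mul_inv_cancel_right]
  obtain ⟨c, hc1, hcc, hab⟩ := exists_mul hc h0
  have hca : ∀ k : ℕ, a ^ k * b * (a ^ k)⁻¹ = b * c ^ k := by
    intro k
    induction k with
    | zero => group
    | succ k ih =>
      calc a ^ (k + 1) * b * (a ^ (k + 1))⁻¹ = a * (a ^ k * b * (a ^ k)⁻¹) * a⁻¹ := by
            rw [pow_succ']; group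
        _ = a * b * (c ^ k * a⁻¹) := by rw [ih]; group
        _ = a * b * (a⁻¹ * c ^ k) := by
            rw [((show Commute a⁻¹ c from hcc a⁻¹).pow_right k).eq]
        _ = a * b * a⁻¹ * c ^ k := by group
        _ = b * c ^ (k + 1) := by rw [hab, pow_succ']; group
  have h1 : c ^ m = 1 := by
    have h2 := hca m
    rw [← mem_center hc (show π (a ^ m) = 1 by rw [map_pow, ha]) b, mul_inv_cancel_right] at h2
    exact (left_eq_mul.1 h2)
  have h2 : c ^ n = 1 := by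
    have h3 : a * b ^ n * a⁻¹ = b ^ n * c ^ n := by
      rw [← conj_pow, hab, (show Commute b c from hcc b).mul_pow]
    rw [mem_center hc (show π (b ^ n) = 1 by rw [map_pow, hb]) a, mul_inv_cancel_right] at h3
    exact left_eq_mul.1 h3
  have h3 : c = 1 := by
    rw [← pow_one c, ← hmn, pow_gcd_eq_one]
    exact ⟨h1, h2⟩
  rw [h3, mul_one] at hab
  calc a * b = a * b * a⁻¹ * a := by group
    _ = b * a := by rw [hab]

end lifts

/-- An alternating form invariant under all scalars vanishes. -/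
theorem alt_zero {F : Type*} [Field F] {Z : Type*} [Group Z] (c : F → F → Z)
    (hz : ∀ s t, c s t * c s t = 1 → c s t = 1) (hcc : ∀ s t s' t', c s t * c s' t' = c s' t' * c s t)
    (hl : ∀ s s' t, c (s + s') t = c s t * c s' t) (hr : ∀ s t t', c s (t + t') = c s t * c s t')
    (ha : ∀ s, c s s = 1) (hu : ∀ u : F, u ≠ 0 → ∀ s t, c (u * s) (u * t) = c s t) (s t : F) : c s t = 1 := by
  have hd : ∀ s t, s ≠ 0 → c s t = c 1 (s⁻¹ * t) := by
    intro s t hs
    have := hu s⁻¹ (inv_ne_zero hs) s t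
    rw [inv_mul_cancel₀ hs] at this
    exact this.symm
  have h1 : ∀ a : F, a ≠ 0 → a ≠ 1 → c 1 a = c 1 (a * a) := by
    intro a h0 h1
    have h2 : (1 : F) - a ≠ 0 := sub_ne_zero.2 h1.symm
    have h3 := hl a⁻¹ (1 - a)⁻¹ 1
    have h4 : a⁻¹ + (1 - a)⁻¹ = (a * (1 - a))⁻¹ := by
      field_simp
      ring
    rw [h4, hd _ _ (inv_ne_zero (mul_ne_zero h0 h2)), hd _ _ (inv_ne_zero h0), hd _ _ (inv_ne_zero h2),
      inv_inv, inv_inv, inv_inv, mul_one, mul_one, mul_one] at h3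
    have h5 : c 1 (a * (1 - a)) * c 1 (a * a) = c 1 a := by rw [← hr]; congr 1; ring
    have h6 : c 1 a * c 1 (1 - a) = 1 := by rw [← hr, ← ha 1]; congr 1; ring
    rw [h3, h6, one_mul] at h5
    exact h5.symm
  have h2 : ∀ a : F, c 1 (-a) = (c 1 a)⁻¹ := by
    intro a
    have := hr 1 a (-a)
    rw [add_neg_cancel] at this
    have h0 : c 1 0 = 1 := by
      have := hr 1 0 0
      rw [add_zero] at this
      exact left_eq_mul.1 this
    rw [h0] at this
    exact eq_inv_of_mul_eq_one_right this.symm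
  have h3 : ∀ a : F, a ≠ 0 → c 1 a = 1 := by
    intro a h0
    by_cases ha1 : a = 1
    · rw [ha1]; exact ha 1
    by_cases ha2 : a = -1
    · rw [ha2, h2, ha 1, inv_one]
    have h4 := h1 a h0 ha1
    have h5 := h1 (-a) (neg_ne_zero.2 h0) (fun h => ha2 (by rw [← h, neg_neg]))
    rw [neg_mul_neg, ← h4, h2] at h5
    apply hz
    nth_rw 1 [← h5]
    exact inv_mul_cancel _
  by_cases hs : s = 0
  · subst hs
    have := hl 0 0 t
    rw [add_zero] at this
    exact left_eq_mul.1 this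
  · rw [hd s t hs]
    by_cases ht : t = 0
    · subst ht
      rw [mul_zero]
      have := hr 1 0 0
      rw [add_zero] at this
      exact left_eq_mul.1 this
    · exact h3 _ (mul_ne_zero (inv_ne_zero hs) ht)

/-- The elements of `K` which force the commutator form of an odd cover. -/
structure Force {F : Type*} [Field F] {ι : Type*} {K : Type u} [Group K] (p : ℕ) (z : F → K) (x y : ι → F → K)
    (g : K) (t : ι → F → K) (w : ι → K) (i₀ : ι) : Prop where
  gx : ∀ i s, g * x i s * g⁻¹ = (x i s)⁻¹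
  gy : ∀ i s, g * y i s * g⁻¹ = (y i s)⁻¹
  gz : ∀ s, z s * g = g * z s
  tg : ∀ i u, u ≠ 0 → t i u * g = g * t i u
  tz : ∀ i u, u ≠ 0 → ∀ s, t i u * z s = z s * t i u
  tord : ∀ i u, u ≠ 0 → Nat.Coprime (orderOf (t i u)) p
  tx : ∀ i u, u ≠ 0 → ∀ s, t i u * x i s * (t i u)⁻¹ = x i (u * s)
  ty : ∀ i u, u ≠ 0 → ∀ s, t i u * y i s * (t i u)⁻¹ = y i (u⁻¹ * s)
  wg : ∀ i, w i * g = g * w i
  wz : ∀ i s, w i * z s = z s * w i
  word : ∀ i, Nat.Coprime (orderOf (w i)) p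
  wx : ∀ i s, w i * x i₀ s * (w i)⁻¹ = x i s
  wy : ∀ i s, w i * y i₀ s * (w i)⁻¹ = y i s
  sepxx : ∀ i j, i ≠ j → ∃ h, (∀ s, h * x i s * h⁻¹ = (x i s)⁻¹) ∧ ∀ s, h * x j s = x j s * h
  sepyx : ∀ i j, i ≠ j → ∃ h, ((∀ s, h * y i s * h⁻¹ = (y i s)⁻¹) ∧ ∀ s, h * x j s = x j s * h) ∨
    ((∀ s, h * y i s = y i s * h) ∧ ∀ s, h * x j s * h⁻¹ = (x j s)⁻¹)

/-- A homomorphism maps the data to data. -/
theorem Force.map {F : Type*} [Field F] {ι : Type*} {K : Type u} [Group K] {p : ℕ} {z : F → K} {x y : ι → F → K}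
    {g : K} {t : ι → F → K} {w : ι → K} {i₀ : ι} (h : Force p z x y g t w i₀) {H : Type v} [Group H] (f : K →* H) :
    Force p (fun s => f (z s)) (fun i s => f (x i s)) (fun i s => f (y i s)) (f g) (fun i u => f (t i u))
      (fun i => f (w i)) i₀ where
  gx i s := by rw [← map_inv, ← map_mul, ← map_mul, h.gx, map_inv]
  gy i s := by rw [← map_inv, ← map_mul, ← map_mul, h.gy, map_inv]
  gz s := by rw [← map_mul, h.gz, map_mul]
  tg i u hu := by rw [← map_mul, h.tg i u hu, map_mul]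
  tz i u hu s := by rw [← map_mul, h.tz i u hu, map_mul]
  tord i u hu := Nat.Coprime.coprime_dvd_left (orderOf_map_dvd f _) (h.tord i u hu)
  tx i u hu s := by rw [← map_inv, ← map_mul, ← map_mul, h.tx i u hu]
  ty i u hu s := by rw [← map_inv, ← map_mul, ← map_mul, h.ty i u hu]
  wg i := by rw [← map_mul, h.wg, map_mul]
  wz i s := by rw [← map_mul, h.wz, map_mul]
  word i := Nat.Coprime.coprime_dvd_left (orderOf_map_dvd f _) (h.word i)
  wx i s := by rw [← map_inv, ← map_mul, ← map_mul, h.wx]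
  wy i s := by rw [← map_inv, ← map_mul, ← map_mul, h.wy]
  sepxx i j hij := by
    obtain ⟨k, h1, h2⟩ := h.sepxx i j hij
    exact ⟨f k, fun s => by rw [← map_inv, ← map_inv, ← map_mul, ← map_mul, h1],
      fun s => by rw [← map_mul, h2, map_mul]⟩
  sepyx i j hij := by
    obtain ⟨k, ⟨h1, h2⟩ | ⟨h1, h2⟩⟩ := h.sepyx i j hij
    · exact ⟨f k, Or.inl ⟨fun s => by rw [← map_inv, ← map_inv, ← map_mul, ← map_mul, h1],
        fun s => by rw [← map_mul, h2, map_mul]⟩⟩
    · exact ⟨f k, Or.inr ⟨fun s => by rw [← map_mul, h1, map_mul],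
        fun s => by rw [← map_inv, ← map_inv, ← map_mul, ← map_mul, h2]⟩⟩

section main

variable {F : Type*} [Field F] {ι : Type*} {K : Type u} [Group K] {L : Type v} [Group L] {π : L →* K}

/-- The root groups lift. -/
theorem lift_root {p : ℕ} [Fact p.Prime] [CharP F p] (hπ : Function.Surjective π)
    (hc : π.ker ≤ Subgroup.center L) (ho : Odd (Nat.card π.ker)) {g : L} {x : F → K}
    (hx : ∀ s t, x (s + t) = x s * x t) (gx : ∀ s, π g * x s * (π g)⁻¹ = (x s)⁻¹) (t : F → K)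
    (tg : ∀ u, u ≠ 0 → t u * π g = π g * t u)
    (tx : ∀ u, u ≠ 0 → ∃ u' : F, u' ≠ 0 ∧ t u' = t u' ∧ ∀ s, t u' * x s * (t u')⁻¹ = x (u * s)) :
    ∃ X : F → L, (∀ s, π (X s) = x s) ∧ (∀ s, g * X s * g⁻¹ = (X s)⁻¹) ∧ ∀ s t, X (s + t) = X s * X t := by
  choose X hX1 hX2 using fun s => exists_inv_lift hπ hc ho (gx s)
  refine ⟨X, hX1, hX2, ?_⟩
  -- the commutators
  have hcen : ∀ s t, π (X s * X t * (X s)⁻¹ * (X t)⁻¹) = 1 := by
    intro s t
    rw [map_mul, map_mul, map_mul, map_inv, map_inv, hX1, hX1, ← hx, add_comm, hx]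
    group
  have hcc := fun s t => mem_center hc (hcen s t)
  have hsum : ∀ s t, ∃ c, (∀ x : L, x * c = c * x) ∧ X (s + t) = X s * X t * c := by
    intro s t
    obtain ⟨c, -, h1, h2⟩ := exists_mul hc (a := X (s + t)) (b := X s * X t) (by rw [map_mul, hX1, hX1, hX1, hx])
    exact ⟨c, h1, h2⟩
  have hone : ∀ s t, X s * X t * (X s)⁻¹ * (X t)⁻¹ = 1 := by
    apply alt_zero (fun s t => X s * X t * (X s)⁻¹ * (X t)⁻¹)
    · intro s t h
      exact eq_one_of_sq ho (hcen s t) h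
    · intro s t s' t'
      exact (hcc s' t' _)
    · intro s s' t
      obtain ⟨c, h1, h2⟩ := hsum s s'
      show X (s + s') * X t * (X (s + s'))⁻¹ * (X t)⁻¹ = _
      rw [h2]
      calc X s * X s' * c * X t * (X s * X s' * c)⁻¹ * (X t)⁻¹
          = X s * X s' * (c * X t) * c⁻¹ * (X s * X s')⁻¹ * (X t)⁻¹ := by group
        _ = X s * X s' * (X t * c) * c⁻¹ * (X s * X s')⁻¹ * (X t)⁻¹ := by rw [h1]
        _ = X s * (X s' * X t * (X s')⁻¹ * (X t)⁻¹) * (X t * (X s)⁻¹ * (X t)⁻¹) := by group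
        _ = X s * (X t * (X s)⁻¹ * (X t)⁻¹) * (X s' * X t * (X s')⁻¹ * (X t)⁻¹) := by
            rw [mul_assoc, ← hcc s' t]; group
        _ = _ := by group
    · intro s t t'
      obtain ⟨c, h1, h2⟩ := hsum t t'
      show X s * X (t + t') * (X s)⁻¹ * (X (t + t'))⁻¹ = _
      rw [h2]
      calc X s * (X t * X t' * c) * (X s)⁻¹ * (X t * X t' * c)⁻¹
          = X s * (X t * X t') * (c * (X s)⁻¹) * c⁻¹ * (X t * X t')⁻¹ := by group
        _ = X s * (X t * X t') * ((X s)⁻¹ * c) * c⁻¹ * (X t * X t')⁻¹ := by rw [h1]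
        _ = X s * X t * (X s)⁻¹ * (X s * X t' * (X s)⁻¹ * (X t')⁻¹) * (X t)⁻¹ := by group
        _ = X s * X t * (X s)⁻¹ * ((X t)⁻¹ * (X s * X t' * (X s)⁻¹ * (X t')⁻¹)) := by
            rw [hcc s t' (X t)⁻¹]; group
        _ = _ := by group
    · intro s
      group
    · intro u hu s t'
      obtain ⟨u', hu', -, htx⟩ := tx u hu
      obtain ⟨τ, hτ⟩ := hπ (t u')
      have h1 : ∀ s, τ * X s * τ⁻¹ = X (u * s) := by
        intro s
        apply inv_lift_unique hc ho (conj_inv hc (hX2 s) (by rw [hτ]; exact tg u' hu')) (hX2 _)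
        rw [map_mul, map_mul, map_inv, hτ, hX1, hX1, htx]
      show X (u * s) * X (u * t') * (X (u * s))⁻¹ * (X (u * t'))⁻¹ = X s * X t' * (X s)⁻¹ * (X t')⁻¹
      rw [← h1, ← h1]
      calc τ * X s * τ⁻¹ * (τ * X t' * τ⁻¹) * (τ * X s * τ⁻¹)⁻¹ * (τ * X t' * τ⁻¹)⁻¹
          = τ * (X s * X t' * (X s)⁻¹ * (X t')⁻¹) * τ⁻¹ := by group
        _ = (X s * X t' * (X s)⁻¹ * (X t')⁻¹) * τ * τ⁻¹ := by rw [hcc s t' τ]
        _ = _ := by group
  intro s s'
  have hcm : X s * X s' = X s' * X s := by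
    have h1 := hone s s'
    calc X s * X s' = X s * X s' * (X s)⁻¹ * (X s')⁻¹ * (X s' * X s) := by group
      _ = X s' * X s := by rw [h1, one_mul]
  apply inv_lift_unique hc ho (hX2 _) _ (by rw [map_mul, hX1, hX1, hX1, hx])
  calc g * (X s * X s') * g⁻¹ = (g * X s * g⁻¹) * (g * X s' * g⁻¹) := by group
    _ = (X s' * X s)⁻¹ := by rw [hX2, hX2]; group
    _ = (X s * X s')⁻¹ := by rw [hcm]

/-- **Lifting of Heisenberg configurations over a field to odd central extensions.** -/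
theorem lift {p : ℕ} [Fact p.Prime] [CharP F p] (hπ : Function.Surjective π)
    (hc : π.ker ≤ Subgroup.center L) (ho : Odd (Nat.card π.ker)) {z : F → K} {x y : ι → F → K}
    (h : FHeis z x y) {g : K} {t : ι → F → K} {w : ι → K} {i₀ : ι} (f : Force p z x y g t w i₀) :
    ∃ (z' : F → L) (x' y' : ι → F → L), (∀ s, π (z' s) = z s) ∧ (∀ i s, π (x' i s) = x i s) ∧
      (∀ i s, π (y' i s) = y i s) ∧ FHeis z' x' y' := by
  obtain ⟨g, rfl⟩ := hπ g
  choose X hX1 hX2 hX3 using fun i => lift_root (p := p) hπ hc ho (h.x_add i) (f.gx i) (t i) (f.tg i)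
    (fun u hu => ⟨u, hu, rfl, f.tx i u hu⟩)
  choose Y hY1 hY2 hY3 using fun i => lift_root (p := p) hπ hc ho (h.y_add i) (f.gy i) (t i) (f.tg i)
    (fun u hu => ⟨u⁻¹, inv_ne_zero hu, rfl, fun s => by rw [f.ty i u⁻¹ (inv_ne_zero hu), inv_inv]⟩)
  -- lifts of `z` commute with all `X`, `Y`
  have zX : ∀ (a : L) (s : F), π a = z s → ∀ i r, a * X i r = X i r * a := by
    intro a s ha i r
    exact comm_of_inv hc ho (hX2 i r) (by rw [ha, hX1, h.zx]) (by rw [ha, f.gz])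
  have zY : ∀ (a : L) (s : F), π a = z s → ∀ i r, a * Y i r = Y i r * a := by
    intro a s ha i r
    exact comm_of_inv hc ho (hY2 i r) (by rw [ha, hY1, h.zy]) (by rw [ha, f.gz])
  -- the commutators `β`
  let β : ι → F → F → L := fun i s r => Y i r * X i s * (Y i r)⁻¹ * (X i s)⁻¹
  have hβ : ∀ i s r, π (β i s r) = z (s * r) := by
    intro i s r
    show π (Y i r * X i s * (Y i r)⁻¹ * (X i s)⁻¹) = z (s * r)
    rw [map_mul, map_mul, map_mul, map_inv, map_inv, hY1, hX1, h.conj, ← h.zx, mul_inv_cancel_right]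
  have βX : ∀ i s r j q, β i s r * X j q = X j q * β i s r := fun i s r j q => zX _ _ (hβ i s r) j q
  have βY : ∀ i s r j q, β i s r * Y j q = Y j q * β i s r := fun i s r j q => zY _ _ (hβ i s r) j q
  have hconj : ∀ i s r, Y i r * X i s * (Y i r)⁻¹ = X i s * β i s r := by
    intro i s r
    rw [← βX]
    show _ = Y i r * X i s * (Y i r)⁻¹ * (X i s)⁻¹ * X i s
    group
  have βr : ∀ i s r r', β i s (r + r') = β i s r * β i s r' := by
    intro i s r r'
    show Y i (r + r') * X i s * (Y i (r + r'))⁻¹ * (X i s)⁻¹ = _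
    rw [hY3]
    calc Y i r * Y i r' * X i s * (Y i r * Y i r')⁻¹ * (X i s)⁻¹
        = Y i r * (Y i r' * X i s * (Y i r')⁻¹) * (Y i r)⁻¹ * (X i s)⁻¹ := by group
      _ = Y i r * X i s * (β i s r' * (Y i r)⁻¹) * (X i s)⁻¹ := by rw [hconj]; group
      _ = Y i r * X i s * ((Y i r)⁻¹ * β i s r') * (X i s)⁻¹ := by
          rw [(show Commute (β i s r') (Y i r) from βY i s r' i r).inv_right.eq]
      _ = Y i r * X i s * (Y i r)⁻¹ * (β i s r' * (X i s)⁻¹) := by group
      _ = Y i r * X i s * (Y i r)⁻¹ * ((X i s)⁻¹ * β i s r') := by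
          rw [(show Commute (β i s r') (X i s) from βX i s r' i s).inv_right.eq]
      _ = β i s r * β i s r' := by
          show _ = Y i r * X i s * (Y i r)⁻¹ * (X i s)⁻¹ * β i s r'
          group
  have βt : ∀ i u, u ≠ 0 → ∀ s r, β i (u * s) (u⁻¹ * r) = β i s r := by
    intro i u hu s r
    obtain ⟨τ, hτ⟩ := hπ (t i u)
    have h1 : ∀ s, τ * X i s * τ⁻¹ = X i (u * s) := by
      intro s
      apply inv_lift_unique hc ho (conj_inv hc (hX2 i s) (by rw [hτ]; exact f.tg i u hu)) (hX2 i _)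
      rw [map_mul, map_mul, map_inv, hτ, hX1, hX1, f.tx i u hu]
    have h2 : ∀ s, τ * Y i s * τ⁻¹ = Y i (u⁻¹ * s) := by
      intro s
      apply inv_lift_unique hc ho (conj_inv hc (hY2 i s) (by rw [hτ]; exact f.tg i u hu)) (hY2 i _)
      rw [map_mul, map_mul, map_inv, hτ, hY1, hY1, f.ty i u hu]
    have h3 : τ * β i s r = β i s r * τ :=
      comm_of_coprime hc (m := orderOf (t i u)) (n := p) (by rw [hτ, hβ]; exact f.tz i u hu _)
        (by rw [hτ]; exact pow_orderOf_eq_one _) (by rw [hβ]; exact add_pow_char h.z_add _) (f.tord i u hu)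
    show Y i (u⁻¹ * r) * X i (u * s) * (Y i (u⁻¹ * r))⁻¹ * (X i (u * s))⁻¹ = β i s r
    rw [← h1, ← h2]
    calc τ * Y i r * τ⁻¹ * (τ * X i s * τ⁻¹) * (τ * Y i r * τ⁻¹)⁻¹ * (τ * X i s * τ⁻¹)⁻¹
        = τ * (Y i r * X i s * (Y i r)⁻¹ * (X i s)⁻¹) * τ⁻¹ := by group
      _ = β i s r * τ * τ⁻¹ := by rw [← h3]
      _ = β i s r := by group
  have βone : ∀ i s r, s ≠ 0 → β i s r = β i 1 (s * r) := by
    intro i s r hs
    have h1 := βt i s⁻¹ (inv_ne_zero hs) s r
    rw [inv_mul_cancel₀ hs, inv_inv] at h1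
    exact h1.symm
  have βw : ∀ i s r, β i s r = β i₀ s r := by
    intro i s r
    obtain ⟨ω, hω⟩ := hπ (w i)
    have h1 : ∀ s, ω * X i₀ s * ω⁻¹ = X i s := by
      intro s
      apply inv_lift_unique hc ho (conj_inv hc (hX2 i₀ s) (by rw [hω]; exact f.wg i)) (hX2 i _)
      rw [map_mul, map_mul, map_inv, hω, hX1, hX1, f.wx i]
    have h2 : ∀ s, ω * Y i₀ s * ω⁻¹ = Y i s := by
      intro s
      apply inv_lift_unique hc ho (conj_inv hc (hY2 i₀ s) (by rw [hω]; exact f.wg i)) (hY2 i _)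
      rw [map_mul, map_mul, map_inv, hω, hY1, hY1, f.wy i]
    have h3 : ω * β i₀ s r = β i₀ s r * ω :=
      comm_of_coprime hc (m := orderOf (w i)) (n := p) (by rw [hω, hβ]; exact f.wz i _)
        (by rw [hω]; exact pow_orderOf_eq_one _) (by rw [hβ]; exact add_pow_char h.z_add _) (f.word i)
    show Y i r * X i s * (Y i r)⁻¹ * (X i s)⁻¹ = β i₀ s r
    rw [← h1, ← h2]
    calc ω * Y i₀ r * ω⁻¹ * (ω * X i₀ s * ω⁻¹) * (ω * Y i₀ r * ω⁻¹)⁻¹ * (ω * X i₀ s * ω⁻¹)⁻¹
        = ω * (Y i₀ r * X i₀ s * (Y i₀ r)⁻¹ * (X i₀ s)⁻¹) * ω⁻¹ := by group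
      _ = β i₀ s r * ω * ω⁻¹ := by rw [← h3]
      _ = β i₀ s r := by group
  refine ⟨fun s => β i₀ 1 s, X, Y, fun s => by rw [hβ, one_mul], hX1, hY1, ?_⟩
  refine ⟨fun s r => βr i₀ 1 s r, hX3, hY3, fun i s r => βX i₀ 1 s i r, fun i s r => βY i₀ 1 s i r, ?_, ?_, ?_⟩
  · intro i j s r hij
    obtain ⟨k, hk1, hk2⟩ := f.sepxx i j hij
    exact comm_of_sep hπ hc ho (h := k) (by rw [hX1, hX1, h.xx i j s r hij]) (by rw [hX1, hk1]) (by rw [hX1, hk2])
  · intro i j s r hij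
    obtain ⟨k, ⟨hk1, hk2⟩ | ⟨hk1, hk2⟩⟩ := f.sepyx i j hij
    · exact comm_of_sep hπ hc ho (h := k) (by rw [hX1, hY1, h.yx i j s r hij]) (by rw [hY1, hk1]) (by rw [hX1, hk2])
    · exact (comm_of_sep hπ hc ho (h := k) (by rw [hX1, hY1, h.yx i j s r hij]) (by rw [hX1, hk2])
        (by rw [hY1, hk1])).symm
  · intro i s r
    show Y i r * X i s * (Y i r)⁻¹ = X i s * β i₀ 1 (s * r)
    rw [hconj]
    by_cases hs : s = 0
    · subst hs
      have h1 : ∀ j q, β j 0 q = 1 := by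
        intro j q
        show Y j q * X j 0 * (Y j q)⁻¹ * (X j 0)⁻¹ = 1
        rw [add_zero' (hX3 j)]
        group
      rw [h1, zero_mul, add_zero' (fun s r => βr i₀ 1 s r)]
    · rw [βone i s r hs, βw]

end main

end Cfsg.Agent.Omega.Lie.HeisLift
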