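import Mathlib
import Cfsg.Agent.Lib.ElemAbGL

/-!
# The K-facts (PAIR) and (ORD) of TEXT LIE-2 (#12707), definitions and tools (helper486)

* `Pair K` : two different commuting involutions `b, b'` of `K`: some `x ≠ 1` of odd order is inverted by `b` and
  centralised by `b'`;
* `NotIn K n` : `K` does not act faithfully on an elementary abelian 2-group of order at most `2 ^ n`;
* `NotIn.of_card` : criterion by orders;
* `exists_odd_pow` : if `8 ∤ |G|`, `b` an involution inverting `Y`, `Y² ≠ 1`, then `⟨Y⟩` is not a 2-group.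
-/

set_option autoImplicit false

namespace Cfsg.Agent.Omega.Lie.PairOrd

open Subgroup

universe u v w

/-- K-fact (PAIR). -/
def Pair (K : Type*) [Group K] : Prop :=
  ∀ b b' : K, b ≠ 1 → b' ≠ 1 → b ≠ b' → b * b = 1 → b' * b' = 1 → b * b' = b' * b →
    ∃ x : K, x ≠ 1 ∧ Odd (orderOf x) ∧ b * x * b⁻¹ = x⁻¹ ∧ b' * x * b'⁻¹ = x

theorem Pair.equiv {K : Type v} {K' : Type w} [Group K] [Group K'] (e : K ≃* K') (h : Pair K') : Pair K := by
  intro b b' h1 h1' hne hbb hbb' hc
  obtain ⟨x, hx, ho, hi, hf⟩ := h (e b) (e b') (by simpa using h1) (by simpa using h1')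
    (fun h => hne (e.injective h)) (by rw [← map_mul, hbb, map_one]) (by rw [← map_mul, hbb', map_one])
    (by rw [← map_mul, hc, map_mul])
  refine ⟨e.symm x, by simpa using hx, ?_, ?_, ?_⟩
  · rw [← MulEquiv.orderOf_eq e, e.apply_symm_apply]; exact ho
  · apply e.injective
    simpa using hi
  · apply e.injective
    simpa using hf

/-- K-fact (ORD): `K` acts faithfully on no elementary abelian 2-group of order at most `2 ^ n`. -/
def NotIn (K : Type v) [Group K] (n : ℕ) : Prop :=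
  ∀ (M : Type u) [CommGroup M] [Finite M], (∀ x : M, x ^ 2 = 1) → Nat.card M ≤ 2 ^ n →
    ∀ φ : K →* MulAut M, ¬ Function.Injective φ

theorem NotIn.equiv {K : Type v} {K' : Type w} [Group K] [Group K'] {n : ℕ} (e : K ≃* K') (h : NotIn.{u} K' n) :
    NotIn.{u} K n := by
  intro M _ _ h2 hc φ hφ
  exact h M h2 hc (φ.comp e.symm.toMonoidHom) (hφ.comp e.symm.injective)

theorem NotIn.mono {K : Type v} [Group K] {m n : ℕ} (hmn : m ≤ n) (h : NotIn.{u} K n) : NotIn.{u} K m :=
  fun M _ _ h2 hc => h M h2 (hc.trans (Nat.pow_le_pow_right two_pos hmn))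

/-- The order of `GL_n(2)`. -/
def glc (n : ℕ) : ℕ := ∏ i : Fin n, (2 ^ n - 2 ^ (i : ℕ))

theorem card_mulAut {M : Type*} [CommGroup M] [Finite M] (h2 : ∀ x : M, x ^ 2 = 1) {k : ℕ} (hk : Nat.card M = 2 ^ k) :
    Nat.card (MulAut M) = glc k := by
  have : Fact (Nat.Prime 2) := ⟨Nat.prime_two⟩
  obtain ⟨e⟩ := Cfsg.Agent.Lib.ElemAbGL.mulAut_equiv_GL 2 k h2 hk
  rw [Nat.card_congr e.toEquiv, Matrix.card_GL_field, ZMod.card]
  rfl

theorem exists_card {M : Type*} [CommGroup M] [Finite M] (h2 : ∀ x : M, x ^ 2 = 1) {n : ℕ}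
    (hn : Nat.card M ≤ 2 ^ n) : ∃ k ≤ n, Nat.card M = 2 ^ k := by
  have : Fact (Nat.Prime 2) := ⟨Nat.prime_two⟩
  have hM : IsPGroup 2 M := fun x => ⟨1, by rw [pow_one]; exact h2 x⟩
  obtain ⟨k, hk⟩ := IsPGroup.iff_card.1 hM
  refine ⟨k, ?_, hk⟩
  rw [hk] at hn
  exact (Nat.pow_le_pow_iff_right (by norm_num)).1 hn

/-- Criterion by orders. -/
theorem NotIn.of_card {K : Type v} [Group K] {n : ℕ} (h : ∀ k ≤ n, ¬ Nat.card K ∣ glc k) : NotIn.{u} K n := by
  intro M _ _ h2 hc φ hφ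
  obtain ⟨k, hkn, hk⟩ := exists_card h2 hc
  apply h k hkn
  rw [← card_mulAut h2 hk, Nat.card_congr (MonoidHom.ofInjective hφ).toEquiv]
  exact Subgroup.card_subgroup_dvd_card φ.range

theorem glc_dvd_eight {k : ℕ} (hk : k ≤ 8) : glc k ∣ 5348063769211699200 := by
  unfold glc
  interval_cases k <;> simp [Fin.prod_univ_succ]

theorem glc_dvd_twelve {k : ℕ} (hk : k ≤ 12) : glc k ∣ glc 12 := by
  unfold glc
  interval_cases k <;> simp [Fin.prod_univ_succ]

/-- If `8 ∤ |G|` and the involution `b` inverts `Y`, `Y² ≠ 1`, then some power of `Y` has odd order and is not `1`. -/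
theorem exists_odd_pow {G : Type*} [Group G] [Finite G] (h8 : ¬ 8 ∣ Nat.card G) {b Y : G} (hb : b * b = 1)
    (hbY : b * Y * b⁻¹ = Y⁻¹) (hY : Y * Y ≠ 1) : ∃ n : ℕ, Y ^ n ≠ 1 ∧ Odd (orderOf (Y ^ n)) := by
  have hpos : orderOf Y ≠ 0 := (orderOf_pos Y).ne'
  obtain ⟨k, m, hm, hkm⟩ := Nat.exists_eq_two_pow_mul_odd hpos
  by_cases h1 : m = 1
  · exfalso
    rw [h1, mul_one] at hkm
    have : Fact (Nat.Prime 2) := ⟨Nat.prime_two⟩
    have hk : 2 ≤ k := by
      by_contra hk
      apply hY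
      rw [← pow_two]
      apply orderOf_dvd_iff_pow_eq_one.1
      rw [hkm]
      calc 2 ^ k ∣ 2 ^ 1 := pow_dvd_pow 2 (by omega)
        _ = 2 := pow_one 2
    have hPY : IsPGroup 2 (zpowers Y) := IsPGroup.of_card (n := k) (by rw [Nat.card_zpowers, hkm])
    have hPb : IsPGroup 2 (zpowers b) := by
      intro x
      refine ⟨1, ?_⟩
      obtain ⟨x, hx⟩ := x
      obtain ⟨n, rfl⟩ := mem_zpowers_iff.1 hx
      apply Subtype.ext
      push_cast
      rw [← zpow_natCast, ← zpow_mul, mul_comm n, zpow_mul]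
      norm_num
      rw [pow_two, hb, one_zpow]
    have hn : zpowers b ≤ normalizer (zpowers Y : Set G) := by
      rw [zpowers_le, mem_normalizer_iff]
      intro x
      have key : ∀ x, x ∈ zpowers Y → b * x * b⁻¹ ∈ zpowers Y := by
        intro x hx
        obtain ⟨n, rfl⟩ := mem_zpowers_iff.1 hx
        rw [← conj_zpow, hbY]
        exact zpow_mem (inv_mem (mem_zpowers Y)) n
      refine ⟨key x, fun hx => ?_⟩
      have h2 := key _ hx
      have hbi : b⁻¹ = b := inv_eq_of_mul_eq_one_left hb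
      have h3 : b * (b * x * b⁻¹) * b⁻¹ = x := by
        rw [hbi]
        calc b * (b * x * b) * b = (b * b) * x * (b * b) := by group
          _ = x := by rw [hb, one_mul, mul_one]
      rwa [h3] at h2
    have hN : IsPGroup 2 (zpowers Y ⊔ zpowers b : Subgroup G) := by
      rw [sup_comm]
      exact IsPGroup.to_sup_of_normal_right' hPb hPY hn
    obtain ⟨n, hn'⟩ := IsPGroup.iff_card.1 hN
    have hbn : b ∉ zpowers Y := by
      intro h
      obtain ⟨j, hj⟩ := mem_zpowers_iff.1 h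
      have h3 : b * Y * b⁻¹ = Y := by
        rw [← hj, (Commute.self_zpow Y j).symm.eq, mul_inv_cancel_right]
      rw [h3] at hbY
      apply hY
      nth_rw 1 [hbY]
      exact inv_mul_cancel Y
    have hlt : zpowers Y < zpowers Y ⊔ zpowers b :=
      lt_of_le_of_ne le_sup_left fun h => hbn (h ▸ (mem_sup_right (mem_zpowers b)))
    have hcard : Nat.card (zpowers Y) < Nat.card (zpowers Y ⊔ zpowers b : Subgroup G) := by
      refine lt_of_le_of_ne (Subgroup.card_le_of_le hlt.le) fun h => hlt.ne ?_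
      exact Subgroup.eq_of_le_of_card_ge hlt.le h.ge
    rw [Nat.card_zpowers, hkm, hn'] at hcard
    have hkn := (Nat.pow_lt_pow_iff_right (by norm_num : 1 < 2)).1 hcard
    apply h8
    calc (8 : ℕ) = 2 ^ 3 := by norm_num
      _ ∣ 2 ^ n := pow_dvd_pow 2 (by omega)
      _ ∣ Nat.card G := hn' ▸ Subgroup.card_subgroup_dvd_card _
  · refine ⟨2 ^ k, ?_, ?_⟩
    · intro h
      have h2 := orderOf_dvd_of_pow_eq_one h
      rw [hkm] at h2
      have h3 : m ∣ 1 := by
        have h4 : 2 ^ k * m ∣ 2 ^ k * 1 := by rwa [mul_one]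
        exact (Nat.mul_dvd_mul_iff_left (pow_pos two_pos k)).1 h4
      exact h1 (Nat.dvd_one.1 h3)
    · rw [orderOf_pow_of_dvd (pow_ne_zero _ two_ne_zero) (hkm ▸ Dvd.intro _ rfl), hkm,
        Nat.mul_div_cancel_left _ (pow_pos two_pos k)]
      exact hm

end Cfsg.Agent.Omega.Lie.PairOrd
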