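import Cfsg.Agent.Omega.Lie.TorD

/-!
# NODE LIE: LEMMA T (`#11575` of helper622)

`N` normal in `C(R i)`, `P ≤ N` covered by `C(V)` modulo `Q i`, normalised by `U j` and centralised by the torus
modulo `Q i`: then `P ≤ Q i`.  (With `P = (S⁰ ∩ N)`: `N / Q i` has odd order.)
-/

set_option autoImplicit false

namespace Cfsg.Agent.Omega.Lie.LemT

open Subgroup Cfsg.Agent.Omega.BTwo

/-! ### additive model of an abelian section -/

section model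

universe u
variable {G : Type u} [Group G]

/-- an additive model of the abelian section `W / R` -/
structure Mod (W R : Subgroup G) (M : Type u) [AddCommGroup M] (q : G → M) : Prop where
  mul : ∀ x ∈ W, ∀ y ∈ W, q (x * y) = q x + q y
  zero : ∀ x ∈ W, (q x = 0 ↔ x ∈ R)
  surj : ∀ m, ∃ x ∈ W, q x = m

theorem exists_mod (W R : Subgroup G) (hc : ∀ x ∈ W, ∀ y ∈ W, x * y * x⁻¹ * y⁻¹ ∈ R) :
    ∃ (M : Type u) (_ : AddCommGroup M) (q : G → M), Mod W R M q := by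
  have hn : (R.subgroupOf W).Normal := by
    refine ⟨fun n hn g => ?_⟩
    have h1 := hc g g.2 n n.2
    have h2 := mul_mem h1 (show (n : G) ∈ R from hn)
    have e : (g : G) * n * (g : G)⁻¹ * (n : G)⁻¹ * n = g * n * (g : G)⁻¹ := by group
    rw [e] at h2
    exact h2
  have hcomm : ∀ a c : W ⧸ R.subgroupOf W, a * c = c * a := by
    intro a c
    induction a using QuotientGroup.induction_on with | H a => ?_
    induction c using QuotientGroup.induction_on with | H c => ?_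
    rw [← QuotientGroup.mk_mul, ← QuotientGroup.mk_mul, eq_comm, QuotientGroup.eq]
    change ((c : G) * a)⁻¹ * (a * c) ∈ R
    have h := hc (a : G)⁻¹ (inv_mem a.2) (c : G)⁻¹ (inv_mem c.2)
    have e : ((c : G) * a)⁻¹ * (a * c) = (a : G)⁻¹ * (c : G)⁻¹ * (a : G)⁻¹⁻¹ * (c : G)⁻¹⁻¹ := by group
    rw [e]
    exact h
  let I : CommGroup (W ⧸ R.subgroupOf W) := { mul_comm := hcomm }
  classical
  refine ⟨Additive (W ⧸ R.subgroupOf W), @Additive.addCommGroup _ I,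
    fun x => if h : x ∈ W then Additive.ofMul (QuotientGroup.mk ⟨x, h⟩) else Additive.ofMul 1, ?_, ?_, ?_⟩
  · intro x hx y hy
    simp only [dif_pos hx, dif_pos hy, dif_pos (mul_mem hx hy)]
    rfl
  · intro x hx
    simp only [dif_pos hx]
    change QuotientGroup.mk (s := R.subgroupOf W) (⟨x, hx⟩ : W) = 1 ↔ _
    rw [QuotientGroup.eq_one_iff]
    rfl
  · intro m
    induction m using Additive.rec with | ofMul m => ?_
    induction m using QuotientGroup.induction_on with | H m => ?_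
    refine ⟨m, m.2, ?_⟩
    simp only [dif_pos m.2]

variable {W R : Subgroup G} {M : Type u} [AddCommGroup M] {q : G → M}

namespace Mod

theorem one (m : Mod W R M q) : q 1 = 0 := (m.zero 1 (one_mem _)).2 (one_mem _)

theorem inv (m : Mod W R M q) {x : G} (hx : x ∈ W) : q x⁻¹ = - q x := by
  have h := m.mul x hx x⁻¹ (inv_mem hx)
  rw [mul_inv_cancel, m.one] at h
  exact eq_neg_of_add_eq_zero_right h.symm

theorem sub (m : Mod W R M q) {x y : G} (hx : x ∈ W) (hy : y ∈ W) : q (x * y⁻¹) = q x - q y := by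
  rw [m.mul x hx _ (inv_mem hy), m.inv hy, sub_eq_add_neg]

theorem eq_iff (m : Mod W R M q) {x y : G} (hx : x ∈ W) (hy : y ∈ W) : q x = q y ↔ x * y⁻¹ ∈ R := by
  rw [← m.zero _ (mul_mem hx (inv_mem hy)), m.sub hx hy, sub_eq_zero]

/-- the additive map induced by conjugation -/
theorem exists_act (m : Mod W R M q) {g : G} (hW : g ∈ normalizer (W : Set G))
    (hR : g ∈ normalizer (R : Set G)) : ∃ A : M →+ M, ∀ x ∈ W, A (q x) = q (g * x * g⁻¹) := by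
  choose s hs hs' using m.surj
  have key : ∀ x ∈ W, q (g * s (q x) * g⁻¹) = q (g * x * g⁻¹) := by
    intro x hx
    rw [m.eq_iff (conj_mem_of_normalizer hW (hs _)) (conj_mem_of_normalizer hW hx)]
    have h1 := (m.eq_iff (hs _) hx).1 (hs' (q x))
    have h2 := conj_mem_of_normalizer hR h1
    have e : g * s (q x) * g⁻¹ * (g * x * g⁻¹)⁻¹ = g * (s (q x) * x⁻¹) * g⁻¹ := by group
    rw [e]
    exact h2
  refine ⟨AddMonoidHom.mk' (fun a => q (g * s a * g⁻¹)) ?_, fun x hx => key x hx⟩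
  intro a c
  have h1 := key _ (mul_mem (hs a) (hs c))
  rw [m.mul _ (hs a) _ (hs c), hs', hs'] at h1
  rw [h1]
  have e : g * (s a * s c) * g⁻¹ = g * s a * g⁻¹ * (g * s c * g⁻¹) := by group
  rw [e, m.mul _ (conj_mem_of_normalizer hW (hs a)) _ (conj_mem_of_normalizer hW (hs c))]

/-- the image of a subgroup of `W` -/
def img (m : Mod W R M q) (A : Subgroup G) (hA : A ≤ W) : AddSubgroup M where
  carrier := {x | ∃ a ∈ A, q a = x}
  zero_mem' := ⟨1, one_mem _, m.one⟩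
  add_mem' := by
    rintro _ _ ⟨a, ha, rfl⟩ ⟨c, hc, rfl⟩
    exact ⟨a * c, mul_mem ha hc, m.mul a (hA ha) c (hA hc)⟩
  neg_mem' := by
    rintro _ ⟨a, ha, rfl⟩
    exact ⟨a⁻¹, inv_mem ha, m.inv (hA ha)⟩

theorem mem_img (m : Mod W R M q) {A : Subgroup G} {hA : A ≤ W} {x : G} (hx : x ∈ A) :
    q x ∈ m.img A hA := ⟨x, hx, rfl⟩

end Mod

end model

/-! ### the weight argument -/

section weights

variable {F : Type*} [Field F] {M : Type*} [AddCommGroup M]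

/-- weights `1 → 0 → -1` -/
theorem weights_U (σ : F → M →+ M) (c : M →+ M) (Vb Db Ub : AddSubgroup M)
    (hc : ∀ a, a ≠ 0 → ∀ x, σ a (c x) = c (σ a x))
    (h1 : ∀ x ∈ Vb, c x = 0) (h2 : ∀ x ∈ Db, c x ∈ Vb) (h3 : ∀ x ∈ Ub, c x ∈ Db)
    (hd : ∀ a, a ≠ 0 → ∀ x ∈ Db, σ a x - x ∈ Vb)
    {β : F} (hβ : β ≠ 0) (hβ1 : 1 + β ≠ 0)
    (he : ∀ x ∈ Ub, σ (1 + β) x - (σ 1 x + σ β x) ∈ Db)
    (hg1 : ∀ x ∈ Vb, σ β x = x → x = 0)
    (hg2 : ∀ x ∈ Vb, σ (1 + β) x = σ 1 x + σ β x → x = 0) : ∀ x ∈ Ub, c x = 0 := by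
  -- `c` kills `D`
  have hD : ∀ x ∈ Db, c x = 0 := by
    intro x hx
    refine hg1 _ (h2 x hx) ?_
    have h4 := h1 _ (hd β hβ x hx)
    rw [map_sub, sub_eq_zero, ← hc β hβ] at h4
    exact h4
  -- `c U ≤ V`
  have hUV : ∀ x ∈ Ub, c x ∈ Vb := by
    intro x hx
    have h4 := hD _ (he x hx)
    rw [map_sub, map_add, ← hc _ hβ1, ← hc _ one_ne_zero, ← hc _ hβ, sub_eq_zero] at h4
    have k1 := hd _ hβ1 _ (h3 x hx)
    have k2 := hd _ one_ne_zero _ (h3 x hx)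
    have k3 := hd _ hβ _ (h3 x hx)
    have k4 := Vb.sub_mem k1 (Vb.add_mem k2 k3)
    have e : σ (1 + β) (c x) - c x - (σ 1 (c x) - c x + (σ β (c x) - c x)) = c x := by
      rw [h4]; abel
    rwa [e] at k4
  intro x hx
  refine hg2 _ (hUV x hx) ?_
  have h4 := hD _ (he x hx)
  rw [map_sub, map_add, ← hc _ hβ1, ← hc _ one_ne_zero, ← hc _ hβ, sub_eq_zero] at h4
  exact h4

/-- weight `2 → -1` modulo `Z` -/
theorem weights_W (σ : F → M →+ M) (c : M →+ M) (Vb Ub Zb : AddSubgroup M)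
    (hc : ∀ a, a ≠ 0 → ∀ x, σ a (c x) = c (σ a x))
    (hU : ∀ x ∈ Ub, c x = 0) (hVZ : ∀ x ∈ Vb, x ∈ Zb → x = 0)
    (hV : ∀ a, a ≠ 0 → ∀ x ∈ Vb, σ a x ∈ Vb) (hZ : ∀ a, a ≠ 0 → ∀ x ∈ Zb, σ a x ∈ Zb)
    (hcw : ∀ x, ∃ y ∈ Vb, c x - y ∈ Zb)
    {β : F} (hβ : β ≠ 0) (hβ1 : 1 + β ≠ 0)
    (he : ∀ x, σ (1 + β) x - (σ 1 x + σ β x) ∈ Ub)
    (hg2 : ∀ x ∈ Vb, σ (1 + β) x = σ 1 x + σ β x → x = 0) : ∀ x, c x ∈ Zb := by
  intro x
  obtain ⟨y, hy, hz⟩ := hcw x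
  have h4 := hU _ (he x)
  rw [map_sub, map_add, ← hc _ hβ1, ← hc _ one_ne_zero, ← hc _ hβ] at h4
  have hy0 : y = 0 := by
    refine hg2 y hy ?_
    rw [← sub_eq_zero]
    refine hVZ _ (Vb.sub_mem (hV _ hβ1 y hy) (Vb.add_mem (hV _ one_ne_zero y hy) (hV _ hβ y hy))) ?_
    have k := Zb.sub_mem (hZ _ hβ1 _ hz) (Zb.add_mem (hZ _ one_ne_zero _ hz) (hZ _ hβ _ hz))
    rw [map_sub, map_sub, map_sub] at k
    have e : σ (1 + β) y - (σ 1 y + σ β y) =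
        -(σ (1 + β) (c x) - σ (1 + β) y - (σ 1 (c x) - σ 1 y + (σ β (c x) - σ β y))) +
          (σ (1 + β) (c x) - (σ 1 (c x) + σ β (c x))) := by abel
    rw [e, h4, add_zero]
    exact Zb.neg_mem k
  rwa [hy0, sub_zero] at hz

end weights

/-! ### LEMMA T -/

universe u
variable {G : Type u} [Group G] {ι : Type*} {F : Type*} [Field F]
variable {V : Subgroup G} {R : ι → Subgroup G} {i j : ι} {v : F → F → G} {t : F → G}

theorem add_self (b : BTC V R) (τ : TorD V R i j v t) (x : F) : x + x = 0 := by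
  have h1 := b.V_sq _ ((τ.v_mem (v x 0)).2 ⟨x, 0, rfl⟩)
  rw [← τ.v_add] at h1
  exact (τ.v_inj _ _ h1).1

theorem one_add_ne (b : BTC V R) (τ : TorD V R i j v t) {x : F} (hx : x ≠ 1) : 1 + x ≠ 0 := by
  intro h
  apply hx
  have h1 := add_self b τ 1
  exact (add_left_cancel (h.trans h1.symm))

/-- `[C(V), X] ≤ Y` -/
theorem X_le_cenMod_Y (b : BT V R) : XX V R ≤ cenMod (YY V R) (centralizer (V : Set G)) := by
  refine iSup_le fun k w hw => ⟨b.NV_le_NY (b.W_le_NV k hw), fun c hc => ?_⟩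
  refine UU_le_YY k (mem_inf.2 ⟨?_, ?_⟩)
  · have e : w * c * w⁻¹ * c⁻¹ = w * (c * w⁻¹ * c⁻¹) := by group
    rw [e]
    exact mul_mem hw (conj_mem_of_normalizer (b.cen_le_NW k hc) (inv_mem hw))
  · exact mul_mem (conj_mem_of_normalizer
      (normalizer_le_normalizer_centralizer V (b.W_le_NV k hw)) hc) (inv_mem hc)

/-- an element of `C(V)` acting on `U j / D` trivially acts trivially on all `U k / D` -/
theorem transport (b : BT V R) {p : G} (hp : p ∈ centralizer (V : Set G)) {i j : ι}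
    (h : ∀ u ∈ UU V R j, p * u * p⁻¹ * u⁻¹ ∈ DD V R) {u : G} (hu : u ∈ UU V R i) :
    p * u * p⁻¹ * u⁻¹ ∈ DD V R := by
  obtain ⟨x, hx, e1⟩ := b.trans_X_one j i
  have hxV := b.X_le_NV hx
  have hu' : x⁻¹ * u * x ∈ UU V R j := by
    rw [← mem_cj, b.cj_UU hxV e1]; exact hu
  have hy : x⁻¹ * p * x * p⁻¹ ∈ YY V R := by
    have := (X_le_cenMod_Y b (inv_mem hx)).2 p hp
    rwa [inv_inv] at this
  have h1 := conj_mem_of_normalizer (b.Y_le_ND hy) (h _ hu')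
  have h2 := b.Y_comm hy (UU_le_YY j hu')
  have h3 := conj_mem_of_normalizer (b.NV_le_ND hxV) (mul_mem h1 h2)
  have e : x * (x⁻¹ * p * x * p⁻¹ * (p * (x⁻¹ * u * x) * p⁻¹ * (x⁻¹ * u * x)⁻¹) * (x⁻¹ * p * x * p⁻¹)⁻¹ *
      (x⁻¹ * p * x * p⁻¹ * (x⁻¹ * u * x) * (x⁻¹ * p * x * p⁻¹)⁻¹ * (x⁻¹ * u * x)⁻¹)) * x⁻¹ =
      p * u * p⁻¹ * u⁻¹ := by group
  rwa [e] at h3

/-- an element of `C(V)` trivial on `U i / D` is trivial on `D / V` -/
theorem act_D (b : BTC V R) {p : G} (hp : p ∈ centralizer (V : Set G)) {i : ι}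
    (h : ∀ u ∈ UU V R i, p * u * p⁻¹ * u⁻¹ ∈ DD V R) {d : G} (hd : d ∈ DD V R) :
    p * d * p⁻¹ * d⁻¹ ∈ V := by
  have hpD := b.NV_le_ND (cen_le_NV V hp)
  have hd' := conj_mem_of_normalizer hpD hd
  have he : p * d * p⁻¹ * d⁻¹ ∈ DD V R := mul_mem hd' (inv_mem hd)
  refine b.cen_DU (i := i) he fun u hu => ?_
  have huY := UU_le_YY i hu
  -- `[p d p⁻¹, u] = [d, u]`
  have k1 : p * d * p⁻¹ * u * (p * d * p⁻¹)⁻¹ * u⁻¹ = d * u * d⁻¹ * u⁻¹ := by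
    have h1 := h u hu
    set d' := p * u * p⁻¹ * u⁻¹ with hd'def
    have h2 := b.lam_mul hd' (b.D_le_Y h1) huY
    have h3 := b.lam_D hd' h1
    rw [h3, one_mul] at h2
    rw [← h2]
    have h4 := mem_centralizer_iff.1 hp _ (b.lam_mem hd huY)
    have e : p * d * p⁻¹ * (d' * u) * (p * d * p⁻¹)⁻¹ * (d' * u)⁻¹ =
        p * (d * u * d⁻¹ * u⁻¹) * p⁻¹ := by rw [hd'def]; group
    rw [e, ← h4]; group
  have k2 := b.lam_mul_left he hd huY
  have e : p * d * p⁻¹ * d⁻¹ * d = p * d * p⁻¹ := by group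
  rw [e, k1] at k2
  have k3 := right_eq_mul.1 k2
  rw [mul_inv_eq_one, mul_inv_eq_iff_eq_mul] at k3
  exact k3

/-- step 1: `[U j, P] ≤ Q i` -/
theorem step_one [Finite F] (b : BTC V R) (τ : TorD V R i j v t) (h5 : 5 ≤ Nat.card F) {P : Subgroup G}
    (hPN : P ≤ normalizer (R i : Set G)) (hU : UU V R j ≤ normalizer (P : Set G))
    (hT : ∀ p ∈ P, ∀ a, a ≠ 0 → t a * p * (t a)⁻¹ * p⁻¹ ∈ QQ (R i)) :
    UU V R j ≤ cenMod (QQ (R i)) P := by
  obtain ⟨β, hβ, hβ1, -⟩ := exists_outside h5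
  have hβ2 := one_add_ne b τ hβ1
  have hNQ := le_normalizer_O2 (normalizer (R i : Set G))
  have htC : ∀ a, a ≠ 0 → t a ∈ cenMod (QQ (R i)) P := fun a ha =>
    ⟨hNQ (τ.normR ha), fun p hp => hT p hp a ha⟩
  have hQC : QQ (R i) ≤ cenMod (QQ (R i)) P := fun x hx => ⟨hNQ (b.Q_le i hx), fun p hp => by
    have e : x * p * x⁻¹ * p⁻¹ = x * (p * x⁻¹ * p⁻¹) := by group
    rw [e]
    exact mul_mem hx (conj_mem_of_normalizer (hNQ (hPN hp)) (inv_mem hx))⟩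
  intro u hu
  have huQ := hNQ (b.cen_le_N i (UU_le_cen j hu))
  have huP := hU hu
  -- `(t a)⁻¹ u (t a) u⁻¹ ∈ C`
  have key : ∀ a, a ≠ 0 → (t a)⁻¹ * u * t a * u⁻¹ ∈ cenMod (QQ (R i)) P := by
    intro a ha
    have h1 : u * t a * u⁻¹ ∈ cenMod (QQ (R i)) P := by
      refine ⟨mul_mem (mul_mem huQ (htC a ha).1) (inv_mem huQ), fun p hp => ?_⟩
      have h2 := conj_mem_of_normalizer huQ ((htC a ha).2 _ (conj_inv_mem_of_normalizer huP hp))
      have e : u * (t a * (u⁻¹ * p * u) * (t a)⁻¹ * (u⁻¹ * p * u)⁻¹) * u⁻¹ =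
          u * t a * u⁻¹ * p * (u * t a * u⁻¹)⁻¹ * p⁻¹ := by group
      rwa [e] at h2
    have e : (t a)⁻¹ * u * t a * u⁻¹ = (t a)⁻¹ * (u * t a * u⁻¹) := by group
    rw [e]
    exact mul_mem (inv_mem (htC a ha)) h1
  have h1 := hQC (b.W_le_Q i (D_le_W V R i (τ.wU' 1 β one_ne_zero hβ hβ2 u hu)))
  have k1 := key 1 one_ne_zero
  have k2 := key β hβ
  have k3 := key (1 + β) hβ2
  have h2 := mul_mem (mul_mem (mul_mem k2 (inv_mem k3)) h1) k1
  have e : (t β)⁻¹ * u * t β * u⁻¹ * ((t (1 + β))⁻¹ * u * t (1 + β) * u⁻¹)⁻¹ *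
      ((t (1 + β))⁻¹ * u * t (1 + β) * ((t 1)⁻¹ * u * t 1 * ((t β)⁻¹ * u * t β))⁻¹) *
      ((t 1)⁻¹ * u * t 1 * u⁻¹) = u⁻¹ := by group
  rw [e] at h2
  exact inv_mem_iff.1 h2

/-- the commutator of `p` with `W i` -/
theorem cen_UU_of (b : BT V R) {p : G} (hpR : ∀ r ∈ R i, p * r * p⁻¹ = r)
    (hpW : p ∈ normalizer (WW V (R i) : Set G))
    (h : ∀ u ∈ UU V R i, p * u * p⁻¹ * u⁻¹ ∈ R i) {w : G} (hw : w ∈ WW V (R i)) {u : G}
    (hu : u ∈ UU V R i) : p * w * p⁻¹ * w⁻¹ * u = u * (p * w * p⁻¹ * w⁻¹) := by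
  have hw' := conj_mem_of_normalizer hpW hw
  have hr := h u hu
  have h1 := hpR _ (b.WU hw hu)
  have k0 := b.QR i _ (b.W_le_Q i hw') _ hr
  have k1 : p * w * p⁻¹ * u * (p * w * p⁻¹)⁻¹ * u⁻¹ = w * u * w⁻¹ * u⁻¹ := by
    rw [← h1]
    set r := p * u * p⁻¹ * u⁻¹ with hrdef
    have e : p * (w * u * w⁻¹ * u⁻¹) * p⁻¹ = p * w * p⁻¹ * (r * u) * (p * w * p⁻¹)⁻¹ * (r * u)⁻¹ := by
      rw [hrdef]; group
    have e2 : p * w * p⁻¹ * (r * u) * (p * w * p⁻¹)⁻¹ * (r * u)⁻¹ =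
        (p * w * p⁻¹ * r) * u * (p * w * p⁻¹)⁻¹ * u⁻¹ * r⁻¹ := by group
    have k2 := b.QR i _ (b.W_le_Q i (mul_mem (mul_mem (mul_mem hw' (UU_le_WW i hu)) (inv_mem hw'))
      (inv_mem (UU_le_WW i hu)))) _ hr
    rw [e, e2, k0]
    calc p * w * p⁻¹ * u * (p * w * p⁻¹)⁻¹ * u⁻¹
        = p * w * p⁻¹ * u * (p * w * p⁻¹)⁻¹ * u⁻¹ * r * r⁻¹ := by group
      _ = r * (p * w * p⁻¹ * u * (p * w * p⁻¹)⁻¹ * u⁻¹) * r⁻¹ := by rw [k2]
      _ = r * (p * w * p⁻¹) * u * (p * w * p⁻¹)⁻¹ * u⁻¹ * r⁻¹ := by group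
  have k3 := b.conj_R (b.W_le_Q i (mul_mem hw' (inv_mem hw))) (b.WU hw hu)
  have e : p * w * p⁻¹ * u * (p * w * p⁻¹)⁻¹ * u⁻¹ =
      (p * w * p⁻¹ * w⁻¹) * (w * u * w⁻¹ * u⁻¹) * (p * w * p⁻¹ * w⁻¹)⁻¹ *
        ((p * w * p⁻¹ * w⁻¹) * u * (p * w * p⁻¹ * w⁻¹)⁻¹ * u⁻¹) := by group
  rw [k1, k3] at e
  have k4 := left_eq_mul.1 e
  rw [mul_inv_eq_one, mul_inv_eq_iff_eq_mul] at k4
  exact k4

theorem main_aux [Finite F] (b : BTC V R) (τ : TorD V R i j v t) (h5 : 5 ≤ Nat.card F) {p : G}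
    (hpV : p ∈ centralizer (V : Set G)) (hpj : ∀ u ∈ UU V R j, p * u * p⁻¹ * u⁻¹ ∈ QQ (R i))
    (hT : ∀ a, a ≠ 0 → t a * p * (t a)⁻¹ * p⁻¹ ∈ QQ (R i)) :
    (∀ u ∈ UU V R i, p * u * p⁻¹ * u⁻¹ ∈ R i) ∧
      ∀ w ∈ WW V (R i), p * w * p⁻¹ * w⁻¹ ∈ centralizer (WW V (R i) : Set G) := by
  obtain ⟨β, hβ, hβ1, hβ3⟩ := exists_outside h5
  have hβ2 := one_add_ne b τ hβ1
  have hpN := b.cen_le_N i hpV
  have hpW := b.cen_le_NW i hpV
  -- `p` on `U j / D`, `U i / D`, `D / V`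
  have hUj : ∀ u ∈ UU V R j, p * u * p⁻¹ * u⁻¹ ∈ DD V R := by
    intro u hu
    rw [← b.UK τ.ne]
    exact mem_inf.2 ⟨mul_mem (conj_mem_of_normalizer (b.cen_le_NU j hpV) hu) (inv_mem hu),
      b.Q_le_K i (hpj u hu)⟩
  have hUi : ∀ u ∈ UU V R i, p * u * p⁻¹ * u⁻¹ ∈ DD V R := fun u hu => transport b.toBT hpV hUj hu
  have hDV : ∀ d ∈ DD V R, p * d * p⁻¹ * d⁻¹ ∈ V := fun d hd => act_D b hpV hUi hd
  -- the module `W i / R i`
  obtain ⟨M, _, q, m⟩ := exists_mod (WW V (R i)) (R i) fun x hx y hy => b.WW_comm i hx hy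
  have hRW : R i ≤ WW V (R i) := (b.R_le i).trans (V_le_WW V (R i))
  obtain ⟨A, hA⟩ := m.exists_act hpW hpN
  have htW : ∀ a, a ≠ 0 → t a ∈ normalizer (WW V (R i) : Set G) := fun a ha =>
    normalizer_le_WW V (R i) (τ.normR ha)
  have hσ : ∀ a, ∃ B : M →+ M, a ≠ 0 → ∀ x ∈ WW V (R i), B (q x) = q (t a * x * (t a)⁻¹) := by
    intro a
    by_cases ha : a = 0
    · exact ⟨0, fun h => absurd ha h⟩
    · obtain ⟨B, hB⟩ := m.exists_act (htW a ha) (τ.normR ha)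
      exact ⟨B, fun _ => hB⟩
  choose σ hσ using hσ
  let c : M →+ M := A - AddMonoidHom.id M
  have hcq : ∀ x ∈ WW V (R i), c (q x) = q (p * x * p⁻¹ * x⁻¹) := by
    intro x hx
    change A (q x) - q x = _
    rw [hA x hx, ← m.sub (conj_mem_of_normalizer hpW hx) hx]
  have hcσ : ∀ a, a ≠ 0 → ∀ x, σ a (c x) = c (σ a x) := by
    intro a ha x
    obtain ⟨x, hx, rfl⟩ := m.surj x
    have hx1 := conj_mem_of_normalizer hpW hx
    have hx2 := conj_mem_of_normalizer (htW a ha) hx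
    have hx3 := conj_mem_of_normalizer (htW a ha) hx1
    have hx4 := conj_mem_of_normalizer hpW hx2
    change σ a (A (q x) - q x) = A (σ a (q x)) - σ a (q x)
    rw [map_sub, hA x hx, hσ a ha x hx, hσ a ha _ hx1, hA _ hx2]
    congr 1
    rw [m.eq_iff hx3 hx4]
    have h1 := b.WQ i (hT a ha) hx4
    have e : t a * p * (t a)⁻¹ * p⁻¹ * (p * (t a * x * (t a)⁻¹) * p⁻¹) * (t a * p * (t a)⁻¹ * p⁻¹)⁻¹ *
        (p * (t a * x * (t a)⁻¹) * p⁻¹)⁻¹ =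
        t a * (p * x * p⁻¹) * (t a)⁻¹ * (p * (t a * x * (t a)⁻¹) * p⁻¹)⁻¹ := by group
    rwa [e] at h1
  let Vb := m.img V (V_le_WW V (R i))
  let Db := m.img (DD V R) (D_le_W V R i)
  let Ub := m.img (UU V R i) (UU_le_WW i)
  -- elements of `V / R i`
  have hVq : ∀ x ∈ Vb, ∃ y, x = q (v 0 y) := by
    rintro _ ⟨x, hx, rfl⟩
    obtain ⟨x1, x2, rfl⟩ := (τ.v_mem x).1 hx
    refine ⟨x2, ?_⟩
    have e := τ.v_add x1 0 0 x2
    rw [add_zero, zero_add] at e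
    rw [e, m.mul _ (V_le_WW V (R i) ((τ.v_mem _).2 ⟨_, _, rfl⟩)) _
      (V_le_WW V (R i) ((τ.v_mem _).2 ⟨_, _, rfl⟩)),
      (m.zero _ (V_le_WW V (R i) ((τ.v_mem _).2 ⟨_, _, rfl⟩))).2 ((τ.Ri _).2 ⟨_, rfl⟩), zero_add]
  have hvW : ∀ y, v 0 y ∈ WW V (R i) := fun y => V_le_WW V (R i) ((τ.v_mem _).2 ⟨_, _, rfl⟩)
  have hVadd : ∀ y y', q (v 0 (y + y')) = q (v 0 y) + q (v 0 y') := by
    intro y y'
    have e := τ.v_add 0 y 0 y'
    rw [add_zero] at e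
    rw [e, m.mul _ (hvW _) _ (hvW _)]
  have hVzero : ∀ y, q (v 0 y) = 0 → y = 0 := by
    intro y hy
    have h1 := (m.zero _ (hvW y)).1 hy
    have h2 := b.eq_one τ.ne h1 ((τ.Rj _).2 ⟨y, rfl⟩)
    exact (τ.v_inj _ _ h2).2
  have hVσ : ∀ a, a ≠ 0 → ∀ y, σ a (q (v 0 y)) = q (v 0 (a⁻¹ * y)) := by
    intro a ha y
    rw [hσ a ha _ (hvW y), τ.act a 0 y ha, mul_zero]
  have hV00 : q (v 0 0) = 0 := by
    have h := hVadd 0 0
    rw [add_zero] at h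
    exact left_eq_add.1 h
  have hV0 : ∀ x ∈ Vb, c x = 0 := by
    rintro _ ⟨x, hx, rfl⟩
    rw [hcq x (V_le_WW V (R i) hx), ← mem_centralizer_iff.1 hpV x hx]
    have e : x * p * p⁻¹ * x⁻¹ = 1 := by group
    rw [e, m.one]
  have hg1 : ∀ x ∈ Vb, σ β x = x → x = 0 := by
    intro x hx h
    obtain ⟨y, rfl⟩ := hVq x hx
    rw [hVσ β hβ] at h
    have h1 : q (v 0 (β⁻¹ * y + y)) = 0 := by
      rw [hVadd, h, ← hVadd, add_self b τ, hV00]
    have h2 := hVzero _ h1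
    have h3 : (1 + β) * y = 0 := by
      have : (1 + β) * y = β * (β⁻¹ * y + y) := by field_simp
      rw [this, h2, mul_zero]
    rw [(mul_eq_zero.1 h3).resolve_left hβ2, hV00]
  have hg2 : ∀ x ∈ Vb, σ (1 + β) x = σ 1 x + σ β x → x = 0 := by
    intro x hx h
    obtain ⟨y, rfl⟩ := hVq x hx
    rw [hVσ _ hβ2, hVσ _ one_ne_zero, hVσ β hβ, ← hVadd] at h
    have h1 : q (v 0 ((1 + β)⁻¹ * y - (1⁻¹ * y + β⁻¹ * y))) = 0 := by
      have h2 := hVadd ((1 + β)⁻¹ * y - (1⁻¹ * y + β⁻¹ * y)) (1⁻¹ * y + β⁻¹ * y)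
      rw [sub_add_cancel, h] at h2
      exact right_eq_add.1 h2
    have h2 := hVzero _ h1
    have h3 : (β * β + β + 1) * y = 0 := by
      have e2 : β * (1 + β) * ((1 + β)⁻¹ * y - (1⁻¹ * y + β⁻¹ * y)) =
          -(β * β + β + 1) * y := by
        field_simp
        ring
      rw [h2, mul_zero] at e2
      rw [← neg_eq_zero, ← neg_mul, ← e2]
    rw [(mul_eq_zero.1 h3).resolve_left hβ3, hV00]
  have hU0 : ∀ x ∈ Ub, c x = 0 := by
    refine weights_U σ c Vb Db Ub hcσ hV0 ?_ ?_ ?_ hβ hβ2 ?_ hg1 hg2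
    · rintro _ ⟨d, hd, rfl⟩
      rw [hcq d (D_le_W V R i hd)]
      exact ⟨_, hDV d hd, rfl⟩
    · rintro _ ⟨u, hu, rfl⟩
      rw [hcq u (UU_le_WW i hu)]
      exact ⟨_, hUi u hu, rfl⟩
    · rintro a ha _ ⟨d, hd, rfl⟩
      have hdW := D_le_W V R i hd
      rw [hσ a ha d hdW, ← m.sub (conj_mem_of_normalizer (htW a ha) hdW) hdW]
      exact ⟨_, b.XD (τ.memX a ha) hd, rfl⟩
    · rintro _ ⟨u, hu, rfl⟩
      have huW := UU_le_WW i hu
      rw [hσ _ hβ2 u huW, hσ _ one_ne_zero u huW, hσ β hβ u huW,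
        ← m.mul _ (conj_mem_of_normalizer (htW _ one_ne_zero) huW) _
          (conj_mem_of_normalizer (htW β hβ) huW), ← m.sub (conj_mem_of_normalizer (htW _ hβ2) huW)
          (mul_mem (conj_mem_of_normalizer (htW _ one_ne_zero) huW) (conj_mem_of_normalizer (htW β hβ) huW))]
      exact ⟨_, τ.wU 1 β one_ne_zero hβ hβ2 u hu, rfl⟩
  have hUR : ∀ u ∈ UU V R i, p * u * p⁻¹ * u⁻¹ ∈ R i := by
    intro u hu
    have huW := UU_le_WW i hu
    have h := hU0 _ (m.mem_img (hA := UU_le_WW i) hu)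
    rw [hcq u huW] at h
    exact (m.zero _ (mul_mem (conj_mem_of_normalizer hpW huW) (inv_mem huW))).1 h
  refine ⟨hUR, ?_⟩
  -- the second half
  have hpR : ∀ r ∈ R i, p * r * p⁻¹ = r := fun r hr => by
    rw [← mem_centralizer_iff.1 hpV r (b.R_le i hr), mul_inv_cancel_right]
  have hZW : WW V (R i) ⊓ centralizer (WW V (R i) : Set G) ≤ WW V (R i) := inf_le_left
  let Zb := m.img _ hZW
  have hVZ : ∀ x ∈ Vb, x ∈ Zb → x = 0 := by
    rintro _ ⟨x, hx, rfl⟩ ⟨z, hz, hxz⟩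
    have hxW := V_le_WW V (R i) hx
    have h1 := (m.eq_iff hz.1 hxW).1 hxz
    have h2 : x ∈ centralizer (WW V (R i) : Set G) := by
      have e : x = (z * x⁻¹)⁻¹ * z := by group
      rw [e]
      exact mul_mem (inv_mem (b.R_cen_W i h1)) hz.2
    exact (m.zero x hxW).2 (b.cen_DW (V_le_D V R hx) h2)
  have hW0 := weights_W σ c Vb Ub Zb hcσ hU0 hVZ
    (by
      rintro a ha _ ⟨x, hx, rfl⟩
      rw [hσ a ha x (V_le_WW V (R i) hx)]
      exact ⟨_, conj_mem_of_normalizer (b.X_le_NV (τ.memX a ha)) hx, rfl⟩)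
    (by
      rintro a ha _ ⟨x, hx, rfl⟩
      rw [hσ a ha x hx.1]
      exact ⟨_, mem_inf.2 ⟨conj_mem_of_normalizer (htW a ha) hx.1,
        conj_mem_of_normalizer (normalizer_le_normalizer_centralizer _ (htW a ha)) hx.2⟩, rfl⟩)
    (by
      intro x
      obtain ⟨w, hw, rfl⟩ := m.surj x
      have hw' := mul_mem (conj_mem_of_normalizer hpW hw) (inv_mem hw)
      obtain ⟨y, hy, hz⟩ := b.cen_U (b.W_le_Q i hw') fun u hu =>
        cen_UU_of b.toBT hpR hpW hUR hw hu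
      have hyW := V_le_WW V (R i) hy
      refine ⟨q y, m.mem_img (hA := V_le_WW V (R i)) hy, ?_⟩
      have e : c (q w) - q y = q (y⁻¹ * (p * w * p⁻¹ * w⁻¹)) := by
        rw [hcq w hw, m.mul _ (inv_mem hyW) _ hw', m.inv hyW]; abel
      rw [e]
      exact ⟨_, mem_inf.2 ⟨mul_mem (inv_mem hyW) hw', hz⟩, rfl⟩)
    hβ hβ2
    (by
      intro x
      obtain ⟨u, huW, rfl⟩ := m.surj x
      rw [hσ _ hβ2 u huW, hσ _ one_ne_zero u huW, hσ β hβ u huW,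
        ← m.mul _ (conj_mem_of_normalizer (htW _ one_ne_zero) huW) _
          (conj_mem_of_normalizer (htW β hβ) huW), ← m.sub (conj_mem_of_normalizer (htW _ hβ2) huW)
          (mul_mem (conj_mem_of_normalizer (htW _ one_ne_zero) huW) (conj_mem_of_normalizer (htW β hβ) huW))]
      exact ⟨_, τ.wW 1 β one_ne_zero hβ hβ2 u huW, rfl⟩)
    hg2
  intro w hw
  obtain ⟨z, hz, hzw⟩ := hW0 (q w)
  rw [hcq w hw] at hzw
  have hw' := mul_mem (conj_mem_of_normalizer hpW hw) (inv_mem hw)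
  have h1 := (m.eq_iff hz.1 hw').1 hzw
  have e : p * w * p⁻¹ * w⁻¹ = (z * (p * w * p⁻¹ * w⁻¹)⁻¹)⁻¹ * z := by group
  rw [e]
  exact mul_mem (inv_mem (b.R_cen_W i h1)) hz.2

/-- the elements of `N` trivial on `W i / Z(W i)` and on `Z(W i) / R i` -/
def KT (V : Subgroup G) (R : ι → Subgroup G) (i : ι) (N : Subgroup G) : Subgroup G :=
  N ⊓ cenMod (centralizer (WW V (R i) : Set G)) (WW V (R i)) ⊓
    cenMod (R i) (WW V (R i) ⊓ centralizer (WW V (R i) : Set G))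

theorem KT_isPGroup [Finite G] (b : BTC V R) {N : Subgroup G} (hN : N ≤ centralizer (R i : Set G)) :
    IsPGroup 2 (KT V R i N) := by
  refine isPGroup_of_odd fun c hc ho => ?_
  obtain ⟨⟨hcN, hc1⟩, hc2⟩ := hc
  have hcR := hN hcN
  have hcW := normalizer_le_WW V (R i) (centralizer_le_normalizer (R i : Set G) hcR)
  have k1 : ∀ z ∈ WW V (R i) ⊓ centralizer (WW V (R i) : Set G), c * z = z * c := by
    intro z hz
    have h := hc2.2 z hz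
    exact comm_of_odd ho ((b.W_isPGroup i).to_le ((b.R_le i).trans (V_le_WW V (R i)))) h
      (mem_centralizer_iff.1 hcR _ h).symm
  have h1 : c ∈ centralizer (WW V (R i) : Set G) := by
    rw [mem_centralizer_iff]
    intro w hw
    have h := hc1.2 w hw
    have h' := mul_mem (conj_mem_of_normalizer hcW hw) (inv_mem hw)
    exact (comm_of_odd ho (b.cen_W_isPGroup i) h (k1 _ (mem_inf.2 ⟨h', h⟩))).symm
  obtain ⟨n, hn⟩ := b.cen_W_isPGroup i ⟨c, h1⟩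
  have hn' : c ^ 2 ^ n = 1 := congrArg Subtype.val hn
  have hd := Nat.dvd_gcd (dvd_refl (orderOf c)) (orderOf_dvd_of_pow_eq_one hn')
  have hco : Nat.gcd (orderOf c) (2 ^ n) = 1 := (Nat.coprime_two_right.2 ho).pow_right n
  rw [hco, Nat.dvd_one, orderOf_eq_one_iff] at hd
  exact hd

theorem KT_le_Q [Finite G] (b : BTC V R) {N : Subgroup G} (hN : N ≤ centralizer (R i : Set G))
    (hNn : ∀ g ∈ centralizer (R i : Set G), ∀ x ∈ N, g * x * g⁻¹ ∈ N) : KT V R i N ≤ QQ (R i) := by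
  refine le_O2_of_chain (B := N) (C := centralizer (R i : Set G)) (inf_le_left.trans inf_le_left) hN
    (centralizer_le_normalizer _) (KT_isPGroup b hN) ?_ hNn ?_
  · intro g hg a ha
    have hgR : g ∈ normalizer (R i : Set G) := centralizer_le_normalizer _ (hN hg)
    have hgW := normalizer_le_WW V (R i) hgR
    have hgC : g ∈ normalizer (centralizer (WW V (R i) : Set G) : Set G) :=
      normalizer_le_normalizer_centralizer _ hgW
    obtain ⟨⟨haN, ha1⟩, ha2⟩ := ha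
    have n1 : g * a * g⁻¹ ∈ normalizer (centralizer (WW V (R i) : Set G) : Set G) :=
      mul_mem (mul_mem hgC ha1.1) (inv_mem hgC)
    have n2 : g * a * g⁻¹ ∈ normalizer (R i : Set G) := mul_mem (mul_mem hgR ha2.1) (inv_mem hgR)
    have n3 : g * a * g⁻¹ ∈ N := mul_mem (mul_mem hg haN) (inv_mem hg)
    refine ⟨⟨n3, n1, fun w hw => ?_⟩, n2, fun w hw => ?_⟩
    · have h1 := conj_mem_of_normalizer hgC (ha1.2 _ (conj_inv_mem_of_normalizer hgW hw))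
      have e : g * (a * (g⁻¹ * w * g) * a⁻¹ * (g⁻¹ * w * g)⁻¹) * g⁻¹ =
          g * a * g⁻¹ * w * (g * a * g⁻¹)⁻¹ * w⁻¹ := by group
      rwa [e] at h1
    · have hw' : g⁻¹ * w * g ∈ WW V (R i) ⊓ centralizer (WW V (R i) : Set G) :=
        mem_inf.2 ⟨conj_inv_mem_of_normalizer hgW hw.1, conj_inv_mem_of_normalizer hgC hw.2⟩
      have h1 := conj_mem_of_normalizer hgR (ha2.2 _ hw')
      have e : g * (a * (g⁻¹ * w * g) * a⁻¹ * (g⁻¹ * w * g)⁻¹) * g⁻¹ =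
          g * a * g⁻¹ * w * (g * a * g⁻¹)⁻¹ * w⁻¹ := by group
      rwa [e] at h1
  · exact fun g hg c hc => conj_mem_of_normalizer (normalizer_le_normalizer_centralizer _ hg) hc

/-- **LEMMA T** (`#11575`): `q ≥ 8`, `N` normal in `C(R i)`, `P ≤ N` covered by `C(V)` modulo `Q i`,
normalised by `U j` and centralised by the torus modulo `Q i` ⇒ `P ≤ Q i`. -/
theorem lemT [Finite G] [Finite F] (b : BTC V R) (τ : TorD V R i j v t) (h5 : 5 ≤ Nat.card F)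
    {N P : Subgroup G} (hN : N ≤ centralizer (R i : Set G))
    (hNn : ∀ g ∈ centralizer (R i : Set G), ∀ x ∈ N, g * x * g⁻¹ ∈ N)
    (hPN : P ≤ N) (hP : P ≤ (P ⊓ centralizer (V : Set G)) ⊔ QQ (R i))
    (hU : UU V R j ≤ normalizer (P : Set G))
    (hT : ∀ p ∈ P, ∀ a, a ≠ 0 → t a * p * (t a)⁻¹ * p⁻¹ ∈ QQ (R i)) : P ≤ QQ (R i) := by
  have hPR : P ≤ normalizer (R i : Set G) := hPN.trans (hN.trans (centralizer_le_normalizer _))
  have h1 := step_one b τ h5 hPR hU hT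
  refine hP.trans (sup_le ?_ le_rfl)
  rintro p ⟨hp, hpV⟩
  have hpj : ∀ u ∈ UU V R j, p * u * p⁻¹ * u⁻¹ ∈ QQ (R i) := by
    intro u hu
    have e : p * u * p⁻¹ * u⁻¹ = (u * p * u⁻¹ * p⁻¹)⁻¹ := by group
    rw [e]
    exact inv_mem ((h1 hu).2 p hp)
  obtain ⟨h2, h3⟩ := main_aux b τ h5 hpV hpj (hT p hp)
  refine KT_le_Q b hN hNn ⟨⟨hPN hp, ?_, h3⟩, hPR hp, ?_⟩
  · exact normalizer_le_normalizer_centralizer _ (normalizer_le_WW V (R i) (hPR hp))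
  · intro z hz
    exact h2 z (mem_inf.2 ⟨hz.1, cen_W_le V (R i) hz.2⟩)

end Cfsg.Agent.Omega.Lie.LemT
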