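import Cfsg.Agent.Omega.Lie.LayerBT
import Cfsg.Agent.Omega.KFactsZSDone
import Cfsg.Agent.Walter.Main
import Cfsg.Agent.Walter.StepAll
import Cfsg.Agent.S0205

/-!
# NODE LIE: the K-facts `LayerMain.KRows`

`walterThm` (Walter's theorem, S0506), `oddOrd` (the odd order theorem, S0205), `kRows` : `KRows` from the table of the
outer automorphism groups (helper898, helper126).
-/

set_option autoImplicit false

namespace Cfsg.Agent.Omega.Lie.KRowsPlug

open Cfsg Cfsg.Agent.Omega.KFacts

universe u

/-- Walter's theorem (S0506), centraliser form. -/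
theorem walterThm : InvFiveAll.WalterThm.{u} := fun L _ _ hs hna S hS =>
  Cfsg.Agent.Walter.Main.wType_of_step Cfsg.Agent.Walter.StepAll.step L hs hna S hS

/-- The odd order theorem (S0205). -/
theorem oddOrd : LayerMain.OddOrd.{u} := fun _ _ _ h => Cfsg.Agent.S0205.result h

/-- **The K-facts of the component theorem of NODE LIE**, from the outer automorphism groups. -/
theorem kRows (out : ∀ (L : Type u) [Group L] [Finite L], IsLieTypeChar 2 L ∨ OutZS L → OutT.OutNil L) :
    LayerMain.KRows.{u} where
  zs := KFacts.rowsZS
  walter := walterThm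
  odd := oddOrd
  out := out

end Cfsg.Agent.Omega.Lie.KRowsPlug
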