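import Mathlib
import Cfsg.Agent.Omega.Lie.OutT
import Cfsg.Agent.KFacts.SysFree
import Cfsg.Agent.KFacts.SLRow.Row
import Cfsg.Agent.KFacts.RgdGraphF4
import Cfsg.Agent.Nodes.Reindex

/-!
# `OutNil` for the simply laced groups of characteristic two and for `F₄(q)`, `q` even

* `outNil_of_isSLC` : `PSL_n` (`n ≥ 4`), `PΩ⁺_{2n}` (`n ≥ 4`, the triality case included), `E₆, E₇, E₈`;
* `outNil_F4`.
-/

set_option autoImplicit false
set_option linter.unusedSectionVars false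

namespace Cfsg.Agent.Omega.Lie.OutSys

open Cfsg
open CoxeterSystem Cfsg.Agent.ChevalleyStructure.CoxeterGeom Cfsg.Agent.Tits.Roots Cfsg.Agent.Tits.Core
  Cfsg.Agent.Nodes.Reps Cfsg.Agent.Nodes.BNOf Cfsg.Agent.Nodes.RGDLib Cfsg.Agent.KFacts.SLRow.Def
  Cfsg.Agent.KFacts.ChevTwo Cfsg.Agent.KFacts.SLRow.Diag Cfsg.Agent.KFacts.SLRow.Row Cfsg.Agent.KFacts.SysFree
  Cfsg.Agent.Omega.Lie.OutT Cfsg.Agent.KFacts
open Cfsg.Lie Cfsg.Agent.ChevalleyStructure Cfsg.Agent.ChevalleyStructure.CoxeterGeomTypes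
  Cfsg.Agent.Nodes Cfsg.Agent.Nodes.RGDChev Cfsg.Agent.Nodes.KindF

universe u v

/-- If `X` is contained in `N ⟨g⟩`, then `X ≤ N`. -/
theorem le_of_cyclic {B : Type*} [Group B] [Finite B] {X T : Subgroup B} (c : Cfg X T) {N : Subgroup B} [hn : N.Normal]
    {g : B} (h : ∀ x ∈ X, ∃ m : ℤ, ∃ n ∈ N, x = n * g ^ m) : X ≤ N := by
  refine c.le_of_two' fun x hx y hy hxN hyN => ?_
  let π : B →* B ⧸ N := QuotientGroup.mk' N
  have hπ : ∀ b, π b = 1 ↔ b ∈ N := fun b => QuotientGroup.eq_one_iff b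
  obtain ⟨m, a, ha, e1⟩ := h x hx
  obtain ⟨k, b, hb, e2⟩ := h y hy
  have hx1 : π x = π g ^ m := by rw [e1, map_mul, (hπ a).2 ha, one_mul, map_zpow]
  have hy1 : π y = π g ^ k := by rw [e2, map_mul, (hπ b).2 hb, one_mul, map_zpow]
  have hx2 : π g ^ (2 * m) = 1 := by
    rw [two_mul, zpow_add, ← hx1, ← map_mul, c.sq x hx, map_one]
  have hy2 : π g ^ (2 * k) = 1 := by
    rw [two_mul, zpow_add, ← hy1, ← map_mul, c.sq y hy, map_one]
  have hx3 : π g ^ m ≠ 1 := by rw [← hx1]; exact fun h0 => hxN ((hπ x).1 h0)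
  have hy3 : π g ^ k ≠ 1 := by rw [← hy1]; exact fun h0 => hyN ((hπ y).1 h0)
  rw [← hπ, map_mul, hx1, hy1, ← zpow_add, ← orderOf_dvd_iff_zpow_eq_one]
  rw [← orderOf_dvd_iff_zpow_eq_one] at hx2 hy2
  rw [Ne, ← orderOf_dvd_iff_zpow_eq_one] at hx3 hy3
  obtain ⟨r, hr⟩ := hx2
  obtain ⟨s, hs⟩ := hy2
  have hro : ¬ (2 : ℤ) ∣ r := by
    rintro ⟨r', rfl⟩
    apply hx3
    refine ⟨r', ?_⟩
    have : (2 : ℤ) * m = 2 * ((orderOf (π g) : ℤ) * r') := by rw [hr]; ring
    omega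
  have hso : ¬ (2 : ℤ) ∣ s := by
    rintro ⟨s', rfl⟩
    apply hy3
    refine ⟨s', ?_⟩
    have : (2 : ℤ) * k = 2 * ((orderOf (π g) : ℤ) * s') := by rw [hs]; ring
    omega
  have hrs : (2 : ℤ) ∣ r + s := by omega
  obtain ⟨w, hw⟩ := hrs
  refine ⟨w, ?_⟩
  have : (2 : ℤ) * (m + k) = 2 * ((orderOf (π g) : ℤ) * w) := by
    have h1 : (2 : ℤ) * (m + k) = (orderOf (π g) : ℤ) * (r + s) := by rw [mul_add, hr, hs]; ring
    rw [h1, hw]; ring
  omega

/-- **The simply laced groups.** -/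
theorem outNil_of_isSLC {q l : ℕ} {M : CoxeterMatrix (Fin l)} {L : Type v} [Group L] [Finite L]
    (hK : IsSLC q M L) : OutNil L := by
  obtain ⟨A, h, T₀, n, X₀, F, _, _, _, e, hW, rfl, hM, D, S⟩ := hK
  have hI : Nonempty (Fin l) := by
    rw [← Fintype.card_pos_iff]
    have := D.three
    omega
  have H : Hyp M.toCoxeterSystem h T₀ X₀ := hyp_of_SL (R := D.rgd) D.gen D.cent (fun J hJ hJ1 => by
    obtain ⟨i, hi, j, hj, hij⟩ := D.irr J hJ (Set.nonempty_compl.2 hJ1)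
    exact ⟨i, hi, j, hj, hij⟩) D.h4 D.h6
  obtain ⟨o, ho⟩ := exists_isOut S H
  rw [outNil_iff]
  intro X T c x hx
  -- diagram symmetries
  have hsym : ∀ α i j, M ((o α).1 i) ((o α).1 j) = M i j := by
    intro α i j
    obtain ⟨y, β, -, B⟩ := ho.rep α
    exact (Reindex.matrix_eq h h (e := (o α).1) (fun i j => (B.cartan i j).symm) i j).symm
  have h1 : o x = 1 := by
    have hX : X ≤ o.ker := by
      refine c.le_of fun x hx t ht => ?_
      rw [MonoidHom.mem_ker, map_mul, map_mul, map_mul, map_inv, map_inv]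
      refine Prod.ext ?_ ?_
      · -- the diagram part
        show (o x).1⁻¹ * ((o t).1 * (o x).1 * (o t).1⁻¹) = 1
        rw [inv_mul_eq_one]
        by_cases h0 : (o x).1 = 1
        · rw [h0]; group
        have hP : IsPGroup 2 ↥(X.map ((MonoidHom.fst _ _).comp o)) := by
          have h2 : IsPGroup 2 ↥X := fun x => ⟨1, by
            rw [pow_one, pow_two]
            exact Subtype.ext (c.sq x x.2)⟩
          exact h2.map _
        refine hM _ hP ?_ _ ⟨x, hx, rfl⟩ _ ⟨t * x * t⁻¹, c.nrm t ht x hx, ?_⟩ h0 ?_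
        · rintro _ ⟨α, -, rfl⟩
          exact hsym α
        · show (o (t * x * t⁻¹)).1 = _
          rw [map_mul, map_mul, map_inv]
          rfl
        · intro h3
          apply h0
          have h4 : (o x).1 = (o t).1⁻¹ * ((o t).1 * (o x).1 * (o t).1⁻¹) * (o t).1 := by group
          rw [h4, h3, mul_one, inv_mul_cancel]
      · show (o x).2⁻¹ * ((o t).2 * (o x).2 * (o t).2⁻¹) = 1
        rw [StdRank2.OutField.comm (o t).2 (o x).2, mul_inv_cancel_right, inv_mul_cancel]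
    exact hX hx
  obtain ⟨y, hy⟩ := ho.ker x 1 (by rw [pow_one, pow_two]; exact c.sq x hx) h1
  exact ⟨y, hy.symm⟩

section F4

variable (K : Type u) [Field K] [Finite K] [CharP K 2]

theorem conj_injective {L : Type*} [Group L] (hZ : Subgroup.center L = ⊥) :
    Function.Injective (MulAut.conj : L →* MulAut L) := by
  rw [injective_iff_map_eq_one]
  intro a ha
  have h1 : a ∈ Subgroup.center L := by
    rw [Subgroup.mem_center_iff]
    intro b
    have h2 : MulAut.conj a b = b := by rw [ha]; rfl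
    rw [MulAut.conj_apply, mul_inv_eq_iff_eq_mul] at h2
    exact h2.symm
  rw [hZ, Subgroup.mem_bot] at h1
  exact h1

theorem eq_one_of_comm {L : Type*} [Group L] (hZ : Subgroup.center L = ⊥) {c : MulAut L}
    (hc : ∀ y, c * MulAut.conj y = MulAut.conj y * c) : c = 1 := by
  ext y
  apply conj_injective hZ
  have h1 : MulAut.conj (c y) = c * MulAut.conj y * c⁻¹ := by
    ext z
    simp
  show MulAut.conj (c y) = MulAut.conj y
  rw [h1, hc, mul_inv_cancel_right]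

/-- **`F₄(q)`, `q` even.** -/
theorem outNil_F4 : OutNil ↥(chevF4.group K) := by
  let cs := CoxeterMatrix.F₄.toCoxeterSystem
  have hW : Finite CoxeterMatrix.F₄.Group := finite_W isType cs
  have hp2 : Fact (Nat.Prime 2) := ⟨Nat.prime_two⟩
  have hZ : Subgroup.center ↥(chevF4.group K) = ⊥ := S1077.center_group_eq_bot (K := K) isType.inList
  let f : ↥(chevF4.group K) →* MulAut ↥(chevF4.group K) := MulAut.conj
  have hf : Function.Injective f := conj_injective hZ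
  have hG1 : RGD.Sup (F4Pair.XF K) {x | IsRoot cs isType.isCartan x} = ⊤ := G1_eq_top isType cs
  have R := rgd (K := K) isType cs 2
  obtain ⟨P, hP⟩ := RgdAutFacts.exists_sylow R (by rw [Bruhat.GG, hG1]; exact sup_top_eq _)
  have hfP : IsPGroup 2 ↥((P : Subgroup ↥(chevF4.group K)).map f) := P.2.map f
  obtain ⟨S, hS⟩ := hfP.exists_le_sylow
  -- `S ∩ Inn = f(U)`
  have hSf : ∀ y, f y ∈ S → y ∈ P := by
    intro y hy
    have h1 : P.1 ≤ (S : Subgroup (MulAut ↥(chevF4.group K))).comap f := by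
      intro z hz
      exact hS ⟨z, hz, rfl⟩
    have h2 : IsPGroup 2 ↥((S : Subgroup (MulAut ↥(chevF4.group K))).comap f) := S.2.comap_of_injective f hf
    have h3 := P.3 h2 h1
    have h4 : y ∈ (S : Subgroup (MulAut ↥(chevF4.group K))).comap f := hy
    rw [h3] at h4
    exact h4
  have hconj : ∀ (s : MulAut ↥(chevF4.group K)) y, s * f y * s⁻¹ = f (s y) := by
    intro s y
    ext z
    simp [f]
  have hSU : (S : Subgroup (MulAut ↥(chevF4.group K))) ≤ Subgroup.normalizer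
      (((RGD.Sup (F4Pair.XF K) (RGD.Pos cs isType.isCartan)).map f : Subgroup (MulAut ↥(chevF4.group K))) : Set _) := by
    rw [show RGD.Sup (F4Pair.XF K) (RGD.Pos cs isType.isCartan) = (P : Subgroup ↥(chevF4.group K)) from hP.symm]
    intro s hs
    have key : ∀ s ∈ S, ∀ g ∈ (P : Subgroup ↥(chevF4.group K)).map f, s * g * s⁻¹ ∈ (P : Subgroup ↥(chevF4.group K)).map f := by
      rintro s hs _ ⟨y, hy, rfl⟩
      rw [hconj]
      refine ⟨s y, hSf _ ?_, rfl⟩
      rw [← hconj]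
      exact mul_mem (mul_mem hs (hS ⟨y, hy, rfl⟩)) (inv_mem hs)
    rw [Subgroup.mem_normalizer_iff]
    intro g
    refine ⟨fun hg => key s hs g hg, fun hg => ?_⟩
    have h1 := key s⁻¹ (inv_mem hs) _ hg
    have h2 : s⁻¹ * (s * g * s⁻¹) * s⁻¹⁻¹ = g := by group
    rwa [h2] at h1
  obtain ⟨g, -, -, -, -, -, hgen⟩ := RgdGraphF4.gen_F4 (K := K) cs f hf S.2 (by
    intro s _
    rw [Subgroup.mem_normalizer_iff]
    intro z
    constructor
    · rintro ⟨y, rfl⟩
      exact ⟨s y, (hconj s y).symm⟩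
    · rintro ⟨y, hy⟩
      refine ⟨s⁻¹ y, ?_⟩
      rw [← hconj, hy]
      group) hSU (by
    rw [show RGD.Sup (F4Pair.XF K) (RGD.Pos cs isType.isCartan) = (P : Subgroup ↥(chevF4.group K)) from hP.symm]
    exact hS)
  rw [outNil_iff]
  intro X T c
  have h2 : IsPGroup 2 ↥X := fun x => ⟨1, by
    rw [pow_one, pow_two]
    exact Subtype.ext (c.sq x x.2)⟩
  obtain ⟨S', hS'⟩ := h2.exists_le_sylow
  obtain ⟨a, ha⟩ := MulAction.exists_smul_eq (MulAut ↥(chevF4.group K)) S' S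
  have hn : (MulAut.conj : ↥(chevF4.group K) →* MulAut ↥(chevF4.group K)).range.Normal := by
    constructor
    rintro _ ⟨y, rfl⟩ s
    exact ⟨s y, (hconj s y).symm⟩
  have c' := c.map (MulAut.conj a).toMonoidHom
  have h3 := le_of_cyclic c' (N := (MulAut.conj : ↥(chevF4.group K) →* MulAut ↥(chevF4.group K)).range) (g := g) (by
    rintro _ ⟨x, hx, rfl⟩
    have h4 : a * x * a⁻¹ ∈ S := by
      rw [← ha]
      exact ⟨x, hS' hx, rfl⟩
    obtain ⟨m, u, -, k, -, hk, e⟩ := hgen _ h4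
    refine ⟨m, f u, ⟨u, rfl⟩, ?_⟩
    rw [eq_one_of_comm hZ hk, mul_one] at e
    exact e)
  intro x hx
  have h4 : a * x * a⁻¹ ∈ (MulAut.conj : ↥(chevF4.group K) →* MulAut ↥(chevF4.group K)).range := h3 ⟨x, hx, rfl⟩
  have h5 := hn.conj_mem _ h4 a⁻¹
  have h6 : a⁻¹ * (a * x * a⁻¹) * a⁻¹⁻¹ = x := by group
  rwa [h6] at h5

end F4

/-! ### The rows -/

theorem outNil_E6 (K : Type) [Field K] [Finite K] [CharP K 2] : OutNil ↥(chevE6.group K) :=
  outNil_of_isSLC (isSLC_E6 K)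

theorem outNil_E7 (K : Type) [Field K] [Finite K] [CharP K 2] : OutNil ↥(chevE7.group K) :=
  outNil_of_isSLC (isSLC_E7 K)

theorem outNil_E8 (K : Type) [Field K] [Finite K] [CharP K 2] : OutNil ↥(chevE8.group K) :=
  outNil_of_isSLC (isSLC_E8 K)

theorem outNil_PSL {n : ℕ} (hn : 4 ≤ n) (K : Type) [Field K] [Finite K] [CharP K 2] :
    OutNil (Matrix.ProjectiveSpecialLinearGroup (Fin n) K) := by
  obtain ⟨m, rfl⟩ : ∃ m, n = m + 1 := ⟨n - 1, by omega⟩
  exact outNil_of_isSLC (isSLC_PSL (by omega) K)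

theorem outNil_OPlus {n : ℕ} (hn : 4 ≤ n) (K : Type) [Field K] [Finite K] [CharP K 2] :
    OutNil (POmega K (quadFormPlus n K)) := by
  obtain ⟨m, rfl⟩ : ∃ m, n = m + 2 := ⟨n - 2, by omega⟩
  exact outNil_of_isSLC (isSLC_OPlus (by omega) K)

end Cfsg.Agent.Omega.Lie.OutSys
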