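import Mathlib
import Cfsg.Agent.Omega.Lie.OutSys
import Cfsg.Agent.KFacts.OutCyc.Gen
import Cfsg.Agent.KFacts.TwESix.OutMain
import Cfsg.Agent.KFacts.TwDFour.Out
import Cfsg.Agent.KFacts.TwF4.OutTwo
import Cfsg.Agent.KFacts.TwF4.Full

/-!
# `OutNil` for the twisted groups `²E₆(q)`, `³D₄(q)`, `²F₄(q)` of characteristic two

`outNil_of_cyc2` : a group whose 2-groups of automorphisms are cyclic modulo inner automorphisms.
-/

set_option autoImplicit false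
set_option linter.unusedSectionVars false

namespace Cfsg.Agent.Omega.Lie.OutTw

open Cfsg Cfsg.Lie Cfsg.Agent.Omega.Lie.OutT Cfsg.Agent.Omega.Lie.OutSys Cfsg.Agent.KFacts.OutCyc.Gen

universe u

/-- `Out L` with cyclic Sylow 2-subgroups -/
theorem outNil_of_cyc2 {L : Type*} [Group L] [Finite L] (h : Cyc2 L) : OutNil L := by
  rw [outNil_iff]
  intro X T c
  have hX : IsPGroup 2 ↥X := fun x => ⟨1, by
    rw [pow_one, pow_two]
    exact Subtype.ext (c.sq x x.2)⟩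
  obtain ⟨γ, -, h1⟩ := h X hX
  have hn : (MulAut.conj : L →* MulAut L).range.Normal := by
    constructor
    rintro _ ⟨y, rfl⟩ s
    refine ⟨s y, ?_⟩
    ext z
    simp
  have hfin : Finite (MulAut L) := inferInstance
  refine le_of_cyclic c (g := γ) fun x hx => ?_
  obtain ⟨k, y, rfl⟩ := h1 x hx
  exact ⟨k, γ ^ k * MulAut.conj y * (γ ^ k)⁻¹, hn.conj_mem _ ⟨y, rfl⟩ _, by group⟩

theorem outNil_of_hom {L : Type*} [Group L] [Finite L]
    (h : ∀ P : Subgroup (MulAut L), IsPGroup 2 ↥P → ∃ (A : Type) (_ : Group A) (_ : IsCyclic A) (f : ↥P →* A),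
      ∀ α : ↥P, f α = 1 → ∃ x, α.1 = MulAut.conj x) : OutNil L := outNil_of_cyc2 (cyc2_of_hom h)

variable {K : Type} [Field K] [Fintype K] [CharP K 2] {q : ℕ}

/-- **`²E₆(q)`** -/
theorem outNil_twE6 (hq : IsPrimePow q) (hK : Fintype.card K = q ^ 2) : OutNil ↥(twistedE6 K q) := by
  have : Fact (Nat.Prime 2) := ⟨Nat.prime_two⟩
  refine outNil_of_hom fun P hP => ?_
  obtain ⟨f, hf⟩ := Cfsg.Agent.KFacts.TwESix.OutMain.exists_hom hq hK (MulEquiv.refl _) 2 hP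
  exact ⟨K ≃+* K, inferInstance, Cfsg.Agent.LieRecognition.FieldSemilinear.isCyclic_ringAut K, f,
    fun α h => (hf α).1 h⟩

/-- **`³D₄(q)`** -/
theorem outNil_twD4 (hq : IsPrimePow q) (hK : Fintype.card K = q ^ 3) : OutNil ↥(twistedD4 K q) := by
  have : Fact (Nat.Prime 2) := ⟨Nat.prime_two⟩
  refine outNil_of_hom fun P hP => ?_
  obtain ⟨f, hf⟩ := Cfsg.Agent.KFacts.TwDFour.Out.exists_hom hq hK (MulEquiv.refl _) 2 hP
  exact ⟨K ≃+* K, inferInstance, Cfsg.Agent.LieRecognition.FieldSemilinear.isCyclic_ringAut K, f,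
    fun α h => (hf α).1 h⟩

/-- **`²F₄(q)`**, `q ≥ 8` -/
theorem outNil_twF4 {m : ℕ} (hm : 1 ≤ m) (hK : Fintype.card K = 2 ^ (2 * m + 1)) :
    OutNil ↥(twistedF4 K (2 ^ m)) := by
  obtain ⟨φ, hφ⟩ := Cfsg.Agent.ChevalleyStructure.TwF4.TwistedFix.exists_rln hK
  have hF : ∃ c : Kˣ, c ≠ 1 := by
    have h1 : 1 < Nat.card Kˣ := by
      rw [Nat.card_units, Nat.card_eq_fintype_card, hK]
      have : 2 ^ 3 ≤ 2 ^ (2 * m + 1) := Nat.pow_le_pow_right (by norm_num) (by omega)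
      omega
    have h2 : Nontrivial Kˣ := Finite.one_lt_card_iff_nontrivial.1 h1
    exact exists_ne 1
  rw [outNil_iff]
  intro X T c x hx
  obtain ⟨y, hy⟩ := Cfsg.Agent.KFacts.TwF4.OutTwo.inner (Cfsg.Agent.KFacts.TwF4.Inst.full hK hφ)
    (m := m) (by rw [Nat.card_eq_fintype_card, hK]) hF rfl (n := 1) (α := x)
    (by rw [pow_one, pow_two]; exact c.sq x hx)
  exact ⟨y, hy.symm⟩

/-- every group of type `²E₆`, `³D₄` of characteristic two -/
theorem outNil_twisted {L : Type} [Group L] (h : IsTwistedE6D4Char 2 L) : OutNil L := by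
  obtain ⟨K, _, _, _, q, hq, ⟨hK, ⟨e⟩⟩ | ⟨hK, ⟨e⟩⟩⟩ := h
  · exact (outNil_twE6 hq hK).of_equiv e.symm
  · exact (outNil_twD4 hq hK).of_equiv e.symm

end Cfsg.Agent.Omega.Lie.OutTw
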