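import Cfsg.Agent.Omega.Lie.Quot
import Cfsg.Agent.OddHalf.Known

/-!
# The components of `N(R)/O₂(N(R))` in a K-proper group are known
-/

set_option autoImplicit false

namespace Cfsg.Agent.Omega.Lie.LayerKnown

open Subgroup Cfsg Cfsg.Agent.Omega.Lie.Quot

universe u

/-- a simple nonabelian image of a proper subgroup of a K-proper group is known -/
theorem known_of_hom {G : Type u} [Group G] (hK : IsKProper G) {P : Subgroup G} (hne : P ≠ ⊤) {L : Type u} [Group L]
    (f : P →* L) (hf : Function.Surjective f) (hs : IsSimpleGroup L) (hna : ¬ IsMulCommutative L) :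
    IsKnownSimple' L := by
  let e : P ⧸ f.ker ≃* L := QuotientGroup.quotientKerEquivOfSurjective f hf
  have h1 : IsSimpleGroup (P ⧸ f.ker) := OddHalf.Known.isSimple_congr e.symm hs
  have h2 : ¬ IsMulCommutative (P ⧸ f.ker) := by
    intro h
    apply hna
    refine ⟨⟨fun a b => ?_⟩⟩
    apply e.symm.injective
    rw [map_mul, map_mul]
    exact h.is_comm.comm _ _
  exact OddHalf.Known.isKnownSimple'_congr e h2 (OddHalf.Known.known_quotient hK P hne f.ker h1 h2)

theorem not_comm {K : Type*} [Group K] (hK : IsQuasisimple K) : ¬ IsMulCommutative (K ⧸ center K) := by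
  intro hc
  have h1 : commutator K ≤ center K := by
    rw [commutator_def, Subgroup.commutator_le]
    intro x _ y _
    change x * y * x⁻¹ * y⁻¹ ∈ _
    rw [← QuotientGroup.eq_one_iff]
    have h3 := hc.is_comm.comm (x : K ⧸ center K) (y : K ⧸ center K)
    rw [QuotientGroup.mk_mul, QuotientGroup.mk_mul, QuotientGroup.mk_mul, QuotientGroup.mk_inv,
      QuotientGroup.mk_inv, h3]
    group
  have h4 : center K = ⊤ := top_le_iff.1 (by rw [← hK.1.commutator_eq_top]; exact h1)
  have h5 : Subsingleton (K ⧸ center K) := by rw [h4]; exact QuotientGroup.subsingleton_quotient_top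
  have := hK.2
  exact not_subsingleton _ h5

/-- **A quasisimple subgroup of `N(R)/O₂(N(R))`, `N(R)` proper, `G` K-proper, is known modulo its centre.** -/
theorem known {G : Type u} [Group G] (hG : IsKProper G) {R : Subgroup G} (hR : normalizer (R : Set G) ≠ ⊤)
    {K : Subgroup (HQ R)} (hK : IsQuasisimple K) : IsKnownSimple' (K ⧸ center K) := by
  let P : Subgroup G := (K.comap (pr R)).map (normalizer (R : Set G)).subtype
  have hP : P ≠ ⊤ := by
    intro h
    exact hR (top_le_iff.1 (h ▸ map_subtype_le _))
  let e : ↥(K.comap (pr R)) ≃* P := (K.comap (pr R)).equivMapOfInjective _ (Subgroup.subtype_injective _)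
  let g : ↥(K.comap (pr R)) →* K := (pr R).subgroupComap K
  have hg : Function.Surjective g := (pr R).subgroupComap_surjective_of_surjective K (pr_surjective R)
  refine known_of_hom hG hP (((QuotientGroup.mk' (center K)).comp g).comp e.symm.toMonoidHom) ?_ hK.2 (not_comm hK)
  exact ((QuotientGroup.mk'_surjective _).comp hg).comp e.symm.surjective

end Cfsg.Agent.Omega.Lie.LayerKnown
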