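import Cfsg.Agent.Omega.Lie.LayerS
import Cfsg.Agent.Omega.HOneQ.ECen

/-!
# (h1), SPLIT: the component theorem in `H = N(R i)/O₂(N(R i))`, over `BTS V R` and `SylI τ S` (no Sylow group of `G`)

As `LayerS.lean`, but the Sylow 2-subgroup `S` of `H⁰` is given by `ECen.SylI τ S`.

* `sit`: `ExoComp.Sit (H0 R i) S (AA V R i j) (TT τ)`;
* `hyp`: for a component `K ≤ H⁰`, `K / Z(K)` known, `[K, A] ≠ 1`: `CompB.Hyp S A T K` and `K / Z(K)` of Lie type in
  characteristic 2; `innC`, `A_le_iSup`, `perf`.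
-/

set_option autoImplicit false
set_option linter.unusedSectionVars false

namespace Cfsg.Agent.Omega.Lie.LayerSI

open Subgroup Cfsg Cfsg.Agent.Omega.BTwo Cfsg.Agent.Omega.Lie Cfsg.Agent.Omega.Lie.Quot
open Cfsg.Agent.Omega.Lie.CompB Cfsg.Agent.Omega.Lie.CompT Cfsg.Agent.Omega.Lie.Layer
open Cfsg.Agent.Omega.Lie.OutT Cfsg.Agent.Omega.KFacts Cfsg.Agent.Omega.Lie.LayerMain Cfsg.Agent.Omega.Lie.InvFiveAll
open Cfsg.Agent.Omega.Lie.LQS
open Cfsg.Agent.Omega.HOneQ.ECen (SylI)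

universe u v w

variable {G : Type u} [Group G] {ι : Type w} {V : Subgroup G} {R : ι → Subgroup G} {F : Type v} [Field F]
  {i j : ι} {vv : F → F → G} {t : F → G} {w1 w2 : F → G}

theorem S_le_H0 (b : BT V R) {τ : TorD V R i j vv t} {S : Subgroup (HQ (R i))} (I : SylI τ S) : S ≤ H0 R i := by
  intro s hs
  obtain ⟨g, hg, hgV, rfl⟩ := I.rep s hs
  exact mem_im.2 ⟨g, hg, centralizer_le (b.R_le i) hgV, rfl⟩

/-- **`ExoComp.Sit` from `SylI`** -/
theorem sit [Finite G] [Finite F] [CharP F 2] (b : BT V R) {τ : TorD V R i j vv t} (hij : i ≠ j)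
    (hF : 4 ≤ Nat.card F) {S : Subgroup (HQ (R i))} (I : SylI τ S) :
    ExoComp.Sit (H0 R i) S (AA V R i j) (TT τ) where
  normal := ExoBT.H0_normal R i
  syl := by
    refine ⟨S_le_H0 b I, I.S2, fun P hSP hP0 hP => le_antisymm ?_ hSP⟩
    have := ExoBT.H0_normal R i
    exact I.syl (H0 R i) (Subgroup.Normal.isSubnormal this) le_rfl P hP0 hP (inf_le_left.trans hSP)
  AS := I.AS
  scal := scal b τ hij
  SA s hs a ha := by
    obtain ⟨g, hg, hgV, rfl⟩ := I.rep s hs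
    obtain ⟨u, hu, rfl⟩ := (mem_AA b).1 ha
    exact (mem_AA b).2 ⟨_, conj_mem_of_normalizer (b.cen_le_NU j hgV) hu, rfl⟩
  TS x hx s hs := by
    have h1 := mul_mem hs (I.AS (I.ST x hx s hs))
    rwa [mul_inv_cancel_left] at h1
  ST s hs x hx := I.ST x hx s hs
  odd := by
    have h1 := card_T b τ
    have h2 : 2 ∣ Nat.card F := by
      have := Fintype.ofFinite F
      have h3 : (Fintype.card F : F) = 0 := Nat.cast_card_eq_zero F
      rw [Nat.card_eq_fintype_card]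
      exact (CharP.cast_eq_zero_iff F 2 _).1 h3
    rw [← Nat.not_even_iff_odd, even_iff_two_dvd]
    intro h3
    have h4 : 2 ∣ Nat.card (TT τ) + 1 := h1 ▸ h2
    have h5 := (Nat.dvd_add_right h3).1 h4
    omega
  three := by
    have := card_T b τ
    omega

variable [Finite G] [Finite F] [CharP F 2]

/-- (INV5) in the exceptional case -/
theorem invFive (W : WalterThm.{u}) (b : BT V R) {τ : TorD V R i j vv t} (hij : i ≠ j) (hF : 4 ≤ Nat.card F)
    {S : Subgroup (HQ (R i))} (I : SylI τ S) {K : Subgroup (HQ (R i))} (hK : IsComponent K)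
    (hK0 : K ≤ H0 R i) (h2 : 2 ∣ Nat.card K) (h3 : Three (AA V R i j) (TT τ) K (S ⊓ K)) :
    InvFive.InvFive K := by
  have hsyl := (sit b hij hF I).sylK hK.1 hK0
  obtain ⟨P, hP⟩ := hsyl.exists_sylow
  refine InvFiveAll.of_quasisimple W hK.2 (ExoComp.odd_center (pCore_HQ (R i)) hK) h2 P fun x hx y hy => ?_
  have hx' : (x : HQ (R i)) ∈ S ⊓ K := by rw [← hP]; exact ⟨x, hx, rfl⟩
  have hy' : (y : HQ (R i)) ∈ S ⊓ K := by rw [← hP]; exact ⟨y, hy, rfl⟩
  exact Subtype.ext (h3.ab x hx' y hy')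

/-- (T2): the exceptional case is impossible. -/
theorem three_false (b : BTS V R) (c : Coord V R i j vv w1 w2) (τ : TorD V R i j vv t)
    (hidx : Odd ((normalizer (V : Set G)).relIndex (normalizer (R i : Set G))))
    (hF : 4 ≤ Nat.card F) {S : Subgroup (HQ (R i))} (I : SylI τ S) {K : Subgroup (HQ (R i))} (hK : IsComponent K)
    (hK0 : K ≤ H0 R i) (h3 : Three (AA V R i j) (TT τ) K (S ⊓ K)) (h5 : InvFive.InvFive K) : False := by
  have hsyl := (sit b.toBT c.ne hF I).sylK hK.1 hK0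
  obtain ⟨M, _, _, ρ, e, D, P, C, he⟩ := CubSQ.exists_cubS b hF c τ hidx
  refine C.three_false he hK.2 hK0 (fun z hz hc hz2 => ?_) I.S2 (fun Q hQK hQ2 hSQ => ?_) h3 h5
  · exact LQ.eq_one_of_sq_odd (ExoComp.Sit.zodd (pCore_HQ (R i)) hK z hz hc) hz2
  · rw [hsyl.2.2 Q hSQ hQK hQ2]
    exact inf_le_left

/-- **The components `K ≤ H⁰` with `[K, A] ≠ 1`**: `CompB.Hyp`, and `K / Z(K)` is of Lie type in characteristic 2. -/
theorem hyp (KR : KRows.{u}) (b : BTS V R) (c : Coord V R i j vv w1 w2) (τ : TorD V R i j vv t)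
    (hidx : Odd ((normalizer (V : Set G)).relIndex (normalizer (R i : Set G))))
    (hF : 4 ≤ Nat.card F) {S : Subgroup (HQ (R i))} (I : SylI τ S) {K : Subgroup (HQ (R i))} (hK : IsComponent K)
    (hK0 : K ≤ H0 R i) (hk : IsKnownSimple' (K ⧸ center K)) (hne : ∃ a ∈ AA V R i j, ∃ k ∈ K, a * k ≠ k * a) :
    Hyp S (AA V R i j) (TT τ) K ∧ IsLieTypeChar 2 (K ⧸ center K) := by
  have h2 := two_dvd KR.odd hK.2
  have s := sit b.toBT c.ne hF I
  rcases s.exo_rows KR.zs (pCore_HQ _) hK hK0 h2 hk hne with ⟨-, h1, h4⟩ | h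
  · have h5 := OutT.hyp h1 s.odd hK (KR.out _ h4)
    exact ⟨h5, h4.resolve_right (fun hZ => LayerS.zs_false b c τ hidx hF h5 hK.2 hK0 hne hZ)⟩
  · exact (three_false b c τ hidx hF I hK hK0 h (invFive KR.walter b.toBT c.ne hF I hK hK0 h2 h)).elim

/-- `A` acts on every component in `H⁰` as `A ⊓ K`. -/
theorem innC (KR : KRows.{u}) (b : BTS V R) (c : Coord V R i j vv w1 w2) (τ : TorD V R i j vv t)
    (hidx : Odd ((normalizer (V : Set G)).relIndex (normalizer (R i : Set G))))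
    (hF : 4 ≤ Nat.card F) {S : Subgroup (HQ (R i))} (I : SylI τ S)
    (hk : ∀ K : Subgroup (HQ (R i)), IsComponent K → K ≤ H0 R i → IsKnownSimple' (K ⧸ center K)) : InnC V R i j := by
  intro K hK hK0
  by_cases hne : ∃ a ∈ AA V R i j, ∃ k ∈ K, a * k ≠ k * a
  · exact InnA.of_hyp (hyp KR b c τ hidx hF I hK hK0 (hk K hK hK0) hne).1
  · push Not at hne
    exact InnA.of_comm hne

/-- **`A ≤ ∏ (A ⊓ K)`**, the product over the components `K ≤ H⁰`. -/
theorem A_le_iSup (KR : KRows.{u}) (b : BTS V R) (c : Coord V R i j vv w1 w2) (τ : TorD V R i j vv t)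
    (hidx : Odd ((normalizer (V : Set G)).relIndex (normalizer (R i : Set G))))
    (hF : 4 ≤ Nat.card F) {S : Subgroup (HQ (R i))} (I : SylI τ S)
    (hk : ∀ K : Subgroup (HQ (R i)), IsComponent K → K ≤ H0 R i → IsKnownSimple' (K ⧸ center K)) :
    AA V R i j ≤ ⨆ K ∈ {K : Subgroup (HQ (R i)) | Cps (H0 R i) K}, AA V R i j ⊓ K :=
  Layer.A_le_iSup b.toBT c.ne (OddAllS.oddC b c τ hidx hF) (innC KR b c τ hidx hF I hk)

/-- **`U j ≤ [N, N] Q i`, `N = ⟨(U j)^{N(R i)}⟩`.** -/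
theorem perf (KR : KRows.{u}) (b : BTS V R) (c : Coord V R i j vv w1 w2) (τ : TorD V R i j vv t)
    (hidx : Odd ((normalizer (V : Set G)).relIndex (normalizer (R i : Set G))))
    (hF : 4 ≤ Nat.card F) {S : Subgroup (HQ (R i))} (I : SylI τ S)
    (hk : ∀ K : Subgroup (HQ (R i)), IsComponent K → K ≤ H0 R i → IsKnownSimple' (K ⧸ center K)) :
    UU V R j ≤ ⁅NU V R i j, NU V R i j⁆ ⊔ QQ (R i) :=
  perf_of b.toBT c.ne (OddAllS.oddC b c τ hidx hF) (innC KR b c τ hidx hF I hk)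

end Cfsg.Agent.Omega.Lie.LayerSI
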