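import Cfsg.Agent.Omega.Lie.LemN
import Cfsg.Agent.Omega.BTwo.SplitTen

/-!
# (h1), SPLIT: LEMMA N' (bb #14071), `C_D(X) ≠ 1` allowed, `q ≥ 4`, K-free

`M = W i / R i`, `A = U j Q i / Q i`, `e = V / R i`, `rad = Z(W i) / R i`, `F₀ = C_D(X)`.

* `M0`: `W i = M₀ Z(W i)` (`cover`) and `[W i, U j] ≤ M₀` (`comm_M0`), `M₀` normalised by `N(R i)`.
* `mem_D`: `z ∈ Z(W j)`, `[z, U i] ≤ C(X)` ⟹ `z ∈ D` (`β` left nondegenerate).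
* `lemNS`: `V ≤ [W i, u] Z(W i)` for all `u ∈ U j - D`.
* `faithful`: `u ∈ U j`, `[W i, u] ≤ Z(W i)` ⟹ `u ∈ D`.
-/

set_option autoImplicit false

namespace Cfsg.Agent.Omega.Lie.LemNS

open Subgroup
open Cfsg.Agent.Omega.BTwo hiding ZZ
open Cfsg.Agent.Omega.Lie.LemN

universe u v w

variable {G : Type u} [Group G] {ι : Type w}

/-! ### 1. `N₀`, `M₀` -/

/-- the elements of `C(R i)` trivial on `W i / Z(W i)` -/
def N0 (V : Subgroup G) (R : ι → Subgroup G) (i : ι) : Subgroup G :=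
  centralizer (R i : Set G) ⊓ cenMod (ZZ V R i) (WW V (R i))

theorem cen_le_norm (H : Subgroup G) : centralizer (H : Set G) ≤ normalizer (H : Set G) := by
  refine le_normalizer_of fun k hk v hv => ?_
  rw [← mem_centralizer_iff.1 hk v hv, mul_inv_cancel_right]
  exact hv

section BT

variable {V : Subgroup G} {R : ι → Subgroup G}

theorem N_le_NZ (i : ι) : normalizer (R i : Set G) ≤ normalizer (ZZ V R i : Set G) :=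
  Cfsg.Agent.Omega.BTwo.N_le_NZ i

theorem N_le_NN0 (i : ι) {g x : G} (hg : g ∈ normalizer (R i : Set G)) (hx : x ∈ N0 V R i) :
    g * x * g⁻¹ ∈ N0 V R i := by
  refine mem_inf.2 ⟨?_, ?_, fun w hw => ?_⟩
  · exact conj_mem_of_normalizer (normalizer_le_normalizer_centralizer _ hg) hx.1
  · exact mul_mem (mul_mem (N_le_NZ i hg) hx.2.1) (inv_mem (N_le_NZ i hg))
  · have h1 := hx.2.2 _ (conj_inv_mem_of_normalizer (normalizer_le_WW V (R i) hg) hw)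
    have h2 := conj_mem_of_normalizer (N_le_NZ i hg) h1
    rwa [show g * (x * (g⁻¹ * w * g) * x⁻¹ * (g⁻¹ * w * g)⁻¹) * g⁻¹ =
      g * x * g⁻¹ * w * (g * x * g⁻¹)⁻¹ * w⁻¹ by group] at h2

theorem N0_le_N (i : ι) : N0 V R i ≤ normalizer (R i : Set G) := inf_le_left.trans (cen_le_norm (R i))

variable (b : BT V R)
include b

/-- `M₀ = {w ∈ W i : [w, N₀] ≤ R i}` -/
def M0 (i : ι) : Subgroup G where
  carrier := {w | w ∈ WW V (R i) ∧ ∀ x ∈ N0 V R i, x * w * x⁻¹ * w⁻¹ ∈ R i}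
  one_mem' := ⟨one_mem _, fun x _ => by
    rw [show x * 1 * x⁻¹ * 1⁻¹ = 1 by group]; exact one_mem _⟩
  mul_mem' := by
    rintro w w' ⟨hw, h⟩ ⟨hw', h'⟩
    refine ⟨mul_mem hw hw', fun x hx => ?_⟩
    rw [show x * (w * w') * x⁻¹ * (w * w')⁻¹ = (x * w * x⁻¹ * w⁻¹) * (w * (x * w' * x⁻¹ * w'⁻¹) * w⁻¹) by group]
    exact mul_mem (h x hx) (conj_mem_of_normalizer (b.W_le_N i hw) (h' x hx))
  inv_mem' := by
    rintro w ⟨hw, h⟩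
    refine ⟨inv_mem hw, fun x hx => ?_⟩
    rw [show x * w⁻¹ * x⁻¹ * w⁻¹⁻¹ = w⁻¹ * (x * w * x⁻¹ * w⁻¹)⁻¹ * w by group]
    exact conj_inv_mem_of_normalizer (b.W_le_N i hw) (inv_mem (h x hx))

theorem mem_M0 {i : ι} {w : G} :
    w ∈ M0 b i ↔ w ∈ WW V (R i) ∧ ∀ x ∈ N0 V R i, x * w * x⁻¹ * w⁻¹ ∈ R i := Iff.rfl

theorem M0_le_W (i : ι) : M0 b i ≤ WW V (R i) := fun _ h => h.1

theorem R_le_M0 (i : ι) : R i ≤ M0 b i := fun r hr => ⟨b.R_le_W i i hr, fun x hx => by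
  rw [← mem_centralizer_iff.1 hx.1 r hr, mul_inv_cancel_right, mul_inv_cancel]; exact one_mem _⟩

theorem N_le_NM0 (i : ι) : normalizer (R i : Set G) ≤ normalizer (M0 b i : Set G) := by
  refine le_normalizer_of fun g hg w hw => ?_
  refine ⟨conj_mem_of_normalizer (normalizer_le_WW V (R i) hg) hw.1, fun x hx => ?_⟩
  have h1 := hw.2 _ (N_le_NN0 i (inv_mem hg) hx)
  have h2 := conj_mem_of_normalizer hg h1
  rwa [show g * (g⁻¹ * x * g⁻¹⁻¹ * w * (g⁻¹ * x * g⁻¹⁻¹)⁻¹ * w⁻¹) * g⁻¹ =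
    x * (g * w * g⁻¹) * x⁻¹ * (g * w * g⁻¹)⁻¹ by group] at h2

/-! ### 2. `W i = M₀ Z(W i)` -/

/-- `M₀ Z(W i)` -/
def MZ (i : ι) : Subgroup G where
  carrier := {w | ∃ m ∈ M0 b i, ∃ z ∈ ZZ V R i, w = m * z}
  one_mem' := ⟨1, one_mem _, 1, one_mem _, by group⟩
  mul_mem' := by
    rintro _ _ ⟨m, hm, z, hz, rfl⟩ ⟨m', hm', z', hz', rfl⟩
    refine ⟨m * m', mul_mem hm hm', z * z', mul_mem hz hz', ?_⟩
    have h := ZZ_comm hz hm'.1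
    calc m * z * (m' * z') = m * (z * m') * z' := by group
      _ = _ := by rw [h]; group
  inv_mem' := by
    rintro _ ⟨m, hm, z, hz, rfl⟩
    refine ⟨m⁻¹, inv_mem hm, z⁻¹, inv_mem hz, ?_⟩
    rw [ZZ_comm hz hm.1 |>.symm, mul_inv_rev]

/-- **`W i = M₀ Z(W i)`** -/
theorem cover [Finite G] {i : ι} (hodd : Odd ((normalizer (V : Set G)).relIndex (normalizer (R i : Set G))))
    {w : G} (hw : w ∈ WW V (R i)) : ∃ m ∈ M0 b i, ∃ z ∈ ZZ V R i, w = m * z := by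
  have hV : V ≤ MZ b i := by
    intro x hx
    have hxW := V_le_WW V (R i) hx
    have hPodd : Odd ((N0 V R i ⊓ normalizer (V : Set G)).relIndex (N0 V R i)) := by
      rw [inf_relIndex_left]
      exact odd_relIndex_of_norm (N0_le_N i) (fun g hg y hy => N_le_NN0 i hg hy) hodd
    obtain ⟨z, hz, H⟩ := Avg.avg (X := N0 V R i) (P := N0 V R i ⊓ normalizer (V : Set G)) (Y := ZZ V R i)
      (D := R i) inf_le_left hPodd (R_le_ZZ b i)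
      (fun l hl y hy => conj_mem_of_normalizer (N_le_NZ i (N0_le_N i hl)) hy)
      (fun l hl y hy => conj_mem_of_normalizer (N0_le_N i hl) hy)
      (fun l hl y hy => conj_mem_of_normalizer (b.W_le_N i hl.1) hy)
      (fun y hy => b.W_sq i hy.1)
      (c := x)
      (fun l hl => by
        have h1 := hl.2.2 x hxW
        have h2 := ZZ_comm h1 (inv_mem hxW)
        rw [show x⁻¹ * l * x * l⁻¹ = x⁻¹ * (l * x * l⁻¹ * x⁻¹) * x by group, ← h2, inv_mul_cancel_right]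
        exact h1)
      (fun l hl => by
        have h1 := hl.1.2.2 x hxW
        have h2 := ZZ_comm h1 (inv_mem hxW)
        have h3 : l * x * l⁻¹ * x⁻¹ ∈ V := mul_mem (conj_mem_of_normalizer hl.2 hx) (inv_mem hx)
        rw [show x⁻¹ * l * x * l⁻¹ = x⁻¹ * (l * x * l⁻¹ * x⁻¹) * x by group, ← h2, inv_mul_cancel_right]
        exact b.cen_VW h3 h1.2)
    have hxz : x * z ∈ M0 b i := by
      refine ⟨mul_mem hxW hz.1, fun l hl => ?_⟩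
      have h1 := conj_mem_of_normalizer (b.W_le_N i (mul_mem hxW hz.1)) (H l hl)
      rwa [show x * z * ((x * z)⁻¹ * l * (x * z) * l⁻¹) * (x * z)⁻¹ = l * (x * z) * l⁻¹ * (x * z)⁻¹ by group]
        at h1
    exact ⟨x * z, hxz, z⁻¹, inv_mem hz, by group⟩
  have hle : WW V (R i) ≤ MZ b i := by
    refine iSup_le fun h => ?_
    rintro _ ⟨x, hx, rfl⟩
    obtain ⟨m, hm, z, hz, e⟩ := hV hx
    refine ⟨h * m * (h : G)⁻¹, conj_mem_of_normalizer (N_le_NM0 b i h.2) hm,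
      h * z * (h : G)⁻¹, conj_mem_of_normalizer (N_le_NZ i h.2) hz, ?_⟩
    change (h : G) * x * (h : G)⁻¹ = _
    rw [e]; group
  exact hle hw

end BT

/-! ### 3. `[W i, U j] ≤ M₀` -/

section BTS

variable {V : Subgroup G} {R : ι → Subgroup G} (b : BTS V R)

theorem CenX_comm {x f : G} (hx : x ∈ XX V R) (hf : f ∈ CenX V R) : x * f = f * x :=
  mem_centralizer_iff.1 hf x hx

theorem F0_le_ZZ (i : ι) : DD V R ⊓ CenX V R ≤ ZZ V R i := fun _ h =>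
  mem_inf.2 ⟨D_le_W V R i h.1, cen_X_le i h.2⟩

include b

/-- `[m, u] ∈ M₀` -/
theorem M0_comm {i : ι} {m u : G} (hm : m ∈ M0 b.toBT i) (hu : u ∈ centralizer (V : Set G)) :
    m * u * m⁻¹ * u⁻¹ ∈ M0 b.toBT i := by
  rw [show m * u * m⁻¹ * u⁻¹ = m * (u * m⁻¹ * u⁻¹) by group]
  exact mul_mem hm (conj_mem_of_normalizer (N_le_NM0 b.toBT i (b.cen_le_N i hu)) (inv_mem hm))

variable [Finite G]

/-- (1) `[W i, U j] ≤ M₀ F₀` -/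
theorem c1 {i j : ι} (hij : i ≠ j) (hodd : Odd ((normalizer (V : Set G)).relIndex (normalizer (R i : Set G))))
    {w u : G} (hw : w ∈ WW V (R i)) (hu : u ∈ UU V R j) :
    ∃ m ∈ M0 b.toBT i, ∃ f ∈ DD V R ⊓ CenX V R, w * u * w⁻¹ * u⁻¹ = m * f := by
  obtain ⟨m, hm, z, hz, rfl⟩ := cover b.toBT hodd hw
  obtain ⟨h1, h2⟩ := b.cen_W_U hij hz.2 hu
  obtain ⟨a, ha, hf⟩ := b.cen_DW h1 h2
  have hmX := W_le_X V R i hm.1
  have hc := M0_comm b hm (UU_le_cen j hu)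
  have hcX := W_le_X V R i hc.1
  have k1 := CenX_comm hmX hf.2
  have k2 := CenX_comm hcX hf.2
  have ha' := R_le_M0 b.toBT i ha
  refine ⟨m * a⁻¹ * m⁻¹ * (m * u * m⁻¹ * u⁻¹),
    mul_mem (mul_mem (mul_mem hm (inv_mem ha')) (inv_mem hm)) hc, a * (z * u * z⁻¹ * u⁻¹), hf, ?_⟩
  set f := a * (z * u * z⁻¹ * u⁻¹) with hfdef
  have e : z * u * z⁻¹ * u⁻¹ = a⁻¹ * f := by rw [hfdef]; group
  have k3 : f * m⁻¹ = m⁻¹ * f := by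
    have h3 : Commute m f := k1
    exact h3.inv_left.eq.symm
  calc m * z * u * (m * z)⁻¹ * u⁻¹ = m * (z * u * z⁻¹ * u⁻¹) * m⁻¹ * (m * u * m⁻¹ * u⁻¹) := by group
    _ = m * a⁻¹ * (f * m⁻¹) * (m * u * m⁻¹ * u⁻¹) := by rw [e]; group
    _ = m * a⁻¹ * m⁻¹ * (f * (m * u * m⁻¹ * u⁻¹)) := by rw [k3]; group
    _ = _ := by rw [← k2]; group

/-- (2) `U i ≤ M₀ D` -/
theorem c2 {i j : ι} (hij : i ≠ j) (hodd : Odd ((normalizer (V : Set G)).relIndex (normalizer (R i : Set G))))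
    {v u : G} (hv : v ∈ WW V (R i)) (hv' : v ∉ UU V R i) (hu : u ∈ UU V R i) :
    ∃ m ∈ M0 b.toBT i, ∃ d ∈ DD V R, u = m * d := by
  obtain ⟨u', hu', h⟩ := b.surj (Ne.symm hij) hv hv' hu
  obtain ⟨m, hm, f, hf, e⟩ := c1 b hij hodd hv hu'
  refine ⟨m, hm, f * ((v * u' * v⁻¹ * u'⁻¹)⁻¹ * u), mul_mem hf.1 h, ?_⟩
  rw [← mul_assoc, ← e]; group

variable {F : Type v} [Field F] {i j : ι} {vv : F → F → G} {w1 w2 t : F → G}

omit [Finite G] b in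
theorem w1_not_mem (c : Coord V R i j vv w1 w2) : w1 1 ∉ UU V R i := by
  intro h
  have h1 := mem_centralizer_iff.1 (UU_le_cen i h) _ (c.v_mem 0 1)
  have h2 := c.w1_act 1 0 1
  rw [← h1] at h2
  have h3 : vv 0 1 = vv (0 + 1 * 1) 1 := by rw [← h2]; group
  have h4 := (c.v_inj h3).1
  rw [mul_one, zero_add] at h4
  exact zero_ne_one h4

/-- (3) `[D, U j] ≤ M₀` -/
theorem c3 (hF : ∃ a : F, a ≠ 0 ∧ a ≠ 1) (c : Coord V R i j vv w1 w2) (τ : TorD V R i j vv t)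
    (hodd : Odd ((normalizer (V : Set G)).relIndex (normalizer (R i : Set G))))
    {d u : G} (hd : d ∈ DD V R) (hu : u ∈ UU V R j) : d * u * d⁻¹ * u⁻¹ ∈ M0 b.toBT i := by
  obtain ⟨a, ha, ha1⟩ := hF
  obtain ⟨m, hm, f, hf, e⟩ := c1 b c.ne hodd (D_le_W V R i hd) hu
  obtain ⟨β, hβ⟩ := (c.mem_R2 _).1 (b.DU hd hu)
  rw [← hβ] at e ⊢
  have htX := τ.memX a ha
  have h1 := conj_mem_of_normalizer (N_le_NM0 b.toBT i (τ.normR ha)) hm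
  have hft := CenX_comm htX hf.2
  have e1 : m = vv 0 β * f⁻¹ := by rw [e]; group
  have hft' : t a * f⁻¹ * (t a)⁻¹ = f⁻¹ := by
    have h3 : Commute (t a) f := hft
    rw [h3.inv_right.eq]; group
  have e2 : t a * m * (t a)⁻¹ = vv 0 (a⁻¹ * β) * f⁻¹ := by
    have h2 := τ.act a 0 β ha
    rw [mul_zero] at h2
    calc t a * m * (t a)⁻¹ = (t a * vv 0 β * (t a)⁻¹) * (t a * f⁻¹ * (t a)⁻¹) := by rw [e1]; group
      _ = _ := by rw [h2, hft']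
  have h2 := mul_mem h1 (inv_mem hm)
  have h3 : t a * m * (t a)⁻¹ * m⁻¹ = vv 0 ((a⁻¹ - 1) * β) := by
    have h4 := c.v_add 0 ((a⁻¹ - 1) * β) 0 β
    rw [add_zero, show (a⁻¹ - 1) * β + β = a⁻¹ * β by ring] at h4
    rw [e2, e1, h4]; group
  rw [h3] at h2
  have hc : a⁻¹ - 1 ≠ 0 := by
    intro h0
    apply ha1
    rw [← inv_inv a, sub_eq_zero.1 h0, inv_one]
  have h5 := conj_mem_of_normalizer (N_le_NM0 b.toBT i (τ.normR hc)) h2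
  rw [τ.act _ _ _ hc, mul_zero, ← mul_assoc, inv_mul_cancel₀ hc, one_mul] at h5
  exact h5

/-- **`[W i, U j] ≤ M₀`** -/
theorem comm_M0 (hF : ∃ a : F, a ≠ 0 ∧ a ≠ 1) (c : Coord V R i j vv w1 w2) (τ : TorD V R i j vv t)
    (hodd : Odd ((normalizer (V : Set G)).relIndex (normalizer (R i : Set G))))
    {w u : G} (hw : w ∈ WW V (R i)) (hu : u ∈ UU V R j) : w * u * w⁻¹ * u⁻¹ ∈ M0 b.toBT i := by
  obtain ⟨m, hm, z, hz, rfl⟩ := cover b.toBT hodd hw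
  obtain ⟨m', hm', d, hd, rfl⟩ := c2 b c.ne hodd (c.w1_mem 1) (w1_not_mem c) (ZZ_le_U i hz)
  have k1 := M0_comm b hm (UU_le_cen j hu)
  have k2 := M0_comm b hm' (UU_le_cen j hu)
  have k3 := c3 b hF c τ hodd hd hu
  rw [show m * (m' * d) * u * (m * (m' * d))⁻¹ * u⁻¹ =
    m * (m' * (d * u * d⁻¹ * u⁻¹) * m'⁻¹ * (m' * u * m'⁻¹ * u⁻¹)) * m⁻¹ * (m * u * m⁻¹ * u⁻¹) by group]
  exact mul_mem (mul_mem (mul_mem hm (mul_mem (mul_mem (mul_mem hm' k3) (inv_mem hm')) k2)) (inv_mem hm)) k1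

/-! ### 4. `N₁` -/

omit [Finite G] in
/-- an element of `N₀` with `[W i, x] ≤ M₀` is in `Q i` -/
theorem N1_le [Finite G] {i : ι} {x : G} (hx : x ∈ N0 V R i)
    (h : ∀ w ∈ WW V (R i), x * w * x⁻¹ * w⁻¹ ∈ M0 b.toBT i) : x ∈ QQ (R i) := by
  have hNM := N_le_NM0 b.toBT i
  let N1 : Subgroup G := N0 V R i ⊓ cenMod (M0 b.toBT i) (WW V (R i))
  have key : N1 ≤ QQ (R i) := by
    refine le_O2_of_normal (inf_le_left.trans (N0_le_N i)) ?_ ?_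
    · refine isPGroup_of_odd fun x hx ho => ?_
      have hRP : IsPGroup 2 (R i) := (b.W_isPGroup i).to_le (b.R_le_W i i)
      have hZP : IsPGroup 2 (ZZ V R i) := (b.W_isPGroup i).to_le (ZZ_le_W i)
      have h1 : ∀ r ∈ R i, x * r = r * x := fun r hr => (mem_centralizer_iff.1 hx.1.1 r hr).symm
      have h2 : ∀ s ∈ M0 b.toBT i, x * s = s * x := fun s hs =>
        comm_of_odd ho hRP (hs.2 x hx.1) (h1 _ (hs.2 x hx.1))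
      have h3 : ∀ w ∈ WW V (R i), x * w = w * x := fun w hw =>
        comm_of_odd ho hZP (hx.1.2.2 w hw) (h2 _ (hx.2.2 w hw))
      have h4 : x ∈ centralizer (WW V (R i) : Set G) := by
        rw [mem_centralizer_iff]; exact fun w hw => (h3 w hw).symm
      obtain ⟨n, hn⟩ := b.cen_W_isPGroup i ⟨x, h4⟩
      have hn' : x ^ 2 ^ n = 1 := congrArg Subtype.val hn
      have hd := Nat.dvd_gcd (dvd_refl (orderOf x)) (orderOf_dvd_of_pow_eq_one hn')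
      have hco : Nat.gcd (orderOf x) (2 ^ n) = 1 := (Nat.coprime_two_right.2 ho).pow_right n
      rw [hco, Nat.dvd_one, orderOf_eq_one_iff] at hd
      exact hd
    · rintro g hg x hx
      refine mem_inf.2 ⟨N_le_NN0 i hg hx.1, mul_mem (mul_mem (hNM hg) hx.2.1) (inv_mem (hNM hg)),
        fun w hw => ?_⟩
      have h1 := hx.2.2 _ (conj_inv_mem_of_normalizer (normalizer_le_WW V (R i) hg) hw)
      have h2 := conj_mem_of_normalizer (hNM hg) h1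
      rwa [show g * (x * (g⁻¹ * w * g) * x⁻¹ * (g⁻¹ * w * g)⁻¹) * g⁻¹ =
        g * x * g⁻¹ * w * (g * x * g⁻¹)⁻¹ * w⁻¹ by group] at h2
  exact key (mem_inf.2 ⟨hx, hNM (N0_le_N i hx), h⟩)


/-! ### 5. `β` -/

omit [Finite G] in
/-- `[z, u] = r f`, `r ∈ R j`, `f ∈ F₀`, for `z ∈ Z(W j)`, `u ∈ U i` -/
theorem z_U {i j : ι} (hij : i ≠ j) {z u : G} (hz : z ∈ ZZ V R j) (hu : u ∈ UU V R i) :
    z * u * z⁻¹ * u⁻¹ ∈ DD V R ∧ ∃ r ∈ R j, ∃ f ∈ DD V R ⊓ CenX V R, z * u * z⁻¹ * u⁻¹ = r * f := by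
  obtain ⟨h1, h2⟩ := b.cen_W_U (Ne.symm hij) hz.2 hu
  obtain ⟨a, ha, hf⟩ := b.cen_DW h1 h2
  exact ⟨h1, a⁻¹, inv_mem ha, _, hf, by group⟩

omit [Finite G] b in
theorem vv_ZZ (c : Coord V R i j vv w1 w2) {β : F} (h : vv 0 β ∈ ZZ V R i) : β = 0 := by
  have h1 := ZZ_comm h (c.w1_mem 1)
  have h2 := c.w1_act 1 0 β
  rw [← h1, mul_inv_cancel_right] at h2
  have h3 := (c.v_inj h2).1
  rw [one_mul, zero_add] at h3
  exact h3.symm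

omit [Finite G] b in
/-- (b2) -/
theorem b2 (c : Coord V R i j vv w1 w2) {β β' : F} {ζ ζ' : G} (hζ : ζ ∈ ZZ V R i) (hζ' : ζ' ∈ ZZ V R i)
    (h : vv 0 β * ζ = vv 0 β' * ζ') : β = β' := by
  have h1 := c.v_add 0 (β - β') 0 β'
  rw [add_zero, sub_add_cancel] at h1
  have hc : Commute ζ (vv 0 β') := ZZ_comm hζ (V_le_WW V (R i) (c.v_mem _ _))
  have hc' : Commute ζ' (vv 0 β') := ZZ_comm hζ' (V_le_WW V (R i) (c.v_mem _ _))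
  have h2 : vv 0 (β - β') = ζ' * ζ⁻¹ := by
    calc vv 0 (β - β') = (vv 0 β * ζ) * ζ⁻¹ * (vv 0 β')⁻¹ := by rw [h1]; group
      _ = vv 0 β' * (ζ' * ζ⁻¹) * (vv 0 β')⁻¹ := by rw [h]; group
      _ = ζ' * ζ⁻¹ := by rw [← (hc'.mul_left hc.inv_left).eq]; group
  have h3 : vv 0 (β - β') ∈ ZZ V R i := by rw [h2]; exact mul_mem hζ' (inv_mem hζ)
  exact sub_eq_zero.1 (vv_ZZ c h3)

omit [Finite G] b in
theorem cm_act {w : G} {s : F} (c : Coord V R i j vv w1 w2) (hs : ∀ b c, w * vv b c * w⁻¹ = vv (b + s * c) c)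
    (x : F) : w * vv 0 x * w⁻¹ * (vv 0 x)⁻¹ = vv (s * x) 0 := by
  have h2 := c.v_add (s * x) 0 0 x
  rw [add_zero, zero_add] at h2
  rw [hs, zero_add, h2, mul_inv_cancel_right]

omit [Finite G] b in
theorem t_act_inv (τ : TorD V R i j vv t) {a : F} (ha : a ≠ 0) (x y : F) :
    (t a)⁻¹ * vv x y * t a = vv (a⁻¹ * x) (a * y) := by
  have h := τ.act a (a⁻¹ * x) (a * y) ha
  rw [← mul_assoc, ← mul_assoc, mul_inv_cancel₀ ha, inv_mul_cancel₀ ha, one_mul, one_mul] at h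
  rw [← h]; group

omit [Finite G] b in
theorem cj_t (τ : TorD V R i j vv t) {a : F} (ha : a ≠ 0) : cj (t a) (R i) = R i ∧ cj (t a) (R j) = R j :=
  ⟨cj_eq_self_iff.2 (τ.normR ha), cj_eq_self_iff.2 (τ.normR' ha)⟩

omit [Finite G] b in
theorem cj_t_inv (τ : TorD V R i j vv t) {a : F} (ha : a ≠ 0) :
    cj (t a)⁻¹ (R i) = R i ∧ cj (t a)⁻¹ (R j) = R j :=
  ⟨cj_eq_self_iff.2 (inv_mem (τ.normR ha)), cj_eq_self_iff.2 (inv_mem (τ.normR' ha))⟩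

/-- elements of `Z(W j)` with `[z, U i] ≤ C(X)` -/
def ZP (V : Subgroup G) (R : ι → Subgroup G) (i j : ι) (z : G) : Prop :=
  z ∈ ZZ V R j ∧ ∀ u ∈ UU V R i, z * u * z⁻¹ * u⁻¹ ∈ CenX V R

omit [Finite G] in
/-- (b1) -/
theorem b1 (c : Coord V R i j vv w1 w2) {z w : G} (hz : ZP V R i j z) (hw : w ∈ WW V (R i)) :
    ∃ β, ∃ ζ ∈ ZZ V R i, w * z * w⁻¹ * z⁻¹ = vv 0 β * ζ := by
  have hcW := b.WU' hw (ZZ_le_U j hz.1)
  have hU : ∀ u ∈ UU V R i, (w * z * w⁻¹ * z⁻¹) * u = u * (w * z * w⁻¹ * z⁻¹) := by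
    intro u hu
    have h1 := adj b.toBT hw (UU_le_WW i hu) (ZZ_le_U j hz.1)
    have h2 : u * z * u⁻¹ * z⁻¹ ∈ CenX V R := by
      rw [show u * z * u⁻¹ * z⁻¹ = (z * u * z⁻¹ * u⁻¹)⁻¹ by group]
      exact inv_mem (hz.2 u hu)
    have h3 := CenX_comm (W_le_X V R i hw) h2
    rw [h3, mul_inv_cancel_right, mul_inv_cancel, mul_inv_eq_one, mul_inv_eq_iff_eq_mul] at h1
    exact h1
  obtain ⟨v, hv, h⟩ := b.cen_U (b.W_le_Q i (UU_le_WW i hcW)) hU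
  obtain ⟨p, β, rfl⟩ := (c.mem_V v).1 hv
  have h1 : (vv p β)⁻¹ * (w * z * w⁻¹ * z⁻¹) ∈ ZZ V R i :=
    mem_inf.2 ⟨mul_mem (inv_mem (V_le_WW V (R i) (c.v_mem p β))) (UU_le_WW i hcW), h⟩
  refine ⟨β, vv p 0 * ((vv p β)⁻¹ * (w * z * w⁻¹ * z⁻¹)),
    mul_mem (R_le_ZZ b.toBT i ((c.mem_R1 _).2 ⟨p, rfl⟩)) h1, ?_⟩
  have h2 := c.v_add 0 β p 0
  rw [add_zero, zero_add] at h2
  rw [← mul_assoc, ← h2]; group

omit [Finite G] in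
/-- (b3) -/
theorem b3 (c : Coord V R i j vv w1 w2) {z w : G} (hz : ZP V R i j z) (hw : w ∈ WW V (R i)) {s β : F}
    (hs : ∀ b c, w * vv b c * w⁻¹ = vv (b + s * c) c) {ζ : G} (hζ : ζ ∈ ZZ V R i)
    (h : w1 1 * z * (w1 1)⁻¹ * z⁻¹ = vv 0 β * ζ) :
    ∃ ζ' ∈ ZZ V R i, w * z * w⁻¹ * z⁻¹ = vv 0 (s * β) * ζ' := by
  obtain ⟨β', ζ', hζ', e⟩ := b1 b c hz hw
  refine ⟨ζ', hζ', ?_⟩
  have h1 := adj b.toBT hw (c.w1_mem 1) (ZZ_le_U j hz.1)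
  rw [e, h] at h1
  have hV : ∀ x, vv 0 x ∈ WW V (R i) := fun x => V_le_WW V (R i) (c.v_mem 0 x)
  rw [bil_left b.toBT (hV _) hζ'.1 (c.w1_mem 1), bil_one b.toBT hζ' (c.w1_mem 1), mul_one,
    bil_symm b.toBT (hV _) (c.w1_mem 1), cm_act c (c.w1_act 1), one_mul,
    bil_right b.toBT hw (hV _) hζ.1, cm_act c hs, bil_symm b.toBT hw hζ.1, bil_one b.toBT hζ hw,
    mul_one] at h1
  rw [e, (c.v_inj h1).1]

omit [Finite G] in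
/-- `Z'` is `T`-invariant -/
theorem ZP_conj (τ : TorD V R i j vv t) {a : F} (ha : a ≠ 0) {z : G} (hz : ZP V R i j z) :
    ZP V R i j ((t a)⁻¹ * z * t a) := by
  refine ⟨?_, fun u hu => ?_⟩
  · have h := conj_mem_cj (g := (t a)⁻¹) hz.1
    rwa [cj_ZZ b.toBT (cj_t_inv τ ha).2, inv_inv] at h
  · have h1 := conj_mem_cj (g := t a) hu
    rw [b.cj_UU (b.X_le_NV (τ.memX a ha)) (cj_t τ ha).1] at h1
    have h2 := hz.2 _ h1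
    have h3 := CenX_comm (inv_mem (τ.memX a ha)) h2
    have e : (t a)⁻¹ * z * t a * u * ((t a)⁻¹ * z * t a)⁻¹ * u⁻¹ =
        (t a)⁻¹ * (z * (t a * u * (t a)⁻¹) * z⁻¹ * (t a * u * (t a)⁻¹)⁻¹) * t a := by group
    rw [e, h3, inv_mul_cancel_right]
    exact h2

omit [Finite G] in
/-- (b4) -/
theorem b4 (c : Coord V R i j vv w1 w2) (τ : TorD V R i j vv t) {z : G} (hz : ZP V R i j z) {a β : F}
    (ha : a ≠ 0) {ζ : G} (hζ : ζ ∈ ZZ V R i) (h : w1 1 * z * (w1 1)⁻¹ * z⁻¹ = vv 0 β * ζ) :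
    ∃ ζ' ∈ ZZ V R i, w1 1 * ((t a)⁻¹ * z * t a) * (w1 1)⁻¹ * ((t a)⁻¹ * z * t a)⁻¹ =
      vv 0 (a ^ 3 * β) * ζ' := by
  have hw : t a * w1 1 * (t a)⁻¹ ∈ WW V (R i) := by
    have := conj_mem_cj (g := t a) (c.w1_mem 1)
    rwa [b.cj_WW (cj_t τ ha).1] at this
  have hs : ∀ x y, (t a * w1 1 * (t a)⁻¹) * vv x y * (t a * w1 1 * (t a)⁻¹)⁻¹ = vv (x + (a * a) * y) y := by
    intro x y
    have e : (t a * w1 1 * (t a)⁻¹) * vv x y * (t a * w1 1 * (t a)⁻¹)⁻¹ =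
        t a * (w1 1 * ((t a)⁻¹ * vv x y * t a) * (w1 1)⁻¹) * (t a)⁻¹ := by group
    rw [e, t_act_inv τ ha, c.w1_act, τ.act _ _ _ ha]
    congr 1
    · rw [mul_add, ← mul_assoc, mul_inv_cancel₀ ha, one_mul, one_mul, mul_assoc]
    · rw [← mul_assoc, inv_mul_cancel₀ ha, one_mul]
  obtain ⟨ζ', hζ', e⟩ := b3 b c hz hw hs hζ h
  have hζ'' : (t a)⁻¹ * ζ' * t a ∈ ZZ V R i := by
    have h := conj_mem_cj (g := (t a)⁻¹) hζ'
    rwa [cj_ZZ b.toBT (cj_t_inv τ ha).1, inv_inv] at h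
  refine ⟨_, hζ'', ?_⟩
  have e2 : w1 1 * ((t a)⁻¹ * z * t a) * (w1 1)⁻¹ * ((t a)⁻¹ * z * t a)⁻¹ =
      (t a)⁻¹ * ((t a * w1 1 * (t a)⁻¹) * z * (t a * w1 1 * (t a)⁻¹)⁻¹ * z⁻¹) * t a := by group
  have e3 : (t a)⁻¹ * (vv 0 (a * a * β) * ζ') * t a =
      ((t a)⁻¹ * vv 0 (a * a * β) * t a) * ((t a)⁻¹ * ζ' * t a) := by group
  have e4 : a * (a * a * β) = a ^ 3 * β := by ring
  rw [e2, e, e3, t_act_inv τ ha, mul_zero, e4]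

omit [Finite G] in
/-- (b5) -/
theorem b5 (c : Coord V R i j vv w1 w2) {z z' d : G} (hz : ZP V R i j z)
    (hd : d ∈ DD V R) {β β' : F} {ζ ζ' : G} (hζ : ζ ∈ ZZ V R i) (hζ' : ζ' ∈ ZZ V R i)
    (h : w1 1 * z * (w1 1)⁻¹ * z⁻¹ = vv 0 β * ζ) (h' : w1 1 * z' * (w1 1)⁻¹ * z'⁻¹ = vv 0 β' * ζ') :
    ∃ ζ'' ∈ ZZ V R i, w1 1 * (d * (z * z')) * (w1 1)⁻¹ * (d * (z * z'))⁻¹ = vv 0 (β + β') * ζ'' := by
  have hV : ∀ x y, vv x y ∈ V := c.v_mem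
  -- `z (vv 0 x η) z⁻¹ = vv 0 x ([z, η] η)`
  have k1 : z * (vv 0 β' * ζ') * z⁻¹ = vv 0 β' * ((z * ζ' * z⁻¹ * ζ'⁻¹) * ζ') := by
    have h1 : vv 0 β' * z = z * vv 0 β' := mem_centralizer_iff.1 (UU_le_cen j (ZZ_le_U j hz.1)) _ (hV 0 β')
    calc z * (vv 0 β' * ζ') * z⁻¹ = (z * vv 0 β') * ζ' * z⁻¹ := by group
      _ = _ := by rw [← h1]; group
  have hη : (z * ζ' * z⁻¹ * ζ'⁻¹) * ζ' ∈ ZZ V R i := by
    obtain ⟨h1, -⟩ := b.cen_W_U (Ne.symm c.ne) hz.1.2 (ZZ_le_U i hζ')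
    exact mul_mem (F0_le_ZZ i (mem_inf.2 ⟨h1, hz.2 ζ' (ZZ_le_U i hζ')⟩)) hζ'
  set η := (z * ζ' * z⁻¹ * ζ'⁻¹) * ζ' with hηdef
  have k2 : ∀ x, ∀ η ∈ ZZ V R i, Commute d (vv 0 x * η) := fun x η hη =>
    (Commute.mul_right (mem_centralizer_iff.1 (b.D_le_cen hd) _ (hV 0 x)).symm
      (ZZ_comm hη (D_le_W V R i hd)).symm :)
  have hdd : w1 1 * d * (w1 1)⁻¹ * d⁻¹ ∈ R i := b.WW_comm i (c.w1_mem 1) (D_le_W V R i hd)
  have e1 : w1 1 * (d * (z * z')) * (w1 1)⁻¹ * (d * (z * z'))⁻¹ =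
      (w1 1 * d * (w1 1)⁻¹ * d⁻¹) * (d * ((w1 1 * z * (w1 1)⁻¹ * z⁻¹) *
        (z * (w1 1 * z' * (w1 1)⁻¹ * z'⁻¹) * z⁻¹)) * d⁻¹) := by group
  have hζc : ∀ x, Commute ζ (vv 0 x) := fun x => ZZ_comm hζ (V_le_WW V (R i) (hV 0 x))
  have e3 : (vv 0 β * ζ) * (vv 0 β' * η) = vv 0 (β + β') * (ζ * η) := by
    have h3 := c.v_add 0 β 0 β'
    rw [add_zero] at h3
    rw [h3]
    calc (vv 0 β * ζ) * (vv 0 β' * η) = vv 0 β * (ζ * vv 0 β') * η := by group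
      _ = vv 0 β * (vv 0 β' * ζ) * η := by rw [(hζc _).eq]
      _ = _ := by group
  have e4 : d * (vv 0 (β + β') * (ζ * η)) * d⁻¹ = vv 0 (β + β') * (ζ * η) := by
    rw [(k2 _ _ (mul_mem hζ hη)).eq]; group
  refine ⟨(w1 1 * d * (w1 1)⁻¹ * d⁻¹) * (ζ * η), mul_mem (R_le_ZZ b.toBT i hdd) (mul_mem hζ hη), ?_⟩
  have hc : (w1 1 * d * (w1 1)⁻¹ * d⁻¹) * vv 0 (β + β') = vv 0 (β + β') * (w1 1 * d * (w1 1)⁻¹ * d⁻¹) :=
    R_comm_W b.toBT hdd (V_le_WW V (R i) (hV _ _))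
  rw [e1, h, h', k1, e3, e4, ← mul_assoc, hc, mul_assoc]

omit [Finite G] in
/-- `b(z) = 0` -/
theorem b6 [CharP F 2] (hF : ∃ a : F, a ≠ 0 ∧ a ≠ 1) (c : Coord V R i j vv w1 w2) (τ : TorD V R i j vv t)
    {z : G} (hz : ZP V R i j z) {β : F} {ζ : G} (hζ : ζ ∈ ZZ V R i)
    (h : w1 1 * z * (w1 1)⁻¹ * z⁻¹ = vv 0 β * ζ) : β = 0 := by
  obtain ⟨a, ha, ha1⟩ := hF
  have hab : a + 1 ≠ 0 := by
    intro h0
    apply ha1
    have h1 : a = -1 := eq_neg_of_add_eq_zero_left h0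
    rw [h1, CharTwo.neg_eq]
  obtain ⟨ζ1, hζ1, e1⟩ := b4 b c τ hz hab hζ h
  obtain ⟨ζ2, hζ2, e2⟩ := b4 b c τ hz ha hζ h
  obtain ⟨ζ3, hζ3, e3⟩ := b4 b c τ hz one_ne_zero hζ h
  have hD := τ.wU' a 1 ha one_ne_zero hab z (ZZ_le_U j hz.1)
  set d := (t (a + 1))⁻¹ * z * t (a + 1) * ((t a)⁻¹ * z * t a * ((t 1)⁻¹ * z * t 1))⁻¹ with hd
  have e0 : (t (a + 1))⁻¹ * z * t (a + 1) = d * ((t a)⁻¹ * z * t a * ((t 1)⁻¹ * z * t 1)) := by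
    rw [hd]; group
  obtain ⟨ζ4, hζ4, e4⟩ := b5 b c (ZP_conj b τ ha hz) hD hζ2 hζ3 e2 e3
  rw [← e0, e1] at e4
  have h5 := b2 c hζ1 hζ4 e4
  have h6 : (a + 1) ^ 3 * β - (a ^ 3 * β + 1 ^ 3 * β) = a * (a + 1) * β := by
    have h3 : (3 : F) = 1 := by
      have h2 : (2 : F) = 0 := CharTwo.two_eq_zero
      linear_combination h2
    linear_combination (a * (a + 1) * β) * h3
  rw [h5, sub_self] at h6
  have h7 := h6.symm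
  rcases mul_eq_zero.1 h7 with h8 | h8
  · exact absurd h8 (mul_ne_zero ha hab)
  · exact h8

/-- **`β` is left nondegenerate**: `z ∈ Z(W j)`, `[z, U i] ≤ C(X)` ⟹ `z ∈ D` -/
theorem mem_D [CharP F 2] (hF : ∃ a : F, a ≠ 0 ∧ a ≠ 1) (c : Coord V R i j vv w1 w2)
    (τ : TorD V R i j vv t) (hodd : Odd ((normalizer (V : Set G)).relIndex (normalizer (R i : Set G))))
    {z : G} (hz : ZP V R i j z) : z ∈ DD V R := by
  have hzU := ZZ_le_U j hz.1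
  have hzV := UU_le_cen j hzU
  obtain ⟨β, ζ, hζ, e⟩ := b1 b c hz (c.w1_mem 1)
  have hβ := b6 b hF c τ hz hζ e
  subst hβ
  have h1 : ∀ w ∈ WW V (R i), w * z * w⁻¹ * z⁻¹ ∈ ZZ V R i := by
    intro w hw
    obtain ⟨s, hs⟩ := c.W1_act w hw
    obtain ⟨ζ', hζ', e'⟩ := b3 b c hz hw hs hζ e
    rw [mul_zero, c.v_zero, one_mul] at e'
    rw [e']; exact hζ'
  have h2 : z ∈ N0 V R i := by
    refine mem_inf.2 ⟨?_, N_le_NZ i (b.cen_le_N i hzV), fun w hw => ?_⟩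
    · rw [mem_centralizer_iff]
      exact fun r hr => mem_centralizer_iff.1 hzV r (b.R_le i hr)
    · rw [show z * w * z⁻¹ * w⁻¹ = (w * z * w⁻¹ * z⁻¹)⁻¹ by group]
      exact inv_mem (h1 w hw)
  have h3 : ∀ w ∈ WW V (R i), z * w * z⁻¹ * w⁻¹ ∈ M0 b.toBT i := by
    intro w hw
    rw [show z * w * z⁻¹ * w⁻¹ = (w * z * w⁻¹ * z⁻¹)⁻¹ by group]
    exact inv_mem (comm_M0 b hF c τ hodd hw hzU)
  rw [b.D_eq (Ne.symm c.ne)]
  exact mem_inf.2 ⟨UU_le_WW j hzU, N1_le b h2 h3⟩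

/-! ### 6. LEMMA N' -/

omit [Finite G] in
/-- `[w, z] ∈ Z(W i) D` for `z ∈ Z(W j)`, `w ∈ W i - U i` -/
theorem w_z {i j : ι} (hij : i ≠ j) {w z : G} (hw : w ∈ WW V (R i)) (hw' : w ∉ UU V R i)
    (hz : z ∈ ZZ V R j) : ∃ ρ ∈ ZZ V R i, ∃ δ ∈ DD V R, w * z * w⁻¹ * z⁻¹ = ρ * δ := by
  obtain ⟨n, hn, hnj, H⟩ := nmap b.toBT hij hw hw'
  have h1 := H z (ZZ_le_U j hz)
  have h2 : n * z * n⁻¹ ∈ ZZ V R i := by
    rw [← cj_ZZ b.toBT hnj]; exact conj_mem_cj hz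
  set c := w * z * w⁻¹ * z⁻¹ with hc
  have h3 := inv_mem h1
  refine ⟨_, h2, (n * z * n⁻¹)⁻¹ * c, ?_, by group⟩
  have e : (n * z * n⁻¹)⁻¹ * c = (n * z * n⁻¹)⁻¹ * (n * z * n⁻¹ * c⁻¹)⁻¹ * (n * z * n⁻¹) := by group
  have hN : n * z * n⁻¹ ∈ normalizer (DD V R : Set G) :=
    b.Y_le_ND (UU_le_YY i (ZZ_le_U i h2))
  rw [e]
  exact conj_inv_mem_of_normalizer hN h3

omit [Finite G] in
/-- `z ∈ Z(W j)`, `[z, u₀] ∉ C(X)`: then `V ≤ [W i, z] Z(W i)` -/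
theorem ii_a (c : Coord V R i j vv w1 w2) (τ : TorD V R i j vv t) {z : G} (hz : z ∈ ZZ V R j) {u₀ : G}
    (hu₀ : u₀ ∈ UU V R i) (hne : z * u₀ * z⁻¹ * u₀⁻¹ ∉ CenX V R) :
    V ≤ NU b.toBT (i := i) (ZZ_le_U j hz) := by
  have hij := c.ne
  -- `w = w1 1`
  have hw := c.w1_mem 1
  have hw' := w1_not_mem c
  obtain ⟨ρ, hρ, δ, hδ, e⟩ := w_z b hij hw hw' hz
  -- `[w, [z, u]] = [δ, u]`
  have key : ∀ u ∈ UU V R i, w1 1 * (z * u * z⁻¹ * u⁻¹) * (w1 1)⁻¹ * (z * u * z⁻¹ * u⁻¹)⁻¹ =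
      δ * u * δ⁻¹ * u⁻¹ := by
    intro u hu
    have h1 := adj b.toBT hw (UU_le_WW i hu) (ZZ_le_U j hz)
    have h2 : u * z * u⁻¹ * z⁻¹ = z * u * z⁻¹ * u⁻¹ := by
      have h3 := b.D_sq (z_U b hij hz hu).1
      have h4 : (z * u * z⁻¹ * u⁻¹)⁻¹ = z * u * z⁻¹ * u⁻¹ := inv_eq_of_mul_eq_one_left h3
      rw [← h4]; group
    rw [e, h2] at h1
    rw [← h1, bil_left b.toBT hρ.1 (D_le_W V R i hδ) (UU_le_WW i hu), bil_one b.toBT hρ (UU_le_WW i hu),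
      one_mul]
  have hact : ∀ x, w1 1 * vv 0 x * (w1 1)⁻¹ * (vv 0 x)⁻¹ = vv x 0 := by
    intro x
    have h1 := cm_act c (c.w1_act 1) x
    rwa [one_mul] at h1
  -- `[w, [z, u]] = vv x 0` if `[z, u] = vv 0 x f`
  have hact' : ∀ x, ∀ f ∈ DD V R ⊓ CenX V R, w1 1 * (vv 0 x * f) * (w1 1)⁻¹ * (vv 0 x * f)⁻¹ = vv x 0 := by
    intro x f hf
    have h1 := CenX_comm (W_le_X V R i hw) hf.2
    have h2 : Commute (w1 1) f := h1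
    rw [← hact x]
    calc w1 1 * (vv 0 x * f) * (w1 1)⁻¹ * (vv 0 x * f)⁻¹ =
          w1 1 * vv 0 x * (f * (w1 1)⁻¹) * f⁻¹ * (vv 0 x)⁻¹ := by group
      _ = _ := by rw [← h2.inv_left.eq]; group
  obtain ⟨-, r₀, hr₀, f₀, hf₀, e₀⟩ := z_U b hij hz hu₀
  obtain ⟨c₀, rfl⟩ := (c.mem_R2 _).1 hr₀
  have hc₀' : c₀ ≠ 0 := by
    rintro rfl
    apply hne
    rw [e₀, c.v_zero, one_mul]
    exact hf₀.2
  have h0 := key u₀ hu₀
  rw [e₀, hact' _ _ hf₀] at h0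
  -- `R j` is reached
  have hR : ∀ x, vv 0 x ∈ NU b.toBT (i := i) (ZZ_le_U j hz) := by
    intro x
    by_cases hx : x = 0
    · rw [hx, c.v_zero]; exact one_mem _
    have ha : x / c₀ ≠ 0 := div_ne_zero hx hc₀'
    have htX := τ.memX _ ha
    have hti : cj (t (x / c₀)) (R i) = R i := cj_eq_self_iff.2 (τ.normR ha)
    have hu : t (x / c₀) * u₀ * (t (x / c₀))⁻¹ ∈ UU V R i := by
      rw [← b.cj_UU (b.X_le_NV htX) hti]; exact conj_mem_cj hu₀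
    have h1 := key _ hu
    rw [← b.lam_conj htX hδ (UU_le_YY i hu₀), ← h0, τ.act _ _ _ ha, mul_zero, div_mul_cancel₀ _ hc₀'] at h1
    obtain ⟨-, r', hr', f', hf', e'⟩ := z_U b hij hz hu
    obtain ⟨x', rfl⟩ := (c.mem_R2 _).1 hr'
    rw [e', hact' _ _ hf'] at h1
    rw [(c.v_inj h1).1] at e'
    have h2 : (t (x / c₀) * u₀ * (t (x / c₀))⁻¹) * z * (t (x / c₀) * u₀ * (t (x / c₀))⁻¹)⁻¹ * z⁻¹ ∈
        NU b.toBT (i := i) (ZZ_le_U j hz) := ⟨_, UU_le_WW i hu, 1, one_mem _, by rw [mul_one]⟩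
    have h3 := inv_mem h2
    rw [show ((t (x / c₀) * u₀ * (t (x / c₀))⁻¹) * z * (t (x / c₀) * u₀ * (t (x / c₀))⁻¹)⁻¹ * z⁻¹)⁻¹ =
      z * (t (x / c₀) * u₀ * (t (x / c₀))⁻¹) * z⁻¹ * (t (x / c₀) * u₀ * (t (x / c₀))⁻¹)⁻¹ by group, e'] at h3
    have h4 := ZZ_le_NU b.toBT (i := i) (ZZ_le_U j hz) (F0_le_ZZ i hf')
    have h5 := mul_mem h3 (inv_mem h4)
    rwa [mul_inv_cancel_right] at h5
  intro x hx
  obtain ⟨p, q, rfl⟩ := (c.mem_V x).1 hx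
  have h2 := c.v_add p 0 0 q
  rw [add_zero, zero_add] at h2
  rw [h2]
  exact mul_mem (ZZ_le_NU b.toBT _ (R_le_ZZ b.toBT i ((c.mem_R1 _).2 ⟨p, rfl⟩))) (hR q)

/-- `z ∈ Z(W j) - D`: some `[z, u₀] ∉ C(X)`, `u₀ ∈ U i` -/
theorem beta_ne [CharP F 2] (hF : ∃ a : F, a ≠ 0 ∧ a ≠ 1) (c : Coord V R i j vv w1 w2)
    (τ : TorD V R i j vv t) (hodd : Odd ((normalizer (V : Set G)).relIndex (normalizer (R i : Set G))))
    {z : G} (hz : z ∈ ZZ V R j) (hzD : z ∉ DD V R) :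
    ∃ u₀ ∈ UU V R i, z * u₀ * z⁻¹ * u₀⁻¹ ∉ CenX V R := by
  by_contra hcon
  push Not at hcon
  exact hzD (mem_D b hF c τ hodd ⟨hz, hcon⟩)

/-- **LEMMA N'**: `V ≤ [W i, u] Z(W i)` for all `u ∈ U j - D` -/
theorem lemNS [CharP F 2] (hF : ∃ a : F, a ≠ 0 ∧ a ≠ 1) (c : Coord V R i j vv w1 w2)
    (τ : TorD V R i j vv t) (hodd : Odd ((normalizer (V : Set G)).relIndex (normalizer (R i : Set G))))
    {u : G} (hu : u ∈ UU V R j) (hD : u ∉ DD V R) {x : G} (hx : x ∈ V) :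
    ∃ w ∈ WW V (R i), ∃ ζ ∈ ZZ V R i, x = (w * u * w⁻¹ * u⁻¹) * ζ := by
  have hij := c.ne
  by_cases hS : SU b.toBT (i := i) hu ≤ UU V R i
  · exact (mem_NU b.toBT hu).1 (V_le_NU b.toBT hu hS hx)
  · obtain ⟨w, hw, hw'⟩ := SetLike.not_le_iff_exists.1 hS
    obtain ⟨z, hz, d, hd, rfl⟩ := mem_ZD b.toBT hij hw.1 hw' hu hw.2
    have hzD : z ∉ DD V R := fun h => hD (mul_mem h hd)
    -- reduction to `z`
    obtain ⟨u₀, hu₀, hne⟩ := beta_ne b hF c τ hodd hz hzD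
    obtain ⟨w₀, hw₀, ζ, hζ, e⟩ := (mem_NU b.toBT _).1 (ii_a b c τ hz hu₀ hne hx)
    have hdd : w₀ * d * w₀⁻¹ * d⁻¹ ∈ R i := b.WW_comm i hw₀ (D_le_W V R i hd)
    have hzc := mem_centralizer_iff.1 (UU_le_cen j (ZZ_le_U j hz)) _ (b.R_le i hdd)
    -- `[w₀, z d] = [w₀, z] [w₀, d]`
    have e1 : w₀ * (z * d) * w₀⁻¹ * (z * d)⁻¹ = (w₀ * z * w₀⁻¹ * z⁻¹) * (w₀ * d * w₀⁻¹ * d⁻¹) := by
      calc w₀ * (z * d) * w₀⁻¹ * (z * d)⁻¹ =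
            (w₀ * z * w₀⁻¹ * z⁻¹) * (z * (w₀ * d * w₀⁻¹ * d⁻¹) * z⁻¹) := by group
        _ = _ := by rw [← hzc]; group
    refine ⟨w₀, hw₀, (w₀ * d * w₀⁻¹ * d⁻¹)⁻¹ * ζ, mul_mem (inv_mem (R_le_ZZ b.toBT i hdd)) hζ, ?_⟩
    rw [e1, e]; group

/-- **(A)** `u ∈ U j`, `[W i, u] ≤ Z(W i)` ⟹ `u ∈ D` -/
theorem faithful [CharP F 2] (hF : ∃ a : F, a ≠ 0 ∧ a ≠ 1) (c : Coord V R i j vv w1 w2)
    (τ : TorD V R i j vv t) (hodd : Odd ((normalizer (V : Set G)).relIndex (normalizer (R i : Set G))))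
    {u : G} (hu : u ∈ UU V R j) (h : ∀ w ∈ WW V (R i), w * u * w⁻¹ * u⁻¹ ∈ ZZ V R i) : u ∈ DD V R := by
  by_contra hD
  obtain ⟨w, hw, ζ, hζ, e⟩ := lemNS b hF c τ hodd hu hD (c.v_mem 0 1)
  have h1 : vv 0 1 ∈ ZZ V R i := by rw [e]; exact mul_mem (h w hw) hζ
  exact one_ne_zero (vv_ZZ c h1)

end BTS

end Cfsg.Agent.Omega.Lie.LemNS
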