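import Cfsg.Agent.Omega.Lie.LemmaT
import Cfsg.Agent.SignalizersComponents.Components
import Cfsg.Agent.SignalizersComponents.CompBasic
import Cfsg.Agent.S0542

/-!
# Components satisfy the hypotheses of (T1) (`LemmaT.lean`)

* `comp_of_isComponent`: a component `K` of a finite group `H` with `O_2(H) = 1` is a `LemmaT.Comp`;
* `exists_involution`: a subnormal subgroup of even order has an involution in every Sylow 2-subgroup of `H`.
* `Set0.normalises_component`: (T1) for components.
-/

set_option autoImplicit false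

namespace Cfsg.Agent.Omega.Lie.LemmaT

open Cfsg Subgroup

variable {H : Type*} [Group H]

theorem comp_of_isComponent [Finite H] {K : Subgroup H} (hK : IsComponent K) (hO : pCore 2 H = ⊥) : Comp K where
  conj := by
    intro g
    by_cases h : K.map (MulAut.conj g).toMonoidHom = K
    · left
      intro y
      constructor
      · intro hy
        rw [← h]
        exact ⟨y, hy, rfl⟩
      · intro hy
        rw [← h] at hy
        obtain ⟨x, hx, hxy⟩ := hy
        have h1 : g * x * g⁻¹ = g * y * g⁻¹ := hxy
        have h2 : x = y := by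
          have := congrArg (fun z => g⁻¹ * z * g) h1
          simpa [mul_assoc] using this
        rwa [← h2]
    · right
      intro x hx y hy
      have h1 := SignalizersComponents.Components.component_le_centralizer_of_ne hK
        (SignalizersComponents.Components.isComponent_conj g hK) (Ne.symm h) hx
      exact (mem_centralizer_iff.1 h1 (g * y * g⁻¹) ⟨y, hy, rfl⟩).symm
  cen := by
    intro x hx hxx hc
    let Z : Subgroup K := zpowers ⟨x, hx⟩
    have hZc : Z ≤ center K := by
      rw [zpowers_le, mem_center_iff]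
      intro y
      exact Subtype.ext (hc y y.2).symm
    have hZn : Z.Normal := ⟨fun z hz y => by
      have h1 := mem_center_iff.1 (hZc hz) y
      have h2 : y * z * y⁻¹ = z := by rw [h1]; group
      rwa [h2]⟩
    have hZp : IsPGroup 2 Z := by
      rw [IsPGroup.iff_card]
      have h1 : Nat.card Z ∣ 2 := by
        rw [Nat.card_zpowers]
        exact orderOf_dvd_of_pow_eq_one (by rw [pow_two]; exact Subtype.ext hxx)
      rcases (Nat.dvd_prime Nat.prime_two).1 h1 with h2 | h2
      · exact ⟨0, by rw [h2, pow_zero]⟩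
      · exact ⟨1, by rw [h2, pow_one]⟩
    have hZs : (Z.map K.subtype).IsSubnormal := by
      have h1 : Z.IsSubnormal := IsSubnormal.step Z ⊤ le_top IsSubnormal.top
        (by
          rw [normal_subgroupOf_iff_le_normalizer le_top]
          intro y _
          rw [mem_normalizer_iff]
          intro z
          constructor
          · intro hz; exact hZn.conj_mem z hz y
          · intro hz
            have := hZn.conj_mem _ hz y⁻¹
            have e : y⁻¹ * (y * z * y⁻¹) * y⁻¹⁻¹ = z := by group
            rwa [e] at this)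
      exact h1.trans' hK.1
    have h2 := SignalizersComponents.CompBasic.subnormal_pGroup_le_pCore hZs
      (hZp.map K.subtype)
    rw [hO] at h2
    have h3 : x ∈ Z.map K.subtype := ⟨⟨x, hx⟩, mem_zpowers _, rfl⟩
    exact mem_bot.1 (h2 h3)

theorem exists_involution [Finite H] (S : Sylow 2 H) {K : Subgroup H} (hK : K.IsSubnormal)
    (h2 : 2 ∣ Nat.card K) : ∃ x ∈ K, x ∈ (S : Subgroup H) ∧ x ≠ 1 ∧ x * x = 1 := by
  obtain ⟨Q, hQ⟩ := Cfsg.Agent.S0542.result 2 K hK S
  have h3 : Q.toSubgroup ≠ ⊥ := Q.ne_bot_of_dvd_card h2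
  have h4 : Nontrivial Q := (Subgroup.nontrivial_iff_ne_bot _).2 h3
  have h5 : 2 ∣ Nat.card Q := by
    obtain ⟨n, hn⟩ := IsPGroup.iff_card.1 Q.isPGroup'
    have hn0 : n ≠ 0 := by
      rintro rfl
      rw [pow_zero] at hn
      have h6 : 1 < Nat.card Q := Finite.one_lt_card
      have h7 : Nat.card Q = 1 := hn
      omega
    have h8 : Nat.card Q = 2 ^ n := hn
    rw [h8]
    exact dvd_pow_self 2 hn0
  obtain ⟨x, hx⟩ := exists_prime_orderOf_dvd_card' 2 h5
  refine ⟨((x : K) : H), (x : K).2, ?_, ?_, ?_⟩
  · have h6 : (x : K) ∈ (S : Subgroup H).subgroupOf K := hQ ▸ (x.2 : (x : K) ∈ (Q : Subgroup K))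
    exact mem_subgroupOf.1 h6
  · intro h6
    have h7 : x = 1 := Subtype.ext (Subtype.ext h6)
    rw [h7, orderOf_one] at hx
    exact absurd hx (by norm_num)
  · have h6 : x * x = 1 := by
      have h7 := pow_orderOf_eq_one x
      rwa [hx, pow_two] at h7
    exact congrArg (fun y : Q => ((y : K) : H)) h6

/-- **(T1)** for components: `A` normalises every component of even order. `S` contains the involutions of `K` in
some Sylow 2-subgroup (e.g. `S = S₀ ∩ H⁰` with `K ≤ H⁰`). -/
theorem Set0.normalises_component [Finite H] {S A T : Subgroup H} (h : Set0 S A T)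
    (hT : ∃ t ∈ T, t ≠ 1) (hO : pCore 2 H = ⊥) (S₀ : Sylow 2 H) {K : Subgroup H} (hK : IsComponent K)
    (h2 : 2 ∣ Nat.card K) (hS : ∀ x ∈ (S₀ : Subgroup H), x ∈ K → x ∈ S) : A ≤ normalizer (K : Set H) := by
  obtain ⟨x, hxK, hxS, hx1, hx2⟩ := exists_involution S₀ hK.1 h2
  intro a ha
  rw [mem_normalizer_iff]
  exact h.normalises hT (comp_of_isComponent hK hO) hxK (hS x hxS hxK) hx1 hx2 ha

end Cfsg.Agent.Omega.Lie.LemmaT
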