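import Cfsg.Agent.Omega.Lie.TorS
import Cfsg.Agent.Omega.Lie.CompT
import Cfsg.Agent.Omega.Lie.CompB
import Cfsg.Agent.Omega.Lie.LemmaTComp

/-!
# NODE LIE: the group `H = N(R) / O₂(N(R))` (bb OMEGA #10745, #12098)

`im R A` is the image of `A` in `HQ R = N(R)/O₂(N(R))`.  For the situation `b : BTC V R`, `τ : TorD V R i j v t`
(torus), `C : Crd ..` (coordinates) and a Sylow 2-subgroup `S₁` of `G` in `N(V) ∩ N(R i)` we verify the abstract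
hypotheses of `LemmaT`, `CompT`, `CompB` for `A = im (U j)`, `T = im τ.grp`, `S = im (S₁ ⊓ C(R i))`.
-/

set_option autoImplicit false
set_option linter.unusedSectionVars false

namespace Cfsg.Agent.Omega.Lie.Quot

open Subgroup Cfsg.Agent.Omega.BTwo Cfsg.Agent.Omega.Lie

universe u v w

variable {G : Type u} [Group G]

/-- `H = N(R) / O₂(N(R))` -/
abbrev HQ (R : Subgroup G) : Type u := ↥(normalizer (R : Set G)) ⧸ pCore 2 ↥(normalizer (R : Set G))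

/-- the projection `N(R) → H` -/
def pr (R : Subgroup G) : ↥(normalizer (R : Set G)) →* HQ R := QuotientGroup.mk' _

/-- the image of (the intersection with `N(R)` of) a subgroup of `G` -/
def im (R A : Subgroup G) : Subgroup (HQ R) := (A.subgroupOf (normalizer (R : Set G))).map (pr R)

theorem pr_surjective (R : Subgroup G) : Function.Surjective (pr R) := QuotientGroup.mk'_surjective _

theorem exists_pr {R : Subgroup G} (h : HQ R) : ∃ (g : G) (hg : g ∈ normalizer (R : Set G)), pr R ⟨g, hg⟩ = h := by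
  obtain ⟨g, rfl⟩ := pr_surjective R h
  exact ⟨g, g.2, rfl⟩

theorem mem_im {R A : Subgroup G} {h : HQ R} :
    h ∈ im R A ↔ ∃ (g : G) (hg : g ∈ normalizer (R : Set G)), g ∈ A ∧ pr R ⟨g, hg⟩ = h := by
  unfold im
  rw [mem_map]
  constructor
  · rintro ⟨g, hg, rfl⟩
    exact ⟨g, g.2, mem_subgroupOf.1 hg, rfl⟩
  · rintro ⟨g, hg, hgA, rfl⟩
    exact ⟨⟨g, hg⟩, mem_subgroupOf.2 hgA, rfl⟩

theorem pr_mem_im {R A : Subgroup G} {g : G} (hg : g ∈ normalizer (R : Set G)) (h : g ∈ A) :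
    pr R ⟨g, hg⟩ ∈ im R A := mem_im.2 ⟨g, hg, h, rfl⟩

theorem pr_eq_one {R : Subgroup G} {g : G} (hg : g ∈ normalizer (R : Set G)) :
    pr R ⟨g, hg⟩ = 1 ↔ g ∈ QQ R := by
  unfold pr
  rw [QuotientGroup.mk'_apply, QuotientGroup.eq_one_iff]
  constructor
  · intro h; exact ⟨⟨g, hg⟩, h, rfl⟩
  · rintro ⟨x, hx, hxg⟩
    have : x = ⟨g, hg⟩ := Subtype.ext hxg
    rwa [← this]

theorem pr_eq_pr {R : Subgroup G} {g h : G} (hg : g ∈ normalizer (R : Set G)) (hh : h ∈ normalizer (R : Set G)) :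
    pr R ⟨g, hg⟩ = pr R ⟨h, hh⟩ ↔ g⁻¹ * h ∈ QQ R := by
  have h1 : pr R ⟨g, hg⟩ = pr R ⟨h, hh⟩ ↔ pr R ⟨g⁻¹ * h, mul_mem (inv_mem hg) hh⟩ = 1 := by
    have e : (⟨g⁻¹ * h, mul_mem (inv_mem hg) hh⟩ : ↥(normalizer (R : Set G))) = ⟨g, hg⟩⁻¹ * ⟨h, hh⟩ := rfl
    rw [e, map_mul, map_inv, inv_mul_eq_one]
  rw [h1, pr_eq_one]

theorem im_mono {R A B : Subgroup G} (h : A ≤ B) : im R A ≤ im R B := by
  intro x hx
  obtain ⟨g, hg, hgA, rfl⟩ := mem_im.1 hx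
  exact pr_mem_im hg (h hgA)

theorem im_sup {R A B : Subgroup G} (hA : A ≤ normalizer (R : Set G)) (hB : B ≤ normalizer (R : Set G)) :
    im R (A ⊔ B) = im R A ⊔ im R B := by
  unfold im
  rw [subgroupOf_sup hA hB, Subgroup.map_sup]

theorem im_eq_bot {R A : Subgroup G} (hA : A ≤ QQ R) : im R A = ⊥ := by
  rw [eq_bot_iff]
  intro x hx
  obtain ⟨g, hg, hgA, rfl⟩ := mem_im.1 hx
  exact mem_bot.2 ((pr_eq_one hg).2 (hA hgA))

theorem im_isPGroup {R A : Subgroup G} {p : ℕ} (h : IsPGroup p A) : IsPGroup p (im R A) := by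
  unfold im
  exact (h.comap_of_injective _ (normalizer (R : Set G)).subtype_injective).map _

theorem pCore_HQ (R : Subgroup G) : pCore 2 (HQ R) = ⊥ := Lib.Cores.pCore_quotient_pCore 2

/-- membership in the image of a subgroup containing `O₂(N(R))` -/
theorem pr_mem_im_iff {R A : Subgroup G} (hA : QQ R ≤ A) {g : G} (hg : g ∈ normalizer (R : Set G)) :
    pr R ⟨g, hg⟩ ∈ im R A ↔ g ∈ A := by
  refine ⟨fun h => ?_, pr_mem_im hg⟩
  obtain ⟨x, hx, hxA, e⟩ := mem_im.1 h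
  have h1 := hA ((pr_eq_pr hx hg).1 e)
  have e2 : g = x * (x⁻¹ * g) := by group
  rw [e2]
  exact mul_mem hxA h1

theorem im_inf {R A B : Subgroup G} (hA : QQ R ≤ A) (hB : QQ R ≤ B) : im R (A ⊓ B) = im R A ⊓ im R B := by
  refine le_antisymm (le_inf (im_mono inf_le_left) (im_mono inf_le_right)) ?_
  intro x hx
  obtain ⟨g, hg, rfl⟩ := exists_pr x
  rw [mem_inf, pr_mem_im_iff hA, pr_mem_im_iff hB] at hx
  exact pr_mem_im hg (mem_inf.2 hx)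

/-- the image of a Sylow 2-subgroup of `G` contained in `N(R)` -/
theorem exists_sylow [Finite G] {R : Subgroup G} (S₁ : Sylow 2 G) (hS : (S₁ : Subgroup G) ≤ normalizer (R : Set G)) :
    ∃ P : Sylow 2 (HQ R), (P : Subgroup (HQ R)) = im R S₁ := by
  refine ⟨(S₁.subtype hS).mapSurjective (pr_surjective R), ?_⟩
  rfl

theorem QQ_le_sylow [Finite G] {R : Subgroup G} (S₁ : Sylow 2 G) (hS : (S₁ : Subgroup G) ≤ normalizer (R : Set G)) :
    QQ R ≤ S₁ := by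
  rintro _ ⟨x, hx, rfl⟩
  exact (Lib.Cores.pCore_le_sylow (S₁.subtype hS) hx : x ∈ (S₁ : Subgroup G).subgroupOf _)

/-! ### The real situation -/

section real

variable {ι : Type w} {V : Subgroup G} {R : ι → Subgroup G} {F : Type v} [Field F] {i j : ι} {v : F → F → G}
  {t : F → G} {w1 w2 : F → G}

/-- `A = U j O₂(N(R i)) / O₂(N(R i))` -/
def AA (V : Subgroup G) (R : ι → Subgroup G) (i j : ι) : Subgroup (HQ (R i)) := im (R i) (UU V R j)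

/-- `T` in `H` -/
def TT (τ : TorD V R i j v t) : Subgroup (HQ (R i)) := im (R i) τ.grp

/-- `S = (S₁ ∩ C(R i)) / O₂(N(R i))` -/
def SS (R : ι → Subgroup G) (i : ι) (P : Subgroup G) : Subgroup (HQ (R i)) :=
  im (R i) (P ⊓ centralizer (R i : Set G))

/-- `H⁰ = C(R i) / O₂(N(R i))` -/
def H0 (R : ι → Subgroup G) (i : ι) : Subgroup (HQ (R i)) := im (R i) (centralizer (R i : Set G))

section

variable (b : BT V R)
include b

theorem U_le_N (i j : ι) : UU V R j ≤ normalizer (R i : Set G) := (UU_le_cen j).trans (b.cen_le_N i)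

theorem U_inf_Q (hij : i ≠ j) {u : G} (hu : u ∈ UU V R j) : u ∈ QQ (R i) ↔ u ∈ DD V R := by
  constructor
  · intro h
    rw [b.D_eq hij.symm]
    exact mem_inf.2 ⟨UU_le_WW j hu, h⟩
  · intro h
    exact b.W_le_Q i (mem_DD.1 h i)

theorem Q_le_C (i : ι) : QQ (R i) ≤ centralizer (R i : Set G) := fun g hg =>
  mem_centralizer_iff.2 fun a ha => (b.QR i g hg a ha).symm

theorem mem_AA {h : HQ (R i)} : h ∈ AA V R i j ↔
    ∃ (u : G) (hu : u ∈ UU V R j), pr (R i) ⟨u, U_le_N b i j hu⟩ = h := by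
  unfold AA
  rw [mem_im]
  constructor
  · rintro ⟨g, hg, hu, rfl⟩; exact ⟨g, hu, rfl⟩
  · rintro ⟨g, hu, rfl⟩; exact ⟨g, _, hu, rfl⟩

theorem A_sq (hij : i ≠ j) {a : HQ (R i)} (ha : a ∈ AA V R i j) : a * a = 1 := by
  obtain ⟨u, hu, rfl⟩ := (mem_AA b).1 ha
  rw [← map_mul]
  have h1 : u * u ∈ DD V R := b.Y_sq (UU_le_YY j hu)
  exact (pr_eq_one (mul_mem (U_le_N b i j hu) (U_le_N b i j hu))).2
    ((U_inf_Q b hij (mul_mem hu hu)).2 h1)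

end

section tor

variable (b : BT V R) (τ : TorD V R i j v t)

theorem mem_TT {h : HQ (R i)} : h ∈ TT τ ↔ ∃ (a : F) (ha : a ≠ 0), pr (R i) ⟨t a, τ.normR ha⟩ = h := by
  unfold TT
  rw [mem_im]
  constructor
  · rintro ⟨g, hg, ⟨a, ha, rfl⟩, rfl⟩; exact ⟨a, ha, rfl⟩
  · rintro ⟨a, ha, rfl⟩; exact ⟨t a, _, ⟨a, ha, rfl⟩, rfl⟩

theorem T_comm {x y : HQ (R i)} (hx : x ∈ TT τ) (hy : y ∈ TT τ) : x * y = y * x := by
  obtain ⟨a, ha, rfl⟩ := (mem_TT τ).1 hx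
  obtain ⟨c, hc, rfl⟩ := (mem_TT τ).1 hy
  rw [← map_mul, ← map_mul]
  exact congrArg (pr (R i)) (Subtype.ext (τ.comm ha hc))

include b τ

theorem t_norm_U {a : F} (ha : a ≠ 0) {u : G} (hu : u ∈ UU V R j) : t a * u * (t a)⁻¹ ∈ UU V R j := by
  have h1 := b.cj_UU (b.X_le_NV (τ.memX a ha)) (cj_eq_self_iff.2 (τ.normR' ha))
  rw [← h1]
  exact conj_mem_cj hu

theorem TA_mem {x a : HQ (R i)} (hx : x ∈ TT τ) (ha : a ∈ AA V R i j) : x * a * x⁻¹ ∈ AA V R i j := by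
  obtain ⟨c, hc, rfl⟩ := (mem_TT τ).1 hx
  obtain ⟨u, hu, rfl⟩ := (mem_AA b).1 ha
  exact (mem_AA b).2 ⟨_, t_norm_U b τ hc hu, rfl⟩

/-- `t a` acts fixed point freely on `A` -/
theorem fpf (hij : i ≠ j) {a : F} (ha : a ≠ 0) (ha1 : a ≠ 1) {u : G} (hu : u ∈ UU V R j)
    (h : u⁻¹ * (t a * u * (t a)⁻¹) ∈ QQ (R i)) : u ∈ DD V R := by
  have h1 : u⁻¹ * (t a * u * (t a)⁻¹) ∈ DD V R :=
    (U_inf_Q b hij (mul_mem (inv_mem hu) (t_norm_U b τ ha hu))).1 h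
  have hN : u ∈ normalizer (DD V R : Set G) := b.NV_le_ND (cen_le_NV V (UU_le_cen j hu))
  have h2 := conj_mem_of_normalizer hN h1
  have e : u * (u⁻¹ * (t a * u * (t a)⁻¹)) * u⁻¹ = (t a⁻¹)⁻¹ * u * t a⁻¹ * u⁻¹ := by
    rw [τ.inv ha]; group
  rw [e] at h2
  exact τ.fpf_U' b (inv_ne_zero ha) (by rwa [ne_eq, inv_eq_one]) hu h2

/-- an odd order element of `O₂(N(R i))` is trivial -/
theorem t_notin {a : F} (ha : a ≠ 0) (h : t a ∈ QQ (R i)) : a = 1 := by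
  have h1 : orderOf (t a) = 1 := by
    obtain ⟨n, hn⟩ := O2_isPGroup _ ⟨t a, h⟩
    have hn' : (t a) ^ 2 ^ n = 1 := congrArg Subtype.val hn
    have h2 := orderOf_dvd_of_pow_eq_one hn'
    have h3 : Nat.Coprime (orderOf (t a)) (2 ^ n) := (Nat.coprime_two_right.2 (τ.odd a ha)).pow_right n
    exact Nat.Coprime.eq_one_of_dvd h3 h2
  have h2 : t a = 1 := orderOf_eq_one_iff.1 h1
  by_contra ha1
  have h3 := τ.fpf_V ha ha1 (g := v 1 0) ((τ.v_mem _).2 ⟨1, 0, rfl⟩) (by rw [h2]; group)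
  exact one_ne_zero (τ.v_inj _ _ h3).1

theorem T_reg (hij : i ≠ j) {a : HQ (R i)} (ha : a ∈ AA V R i j) (ha1 : a ≠ 1) {x : HQ (R i)} (hx : x ∈ TT τ)
    (h : x * a * x⁻¹ = a) : x = 1 := by
  obtain ⟨c, hc, rfl⟩ := (mem_TT τ).1 hx
  obtain ⟨u, hu, rfl⟩ := (mem_AA b).1 ha
  by_cases hc1 : c = 1
  · subst hc1
    rw [pr_eq_one, τ.one]
    exact one_mem _
  · exfalso
    apply ha1
    rw [pr_eq_one]
    have h1 : pr (R i) ⟨u, U_le_N b i j hu⟩ = pr (R i) ⟨t c * u * (t c)⁻¹,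
        mul_mem (mul_mem (τ.normR hc) (U_le_N b i j hu)) (inv_mem (τ.normR hc))⟩ := h.symm
    exact (U_inf_Q b hij hu).2 (fpf b τ hij hc hc1 hu ((pr_eq_pr _ _).1 h1))

theorem T_line (hij : i ≠ j) {a : HQ (R i)} (ha : a ∈ AA V R i j) {x : HQ (R i)} (hx : x ∈ TT τ) :
    a * (x * a * x⁻¹) = 1 ∨ ∃ y ∈ TT τ, a * (x * a * x⁻¹) = y * a * y⁻¹ := by
  obtain ⟨c, hc, rfl⟩ := (mem_TT τ).1 hx
  obtain ⟨u, hu, rfl⟩ := (mem_AA b).1 ha
  by_cases h0 : 1 + c⁻¹ = 0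
  · left
    have hc1 : c = 1 := by
      have h1 := τ.two b (1 : F)
      have h2 : c⁻¹ = 1 := add_left_cancel (h0.trans h1.symm)
      rw [← inv_inv c, h2, inv_one]
    subst hc1
    have e : pr (R i) ⟨t 1, τ.normR hc⟩ = 1 := by rw [pr_eq_one, τ.one]; exact one_mem _
    rw [e, one_mul, inv_one, mul_one]
    exact A_sq b hij ha
  · right
    have h1 := τ.wU' 1 c⁻¹ one_ne_zero (inv_ne_zero hc) h0 u hu
    rw [τ.one, inv_one, one_mul, mul_one, τ.inv hc, inv_inv] at h1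
    refine ⟨(pr (R i) ⟨t (1 + c⁻¹), τ.normR h0⟩)⁻¹, inv_mem ((mem_TT τ).2 ⟨_, h0, rfl⟩), ?_⟩
    have hUN := U_le_N b i j hu
    have htN := τ.normR hc
    have hsN := τ.normR h0
    have e1 : (pr (R i) ⟨t (1 + c⁻¹), τ.normR h0⟩)⁻¹ * pr (R i) ⟨u, hUN⟩ * (pr (R i) ⟨t (1 + c⁻¹), τ.normR h0⟩)⁻¹⁻¹ =
        pr (R i) ⟨(t (1 + c⁻¹))⁻¹ * u * t (1 + c⁻¹), mul_mem (mul_mem (inv_mem hsN) hUN) hsN⟩ := by
      rw [inv_inv]; rfl
    have e2 : pr (R i) ⟨u, hUN⟩ * (pr (R i) ⟨t c, htN⟩ * pr (R i) ⟨u, hUN⟩ * (pr (R i) ⟨t c, htN⟩)⁻¹) =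
        pr (R i) ⟨u * (t c * u * (t c)⁻¹), mul_mem hUN (mul_mem (mul_mem htN hUN) (inv_mem htN))⟩ := rfl
    rw [e1, e2, pr_eq_pr]
    set x := (t (1 + c⁻¹))⁻¹ * u * t (1 + c⁻¹) with hx'
    set y := u * (t c * u * (t c)⁻¹) with hy'
    have hyU : y ∈ UU V R j := mul_mem hu (t_norm_U b τ hc hu)
    have hN : y⁻¹ ∈ normalizer (DD V R : Set G) := b.NV_le_ND (cen_le_NV V (UU_le_cen j (inv_mem hyU)))
    have h2 := conj_mem_of_normalizer hN h1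
    have e3 : y⁻¹ * (x * y⁻¹) * y⁻¹⁻¹ = y⁻¹ * x := by group
    rw [e3] at h2
    exact b.W_le_Q i (mem_DD.1 h2 i)

theorem scal (hij : i ≠ j) : CompT.Scal (AA V R i j) (TT τ) where
  comm _ hs _ ht := T_comm τ hs ht
  sq _ ha := A_sq b hij ha
  norm _ ht _ ha := TA_mem b τ ht ha
  reg _ ha ha1 _ ht h := T_reg b τ hij ha ha1 ht h
  line _ ha _ ht := T_line b τ hij ha ht

/-- `|T| = q - 1` -/
theorem card_T [Finite F] : Nat.card (TT τ) + 1 = Nat.card F := by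
  have h1 : Nat.card (TT τ) = Nat.card Fˣ := by
    symm
    refine Nat.card_congr (Equiv.ofBijective (fun a : Fˣ =>
      (⟨pr (R i) ⟨t a, τ.normR a.ne_zero⟩, (mem_TT τ).2 ⟨a, a.ne_zero, rfl⟩⟩ : TT τ)) ⟨?_, ?_⟩)
    · intro a c hac
      have h2 : pr (R i) ⟨t a, τ.normR a.ne_zero⟩ = pr (R i) ⟨t c, τ.normR c.ne_zero⟩ := congrArg Subtype.val hac
      have h3 := (pr_eq_pr _ _).1 h2
      have h4 : (t (a : F))⁻¹ * t (c : F) = t ((a : F)⁻¹ * c) := by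
        rw [τ.mul _ _ (inv_ne_zero a.ne_zero) c.ne_zero, τ.inv a.ne_zero]
      rw [h4] at h3
      have h5 := t_notin b τ (mul_ne_zero (inv_ne_zero a.ne_zero) c.ne_zero) h3
      apply Units.ext
      rw [inv_mul_eq_one₀ a.ne_zero] at h5
      exact h5
    · rintro ⟨x, hx⟩
      obtain ⟨a, ha, rfl⟩ := (mem_TT τ).1 hx
      exact ⟨Units.mk0 a ha, rfl⟩
  rw [h1, Nat.card_units]
  have : 0 < Nat.card F := Nat.card_pos
  omega

/-- `A = [A, x]` for every `1 ≠ x ∈ T` -/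
theorem A_gen (hij : i ≠ j) {a : F} (ha : a ≠ 0) (ha1 : a ≠ 1) {x : HQ (R i)} (hx : x ∈ AA V R i j) :
    ∃ y ∈ AA V R i j, x = y⁻¹ * (pr (R i) ⟨t a, τ.normR ha⟩ * y * (pr (R i) ⟨t a, τ.normR ha⟩)⁻¹) := by
  obtain ⟨u, hu, rfl⟩ := (mem_AA b).1 hx
  obtain ⟨u', hu', h⟩ := τ.exists_comm b ha ha1 hu
  have hUN := U_le_N b i j hu
  have hUN' := U_le_N b i j hu'
  have htN := τ.normR ha
  refine ⟨pr (R i) ⟨u', hUN'⟩, (mem_AA b).2 ⟨u', hu', rfl⟩, ?_⟩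
  have hc := (scal b τ hij)
  have hA' : pr (R i) ⟨u', hUN'⟩ ∈ AA V R i j := (mem_AA b).2 ⟨u', hu', rfl⟩
  have hT : pr (R i) ⟨t a, htN⟩ ∈ TT τ := (mem_TT τ).2 ⟨a, ha, rfl⟩
  have e1 : pr (R i) ⟨u, hUN⟩ = pr (R i) ⟨t a * u' * (t a)⁻¹ * u'⁻¹,
      mul_mem (mul_mem (mul_mem htN hUN') (inv_mem htN)) (inv_mem hUN')⟩ := by
    symm
    rw [pr_eq_pr]
    set y := t a * u' * (t a)⁻¹ * u'⁻¹ with hy
    have hyU : y ∈ UU V R j := mul_mem (t_norm_U b τ ha hu') (inv_mem hu')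
    have hN : y⁻¹ ∈ normalizer (DD V R : Set G) := b.NV_le_ND (cen_le_NV V (UU_le_cen j (inv_mem hyU)))
    have h2 := conj_mem_of_normalizer hN h
    have e3 : y⁻¹ * (u * y⁻¹) * y⁻¹⁻¹ = y⁻¹ * u := by group
    rw [e3] at h2
    exact b.W_le_Q i (mem_DD.1 h2 i)
  have e2 : pr (R i) ⟨t a * u' * (t a)⁻¹ * u'⁻¹,
      mul_mem (mul_mem (mul_mem htN hUN') (inv_mem htN)) (inv_mem hUN')⟩ =
      pr (R i) ⟨t a, htN⟩ * pr (R i) ⟨u', hUN'⟩ * (pr (R i) ⟨t a, htN⟩)⁻¹ * (pr (R i) ⟨u', hUN'⟩)⁻¹ := rfl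
  rw [e1, e2]
  -- `A` is commutative
  have hcomm : ∀ x ∈ AA V R i j, ∀ y ∈ AA V R i j, x * y = y * x := by
    intro x hx y hy
    have h1 := hc.sq _ (mul_mem hx hy)
    have h2 : (x * y)⁻¹ = x * y := inv_eq_of_mul_eq_one_left h1
    rw [mul_inv_rev, inv_eq_of_mul_eq_one_left (hc.sq x hx), inv_eq_of_mul_eq_one_left (hc.sq y hy)] at h2
    exact h2.symm
  exact hcomm _ (hc.norm _ hT _ hA') _ (inv_mem hA')

end tor

/-! ### The Sylow subgroup -/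

section syl

variable [Finite G] (b : BT V R) (τ : TorD V R i j v t) (C : Crd V R i j v w1 w2) (S₁ : Sylow 2 G)

/-- `S₁` contains every 2-subgroup normalised by `N(V)` -/
theorem le_sylow_of_normal {N P : Subgroup G} (hS : (S₁ : Subgroup G) ≤ N) (hP : P ≤ N) (h2 : IsPGroup 2 P)
    (hn : ∀ g ∈ N, ∀ x ∈ P, g * x * g⁻¹ ∈ P) : P ≤ S₁ := by
  have h1 : P ≤ O2 N := le_O2_of_normal hP h2 hn
  intro x hx
  obtain ⟨y, hy, rfl⟩ := h1 hx
  exact (Lib.Cores.pCore_le_sylow (S₁.subtype hS) hy : y ∈ (S₁ : Subgroup G).subgroupOf _)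

include b

theorem Y_isPGroup : IsPGroup 2 (YY V R) := by
  intro y
  refine ⟨2, Subtype.ext ?_⟩
  change (y : G) ^ (2 ^ 2) = 1
  have h1 := b.Y_sq y.2
  have h2 := b.D_sq h1
  rw [show (2 ^ 2 : ℕ) = 2 * 2 from rfl, pow_mul, pow_two, pow_two]
  exact h2

theorem Y_le_sylow (hV : (S₁ : Subgroup G) ≤ normalizer (V : Set G)) : YY V R ≤ S₁ :=
  le_sylow_of_normal S₁ hV Y_le_NV (Y_isPGroup b) fun _ hg _ hx => conj_mem_of_normalizer (b.NV_le_NY hg) hx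

theorem W_le_sylow (hR : (S₁ : Subgroup G) ≤ normalizer (R i : Set G)) : WW V (R i) ≤ S₁ :=
  (b.W_le_Q i).trans (QQ_le_sylow S₁ hR)

/-- `A ≤ S` -/
theorem A_le_S (i j : ι) (hV : (S₁ : Subgroup G) ≤ normalizer (V : Set G)) : AA V R i j ≤ SS R i S₁ := by
  refine im_mono (le_inf ((UU_le_YY j).trans (Y_le_sylow b S₁ hV)) ?_)
  exact (UU_le_cen j).trans (centralizer_le (b.R_le i))

include C

/-- `S₁ ⊓ C(R i) = (S₁ ⊓ C(V)) W i` -/
theorem S_eq (hV : (S₁ : Subgroup G) ≤ normalizer (V : Set G)) (hR : (S₁ : Subgroup G) ≤ normalizer (R i : Set G)) :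
    (S₁ : Subgroup G) ⊓ centralizer (R i : Set G) = ((S₁ : Subgroup G) ⊓ centralizer (V : Set G)) ⊔ WW V (R i) := by
  have hWR : WW V (R i) ≤ centralizer (R i : Set G) := (b.W_le_Q i).trans (Q_le_C b i)
  apply le_antisymm
  · intro g hg
    obtain ⟨w, hw, hwg⟩ := cen_fact b C (P := (S₁ : Subgroup G) ⊓ centralizer (R i : Set G))
      (S₁.isPGroup'.to_le inf_le_left) (inf_le_left.trans hV) inf_le_right
      (le_inf (W_le_sylow b S₁ hR) hWR) hg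
    have e : g = w⁻¹ * (w * g) := by group
    rw [e]
    refine mul_mem (mem_sup_right (inv_mem hw)) (mem_sup_left (mem_inf.2 ⟨?_, hwg⟩))
    exact mul_mem (W_le_sylow b S₁ hR hw) (mem_inf.1 hg).1
  · refine sup_le (inf_le_inf_left _ (centralizer_le (b.R_le i))) (le_inf (W_le_sylow b S₁ hR) hWR)

include τ

/-- `T` normalises `S` -/
theorem TS_mem (hV : (S₁ : Subgroup G) ≤ normalizer (V : Set G)) (hR : (S₁ : Subgroup G) ≤ normalizer (R i : Set G))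
    {x s : HQ (R i)} (hx : x ∈ TT τ) (hs : s ∈ SS R i S₁) : x * s * x⁻¹ ∈ SS R i S₁ := by
  obtain ⟨a, ha, rfl⟩ := (mem_TT τ).1 hx
  obtain ⟨g, hg, hgS, rfl⟩ := mem_im.1 hs
  have h1 := X_norm_sup b (P := (S₁ : Subgroup G) ⊓ centralizer (V : Set G)) inf_le_right
    (le_inf (Y_le_sylow b S₁ hV) YY_le_cen) i (τ.memX a ha) (τ.normR ha)
  rw [← S_eq b C S₁ hV hR] at h1
  exact mem_im.2 ⟨_, _, conj_mem_of_normalizer h1 hgS, rfl⟩

/-- `[S, T] ≤ A` -/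
theorem ST_mem (hij : i ≠ j) (hV : (S₁ : Subgroup G) ≤ normalizer (V : Set G))
    (hR : (S₁ : Subgroup G) ≤ normalizer (R i : Set G))
    {x s : HQ (R i)} (hx : x ∈ TT τ) (hs : s ∈ SS R i S₁) : s⁻¹ * (x * s * x⁻¹) ∈ AA V R i j := by
  obtain ⟨a, ha, rfl⟩ := (mem_TT τ).1 hx
  obtain ⟨g, hg, hgS, rfl⟩ := mem_im.1 hs
  rw [S_eq b C S₁ hV hR] at hgS
  have hle : (S₁ : Subgroup G) ⊓ centralizer (V : Set G) ⊔ WW V (R i) ≤ centralizer (V : Set G) ⊔ WW V (R i) :=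
    sup_le (inf_le_right.trans le_sup_left) le_sup_right
  have hgS' : g ∈ centralizer (V : Set G) ⊔ WW V (R i) := hle hgS
  have h1 := comm_X_sup b i (inv_mem hgS') (τ.memX a ha) (τ.normR ha)
  rw [Y_sup_W b hij] at h1
  have htN := τ.normR ha
  have e : (pr (R i) ⟨g, hg⟩)⁻¹ * (pr (R i) ⟨t a, htN⟩ * pr (R i) ⟨g, hg⟩ * (pr (R i) ⟨t a, htN⟩)⁻¹) =
      pr (R i) ⟨g⁻¹ * t a * g⁻¹⁻¹ * (t a)⁻¹, mul_mem (mul_mem (mul_mem (inv_mem hg) htN) (inv_mem (inv_mem hg)))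
        (inv_mem htN)⟩ := by
    have e1 : (⟨g⁻¹ * t a * g⁻¹⁻¹ * (t a)⁻¹, mul_mem (mul_mem (mul_mem (inv_mem hg) htN) (inv_mem (inv_mem hg)))
        (inv_mem htN)⟩ : ↥(normalizer (R i : Set G))) = (⟨g, hg⟩)⁻¹ * (⟨t a, htN⟩ * ⟨g, hg⟩ * (⟨t a, htN⟩)⁻¹) := by
      apply Subtype.ext
      change g⁻¹ * t a * g⁻¹⁻¹ * (t a)⁻¹ = g⁻¹ * (t a * g * (t a)⁻¹)
      group
    rw [e1]; rfl
  rw [e]
  -- `U j ⊔ W i` maps onto `A`
  have h2 : im (R i) (UU V R j ⊔ WW V (R i)) = AA V R i j := by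
    rw [im_sup (U_le_N b i j) (b.W_le_N i), im_eq_bot (b.W_le_Q i), sup_bot_eq]
    rfl
  rw [← h2]
  exact pr_mem_im _ h1

omit τ

theorem S_eq_im (hV : (S₁ : Subgroup G) ≤ normalizer (V : Set G)) (hR : (S₁ : Subgroup G) ≤ normalizer (R i : Set G)) :
    SS R i S₁ = im (R i) ((S₁ : Subgroup G) ⊓ centralizer (V : Set G)) := by
  unfold SS
  rw [S_eq b C S₁ hV hR, im_sup (inf_le_right.trans (b.cen_le_N i)) (b.W_le_N i), im_eq_bot (b.W_le_Q i),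
    sup_bot_eq]

/-- `S` normalises `A` -/
theorem SA_mem (hV : (S₁ : Subgroup G) ≤ normalizer (V : Set G)) (hR : (S₁ : Subgroup G) ≤ normalizer (R i : Set G))
    {s a : HQ (R i)} (hs : s ∈ SS R i S₁) (ha : a ∈ AA V R i j) : s * a * s⁻¹ ∈ AA V R i j := by
  rw [S_eq_im b C S₁ hV hR] at hs
  obtain ⟨g, hg, hgS, rfl⟩ := mem_im.1 hs
  obtain ⟨u, hu, rfl⟩ := (mem_AA b).1 ha
  exact (mem_AA b).2 ⟨_, conj_mem_of_normalizer (b.cen_le_NU j (mem_inf.1 hgS).2) hu, rfl⟩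

include τ

/-- the hypotheses of (T1) -/
theorem set0 (hij : i ≠ j) (hV : (S₁ : Subgroup G) ≤ normalizer (V : Set G))
    (hR : (S₁ : Subgroup G) ≤ normalizer (R i : Set G)) : LemmaT.Set0 (SS R i S₁) (AA V R i j) (TT τ) where
  sq _ ha := A_sq b hij ha
  SA _ hs _ ha := SA_mem b C S₁ hV hR hs ha
  TA _ ht _ ha := TA_mem b τ ht ha
  free x hx hx1 a ha h := by
    by_contra ha1
    exact hx1 (T_reg b τ hij ha ha1 hx h)

theorem exists_T [Finite F] (hF : 4 ≤ Nat.card F) : ∃ x ∈ TT τ, x ≠ 1 := by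
  by_contra hcon
  push Not at hcon
  have h1 : TT τ = ⊥ := (Subgroup.eq_bot_iff_forall _).2 hcon
  have h2 := card_T b τ
  rw [h1, Subgroup.card_bot] at h2
  omega

omit τ C

/-- `S` is the intersection of a Sylow 2-subgroup of `H` with `H⁰` -/
theorem exists_P (hR : (S₁ : Subgroup G) ≤ normalizer (R i : Set G)) :
    ∃ P : Sylow 2 (HQ (R i)), (P : Subgroup (HQ (R i))) ⊓ H0 R i = SS R i S₁ := by
  obtain ⟨P, hP⟩ := exists_sylow S₁ hR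
  refine ⟨P, ?_⟩
  rw [hP]
  exact (im_inf (QQ_le_sylow S₁ hR) (Q_le_C b i)).symm

omit b in
theorem S_isPGroup : IsPGroup 2 (SS R i S₁) := im_isPGroup (S₁.isPGroup'.to_le inf_le_left)

omit b in
theorem S_le_H0 : SS R i S₁ ≤ H0 R i := im_mono inf_le_right

/-- `S ⊓ K` is a Sylow 2-subgroup of every subnormal subgroup `K ≤ H⁰` -/
theorem syl (hR : (S₁ : Subgroup G) ≤ normalizer (R i : Set G)) {K : Subgroup (HQ (R i))} (hK : K.IsSubnormal)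
    (hK0 : K ≤ H0 R i) {P : Subgroup (HQ (R i))} (hPK : P ≤ K) (hP : IsPGroup 2 P) (hSP : SS R i S₁ ⊓ K ≤ P) :
    P ≤ SS R i S₁ := by
  obtain ⟨P₀, hP₀⟩ := exists_P b S₁ hR
  obtain ⟨Q, hQ⟩ := Cfsg.Agent.S0542.result 2 K hK P₀
  have h1 : (Q : Subgroup K) ≤ P.subgroupOf K := by
    rw [hQ]
    intro x hx
    refine mem_subgroupOf.2 (hSP ?_)
    rw [← hP₀]
    exact ⟨⟨mem_subgroupOf.1 hx, hK0 x.2⟩, x.2⟩
  have h2 : P.subgroupOf K = Q := Q.is_maximal' (hP.comap_of_injective _ K.subtype_injective) h1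
  intro x hx
  have h3 : (⟨x, hPK hx⟩ : K) ∈ (Q : Subgroup K) := by
    rw [← h2]
    exact mem_subgroupOf.2 hx
  rw [hQ] at h3
  rw [← hP₀]
  exact ⟨mem_subgroupOf.1 h3, hK0 (hPK hx)⟩

include τ C

/-- **(T1)** in `H = N(R i)/O₂(N(R i))` -/
theorem A_norm [Finite F] (hij : i ≠ j) (hF : 4 ≤ Nat.card F) (hV : (S₁ : Subgroup G) ≤ normalizer (V : Set G))
    (hR : (S₁ : Subgroup G) ≤ normalizer (R i : Set G)) {K : Subgroup (HQ (R i))} (hK : Cfsg.IsComponent K)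
    (hK0 : K ≤ H0 R i) (h2 : 2 ∣ Nat.card K) : AA V R i j ≤ normalizer (K : Set (HQ (R i))) := by
  obtain ⟨P, hP⟩ := exists_P b S₁ hR
  refine (set0 b τ C S₁ hij hV hR).normalises_component (exists_T b τ C hF) (pCore_HQ _) P hK h2 ?_
  intro x hx hxK
  rw [← hP]
  exact ⟨hx, hK0 hxK⟩

/-- the centre of a component has odd order -/
theorem cen_odd {K : Subgroup (HQ (R i))} (hK : Cfsg.IsComponent K) {x : HQ (R i)} (hx : x ∈ K)
    (hc : ∀ y ∈ K, x * y = y * x) : Odd (orderOf x) := by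
  have h1 := LemmaT.comp_of_isComponent hK (pCore_HQ (R i))
  rcases Nat.even_or_odd (orderOf x) with h | h
  · exfalso
    obtain ⟨k, hk⟩ := h
    have hk0 : 0 < k := by
      have := orderOf_pos x
      omega
    have h2 : x ^ k * x ^ k = 1 := by rw [← pow_add, ← hk]; exact pow_orderOf_eq_one x
    have h3 : x ^ k = 1 := by
      refine h1.cen _ (K.pow_mem hx k) h2 ?_
      intro y hy
      exact (show Commute x y from hc y hy).pow_left k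
    have h4 := orderOf_dvd_of_pow_eq_one h3
    have h5 := Nat.le_of_dvd hk0 h4
    omega
  · exact h

theorem S_inf_ne_bot (hR : (S₁ : Subgroup G) ≤ normalizer (R i : Set G)) {K : Subgroup (HQ (R i))}
    (hK : Cfsg.IsComponent K) (hK0 : K ≤ H0 R i) (h2 : 2 ∣ Nat.card K) : SS R i S₁ ⊓ K ≠ ⊥ := by
  obtain ⟨P, hP⟩ := exists_P b S₁ hR
  obtain ⟨x, hxK, hxP, hx1, -⟩ := LemmaT.exists_involution P hK.1 h2
  intro h
  apply hx1
  have h3 : x ∈ SS R i S₁ ⊓ K := ⟨by rw [← hP]; exact ⟨hxP, hK0 hxK⟩, hxK⟩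
  rw [h] at h3
  exact mem_bot.1 h3

/-- `S ⊓ K` has no element `≠ 1` centralising `K` -/
theorem S_inf_cen {K : Subgroup (HQ (R i))} (hK : Cfsg.IsComponent K) {x : HQ (R i)} (hx : x ∈ SS R i S₁ ⊓ K)
    (hc : ∀ y ∈ K, x * y = y * x) : x = 1 := by
  have h1 := cen_odd b τ C hK (mem_inf.1 hx).2 hc
  obtain ⟨n, hn⟩ := S_isPGroup S₁ ⟨x, (mem_inf.1 hx).1⟩
  have hn' : x ^ 2 ^ n = 1 := congrArg Subtype.val hn
  have h2 := orderOf_dvd_of_pow_eq_one hn'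
  have h3 : Nat.Coprime (orderOf x) (2 ^ n) := (Nat.coprime_two_right.2 h1).pow_right n
  exact orderOf_eq_one_iff.1 (Nat.Coprime.eq_one_of_dvd h3 h2)

/-- **(T2), combinatorics** in `H` -/
theorem torus_or_three [Finite F] (hij : i ≠ j) (hF : 4 ≤ Nat.card F)
    (hV : (S₁ : Subgroup G) ≤ normalizer (V : Set G)) (hR : (S₁ : Subgroup G) ≤ normalizer (R i : Set G))
    {K : Subgroup (HQ (R i))} (hK : Cfsg.IsComponent K) (hK0 : K ≤ H0 R i) (h2 : 2 ∣ Nat.card K) :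
    TT τ ≤ normalizer (K : Set (HQ (R i))) ∨ CompT.Three (AA V R i j) (TT τ) K (SS R i S₁ ⊓ K) := by
  refine CompT.torus_component (scal b τ hij) ?_ hK (S_inf_ne_bot b τ C S₁ hR hK hK0 h2)
    (fun x hx => S_inf_cen b τ C S₁ hK hx) (fun x hx y hy => ST_mem b τ C S₁ hij hV hR hy hx)
  have := card_T b τ
  omega

/-- **(T3)**: the structure `CompB.Pre` for a component normalised by `T` -/
theorem pre [Finite F] (hij : i ≠ j) (hF : 4 ≤ Nat.card F)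
    (hV : (S₁ : Subgroup G) ≤ normalizer (V : Set G)) (hR : (S₁ : Subgroup G) ≤ normalizer (R i : Set G))
    {K : Subgroup (HQ (R i))} (hK : Cfsg.IsComponent K) (hK0 : K ≤ H0 R i) (h2 : 2 ∣ Nat.card K)
    (hT : TT τ ≤ normalizer (K : Set (HQ (R i)))) : CompB.Pre (SS R i S₁) (AA V R i j) (TT τ) K where
  S2 := S_isPGroup S₁
  AS := A_le_S b S₁ i j hV
  A2 _ ha := A_sq b hij ha
  TA _ ht _ ha := TA_mem b τ ht ha
  TS _ ht _ hs := TS_mem b τ C S₁ hV hR ht hs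
  TK _ ht _ hx := conj_mem_of_normalizer (hT ht) hx
  ST _ ht _ hs := ST_mem b τ C S₁ hij hV hR ht hs
  AT := by
    obtain ⟨x, hx, hx1⟩ := exists_T b τ C hF
    obtain ⟨a, ha, rfl⟩ := (mem_TT τ).1 hx
    have ha1 : a ≠ 1 := by
      rintro rfl
      apply hx1
      rw [pr_eq_one, τ.one]
      exact one_mem _
    intro y hy
    obtain ⟨y', hy', rfl⟩ := A_gen b τ hij ha ha1 hy
    exact subset_closure ⟨y', hy', _, hx, rfl⟩
  AK _ ha _ hx := conj_mem_of_normalizer (A_norm b τ C S₁ hij hF hV hR hK hK0 h2 ha) hx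
  syl _ hPK hP hSP := syl b S₁ hR hK.1 hK0 hPK hP hSP
  zodd _ hx hc := cen_odd b τ C hK hx hc

end syl

end real

end Cfsg.Agent.Omega.Lie.Quot
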