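import Cfsg.Agent.Omega.BTwo.Key
import Cfsg.Agent.Omega.BTwo.Coord
import Cfsg.Agent.Omega.Lie.TorD

/-!
# NODE LIE, TEXT LIE-1 (#12098): (N0) and LEMMA N

`M = W i / R i`, `A = U j Q i / Q i`, `e = V / R i`, `rad = Z(W i) / R i`.

* `N0`: `[[W i, u], u'] ≤ D`, `[[U i, u], u'] ≤ R j` for `u, u' ∈ U j`; `[[W i, u], t u t⁻¹] ≤ V` for `t ∈ X`.
* `lemN`: `V ≤ [W i, u] Z(W i)` for all `u ∈ U j - D`.
-/

set_option autoImplicit false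

namespace Cfsg.Agent.Omega.Lie.LemN

open Subgroup Cfsg.Agent.Omega.BTwo

universe u v w

variable {G : Type u} [Group G] {ι : Type w}

/-- the centre of `W i` -/
def ZZ (V : Subgroup G) (R : ι → Subgroup G) (i : ι) : Subgroup G :=
  WW V (R i) ⊓ centralizer (WW V (R i) : Set G)

section BT

variable {V : Subgroup G} {R : ι → Subgroup G} (b : BT V R)

theorem ZZ_le_W (i : ι) : ZZ V R i ≤ WW V (R i) := inf_le_left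

theorem ZZ_comm {i : ι} {z w : G} (hz : z ∈ ZZ V R i) (hw : w ∈ WW V (R i)) : z * w = w * z :=
  (mem_centralizer_iff.1 hz.2 w hw).symm

theorem ZZ_le_U (i : ι) : ZZ V R i ≤ UU V R i := fun _ hz => mem_inf.2 ⟨hz.1, cen_W_le V (R i) hz.2⟩

include b

theorem R_le_ZZ (i : ι) : R i ≤ ZZ V R i := fun _ hr => mem_inf.2 ⟨b.R_le_W i i hr, b.R_cen_W i hr⟩

/-- `[w, w' x] = [w, w'] [w, x]` in `W i` -/
theorem bil_right {i : ι} {x y z : G} (hx : x ∈ WW V (R i)) (hy : y ∈ WW V (R i)) (hz : z ∈ WW V (R i)) :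
    x * (y * z) * x⁻¹ * (y * z)⁻¹ = (x * y * x⁻¹ * y⁻¹) * (x * z * x⁻¹ * z⁻¹) :=
  (b.pairing i).comm_mul_right (b.W_le_Q i hx) hy hz

theorem bil_left {i : ι} {x y z : G} (hx : x ∈ WW V (R i)) (hy : y ∈ WW V (R i)) (hz : z ∈ WW V (R i)) :
    (x * y) * z * (x * y)⁻¹ * z⁻¹ = (x * z * x⁻¹ * z⁻¹) * (y * z * y⁻¹ * z⁻¹) :=
  (b.pairing i).comm_mul_left (b.W_le_Q i hx) (b.W_le_Q i hy) hz

theorem bil_inv {i : ι} {x z : G} (hx : x ∈ WW V (R i)) (hz : z ∈ WW V (R i)) :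
    x⁻¹ * z * x⁻¹⁻¹ * z⁻¹ = x * z * x⁻¹ * z⁻¹ := by
  have h := bil_left b (inv_mem hx) hx hz
  have e : (x⁻¹ * x) * z * (x⁻¹ * x)⁻¹ * z⁻¹ = 1 := by group
  rw [e] at h
  have h2 := b.V_sq _ (b.R_le i (b.WW_comm i hx hz))
  exact (eq_inv_of_mul_eq_one_left h.symm).trans (inv_eq_of_mul_eq_one_left h2)

/-- commutators of `W i` are symmetric -/
theorem bil_symm {i : ι} {x z : G} (hx : x ∈ WW V (R i)) (hz : z ∈ WW V (R i)) :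
    x * z * x⁻¹ * z⁻¹ = z * x * z⁻¹ * x⁻¹ := by
  have h2 := b.V_sq _ (b.R_le i (b.WW_comm i hx hz))
  have e : z * x * z⁻¹ * x⁻¹ = (x * z * x⁻¹ * z⁻¹)⁻¹ := by group
  rw [e]
  exact (inv_eq_of_mul_eq_one_left h2).symm

theorem bil_one {i : ι} {x z : G} (hx : x ∈ ZZ V R i) (hz : z ∈ WW V (R i)) : x * z * x⁻¹ * z⁻¹ = 1 := by
  have _ := b
  rw [ZZ_comm hx hz]; group

/-- `[w w', u] ∈ [w, u] [w', u] R i`, precisely -/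
theorem cm_mul {w w' u : G} : (w * w') * u * (w * w')⁻¹ * u⁻¹ =
    (w * (w' * u * w'⁻¹ * u⁻¹) * w⁻¹ * (w' * u * w'⁻¹ * u⁻¹)⁻¹) * (w' * u * w'⁻¹ * u⁻¹) *
      (w * u * w⁻¹ * u⁻¹) := by
  have _ := b
  group

/-- `[w, u] ∈ W i` -/
theorem cm_mem {i : ι} {w u : G} (hw : w ∈ WW V (R i)) (hu : u ∈ centralizer (V : Set G)) :
    w * u * w⁻¹ * u⁻¹ ∈ WW V (R i) := by
  have e : w * u * w⁻¹ * u⁻¹ = w * (u * w⁻¹ * u⁻¹) := by group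
  rw [e]
  exact mul_mem hw (conj_mem_of_normalizer (b.cen_le_NW i hu) (inv_mem hw))

/-- `[w, u]`, `w ∈ W i`, `u ∈ U j` is in `U i` -/
theorem cm_mem_U {i j : ι} {w u : G} (hw : w ∈ WW V (R i)) (hu : u ∈ UU V R j) :
    w * u * w⁻¹ * u⁻¹ ∈ UU V R i := b.WU' hw hu

/-- the adjoint of `w ↦ [w, u]`, `u ∈ U j` -/
theorem adj {i j : ι} {w w' u : G} (hw : w ∈ WW V (R i)) (hw' : w' ∈ WW V (R i)) (hu : u ∈ UU V R j) :
    (w * u * w⁻¹ * u⁻¹) * w' * (w * u * w⁻¹ * u⁻¹)⁻¹ * w'⁻¹ =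
      w * (w' * u * w'⁻¹ * u⁻¹) * w⁻¹ * (w' * u * w'⁻¹ * u⁻¹)⁻¹ := by
  have hV := UU_le_cen j hu
  have hc2 := cm_mem b hw' hV
  have hVi := inv_mem hV
  have hN := b.cen_le_NW i hV
  have m1 : u * w⁻¹ * u⁻¹ ∈ WW V (R i) := conj_mem_of_normalizer hN (inv_mem hw)
  have m2 : u⁻¹ * w' * u ∈ WW V (R i) := conj_inv_mem_of_normalizer hN hw'
  have m3 : w' * (u⁻¹ * w' * u)⁻¹ ∈ WW V (R i) := mul_mem hw' (inv_mem m2)
  -- `[c, w'] = [w, w'] [u w⁻¹ u⁻¹, w']`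
  have e0 : w * u * w⁻¹ * u⁻¹ = w * (u * w⁻¹ * u⁻¹) := by group
  have h1 := bil_left b hw m1 hw'
  have h2 : (u * w⁻¹ * u⁻¹) * w' * (u * w⁻¹ * u⁻¹)⁻¹ * w'⁻¹ =
      w * (u⁻¹ * w' * u) * w⁻¹ * (u⁻¹ * w' * u)⁻¹ := by
    have k1 := mem_centralizer_iff.1 hV _ (b.R_le i (b.WW_comm i (inv_mem hw) m2))
    have e1 : (u * w⁻¹ * u⁻¹) * w' * (u * w⁻¹ * u⁻¹)⁻¹ * w'⁻¹ =
        u * (w⁻¹ * (u⁻¹ * w' * u) * w⁻¹⁻¹ * (u⁻¹ * w' * u)⁻¹) * u⁻¹ := by group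
    rw [e1, ← k1, mul_inv_cancel_right, bil_inv b hw m2]
  have h3 : (w * w' * w⁻¹ * w'⁻¹) * (w * (u⁻¹ * w' * u) * w⁻¹ * (u⁻¹ * w' * u)⁻¹) =
      w * (w' * (u⁻¹ * w' * u)⁻¹) * w⁻¹ * (w' * (u⁻¹ * w' * u)⁻¹)⁻¹ := by
    rw [bil_right b hw hw' (inv_mem m2), bil_symm b hw (inv_mem m2), bil_inv b m2 hw, bil_symm b m2 hw]
  rw [← e0, h2, h3] at h1
  rw [h1]
  -- `[w', u⁻¹] ≡ [w', u]`
  have hsq : u * u ∈ WW V (R i) := V_le_WW V (R i) (b.R_le j (b.W_sq j (UU_le_WW j hu)))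
  have h4 : w' * (u * u) * w'⁻¹ * (u * u)⁻¹ ∈ R i := b.WW_comm i hw' hsq
  have h5 : u⁻¹ * (w' * (u * u) * w'⁻¹ * (u * u)⁻¹) * u ∈ R i :=
    conj_inv_mem_of_normalizer (b.cen_le_N i hV) h4
  have e2 : w' * u * w'⁻¹ * u⁻¹ =
      (w' * (u⁻¹ * w' * u)⁻¹) * (u⁻¹ * (w' * (u * u) * w'⁻¹ * (u * u)⁻¹) * u) := by group
  have h6 := bil_right b hw m3 (b.R_le_W i i h5)
  rw [← e2] at h6
  rw [h6]
  have h7 : w * (u⁻¹ * (w' * (u * u) * w'⁻¹ * (u * u)⁻¹) * u) * w⁻¹ *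
      (u⁻¹ * (w' * (u * u) * w'⁻¹ * (u * u)⁻¹) * u)⁻¹ = 1 := by
    have k2 := b.QR i w (b.W_le_Q i hw) _ h5
    rw [k2]; group
  rw [h7, mul_one]

/-- for `w ∈ W i - U i`: `y ↦ [w, y]` on `U j` is conjugation with an element of `X` modulo `D` -/
theorem nmap {i j : ι} (hij : i ≠ j) {w : G} (hw : w ∈ WW V (R i)) (hw' : w ∉ UU V R i) :
    ∃ n ∈ XX V R, cj n (R j) = R i ∧ ∀ y ∈ UU V R j, (n * y * n⁻¹) * (w * y * w⁻¹ * y⁻¹)⁻¹ ∈ DD V R := by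
  obtain ⟨k, hkj, hki, hk⟩ := b.moves (Ne.symm hij) hw hw'
  obtain ⟨x, hx, e⟩ := b.trans j hkj hij
  have hn : cj (x * w) (R j) = R i := by rw [cj_mul, hk, e]
  refine ⟨x * w, mul_mem (W_le_X V R j hx) (W_le_X V R i hw), hn, fun y hy => ?_⟩
  have hNV : x * w ∈ normalizer (V : Set G) := b.X_le_NV (mul_mem (W_le_X V R j hx) (W_le_X V R i hw))
  have hyc := b.WU' hw hy
  -- `n y n⁻¹ ∈ U i`
  have h1 : (x * w) * y * (x * w)⁻¹ ∈ UU V R i := by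
    rw [← b.cj_UU hNV hn]; exact conj_mem_cj hy
  have h2 : (x * w) * y * (x * w)⁻¹ * (w * y * w⁻¹ * y⁻¹)⁻¹ ∈ UU V R i := mul_mem h1 (inv_mem hyc)
  have h3 : (x * w) * y * (x * w)⁻¹ * (w * y * w⁻¹ * y⁻¹)⁻¹ ∈ UU V R j := by
    set c := w * y * w⁻¹ * y⁻¹ with hc
    have e1 : (x * w) * y * (x * w)⁻¹ * c⁻¹ =
        (x * c * x⁻¹ * c⁻¹) * (c * (x * y * x⁻¹) * c⁻¹) := by rw [hc]; group
    rw [e1]
    refine mul_mem (b.WU' hx hyc) (conj_mem_of_normalizer (b.cen_le_NU j (UU_le_cen i hyc)) ?_)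
    have e2 : x * y * x⁻¹ = x * y * x⁻¹ * y⁻¹ * y := by group
    rw [e2]
    exact mul_mem (b.R_le_U j (b.WU hx hy)) hy
  rw [← b.UU_inf hij]
  exact mem_inf.2 ⟨h2, h3⟩

theorem cj_ZZ {g : G} {i j : ι} (h : cj g (R i) = R j) : cj g (ZZ V R i) = ZZ V R j := by
  rw [ZZ, cj_inf, ← centralizer_cj, b.cj_WW h]
  rfl

/-! ### (N0) -/

/-- `[[U i, u], u'] ≤ R j` -/
theorem N0_U {i j : ι} (hij : i ≠ j) {w u u' : G} (hw : w ∈ UU V R i) (hu : u ∈ UU V R j) (hu' : u' ∈ UU V R j) :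
    (w * u * w⁻¹ * u⁻¹) * u' * (w * u * w⁻¹ * u⁻¹)⁻¹ * u'⁻¹ ∈ R j :=
  b.DU (b.UU_comm hij hw hu) hu'

/-- `[[W i, u], u'] ≤ D` -/
theorem N0_W {i j : ι} (hij : i ≠ j) {w u u' : G} (hw : w ∈ WW V (R i)) (hu : u ∈ UU V R j)
    (hu' : u' ∈ UU V R j) : (w * u * w⁻¹ * u⁻¹) * u' * (w * u * w⁻¹ * u⁻¹)⁻¹ * u'⁻¹ ∈ DD V R :=
  b.UU_comm hij (b.WU' hw hu) hu'

/-- `[[w, u], u] ∈ V` -/
theorem N0_sq {i j : ι} {w u : G} (hw : w ∈ WW V (R i)) (hu : u ∈ UU V R j) :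
    (w * u * w⁻¹ * u⁻¹) * u * (w * u * w⁻¹ * u⁻¹)⁻¹ * u⁻¹ ∈ V := by
  have hy := b.WU' hw hu
  have h1 := b.R_le j (b.W_sq j (UU_le_WW j hu))
  have h2 := conj_mem_of_normalizer (b.W_le_NV i hw) h1
  have h3 := b.R_le i (b.W_sq i (UU_le_WW i hy))
  have hc := cen_le_NV V (UU_le_cen i hy)
  set y := w * u * w⁻¹ * u⁻¹ with hydef
  -- `w u w⁻¹ = y u`
  have e0 : w * u * w⁻¹ = y * u := by rw [hydef]; group
  have e1 : w * (u * u) * w⁻¹ = (y * u) * (y * u) := by rw [← e0]; group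
  rw [e1] at h2
  have hcu := cen_le_NV V (UU_le_cen j hu)
  have e2 : y * u * y⁻¹ * u⁻¹ = (y * u) * (y * u) * (u⁻¹ * (y * y)⁻¹ * u) * (u * u)⁻¹ := by group
  rw [e2]
  exact mul_mem (mul_mem h2 (conj_inv_mem_of_normalizer hcu (inv_mem h3))) (inv_mem h1)

/-- Hall-Witt: `[h, [y, u]] = [y, [h, u]]` in `Y`, if `[h, y] ∈ V` -/
theorem hallWitt {h y u : G} (hh : h ∈ YY V R) (hy : y ∈ YY V R) (hu : u ∈ YY V R)
    (hc : h * y * h⁻¹ * y⁻¹ ∈ V) :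
    h * (y * u * y⁻¹ * u⁻¹) * h⁻¹ * (y * u * y⁻¹ * u⁻¹)⁻¹ =
      y * (h * u * h⁻¹ * u⁻¹) * y⁻¹ * (h * u * h⁻¹ * u⁻¹)⁻¹ := by
  have hd := b.Y_comm hy hu
  have hδ := b.Y_comm hh hu
  have hvu := mem_centralizer_iff.1 (YY_le_cen hu) _ hc
  have hvδ := mem_centralizer_iff.1 (b.D_le_cen hδ) _ hc
  have hdδ := b.D_comm hd hδ
  set r := h * y * h⁻¹ * y⁻¹ with hr
  set d := y * u * y⁻¹ * u⁻¹ with hddef
  set δ := h * u * h⁻¹ * u⁻¹ with hδdef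
  have e1 : h * y * h⁻¹ = r * y := by rw [hr]; group
  have e2 : h * u * h⁻¹ = δ * u := by rw [hδdef]; group
  have e3 : h * d * h⁻¹ = (r * y) * (δ * u) * (r * y)⁻¹ * (δ * u)⁻¹ := by
    rw [← e1, ← e2, hddef]; group
  have hcδ : Commute r δ := hvδ
  have hcu : Commute r u := hvu
  have e4 : (r * y) * (δ * u) * (r * y)⁻¹ * (δ * u)⁻¹ = r * (y * δ * y⁻¹ * δ⁻¹) * (δ * d * δ⁻¹) * r⁻¹ := by
    have k1 : r⁻¹ * (δ * u)⁻¹ = (δ * u)⁻¹ * r⁻¹ := ((hcδ.mul_right hcu).inv_inv).eq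
    calc (r * y) * (δ * u) * (r * y)⁻¹ * (δ * u)⁻¹ = r * (y * (δ * u) * y⁻¹) * (r⁻¹ * (δ * u)⁻¹) := by group
      _ = r * (y * (δ * u) * y⁻¹) * ((δ * u)⁻¹ * r⁻¹) := by rw [k1]
      _ = r * (y * δ * y⁻¹ * δ⁻¹) * (δ * d * δ⁻¹) * r⁻¹ := by rw [hddef]; group
  have e5 : δ * d * δ⁻¹ = d := by rw [← hdδ]; group
  have hδV : y * δ * y⁻¹ * δ⁻¹ ∈ V := b.XD (YY_le_XX hy) hδ
  have hrd : r * d = d * r := mem_centralizer_iff.1 (b.D_le_cen hd) _ hc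
  have e6 : h * d * h⁻¹ = (y * δ * y⁻¹ * δ⁻¹) * d := by
    rw [e3, e4, e5]
    have k2 := b.V_comm r hc _ hδV
    calc r * (y * δ * y⁻¹ * δ⁻¹) * d * r⁻¹ = (y * δ * y⁻¹ * δ⁻¹) * (r * d) * r⁻¹ := by rw [k2]; group
      _ = (y * δ * y⁻¹ * δ⁻¹) * d := by rw [hrd]; group
  rw [e6]; group

end BT

section BTC

variable {V : Subgroup G} {R : ι → Subgroup G} (b : BTC V R)
include b

/-- **(N0)**, second part: `[[W i, u], t u t⁻¹] ≤ V` for `t ∈ X` fixing `R i` and `R j` -/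
theorem N0_T {i j : ι} {w u t : G} (hw : w ∈ WW V (R i)) (hu : u ∈ UU V R j)
    (ht : t ∈ XX V R) (hti : cj t (R i) = R i) (htj : cj t (R j) = R j) :
    (w * u * w⁻¹ * u⁻¹) * (t * u * t⁻¹) * (w * u * w⁻¹ * u⁻¹)⁻¹ * (t * u * t⁻¹)⁻¹ ∈ V := by
  have htN := b.X_le_NV ht
  have hu' : t * u * t⁻¹ ∈ UU V R j := by
    have := conj_mem_cj (g := t) hu
    rwa [b.cj_UU htN htj] at this
  have hy := b.WU' hw hu
  have hsq := N0_sq b.toBT hw hu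
  set y := w * u * w⁻¹ * u⁻¹ with hydef
  have hyY := UU_le_YY i hy
  have huY := UU_le_YY j hu
  have hu'Y := UU_le_YY j hu'
  refine b.cen_DU (i := i) (b.Y_comm hyY hu'Y) fun h hh => ?_
  have hhY := UU_le_YY i hh
  have hhy : h * y * h⁻¹ * y⁻¹ ∈ V := b.R_le i (b.WW_comm i (UU_le_WW i hh) (UU_le_WW i hy))
  have h1 := hallWitt b.toBT hhY hyY hu'Y hhy
  -- `h' = t⁻¹ h t`
  have hti' : cj t⁻¹ (R i) = R i := by rw [← cj_eq_iff.1 hti]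
  have hh' : t⁻¹ * h * t ∈ UU V R i := by
    have := conj_mem_cj (g := t⁻¹) hh
    rwa [b.cj_UU (inv_mem htN) hti', inv_inv] at this
  have hh'Y := UU_le_YY i hh'
  have hh'y : (t⁻¹ * h * t) * y * (t⁻¹ * h * t)⁻¹ * y⁻¹ ∈ V :=
    b.R_le i (b.WW_comm i (UU_le_WW i hh') (UU_le_WW i hy))
  have h2 := hallWitt b.toBT hh'Y hyY huY hh'y
  have h3 : (t⁻¹ * h * t) * (y * u * y⁻¹ * u⁻¹) * (t⁻¹ * h * t)⁻¹ * (y * u * y⁻¹ * u⁻¹)⁻¹ = 1 := by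
    rw [← mem_centralizer_iff.1 (YY_le_cen hh'Y) _ hsq]; group
  rw [h3] at h2
  have hδ' : (t⁻¹ * h * t) * u * (t⁻¹ * h * t)⁻¹ * u⁻¹ ∈ DD V R := b.Y_comm hh'Y huY
  set δ' := (t⁻¹ * h * t) * u * (t⁻¹ * h * t)⁻¹ * u⁻¹ with hδ'def
  have h4 : h * (t * u * t⁻¹) * h⁻¹ * (t * u * t⁻¹)⁻¹ = (t * δ' * t⁻¹ * δ'⁻¹) * δ' := by
    rw [hδ'def]; group
  have h5 : t * δ' * t⁻¹ * δ'⁻¹ ∈ V := b.XD ht hδ'
  have h6 : y * ((t * δ' * t⁻¹ * δ'⁻¹) * δ') * y⁻¹ * ((t * δ' * t⁻¹ * δ'⁻¹) * δ')⁻¹ = 1 := by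
    have k1 := mem_centralizer_iff.1 (YY_le_cen hyY) _ h5
    set r := t * δ' * t⁻¹ * δ'⁻¹
    calc y * (r * δ') * y⁻¹ * (r * δ')⁻¹ = (y * r) * δ' * y⁻¹ * δ'⁻¹ * r⁻¹ := by group
      _ = r * (y * δ' * y⁻¹ * δ'⁻¹) * r⁻¹ := by rw [← k1]; group
      _ = 1 := by rw [← h2]; group
  rw [h4, h6, mul_inv_eq_one, mul_inv_eq_iff_eq_mul] at h1
  exact h1.symm

end BTC

/-! ### (i) -/

section one

variable {V : Subgroup G} {R : ι → Subgroup G} (b : BT V R)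
include b

/-- `Z(W i)` is centralised modulo `R i` by ... `[w w', u] ∈ [w, u] [w', u] R i` -/
theorem cm_mul_mem {i j : ι} {w w' u : G} (hw : w ∈ WW V (R i)) (hw' : w' ∈ WW V (R i)) (hu : u ∈ UU V R j) :
    ∃ r ∈ R i, (w * w') * u * (w * w')⁻¹ * u⁻¹ = r * ((w * u * w⁻¹ * u⁻¹) * (w' * u * w'⁻¹ * u⁻¹)) := by
  have h1 := b.WU' hw hu
  have h2 := b.WU' hw' hu
  have k1 := b.WW_comm i hw (UU_le_WW i h2)
  have k2 := b.WW_comm i (UU_le_WW i h2) (UU_le_WW i h1)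
  have k0 := cm_mul b (w := w) (w' := w') (u := u)
  set c := w * u * w⁻¹ * u⁻¹
  set c' := w' * u * w'⁻¹ * u⁻¹
  refine ⟨(w * c' * w⁻¹ * c'⁻¹) * (c' * c * c'⁻¹ * c⁻¹), mul_mem k1 k2, ?_⟩
  rw [k0]; group

/-- `[w⁻¹, u] ∈ [w, u]⁻¹ R i` -/
theorem cm_inv_mem {i j : ι} {w u : G} (hw : w ∈ WW V (R i)) (hu : u ∈ UU V R j) :
    ∃ r ∈ R i, w⁻¹ * u * w⁻¹⁻¹ * u⁻¹ = r * (w * u * w⁻¹ * u⁻¹)⁻¹ := by
  obtain ⟨r, hr, e⟩ := cm_mul_mem b (inv_mem hw) hw hu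
  have e0 : w⁻¹ * w * u * (w⁻¹ * w)⁻¹ * u⁻¹ = 1 := by group
  rw [e0] at e
  refine ⟨r⁻¹, inv_mem hr, ?_⟩
  have e1 : w⁻¹ * u * w⁻¹⁻¹ * u⁻¹ =
      r⁻¹ * (r * ((w⁻¹ * u * w⁻¹⁻¹ * u⁻¹) * (w * u * w⁻¹ * u⁻¹))) * (w * u * w⁻¹ * u⁻¹)⁻¹ := by group
  rw [e1, ← e, mul_one]

theorem R_comm_W {i : ι} {r w : G} (hr : r ∈ R i) (hw : w ∈ WW V (R i)) : r * w = w * r :=
  (b.QR i w (b.W_le_Q i hw) r hr).symm

/-- `S u = {w ∈ W i : [w, u] ∈ Z(W i)}` -/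
def SU {i j : ι} {u : G} (hu : u ∈ UU V R j) : Subgroup G where
  carrier := {w | w ∈ WW V (R i) ∧ w * u * w⁻¹ * u⁻¹ ∈ ZZ V R i}
  one_mem' := ⟨one_mem _, by
    have : 1 * u * 1⁻¹ * u⁻¹ = 1 := by group
    rw [this]; exact one_mem _⟩
  mul_mem' := by
    rintro x y ⟨hx, hx'⟩ ⟨hy, hy'⟩
    refine ⟨mul_mem hx hy, ?_⟩
    obtain ⟨r, hr, e⟩ := cm_mul_mem b hx hy hu
    rw [e]
    exact mul_mem (R_le_ZZ b i hr) (mul_mem hx' hy')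
  inv_mem' := by
    rintro x ⟨hx, hx'⟩
    refine ⟨inv_mem hx, ?_⟩
    obtain ⟨r, hr, e⟩ := cm_inv_mem b hx hu
    rw [e]
    exact mul_mem (R_le_ZZ b i hr) (inv_mem hx')

/-- `N u = [W i, u] Z(W i)` -/
def NU {i j : ι} {u : G} (hu : u ∈ UU V R j) : Subgroup G where
  carrier := {x | ∃ w ∈ WW V (R i), ∃ ζ ∈ ZZ V R i, x = (w * u * w⁻¹ * u⁻¹) * ζ}
  one_mem' := ⟨1, one_mem _, 1, one_mem _, by group⟩
  mul_mem' := by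
    rintro _ _ ⟨x, hx, ζ, hζ, rfl⟩ ⟨y, hy, ζ', hζ', rfl⟩
    obtain ⟨r, hr, e⟩ := cm_mul_mem b hx hy hu
    have hcy := UU_le_WW i (b.WU' hy hu)
    have hr' := R_comm_W b hr (UU_le_WW i (b.WU' (mul_mem hx hy) hu))
    refine ⟨x * y, mul_mem hx hy, r⁻¹ * (ζ * ζ'), mul_mem (inv_mem (R_le_ZZ b i hr)) (mul_mem hζ hζ'), ?_⟩
    have hr'' : (x * y * u * (x * y)⁻¹ * u⁻¹) * r⁻¹ = r⁻¹ * (x * y * u * (x * y)⁻¹ * u⁻¹) := by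
      have hc : Commute r (x * y * u * (x * y)⁻¹ * u⁻¹) := hr'
      exact hc.inv_left.eq.symm
    have hz := ZZ_comm hζ hcy
    calc (x * u * x⁻¹ * u⁻¹) * ζ * ((y * u * y⁻¹ * u⁻¹) * ζ')
        = (x * u * x⁻¹ * u⁻¹) * (ζ * (y * u * y⁻¹ * u⁻¹)) * ζ' := by group
      _ = (x * u * x⁻¹ * u⁻¹) * (y * u * y⁻¹ * u⁻¹) * (ζ * ζ') := by rw [hz]; group
      _ = r⁻¹ * (x * y * u * (x * y)⁻¹ * u⁻¹) * (ζ * ζ') := by rw [e]; group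
      _ = (x * y * u * (x * y)⁻¹ * u⁻¹) * (r⁻¹ * (ζ * ζ')) := by rw [← hr'']; group
  inv_mem' := by
    rintro _ ⟨x, hx, ζ, hζ, rfl⟩
    obtain ⟨r, hr, e⟩ := cm_inv_mem b hx hu
    have hcx := UU_le_WW i (b.WU' hx hu)
    refine ⟨x⁻¹, inv_mem hx, r⁻¹ * ζ⁻¹, mul_mem (inv_mem (R_le_ZZ b i hr)) (inv_mem hζ), ?_⟩
    have hz : Commute ζ (x * u * x⁻¹ * u⁻¹) := ZZ_comm hζ hcx
    have hr' : Commute r (x * u * x⁻¹ * u⁻¹) := R_comm_W b hr hcx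
    rw [e, mul_inv_rev, (hz.inv_inv).eq]
    have k := (hr'.inv_right).eq
    calc (x * u * x⁻¹ * u⁻¹)⁻¹ * ζ⁻¹ = ((x * u * x⁻¹ * u⁻¹)⁻¹ * r) * (r⁻¹ * ζ⁻¹) := by group
      _ = r * (x * u * x⁻¹ * u⁻¹)⁻¹ * (r⁻¹ * ζ⁻¹) := by rw [k]

theorem mem_NU {i j : ι} {u x : G} (hu : u ∈ UU V R j) :
    x ∈ NU b (i := i) hu ↔ ∃ w ∈ WW V (R i), ∃ ζ ∈ ZZ V R i, x = (w * u * w⁻¹ * u⁻¹) * ζ := Iff.rfl

theorem mem_SU {i j : ι} {u x : G} (hu : u ∈ UU V R j) :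
    x ∈ SU b (i := i) hu ↔ x ∈ WW V (R i) ∧ x * u * x⁻¹ * u⁻¹ ∈ ZZ V R i := Iff.rfl

theorem NU_le {i j : ι} {u : G} (hu : u ∈ UU V R j) : NU b (i := i) hu ≤ WW V (R i) := by
  rintro _ ⟨x, hx, ζ, hζ, rfl⟩
  exact mul_mem (UU_le_WW i (b.WU' hx hu)) hζ.1

theorem ZZ_le_NU {i j : ι} {u : G} (hu : u ∈ UU V R j) : ZZ V R i ≤ NU b (i := i) hu :=
  fun ζ hζ => ⟨1, one_mem _, ζ, hζ, by group⟩

/-- `|W i : S u| ≤ |N u : Z(W i)|` -/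
theorem SU_relIndex [Finite G] {i j : ι} {u : G} (hu : u ∈ UU V R j) :
    (SU b (i := i) hu).relIndex (WW V (R i)) ≤ (ZZ V R i).relIndex (NU b (i := i) hu) := by
  change Nat.card (WW V (R i) ⧸ (SU b (i := i) hu).subgroupOf (WW V (R i))) ≤
    Nat.card (NU b (i := i) hu ⧸ (ZZ V R i).subgroupOf (NU b (i := i) hu))
  refine Nat.card_le_card_of_injective
    (fun x => QuotientGroup.mk (s := (ZZ V R i).subgroupOf (NU b (i := i) hu))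
      ⟨((Quotient.out x : WW V (R i)) : G) * u * ((Quotient.out x : WW V (R i)) : G)⁻¹ * u⁻¹,
        (Quotient.out x : WW V (R i)), (Quotient.out x : WW V (R i)).2, 1, one_mem _, by rw [mul_one]⟩) ?_
  intro x y h
  have h1 := QuotientGroup.eq.1 h
  rw [mem_subgroupOf] at h1
  change (((Quotient.out x : WW V (R i)) : G) * u * ((Quotient.out x : WW V (R i)) : G)⁻¹ * u⁻¹)⁻¹ *
    (((Quotient.out y : WW V (R i)) : G) * u * ((Quotient.out y : WW V (R i)) : G)⁻¹ * u⁻¹) ∈ ZZ V R i at h1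
  rw [← QuotientGroup.out_eq' x, ← QuotientGroup.out_eq' y, QuotientGroup.eq, mem_subgroupOf]
  set a : WW V (R i) := Quotient.out x
  set c : WW V (R i) := Quotient.out y
  refine ⟨mul_mem (inv_mem a.2) c.2, ?_⟩
  change ((a : G)⁻¹ * c) * u * ((a : G)⁻¹ * c)⁻¹ * u⁻¹ ∈ ZZ V R i
  obtain ⟨r, hr, e⟩ := cm_mul_mem b (inv_mem a.2) c.2 hu
  obtain ⟨r', hr', e'⟩ := cm_inv_mem b a.2 hu
  rw [e, e', mul_assoc]
  exact mul_mem (R_le_ZZ b i hr) (mul_mem (R_le_ZZ b i hr') h1)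

/-- **(i)**: if `S u ≤ U i` then `V ≤ [W i, u] Z(W i)` -/
theorem V_le_NU [Finite G] {i j : ι} {u : G} (hu : u ∈ UU V R j) (h : SU b (i := i) hu ≤ UU V R i) :
    V ≤ NU b (i := i) hu := by
  have hN := NU_le b (i := i) hu
  have hVW := V_le_WW V (R i)
  have hsup : NU b (i := i) hu ⊔ V ≤ WW V (R i) := sup_le hN hVW
  obtain ⟨ξ, r, hr⟩ := b.exists_char i
  have hp : Pairing (NU b (i := i) hu ⊔ V) (WW V (R i)) (R i) :=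
    { comm := fun a ha w hw => b.WW_comm i (hsup ha) hw
      cA := fun a ha => b.QR i a (b.W_le_Q i (hsup ha))
      cW := fun w hw => b.QR i w (b.W_le_Q i hw) }
  have key : ∀ s ∈ SU b (i := i) hu, ∀ a ∈ NU b (i := i) hu ⊔ V, a * s = s * a := by
    intro s hs
    have h1 : NU b (i := i) hu ⊔ V ≤ centralizer ({s} : Set G) := by
      refine sup_le ?_ ?_
      · rintro _ ⟨w, hw, ζ, hζ, rfl⟩
        rw [mem_centralizer_singleton_iff]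
        have h2 := adj b hw hs.1 hu
        have h3 : w * (s * u * s⁻¹ * u⁻¹) * w⁻¹ * (s * u * s⁻¹ * u⁻¹)⁻¹ = 1 := by
          rw [← ZZ_comm hs.2 hw]; group
        rw [h3, mul_inv_eq_one, mul_inv_eq_iff_eq_mul] at h2
        have h4 := ZZ_comm hζ hs.1
        calc (w * u * w⁻¹ * u⁻¹) * ζ * s = ((w * u * w⁻¹ * u⁻¹) * s) * ζ := by rw [mul_assoc, h4]; group
          _ = s * ((w * u * w⁻¹ * u⁻¹) * ζ) := by rw [h2]; group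
      · intro v hv
        rw [mem_centralizer_singleton_iff]
        exact mem_centralizer_iff.1 (UU_le_cen i (h hs)) v hv
    exact fun a ha => mem_centralizer_singleton_iff.1 (h1 ha)
  have h1 := hp.relIndex_le ξ (K := ZZ V R i) (N := SU b (i := i) hu) (fun w hw w' hw' => by
      refine ⟨mul_mem (mul_mem (mul_mem hw hw') (inv_mem hw)) (inv_mem hw'), ?_⟩
      have hr := b.WW_comm i hw hw'
      have k := mem_centralizer_iff.1 (UU_le_cen j hu) _ (b.R_le i hr)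
      rw [k]
      have : u * (w * w' * w⁻¹ * w'⁻¹) * (w * w' * w⁻¹ * w'⁻¹)⁻¹ * u⁻¹ = 1 := by group
      rw [this]; exact one_mem _)
    (fun a ha n hn hns => by
      have : (⟨a * n * a⁻¹ * n⁻¹, hp.comm a ha n hn⟩ : R i) = 1 := by
        apply Subtype.ext
        change a * n * a⁻¹ * n⁻¹ = 1
        rw [key n hns a ha]; group
      rw [this, map_one])
    (fun a ha h => by
      refine mem_inf.2 ⟨hsup ha, ?_⟩
      rw [mem_centralizer_iff]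
      exact fun w hw => (b.key_char (b.W_le_Q i (hsup ha)) ξ hr h w hw).symm)
  have h2 := h1.trans (SU_relIndex b (i := i) hu)
  have hle : NU b (i := i) hu ≤ NU b (i := i) hu ⊔ V := le_sup_left
  have h3 := relIndex_mul_relIndex (ZZ V R i) (NU b (i := i) hu) (NU b (i := i) hu ⊔ V)
    (ZZ_le_NU b hu) hle
  have hpos : 0 < (ZZ V R i).relIndex (NU b (i := i) hu) := by
    exact Nat.pos_of_ne_zero index_ne_zero_of_finite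
  have h4 : (NU b (i := i) hu).relIndex (NU b (i := i) hu ⊔ V) = 1 := by
    have hpos2 : 0 < (NU b (i := i) hu).relIndex (NU b (i := i) hu ⊔ V) := by
      exact Nat.pos_of_ne_zero index_ne_zero_of_finite
    by_contra hne
    have h5 : 2 ≤ (NU b (i := i) hu).relIndex (NU b (i := i) hu ⊔ V) := by omega
    have h6 : (ZZ V R i).relIndex (NU b (i := i) hu) * 2 ≤
        (ZZ V R i).relIndex (NU b (i := i) hu) := by
      calc _ ≤ (ZZ V R i).relIndex (NU b (i := i) hu) *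
            (NU b (i := i) hu).relIndex (NU b (i := i) hu ⊔ V) := Nat.mul_le_mul_left _ h5
        _ ≤ _ := by rw [h3]; exact h2
    omega
  rw [relIndex_eq_one] at h4
  exact le_sup_right.trans h4

/-- `w ∈ W i - U i`, `[w, u] ∈ Z(W i)` ⟹ `u ∈ Z(W j) D` -/
theorem mem_ZD [Finite G] {i j : ι} (hij : i ≠ j) {w u : G} (hw : w ∈ WW V (R i)) (hw' : w ∉ UU V R i)
    (hu : u ∈ UU V R j) (h : w * u * w⁻¹ * u⁻¹ ∈ ZZ V R i) : ∃ z ∈ ZZ V R j, ∃ d ∈ DD V R, u = z * d := by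
  obtain ⟨n, hn, hnj, H⟩ := nmap b hij hw hw'
  have h1 := H u hu
  have hnj' : cj n⁻¹ (R i) = R j := (cj_eq_iff.1 hnj).symm
  set c := w * u * w⁻¹ * u⁻¹ with hc
  -- `u = n⁻¹ (n u n⁻¹ c⁻¹) n · n⁻¹ c n`
  have k1 : n⁻¹ * c * n ∈ ZZ V R j := by
    rw [← cj_ZZ b hnj']
    have := conj_mem_cj (g := n⁻¹) h
    rwa [inv_inv] at this
  have hDN := b.NV_le_ND (b.X_le_NV hn)
  have k2 : n⁻¹ * (n * u * n⁻¹ * c⁻¹) * n ∈ DD V R := conj_inv_mem_of_normalizer hDN h1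
  have k3 := (ZZ_comm k1 (D_le_W V R j k2))
  refine ⟨_, k1, _, k2, ?_⟩
  rw [k3]; group

end one

/-! ### (ii) -/

section BTC

variable {V : Subgroup G} {R : ι → Subgroup G} (b : BTC V R)
include b

/-- `[z, U i] ≤ R j`, `z ∈ Z(W j)` -/
theorem z_U {i j : ι} (hij : i ≠ j) {z u : G} (hz : z ∈ ZZ V R j) (hu : u ∈ UU V R i) :
    z * u * z⁻¹ * u⁻¹ ∈ R j := b.cen_W_U (Ne.symm hij) hz.2 hu

/-- `[w, z] ∈ Z(W i) D` for `z ∈ Z(W j)`, `w ∈ W i - U i` -/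
theorem w_z {i j : ι} (hij : i ≠ j) {w z : G} (hw : w ∈ WW V (R i)) (hw' : w ∉ UU V R i)
    (hz : z ∈ ZZ V R j) : ∃ ρ ∈ ZZ V R i, ∃ δ ∈ DD V R, w * z * w⁻¹ * z⁻¹ = ρ * δ := by
  obtain ⟨n, hn, hnj, H⟩ := nmap b.toBT hij hw hw'
  have h1 := H z (ZZ_le_U j hz)
  have h2 : n * z * n⁻¹ ∈ ZZ V R i := by
    rw [← cj_ZZ b.toBT hnj]; exact conj_mem_cj hz
  set c := w * z * w⁻¹ * z⁻¹ with hc
  have h3 := inv_mem h1
  refine ⟨_, h2, (n * z * n⁻¹)⁻¹ * c, ?_, by group⟩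
  have e : (n * z * n⁻¹)⁻¹ * c = (n * z * n⁻¹)⁻¹ * (n * z * n⁻¹ * c⁻¹)⁻¹ * (n * z * n⁻¹) := by group
  have hN : n * z * n⁻¹ ∈ normalizer (DD V R : Set G) :=
    b.Y_le_ND (UU_le_YY i (ZZ_le_U i h2))
  rw [e]
  exact conj_inv_mem_of_normalizer hN h3

variable {F : Type v} [Field F] {i j : ι} {vv : F → F → G} {w1 w2 t : F → G}

/-- `V` is abelian with coordinates -/
theorem ii_a (c : Coord V R i j vv w1 w2) (τ : TorD V R i j vv t) {z : G} (hz : z ∈ ZZ V R j) {u₀ : G}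
    (hu₀ : u₀ ∈ UU V R i) (hne : z * u₀ * z⁻¹ * u₀⁻¹ ≠ 1) : V ≤ NU b.toBT (i := i) (ZZ_le_U j hz) := by
  have hij := c.ne
  -- `w = w1 1`
  have hw := c.w1_mem 1
  have hw' : w1 1 ∉ UU V R i := by
    intro h
    have h1 := mem_centralizer_iff.1 (UU_le_cen i h) _ (c.v_mem 0 1)
    have h2 := c.w1_act 1 0 1
    rw [← h1] at h2
    have h3 : vv 0 1 = vv (0 + 1 * 1) 1 := by rw [← h2]; group
    have h4 := (c.v_inj h3).1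
    rw [mul_one, zero_add] at h4
    exact zero_ne_one h4
  obtain ⟨ρ, hρ, δ, hδ, e⟩ := w_z b hij hw hw' hz
  -- `[w, [z, u]] = [δ, u]`
  have key : ∀ u ∈ UU V R i, w1 1 * (z * u * z⁻¹ * u⁻¹) * (w1 1)⁻¹ * (z * u * z⁻¹ * u⁻¹)⁻¹ =
      δ * u * δ⁻¹ * u⁻¹ := by
    intro u hu
    have h1 := adj b.toBT hw (UU_le_WW i hu) (ZZ_le_U j hz)
    have h2 : u * z * u⁻¹ * z⁻¹ = (z * u * z⁻¹ * u⁻¹)⁻¹ := by group
    rw [e, h2, inv_inv] at h1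
    have hm := z_U b hij hz hu
    have hm' := b.R_le_W j i hm
    have h3 : w1 1 * (z * u * z⁻¹ * u⁻¹)⁻¹ * (w1 1)⁻¹ * (z * u * z⁻¹ * u⁻¹) =
        w1 1 * (z * u * z⁻¹ * u⁻¹) * (w1 1)⁻¹ * (z * u * z⁻¹ * u⁻¹)⁻¹ := by
      have k := b.inv_eq (b.R_le j hm)
      rw [k]
    rw [← h3, ← h1, bil_left b.toBT hρ.1 (D_le_W V R i hδ) (UU_le_WW i hu), bil_one b.toBT hρ (UU_le_WW i hu),
      one_mul]
  have hact : ∀ x, w1 1 * vv 0 x * (w1 1)⁻¹ * (vv 0 x)⁻¹ = vv x 0 := by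
    intro x
    have h1 := c.w1_act 1 0 x
    rw [one_mul, zero_add] at h1
    have h2 := c.v_add x 0 0 x
    rw [add_zero, zero_add] at h2
    rw [h1, h2, mul_inv_cancel_right]
  obtain ⟨c₀, hc₀⟩ := (c.mem_R2 _).1 (z_U b hij hz hu₀)
  have hc₀' : c₀ ≠ 0 := by
    rintro rfl
    exact hne (by rw [← hc₀, c.v_zero])
  have h0 := key u₀ hu₀
  rw [← hc₀, hact] at h0
  -- `R j` is reached
  have hR : ∀ x, vv 0 x ∈ NU b.toBT (i := i) (ZZ_le_U j hz) := by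
    intro x
    by_cases hx : x = 0
    · rw [hx, c.v_zero]; exact one_mem _
    have ha : x / c₀ ≠ 0 := div_ne_zero hx hc₀'
    have htX := τ.memX _ ha
    have hti : cj (t (x / c₀)) (R i) = R i := cj_eq_self_iff.2 (τ.normR ha)
    have hu : t (x / c₀) * u₀ * (t (x / c₀))⁻¹ ∈ UU V R i := by
      rw [← b.cj_UU (b.X_le_NV htX) hti]; exact conj_mem_cj hu₀
    have h1 := key _ hu
    rw [← b.lam_conj htX hδ (UU_le_YY i hu₀), ← h0, τ.act _ _ _ ha, mul_zero, div_mul_cancel₀ _ hc₀'] at h1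
    obtain ⟨x', hx'⟩ := (c.mem_R2 _).1 (z_U b hij hz hu)
    rw [← hx', hact] at h1
    rw [(c.v_inj h1).1] at hx'
    rw [hx']
    have h2 : (t (x / c₀) * u₀ * (t (x / c₀))⁻¹) * z * (t (x / c₀) * u₀ * (t (x / c₀))⁻¹)⁻¹ * z⁻¹ ∈
        NU b.toBT (i := i) (ZZ_le_U j hz) := ⟨_, UU_le_WW i hu, 1, one_mem _, by rw [mul_one]⟩
    have h3 := inv_mem h2
    rwa [show ((t (x / c₀) * u₀ * (t (x / c₀))⁻¹) * z * (t (x / c₀) * u₀ * (t (x / c₀))⁻¹)⁻¹ * z⁻¹)⁻¹ =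
      z * (t (x / c₀) * u₀ * (t (x / c₀))⁻¹) * z⁻¹ * (t (x / c₀) * u₀ * (t (x / c₀))⁻¹)⁻¹ by group] at h3
  intro x hx
  obtain ⟨p, q, rfl⟩ := (c.mem_V x).1 hx
  have h2 := c.v_add p 0 0 q
  rw [add_zero, zero_add] at h2
  rw [h2]
  exact mul_mem (ZZ_le_NU b.toBT _ (R_le_ZZ b.toBT i ((c.mem_R1 _).2 ⟨p, rfl⟩))) (hR q)

/-- elements of `Z(W j)` centralising `U i` -/
def ZP (V : Subgroup G) (R : ι → Subgroup G) (i j : ι) (z : G) : Prop :=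
  z ∈ ZZ V R j ∧ ∀ u ∈ UU V R i, z * u = u * z

/-- (b1) -/
theorem b1 (c : Coord V R i j vv w1 w2) {z w : G} (hz : ZP V R i j z) (hw : w ∈ WW V (R i)) :
    ∃ β, ∃ ζ ∈ ZZ V R i, w * z * w⁻¹ * z⁻¹ = vv 0 β * ζ := by
  have hcW := b.WU' hw (ZZ_le_U j hz.1)
  have hwi : cj w (R i) = R i := cj_eq_self_iff.2 (b.W_le_N i hw)
  have hU : ∀ u ∈ UU V R i, (w * z * w⁻¹ * z⁻¹) * u = u * (w * z * w⁻¹ * z⁻¹) := by
    intro u hu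
    have h1 : w⁻¹ * u * w ∈ UU V R i := by
      have hwi' : cj w⁻¹ (R i) = R i := cj_eq_self_iff.2 (b.W_le_N i (inv_mem hw))
      have := conj_mem_cj (g := w⁻¹) hu
      rwa [b.cj_UU (inv_mem (b.W_le_NV i hw)) hwi', inv_inv] at this
    have h2 : Commute z u := hz.2 u hu
    have h3 := hz.2 _ h1
    have h4 : Commute (w * z * w⁻¹) u := by
      change w * z * w⁻¹ * u = u * (w * z * w⁻¹)
      calc w * z * w⁻¹ * u = w * (z * (w⁻¹ * u * w)) * w⁻¹ := by group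
        _ = w * ((w⁻¹ * u * w) * z) * w⁻¹ := by rw [h3]
        _ = u * (w * z * w⁻¹) := by group
    exact (h4.mul_left h2.inv_left).eq
  obtain ⟨v, hv, h⟩ := b.cen_U (b.W_le_Q i (UU_le_WW i hcW)) hU
  obtain ⟨p, β, rfl⟩ := (c.mem_V v).1 hv
  have h1 : (vv p β)⁻¹ * (w * z * w⁻¹ * z⁻¹) ∈ ZZ V R i :=
    mem_inf.2 ⟨mul_mem (inv_mem (V_le_WW V (R i) (c.v_mem p β))) (UU_le_WW i hcW), h⟩
  refine ⟨β, vv p 0 * ((vv p β)⁻¹ * (w * z * w⁻¹ * z⁻¹)),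
    mul_mem (R_le_ZZ b.toBT i ((c.mem_R1 _).2 ⟨p, rfl⟩)) h1, ?_⟩
  have h2 := c.v_add 0 β p 0
  rw [add_zero, zero_add] at h2
  rw [← mul_assoc, ← h2]; group

theorem vv_ZZ (c : Coord V R i j vv w1 w2) {β : F} (h : vv 0 β ∈ ZZ V R i) : β = 0 := by
  have _ := b
  have h1 := ZZ_comm h (c.w1_mem 1)
  have h2 := c.w1_act 1 0 β
  rw [← h1, mul_inv_cancel_right] at h2
  have h3 := (c.v_inj h2).1
  rw [one_mul, zero_add] at h3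
  exact h3.symm

/-- (b2) -/
theorem b2 (c : Coord V R i j vv w1 w2) {β β' : F} {ζ ζ' : G} (hζ : ζ ∈ ZZ V R i) (hζ' : ζ' ∈ ZZ V R i)
    (h : vv 0 β * ζ = vv 0 β' * ζ') : β = β' := by
  have h1 := c.v_add 0 (β - β') 0 β'
  rw [add_zero, sub_add_cancel] at h1
  have hc : Commute ζ (vv 0 β') := ZZ_comm hζ (V_le_WW V (R i) (c.v_mem _ _))
  have hc' : Commute ζ' (vv 0 β') := ZZ_comm hζ' (V_le_WW V (R i) (c.v_mem _ _))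
  have h2 : vv 0 (β - β') = ζ' * ζ⁻¹ := by
    calc vv 0 (β - β') = (vv 0 β * ζ) * ζ⁻¹ * (vv 0 β')⁻¹ := by rw [h1]; group
      _ = vv 0 β' * (ζ' * ζ⁻¹) * (vv 0 β')⁻¹ := by rw [h]; group
      _ = ζ' * ζ⁻¹ := by rw [← (hc'.mul_left hc.inv_left).eq]; group
  have h3 : vv 0 (β - β') ∈ ZZ V R i := by rw [h2]; exact mul_mem hζ' (inv_mem hζ)
  exact sub_eq_zero.1 (vv_ZZ b c h3)

theorem cm_act {w : G} {s : F} (c : Coord V R i j vv w1 w2) (hs : ∀ b c, w * vv b c * w⁻¹ = vv (b + s * c) c)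
    (x : F) : w * vv 0 x * w⁻¹ * (vv 0 x)⁻¹ = vv (s * x) 0 := by
  have _ := b
  have h2 := c.v_add (s * x) 0 0 x
  rw [add_zero, zero_add] at h2
  rw [hs, zero_add, h2, mul_inv_cancel_right]

/-- (b3) -/
theorem b3 (c : Coord V R i j vv w1 w2) {z w : G} (hz : ZP V R i j z) (hw : w ∈ WW V (R i)) {s β : F}
    (hs : ∀ b c, w * vv b c * w⁻¹ = vv (b + s * c) c) {ζ : G} (hζ : ζ ∈ ZZ V R i)
    (h : w1 1 * z * (w1 1)⁻¹ * z⁻¹ = vv 0 β * ζ) :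
    ∃ ζ' ∈ ZZ V R i, w * z * w⁻¹ * z⁻¹ = vv 0 (s * β) * ζ' := by
  obtain ⟨β', ζ', hζ', e⟩ := b1 b c hz hw
  refine ⟨ζ', hζ', ?_⟩
  have h1 := adj b.toBT hw (c.w1_mem 1) (ZZ_le_U j hz.1)
  rw [e, h] at h1
  have hV : ∀ x, vv 0 x ∈ WW V (R i) := fun x => V_le_WW V (R i) (c.v_mem 0 x)
  rw [bil_left b.toBT (hV _) hζ'.1 (c.w1_mem 1), bil_one b.toBT hζ' (c.w1_mem 1), mul_one,
    bil_symm b.toBT (hV _) (c.w1_mem 1), cm_act b c (c.w1_act 1), one_mul,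
    bil_right b.toBT hw (hV _) hζ.1, cm_act b c hs, bil_symm b.toBT hw hζ.1, bil_one b.toBT hζ hw,
    mul_one] at h1
  rw [e, (c.v_inj h1).1]

theorem t_act_inv (τ : TorD V R i j vv t) {a : F} (ha : a ≠ 0) (x y : F) :
    (t a)⁻¹ * vv x y * t a = vv (a⁻¹ * x) (a * y) := by
  have _ := b
  have h := τ.act a (a⁻¹ * x) (a * y) ha
  rw [← mul_assoc, ← mul_assoc, mul_inv_cancel₀ ha, inv_mul_cancel₀ ha, one_mul, one_mul] at h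
  rw [← h]; group

theorem cj_t (τ : TorD V R i j vv t) {a : F} (ha : a ≠ 0) : cj (t a) (R i) = R i ∧ cj (t a) (R j) = R j := by
  have _ := b
  exact ⟨cj_eq_self_iff.2 (τ.normR ha), cj_eq_self_iff.2 (τ.normR' ha)⟩

theorem cj_t_inv (τ : TorD V R i j vv t) {a : F} (ha : a ≠ 0) :
    cj (t a)⁻¹ (R i) = R i ∧ cj (t a)⁻¹ (R j) = R j := by
  have _ := b
  exact ⟨cj_eq_self_iff.2 (inv_mem (τ.normR ha)), cj_eq_self_iff.2 (inv_mem (τ.normR' ha))⟩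

/-- `Z'` is `T`-invariant -/
theorem ZP_conj (τ : TorD V R i j vv t) {a : F} (ha : a ≠ 0) {z : G} (hz : ZP V R i j z) :
    ZP V R i j ((t a)⁻¹ * z * t a) := by
  refine ⟨?_, fun u hu => ?_⟩
  · have h := conj_mem_cj (g := (t a)⁻¹) hz.1
    rwa [cj_ZZ b.toBT (cj_t_inv b τ ha).2, inv_inv] at h
  · have h1 := conj_mem_cj (g := t a) hu
    rw [b.cj_UU (b.X_le_NV (τ.memX a ha)) (cj_t b τ ha).1] at h1
    have h2 := hz.2 _ h1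
    calc (t a)⁻¹ * z * t a * u = (t a)⁻¹ * (z * (t a * u * (t a)⁻¹)) * t a := by group
      _ = (t a)⁻¹ * ((t a * u * (t a)⁻¹) * z) * t a := by rw [h2]
      _ = u * ((t a)⁻¹ * z * t a) := by group

theorem ZP_mul {z z' : G} (hz : ZP V R i j z) (hz' : ZP V R i j z') : ZP V R i j (z * z') := by
  have _ := b
  refine ⟨mul_mem hz.1 hz'.1, fun u hu => ?_⟩
  have h1 : Commute z u := hz.2 u hu
  have h2 : Commute z' u := hz'.2 u hu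
  exact (h1.mul_left h2).eq

/-- (b4) -/
theorem b4 (c : Coord V R i j vv w1 w2) (τ : TorD V R i j vv t) {z : G} (hz : ZP V R i j z) {a β : F}
    (ha : a ≠ 0) {ζ : G} (hζ : ζ ∈ ZZ V R i) (h : w1 1 * z * (w1 1)⁻¹ * z⁻¹ = vv 0 β * ζ) :
    ∃ ζ' ∈ ZZ V R i, w1 1 * ((t a)⁻¹ * z * t a) * (w1 1)⁻¹ * ((t a)⁻¹ * z * t a)⁻¹ =
      vv 0 (a ^ 3 * β) * ζ' := by
  have hw : t a * w1 1 * (t a)⁻¹ ∈ WW V (R i) := by
    have := conj_mem_cj (g := t a) (c.w1_mem 1)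
    rwa [b.cj_WW (cj_t b τ ha).1] at this
  have hs : ∀ x y, (t a * w1 1 * (t a)⁻¹) * vv x y * (t a * w1 1 * (t a)⁻¹)⁻¹ = vv (x + (a * a) * y) y := by
    intro x y
    have e : (t a * w1 1 * (t a)⁻¹) * vv x y * (t a * w1 1 * (t a)⁻¹)⁻¹ =
        t a * (w1 1 * ((t a)⁻¹ * vv x y * t a) * (w1 1)⁻¹) * (t a)⁻¹ := by group
    rw [e, t_act_inv b τ ha, c.w1_act, τ.act _ _ _ ha]
    congr 1
    · rw [mul_add, ← mul_assoc, mul_inv_cancel₀ ha, one_mul, one_mul, mul_assoc]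
    · rw [← mul_assoc, inv_mul_cancel₀ ha, one_mul]
  obtain ⟨ζ', hζ', e⟩ := b3 b c hz hw hs hζ h
  have hζ'' : (t a)⁻¹ * ζ' * t a ∈ ZZ V R i := by
    have h := conj_mem_cj (g := (t a)⁻¹) hζ'
    rwa [cj_ZZ b.toBT (cj_t_inv b τ ha).1, inv_inv] at h
  refine ⟨_, hζ'', ?_⟩
  have e2 : w1 1 * ((t a)⁻¹ * z * t a) * (w1 1)⁻¹ * ((t a)⁻¹ * z * t a)⁻¹ =
      (t a)⁻¹ * ((t a * w1 1 * (t a)⁻¹) * z * (t a * w1 1 * (t a)⁻¹)⁻¹ * z⁻¹) * t a := by group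
  have e3 : (t a)⁻¹ * (vv 0 (a * a * β) * ζ') * t a =
      ((t a)⁻¹ * vv 0 (a * a * β) * t a) * ((t a)⁻¹ * ζ' * t a) := by group
  have e4 : a * (a * a * β) = a ^ 3 * β := by ring
  rw [e2, e, e3, t_act_inv b τ ha, mul_zero, e4]

/-- (b5) -/
theorem b5 (c : Coord V R i j vv w1 w2) {z z' d : G} (hz : ZP V R i j z)
    (hd : d ∈ DD V R) {β β' : F} {ζ ζ' : G} (hζ : ζ ∈ ZZ V R i) (hζ' : ζ' ∈ ZZ V R i)
    (h : w1 1 * z * (w1 1)⁻¹ * z⁻¹ = vv 0 β * ζ) (h' : w1 1 * z' * (w1 1)⁻¹ * z'⁻¹ = vv 0 β' * ζ') :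
    ∃ ζ'' ∈ ZZ V R i, w1 1 * (d * (z * z')) * (w1 1)⁻¹ * (d * (z * z'))⁻¹ = vv 0 (β + β') * ζ'' := by
  -- elements of `V Z(W i)` commute with `z` and `d`
  have hV : ∀ x y, vv x y ∈ V := c.v_mem
  have k1 : ∀ x, ∀ η ∈ ZZ V R i, Commute z (vv 0 x * η) := fun x η hη =>
    (Commute.mul_right (mem_centralizer_iff.1 (UU_le_cen j (ZZ_le_U j hz.1)) _ (hV 0 x)).symm
      (hz.2 η (ZZ_le_U i hη)) :)
  have k2 : ∀ x, ∀ η ∈ ZZ V R i, Commute d (vv 0 x * η) := fun x η hη =>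
    (Commute.mul_right (mem_centralizer_iff.1 (b.D_le_cen hd) _ (hV 0 x)).symm
      (ZZ_comm hη (D_le_W V R i hd)).symm :)
  have hdd : w1 1 * d * (w1 1)⁻¹ * d⁻¹ ∈ R i := b.WW_comm i (c.w1_mem 1) (D_le_W V R i hd)
  have e1 : w1 1 * (d * (z * z')) * (w1 1)⁻¹ * (d * (z * z'))⁻¹ =
      (w1 1 * d * (w1 1)⁻¹ * d⁻¹) * (d * ((w1 1 * z * (w1 1)⁻¹ * z⁻¹) *
        (z * (w1 1 * z' * (w1 1)⁻¹ * z'⁻¹) * z⁻¹)) * d⁻¹) := by group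
  have hζc : ∀ x, Commute ζ (vv 0 x) := fun x => ZZ_comm hζ (V_le_WW V (R i) (hV 0 x))
  have e2 : z * (vv 0 β' * ζ') * z⁻¹ = vv 0 β' * ζ' := by rw [(k1 _ _ hζ').eq]; group
  have e3 : (vv 0 β * ζ) * (vv 0 β' * ζ') = vv 0 (β + β') * (ζ * ζ') := by
    have h3 := c.v_add 0 β 0 β'
    rw [add_zero] at h3
    rw [h3]
    calc (vv 0 β * ζ) * (vv 0 β' * ζ') = vv 0 β * (ζ * vv 0 β') * ζ' := by group
      _ = vv 0 β * (vv 0 β' * ζ) * ζ' := by rw [(hζc _).eq]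
      _ = _ := by group
  have e4 : d * (vv 0 (β + β') * (ζ * ζ')) * d⁻¹ = vv 0 (β + β') * (ζ * ζ') := by
    rw [(k2 _ _ (mul_mem hζ hζ')).eq]; group
  refine ⟨(w1 1 * d * (w1 1)⁻¹ * d⁻¹) * (ζ * ζ'), mul_mem (R_le_ZZ b.toBT i hdd) (mul_mem hζ hζ'), ?_⟩
  have hc : (w1 1 * d * (w1 1)⁻¹ * d⁻¹) * vv 0 (β + β') = vv 0 (β + β') * (w1 1 * d * (w1 1)⁻¹ * d⁻¹) :=
    R_comm_W b.toBT hdd (V_le_WW V (R i) (hV _ _))
  rw [e1, h, h', e2, e3, e4, ← mul_assoc, hc, mul_assoc]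

/-- `b(z) = 0` -/
theorem b6 [CharP F 2] (hF : ∃ a : F, a ≠ 0 ∧ a ≠ 1) (c : Coord V R i j vv w1 w2) (τ : TorD V R i j vv t)
    {z : G} (hz : ZP V R i j z) {β : F} {ζ : G} (hζ : ζ ∈ ZZ V R i)
    (h : w1 1 * z * (w1 1)⁻¹ * z⁻¹ = vv 0 β * ζ) : β = 0 := by
  obtain ⟨a, ha, ha1⟩ := hF
  have hab : a + 1 ≠ 0 := by
    intro h0
    apply ha1
    have h1 : a = -1 := eq_neg_of_add_eq_zero_left h0
    rw [h1, CharTwo.neg_eq]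
  obtain ⟨ζ1, hζ1, e1⟩ := b4 b c τ hz hab hζ h
  obtain ⟨ζ2, hζ2, e2⟩ := b4 b c τ hz ha hζ h
  obtain ⟨ζ3, hζ3, e3⟩ := b4 b c τ hz one_ne_zero hζ h
  have hD := τ.wU' a 1 ha one_ne_zero hab z (ZZ_le_U j hz.1)
  set d := (t (a + 1))⁻¹ * z * t (a + 1) * ((t a)⁻¹ * z * t a * ((t 1)⁻¹ * z * t 1))⁻¹ with hd
  have e0 : (t (a + 1))⁻¹ * z * t (a + 1) = d * ((t a)⁻¹ * z * t a * ((t 1)⁻¹ * z * t 1)) := by
    rw [hd]; group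
  obtain ⟨ζ4, hζ4, e4⟩ := b5 b c (ZP_conj b τ ha hz) hD hζ2 hζ3 e2 e3
  rw [← e0, e1] at e4
  have h5 := b2 b c hζ1 hζ4 e4
  have h6 : (a + 1) ^ 3 * β - (a ^ 3 * β + 1 ^ 3 * β) = a * (a + 1) * β := by
    have h3 : (3 : F) = 1 := by
      have h2 : (2 : F) = 0 := CharTwo.two_eq_zero
      linear_combination h2
    linear_combination (a * (a + 1) * β) * h3
  rw [h5, sub_self] at h6
  have h7 := h6.symm
  rcases mul_eq_zero.1 h7 with h8 | h8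
  · exact absurd h8 (mul_ne_zero ha hab)
  · exact h8

/-- the normal 2-subgroup of elements trivial on `W i / Z(W i)`, `Z(W i) / R i`, `R i` -/
def NN (V : Subgroup G) (R : ι → Subgroup G) (b : BT V R) (i : ι) : Subgroup G where
  carrier := {x | x ∈ normalizer (R i : Set G) ∧ (∀ w ∈ WW V (R i), x * w * x⁻¹ * w⁻¹ ∈ ZZ V R i) ∧
    (∀ ζ ∈ ZZ V R i, x * ζ * x⁻¹ * ζ⁻¹ ∈ R i) ∧ ∀ r ∈ R i, x * r * x⁻¹ = r}
  one_mem' := by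
    refine ⟨one_mem _, fun w _ => ?_, fun w _ => ?_, fun r _ => by group⟩
    · rw [show 1 * w * 1⁻¹ * w⁻¹ = 1 by group]; exact one_mem _
    · rw [show 1 * w * 1⁻¹ * w⁻¹ = 1 by group]; exact one_mem _
  mul_mem' := by
    rintro x y ⟨hx, hx1, hx2, hx3⟩ ⟨hy, hy1, hy2, hy3⟩
    have hZ : x ∈ normalizer (ZZ V R i : Set G) := by
      rw [← cj_eq_self_iff]; exact cj_ZZ b (cj_eq_self_iff.2 hx)
    refine ⟨mul_mem hx hy, fun w hw => ?_, fun w hw => ?_, fun r hr => ?_⟩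
    · rw [show x * y * w * (x * y)⁻¹ * w⁻¹ = x * (y * w * y⁻¹ * w⁻¹) * x⁻¹ * (x * w * x⁻¹ * w⁻¹) by group]
      exact mul_mem (conj_mem_of_normalizer hZ (hy1 w hw)) (hx1 w hw)
    · rw [show x * y * w * (x * y)⁻¹ * w⁻¹ = x * (y * w * y⁻¹ * w⁻¹) * x⁻¹ * (x * w * x⁻¹ * w⁻¹) by group]
      exact mul_mem (conj_mem_of_normalizer hx (hy2 w hw)) (hx2 w hw)
    · rw [show x * y * r * (x * y)⁻¹ = x * (y * r * y⁻¹) * x⁻¹ by group, hy3 r hr, hx3 r hr]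
  inv_mem' := by
    rintro x ⟨hx, hx1, hx2, hx3⟩
    have hZ : x ∈ normalizer (ZZ V R i : Set G) := by
      rw [← cj_eq_self_iff]; exact cj_ZZ b (cj_eq_self_iff.2 hx)
    refine ⟨inv_mem hx, fun w hw => ?_, fun w hw => ?_, fun r hr => ?_⟩
    · rw [show x⁻¹ * w * x⁻¹⁻¹ * w⁻¹ = x⁻¹ * (x * w * x⁻¹ * w⁻¹)⁻¹ * x by group]
      exact conj_inv_mem_of_normalizer hZ (inv_mem (hx1 w hw))
    · rw [show x⁻¹ * w * x⁻¹⁻¹ * w⁻¹ = x⁻¹ * (x * w * x⁻¹ * w⁻¹)⁻¹ * x by group]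
      exact conj_inv_mem_of_normalizer hx (inv_mem (hx2 w hw))
    · have := hx3 r hr
      nth_rewrite 1 [← this]; group

/-- `N ≤ Q i` -/
theorem NN_le [Finite G] (i : ι) : NN V R b.toBT i ≤ QQ (R i) := by
  have hZN : ∀ g ∈ normalizer (R i : Set G), g ∈ normalizer (ZZ V R i : Set G) := fun g hg => by
    rw [← cj_eq_self_iff]; exact cj_ZZ b.toBT (cj_eq_self_iff.2 hg)
  refine le_O2_of_normal (fun x hx => hx.1) ?_ ?_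
  · refine isPGroup_of_odd fun x hx ho => ?_
    have hRP : IsPGroup 2 (R i) := (b.W_isPGroup i).to_le (b.R_le_W i i)
    have hZP : IsPGroup 2 (ZZ V R i) := (b.W_isPGroup i).to_le (ZZ_le_W i)
    have h1 : ∀ r ∈ R i, x * r = r * x := fun r hr => by
      have := hx.2.2.2 r hr
      rwa [mul_inv_eq_iff_eq_mul] at this
    have h2 : ∀ ζ ∈ ZZ V R i, x * ζ = ζ * x := fun ζ hζ =>
      comm_of_odd ho hRP (hx.2.2.1 ζ hζ) (h1 _ (hx.2.2.1 ζ hζ))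
    have h3 : ∀ w ∈ WW V (R i), x * w = w * x := fun w hw =>
      comm_of_odd ho hZP (hx.2.1 w hw) (h2 _ (hx.2.1 w hw))
    have h4 : x ∈ centralizer (WW V (R i) : Set G) := by
      rw [mem_centralizer_iff]; exact fun w hw => (h3 w hw).symm
    obtain ⟨n, hn⟩ := b.cen_W_isPGroup i ⟨x, h4⟩
    have hn' : x ^ 2 ^ n = 1 := congrArg Subtype.val hn
    have hd := Nat.dvd_gcd (dvd_refl (orderOf x)) (orderOf_dvd_of_pow_eq_one hn')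
    have hco : Nat.gcd (orderOf x) (2 ^ n) = 1 := (Nat.coprime_two_right.2 ho).pow_right n
    rw [hco, Nat.dvd_one, orderOf_eq_one_iff] at hd
    exact hd
  · rintro g hg x ⟨hx, hx1, hx2, hx3⟩
    refine ⟨mul_mem (mul_mem hg hx) (inv_mem hg), fun w hw => ?_, fun w hw => ?_, fun r hr => ?_⟩
    · have h1 := hx1 _ (conj_inv_mem_of_normalizer (normalizer_le_WW V (R i) hg) hw)
      have h2 := conj_mem_of_normalizer (hZN g hg) h1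
      rwa [show g * (x * (g⁻¹ * w * g) * x⁻¹ * (g⁻¹ * w * g)⁻¹) * g⁻¹ =
        g * x * g⁻¹ * w * (g * x * g⁻¹)⁻¹ * w⁻¹ by group] at h2
    · have h1 := hx2 _ (conj_inv_mem_of_normalizer (hZN g hg) hw)
      have h2 := conj_mem_of_normalizer hg h1
      rwa [show g * (x * (g⁻¹ * w * g) * x⁻¹ * (g⁻¹ * w * g)⁻¹) * g⁻¹ =
        g * x * g⁻¹ * w * (g * x * g⁻¹)⁻¹ * w⁻¹ by group] at h2
    · have h1 := hx3 _ (conj_inv_mem_of_normalizer hg hr)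
      calc g * x * g⁻¹ * r * (g * x * g⁻¹)⁻¹ = g * (x * (g⁻¹ * r * g) * x⁻¹) * g⁻¹ := by group
        _ = g * (g⁻¹ * r * g) * g⁻¹ := by rw [h1]
        _ = r := by group

/-- (ii), end: an element of `Z(W j)` centralising `U i` is in `D` -/
theorem ii_b [Finite G] [CharP F 2] (hF : ∃ a : F, a ≠ 0 ∧ a ≠ 1) (c : Coord V R i j vv w1 w2)
    (τ : TorD V R i j vv t) {z : G} (hz : ZP V R i j z) : z ∈ DD V R := by
  have hzU := ZZ_le_U j hz.1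
  have hzV := UU_le_cen j hzU
  obtain ⟨β, ζ, hζ, e⟩ := b1 b c hz (c.w1_mem 1)
  have hβ := b6 b hF c τ hz hζ e
  subst hβ
  have hN : z ∈ NN V R b.toBT i := by
    refine ⟨b.cen_le_N i hzV, fun w hw => ?_, fun ζ' hζ' => ?_, fun r hr => ?_⟩
    · obtain ⟨s, hs⟩ := c.W1_act w hw
      obtain ⟨ζ', hζ', e'⟩ := b3 b c hz hw hs hζ e
      rw [mul_zero, c.v_zero, one_mul] at e'
      rw [show z * w * z⁻¹ * w⁻¹ = (w * z * w⁻¹ * z⁻¹)⁻¹ by group, e']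
      exact inv_mem hζ'
    · rw [hz.2 ζ' (ZZ_le_U i hζ'), show ζ' * z * z⁻¹ * ζ'⁻¹ = 1 by group]
      exact one_mem _
    · rw [← mem_centralizer_iff.1 hzV r (b.R_le i hr), mul_inv_cancel_right]
  rw [b.D_eq (Ne.symm c.ne)]
  exact mem_inf.2 ⟨UU_le_WW j hzU, NN_le b i hN⟩

/-- **LEMMA N**: `V ≤ [W i, u] Z(W i)` for all `u ∈ U j - D` -/
theorem lemN [Finite G] [CharP F 2] (hF : ∃ a : F, a ≠ 0 ∧ a ≠ 1) (c : Coord V R i j vv w1 w2)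
    (τ : TorD V R i j vv t) {u : G} (hu : u ∈ UU V R j) (hD : u ∉ DD V R) {x : G} (hx : x ∈ V) :
    ∃ w ∈ WW V (R i), ∃ ζ ∈ ZZ V R i, x = (w * u * w⁻¹ * u⁻¹) * ζ := by
  have hij := c.ne
  by_cases hS : SU b.toBT (i := i) hu ≤ UU V R i
  · exact (mem_NU b.toBT hu).1 (V_le_NU b.toBT hu hS hx)
  · obtain ⟨w, hw, hw'⟩ := SetLike.not_le_iff_exists.1 hS
    obtain ⟨z, hz, d, hd, rfl⟩ := mem_ZD b.toBT hij hw.1 hw' hu hw.2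
    have hzD : z ∉ DD V R := fun h => hD (mul_mem h hd)
    -- reduction to `z`
    have hne : ∃ u₀ ∈ UU V R i, z * u₀ * z⁻¹ * u₀⁻¹ ≠ 1 := by
      by_contra hcon
      push Not at hcon
      refine hzD (ii_b b hF c τ ⟨hz, fun u₀ hu₀ => ?_⟩)
      have := hcon u₀ hu₀
      rwa [mul_inv_eq_one, mul_inv_eq_iff_eq_mul] at this
    obtain ⟨u₀, hu₀, hne⟩ := hne
    obtain ⟨w₀, hw₀, ζ, hζ, e⟩ := (mem_NU b.toBT _).1 (ii_a b c τ hz hu₀ hne hx)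
    have hdd : w₀ * d * w₀⁻¹ * d⁻¹ ∈ R i := b.WW_comm i hw₀ (D_le_W V R i hd)
    have hzc := mem_centralizer_iff.1 (UU_le_cen j (ZZ_le_U j hz)) _ (b.R_le i hdd)
    -- `[w₀, z d] = [w₀, z] [w₀, d]`
    have e1 : w₀ * (z * d) * w₀⁻¹ * (z * d)⁻¹ = (w₀ * z * w₀⁻¹ * z⁻¹) * (w₀ * d * w₀⁻¹ * d⁻¹) := by
      calc w₀ * (z * d) * w₀⁻¹ * (z * d)⁻¹ =
            (w₀ * z * w₀⁻¹ * z⁻¹) * (z * (w₀ * d * w₀⁻¹ * d⁻¹) * z⁻¹) := by group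
        _ = _ := by rw [← hzc]; group
    refine ⟨w₀, hw₀, (w₀ * d * w₀⁻¹ * d⁻¹)⁻¹ * ζ, mul_mem (inv_mem (R_le_ZZ b.toBT i hdd)) hζ, ?_⟩
    rw [e1, e]; group

end BTC

end Cfsg.Agent.Omega.Lie.LemN
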