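import Cfsg.Agent.Omega.BTwo.Mod
import Cfsg.Agent.Omega.Lie.Quot
import Cfsg.Agent.Omega.Lie.LemN

/-!
# NODE LIE: `M = W i / R i` as a module for `H = HQ (R i) = N(R i)/O₂(N(R i))`

* `ModQ`: helper688's `ModFr` together with an action of `HQ (R i)`; `exists_modQ`.
* `ModQ.f_act`: `H⁰` preserves the form; `ModQ.act_rad`: `HA = ⟨A^{H⁰}⟩` is trivial on `rad = Z(W i)/R i`;
* `ModQ.key`: a vector `v` with `f(M, v)` in a proper subgroup of `R i` is fixed by `HA`;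
* `ModQ.norm_A`: an element of `HA` which fixes `[M, a]` pointwise for some `1 ≠ a ∈ A` normalises `A`;
* `ModQ.quad`: `(1 + a)(1 + tat⁻¹) M ≤ e`, `|e| = q`.
-/

set_option autoImplicit false
set_option linter.unusedSectionVars false

namespace Cfsg.Agent.Omega.Lie

open Subgroup Cfsg.Agent.Omega.BTwo Cfsg.Agent.Omega.Lie.Quot Cfsg.Agent.Omega.Lie.LemN

universe u v w

variable {G : Type u} [Group G] {ι : Type w}

/-- the module `M = W i / R i` with the actions of `N(R i)` and of `H = N(R i)/O₂(N(R i))` -/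
structure ModQ (V : Subgroup G) (R : ι → Subgroup G) (i : ι) (M B : Type u) [AddCommGroup M] [AddCommGroup B]
    [DistribMulAction (NR R i) M] [DistribMulAction (NR R i) B] [DistribMulAction (HQ (R i)) M]
    (p : G → M) (r : G → B) (f : M →+ M →+ B) : Prop extends ModFr V R i M B p r f where
  pr_smul : ∀ (g : NR R i) (m : M), pr (R i) g • m = g • m

/-- the action of a quotient group -/
theorem exists_quot_action {N : Type u} [Group N] {M : Type u} [AddCommGroup M] [DistribMulAction N M]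
    (K : Subgroup N) [K.Normal] (h : ∀ k ∈ K, ∀ m : M, k • m = m) :
    ∃ _ : DistribMulAction (N ⧸ K) M, ∀ (g : N) (m : M), (QuotientGroup.mk' K g : N ⧸ K) • m = g • m := by
  let φ : N ⧸ K →* AddMonoid.End M := QuotientGroup.lift K (DistribMulAction.toAddMonoidEnd N M) (by
    intro k hk
    apply AddMonoidHom.ext
    intro m
    exact h k hk m)
  refine ⟨DistribMulAction.compHom M φ, fun g m => rfl⟩

theorem exists_modQ {V : Subgroup G} {R : ι → Subgroup G} (b : BT V R) (i : ι) :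
    ∃ (M B : Type u) (_ : AddCommGroup M) (_ : AddCommGroup B) (_ : DistribMulAction (NR R i) M)
      (_ : DistribMulAction (NR R i) B) (_ : DistribMulAction (HQ (R i)) M) (p : G → M) (r : G → B)
      (f : M →+ M →+ B), ModQ V R i M B p r f := by
  obtain ⟨M, B, _, _, _, _, p, r, f, m⟩ := b.exists_mod i
  obtain ⟨act, h⟩ := exists_quot_action (M := M) (pCore 2 ↥(normalizer (R i : Set G))) (by
    intro k hk a
    exact m.Q_act b (h := k) ⟨k, hk, rfl⟩ a)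
  exact ⟨M, B, _, _, _, _, act, p, r, f, { m with pr_smul := h }⟩

namespace ModQ

variable {V : Subgroup G} {R : ι → Subgroup G} {i : ι} {M B : Type u} [AddCommGroup M] [AddCommGroup B]
  [DistribMulAction (NR R i) M] [DistribMulAction (NR R i) B] [DistribMulAction (HQ (R i)) M] {p : G → M}
  {r : G → B} {f : M →+ M →+ B}

/-- `⟨A^{H⁰}⟩` -/
def HA (V : Subgroup G) (R : ι → Subgroup G) (i j : ι) : Subgroup (HQ (R i)) :=
  closure {x | ∃ h ∈ H0 R i, ∃ a ∈ AA V R i j, x = h * a * h⁻¹}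

theorem conj_mem_HA {j : ι} {h a : HQ (R i)} (hh : h ∈ H0 R i) (ha : a ∈ AA V R i j) : h * a * h⁻¹ ∈ HA V R i j :=
  subset_closure ⟨h, hh, a, ha, rfl⟩

theorem A_le_HA {j : ι} : AA V R i j ≤ HA V R i j := by
  intro a ha
  have := conj_mem_HA (V := V) (i := i) (one_mem (H0 R i)) ha
  rwa [one_mul, inv_one, mul_one] at this

theorem A_le_H0 (b : BT V R) (j : ι) : AA V R i j ≤ H0 R i :=
  im_mono ((UU_le_cen j).trans (centralizer_le (b.R_le i)))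

theorem HA_le_H0 (b : BT V R) (j : ι) : HA V R i j ≤ H0 R i := by
  unfold HA
  rw [closure_le]
  rintro _ ⟨h, hh, a, ha, rfl⟩
  exact mul_mem (mul_mem hh (A_le_H0 b j ha)) (inv_mem hh)

theorem exists_H0 {h : HQ (R i)} (hh : h ∈ H0 R i) :
    ∃ (g : NR R i), (g : G) ∈ centralizer (R i : Set G) ∧ pr (R i) g = h := by
  obtain ⟨g, hg, hc, e⟩ := mem_im.1 hh
  exact ⟨⟨g, hg⟩, hc, e⟩

variable (m : ModQ V R i M B p r f) (b : BT V R)
include m

/-- the action of `pr g` on `p w` -/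
theorem act {g : G} (hg : g ∈ normalizer (R i : Set G)) {w : G} (hw : w ∈ WW V (R i)) :
    pr (R i) ⟨g, hg⟩ • p w = p (g * w * g⁻¹) :=
  (m.pr_smul ⟨g, hg⟩ (p w)).trans (m.p_act ⟨g, hg⟩ w hw)

theorem finite_M [Finite G] : Finite M :=
  Finite.of_surjective (fun x : WW V (R i) => p x) fun a => by
    obtain ⟨x, hx, rfl⟩ := m.p_surj a
    exact ⟨⟨x, hx⟩, rfl⟩

theorem card_B : Nat.card B = Nat.card (R i) := by
  symm
  refine Nat.card_congr (Equiv.ofBijective (fun x : R i => r x) ⟨fun x y h => ?_, fun a => ?_⟩)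
  · exact Subtype.ext (m.r_inj x.2 y.2 h)
  · obtain ⟨x, hx, rfl⟩ := m.r_surj a
    exact ⟨⟨x, hx⟩, rfl⟩

include b

theorem f_act {h : HQ (R i)} (hh : h ∈ H0 R i) (a c : M) : f (h • a) (h • c) = f a c := by
  obtain ⟨g, hg, rfl⟩ := exists_H0 hh
  rw [m.pr_smul, m.pr_smul, m.toModFr.f_act b, m.act_B b hg]

/-- `p(w) + a p(w) = p([w, u])` -/
theorem smul_A {j : ι} {w u : G} (hw : w ∈ WW V (R i)) (hu : u ∈ UU V R j) :
    p w + pr (R i) ⟨u, U_le_N b i j hu⟩ • p w = p (w * u * w⁻¹ * u⁻¹) := by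
  have hN := U_le_N b i j hu
  have h1 : u * w⁻¹ * u⁻¹ ∈ WW V (R i) := conj_mem_of_normalizer (normalizer_le_WW V (R i) hN) (inv_mem hw)
  have h2 : u * w * u⁻¹ ∈ WW V (R i) := conj_mem_of_normalizer (normalizer_le_WW V (R i) hN) hw
  have e : w * u * w⁻¹ * u⁻¹ = w * (u * w⁻¹ * u⁻¹) := by group
  have e2 : u * w⁻¹ * u⁻¹ = (u * w * u⁻¹)⁻¹ := by group
  rw [e, m.p_mul _ hw _ h1, e2, m.p_inv h2, m.act hN hw]
  congr 1
  exact eq_neg_of_add_eq_zero_left (m.two_M b (p (u * w * u⁻¹)))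

/-- the radical -/
def rad (_m : ModQ V R i M B p r f) : AddSubgroup M where
  carrier := {v | ∀ c, f v c = 0}
  zero_mem' := fun c => by rw [map_zero, AddMonoidHom.zero_apply]
  add_mem' := by
    intro x y hx hy c
    rw [map_add, AddMonoidHom.add_apply, hx c, hy c, add_zero]
  neg_mem' := by
    intro x hx c
    rw [map_neg, AddMonoidHom.neg_apply, hx c, neg_zero]

theorem mem_rad {v : M} : v ∈ m.rad ↔ ∃ z ∈ ZZ V R i, p z = v := by
  constructor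
  · intro hv
    obtain ⟨z, hz, rfl⟩ := m.p_surj v
    refine ⟨z, mem_inf.2 ⟨hz, mem_centralizer_iff.2 fun w hw => ?_⟩, rfl⟩
    have h1 := hv (p w)
    rw [m.f_eq z hz w hw, m.r_ker _ (b.WW_comm i hz hw), mul_inv_eq_one, mul_inv_eq_iff_eq_mul] at h1
    exact h1.symm
  · rintro ⟨z, hz, rfl⟩ c
    obtain ⟨w, hw, rfl⟩ := m.p_surj c
    rw [m.f_eq z hz.1 w hw, ZZ_comm hz hw, show w * z * z⁻¹ * w⁻¹ = 1 by group, m.r_one]

theorem smul_rad {h : HQ (R i)} (hh : h ∈ H0 R i) {v : M} (hv : v ∈ m.rad) : h • v ∈ m.rad := by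
  intro c
  have e : c = h • (h⁻¹ • c) := by rw [smul_smul, mul_inv_cancel, one_smul]
  rw [e, m.f_act b hh]
  exact hv _

/-- a vector `v` with `f(M, v)` in a proper subgroup is in the radical -/
theorem mem_rad_of [Finite G] {B₀ : AddSubgroup B} (hB : B₀ ≠ ⊤) {v : M} (h : ∀ u, f u v ∈ B₀) : v ∈ m.rad := by
  obtain ⟨w, hw, rfl⟩ := m.p_surj v
  let R0 : Subgroup G :=
    { carrier := {x | x ∈ R i ∧ r x ∈ B₀}
      one_mem' := ⟨one_mem _, by rw [m.r_one]; exact zero_mem _⟩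
      mul_mem' := by
        rintro x y ⟨hx, hx'⟩ ⟨hy, hy'⟩
        exact ⟨mul_mem hx hy, by rw [m.r_mul x hx y hy]; exact add_mem hx' hy'⟩
      inv_mem' := by
        rintro x ⟨hx, hx'⟩
        exact ⟨inv_mem hx, by rw [m.r_inv hx]; exact neg_mem hx'⟩ }
  have hR0 : ¬ R i ≤ R0 := by
    intro hle
    apply hB
    rw [eq_top_iff]
    intro a _
    obtain ⟨x, hx, rfl⟩ := m.r_surj a
    exact (hle hx).2
  have h1 := b.rad hw hR0 (fun w' hw' => ⟨b.WW_comm i hw hw', by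
    rw [← m.f_eq w hw w' hw', m.f_symm b]
    exact h _⟩)
  exact (m.mem_rad b).2 ⟨w, mem_inf.2 ⟨hw, mem_centralizer_iff.2 fun w' hw' => (h1 w' hw').symm⟩, rfl⟩

omit b

theorem smul_A_rad (b : BTC V R) {j : ι} (hij : i ≠ j) {a : HQ (R i)} (ha : a ∈ AA V R i j) {v : M}
    (hv : v ∈ m.rad) : a • v = v := by
  obtain ⟨u, hu, rfl⟩ := (mem_AA b.toBT).1 ha
  obtain ⟨z, hz, rfl⟩ := (m.mem_rad b.toBT).1 hv
  have h1 := m.smul_A b.toBT hz.1 hu
  have h2 := b.cen_W_U hij hz.2 hu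
  rw [(m.p_ker _ (b.R_le_W i i h2)).2 h2] at h1
  rw [eq_neg_of_add_eq_zero_right h1]
  exact (eq_neg_of_add_eq_zero_left (m.two_M b.toBT (p z))).symm

/-- `⟨A^{H⁰}⟩` is trivial on the radical -/
theorem act_rad (b : BTC V R) {j : ι} (hij : i ≠ j) {x : HQ (R i)} (hx : x ∈ HA V R i j) :
    ∀ v ∈ m.rad, x • v = v := by
  unfold HA at hx
  induction hx using closure_induction with
  | mem x hx =>
    intro v hv
    obtain ⟨h, hh, a, ha, rfl⟩ := hx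
    have h1 := m.smul_A_rad b hij ha (m.smul_rad b.toBT (inv_mem hh) hv)
    rw [mul_smul, mul_smul, h1, smul_smul, mul_inv_cancel, one_smul]
  | one => intro v _; exact one_smul _ v
  | mul x y _ _ hx hy =>
    intro v hv
    rw [mul_smul, hy v hv, hx v hv]
  | inv x _ hx =>
    intro v hv
    rw [inv_smul_eq_iff]
    exact (hx v hv).symm

/-- **(8.2)** in `M` -/
theorem key [Finite G] (b : BTC V R) {j : ι} (hij : i ≠ j) {x : HQ (R i)} (hx : x ∈ HA V R i j)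
    {B₀ : AddSubgroup B} (hB : B₀ ≠ ⊤) {v : M} (h : ∀ u, f u v ∈ B₀) : x • v = v :=
  m.act_rad b hij hx v (m.mem_rad_of b.toBT hB h)

variable {F : Type v} [Field F] {j : ι} {vv : F → F → G} {w1 w2 t : F → G}

/-- an element of `⟨A^{H⁰}⟩` which fixes `[M, a]` pointwise fixes `e` pointwise -/
theorem fix_e [Finite G] [CharP F 2] (b : BTC V R) (hF : ∃ a : F, a ≠ 0 ∧ a ≠ 1) (c : Coord V R i j vv w1 w2)
    (τ : TorD V R i j vv t) {a : HQ (R i)} (ha : a ∈ AA V R i j) (ha1 : a ≠ 1) {x : HQ (R i)}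
    (hx : x ∈ HA V R i j) (h : ∀ d : M, x • (d + a • d) = d + a • d) : ∀ d ∈ m.sb V, x • d = d := by
  obtain ⟨u, hu, rfl⟩ := (mem_AA b.toBT).1 ha
  rintro _ ⟨y, hy, -, rfl⟩
  have hD : u ∉ DD V R := by
    intro hD
    exact ha1 ((pr_eq_one _).2 ((U_inf_Q b.toBT c.ne hu).2 hD))
  obtain ⟨w, hw, ζ, hζ, e⟩ := lemN b hF c τ hu hD hy
  have hW : w * u * w⁻¹ * u⁻¹ ∈ WW V (R i) := cm_mem b.toBT hw (UU_le_cen j hu)
  rw [e, m.p_mul _ hW _ hζ.1, ← m.smul_A b.toBT hw hu, smul_add, h,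
    m.act_rad b c.ne hx _ ((m.mem_rad b.toBT).2 ⟨ζ, hζ, rfl⟩)]

omit m in
theorem im_Y (b : BT V R) (hij : i ≠ j) : im (R i) (YY V R) = AA V R i j := by
  rw [b.Y_eq hij, im_sup (U_le_N b i i) (U_le_N b i j), im_eq_bot ((UU_le_WW i).trans (b.W_le_Q i)), bot_sup_eq]
  rfl

/-- an element of `H⁰` which fixes `e` pointwise normalises `A` -/
theorem norm_of_fix (b : BT V R) (hij : i ≠ j) {x : HQ (R i)} (hx : x ∈ H0 R i) (h : ∀ d ∈ m.sb V, x • d = d)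
    {a : HQ (R i)} (ha : a ∈ AA V R i j) : x * a * x⁻¹ ∈ AA V R i j := by
  obtain ⟨g, hg, rfl⟩ := exists_H0 hx
  have key : ∀ g : NR R i, (∀ d ∈ m.sb V, pr (R i) g • d = d) → ∀ y ∈ V, (g : G) * y * (g : G)⁻¹ ∈ V := by
    intro g hg y hy
    have hyW := V_le_WW V (R i) hy
    have h1 := hg _ (m.p_mem hyW hy)
    rw [m.act g.2 hyW, m.p_eq_iff (conj_mem_of_normalizer (normalizer_le_WW V (R i) g.2) hyW) hyW] at h1
    have e : (g : G) * y * (g : G)⁻¹ = ((g : G) * y * (g : G)⁻¹ * y⁻¹) * y := by group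
    rw [e]
    exact mul_mem (b.R_le i h1) hy
  have hV : (g : G) ∈ normalizer (V : Set G) := by
    rw [mem_normalizer_iff]
    refine fun y => ⟨key g h y, fun hy => ?_⟩
    have h2 := key g⁻¹ (fun d hd => by rw [map_inv, inv_smul_eq_iff]; exact (h d hd).symm) _ hy
    have e : ((g⁻¹ : NR R i) : G) * ((g : G) * y * (g : G)⁻¹) * ((g⁻¹ : NR R i) : G)⁻¹ = y := by
      push_cast
      group
    rwa [e] at h2
  obtain ⟨u, hu, rfl⟩ := (mem_AA b).1 ha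
  rw [← im_Y b hij]
  have h3 : (g : G) * u * (g : G)⁻¹ ∈ YY V R := conj_mem_of_normalizer (b.NV_le_NY hV) (UU_le_YY j hu)
  exact pr_mem_im (mul_mem (mul_mem g.2 (U_le_N b i j hu)) (inv_mem g.2)) h3

/-- **LEMMA N** in `M`: an element of `⟨A^{H⁰}⟩` which fixes `[M, a]` pointwise, `1 ≠ a ∈ A`, normalises `A` -/
theorem norm_A [Finite G] [CharP F 2] (b : BTC V R) (hF : ∃ a : F, a ≠ 0 ∧ a ≠ 1) (c : Coord V R i j vv w1 w2)
    (τ : TorD V R i j vv t) {a : HQ (R i)} (ha : a ∈ AA V R i j) (ha1 : a ≠ 1) {x : HQ (R i)}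
    (hx : x ∈ HA V R i j) (h : ∀ d : M, x • (d + a • d) = d + a • d) :
    ∀ y ∈ AA V R i j, x * y * x⁻¹ ∈ AA V R i j := fun _ hy =>
  m.norm_of_fix b.toBT c.ne (HA_le_H0 b.toBT j hx) (m.fix_e b hF c τ ha ha1 hx h) hy

/-- **(N0)** in `M`: `(1 + a)(1 + xax⁻¹) M ≤ e`, `x ∈ T` -/
theorem quad (b : BTC V R) (τ : TorD V R i j vv t) {a x : HQ (R i)} (ha : a ∈ AA V R i j) (hx : x ∈ TT τ)
    (c : M) : c + a • c + (x * a * x⁻¹) • c + (a * (x * a * x⁻¹)) • c ∈ m.sb V := by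
  obtain ⟨u, hu, rfl⟩ := (mem_AA b.toBT).1 ha
  obtain ⟨α, hα, rfl⟩ := (mem_TT τ).1 hx
  obtain ⟨w, hw, rfl⟩ := m.p_surj c
  have hu' := t_norm_U b.toBT τ hα hu
  have hN := U_le_N b.toBT i j hu
  have hN' := U_le_N b.toBT i j hu'
  have ht := τ.normR hα
  have hy := cm_mem b.toBT hw (UU_le_cen j hu)
  have h1 := m.smul_A b.toBT hw hu
  have h2 := m.smul_A b.toBT hy hu'
  have e1 : pr (R i) ⟨t α, ht⟩ * pr (R i) ⟨u, hN⟩ * (pr (R i) ⟨t α, ht⟩)⁻¹ = pr (R i) ⟨_, hN'⟩ := rfl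
  rw [e1]
  have hA' : pr (R i) ⟨_, hN'⟩ ∈ AA V R i j := (mem_AA b.toBT).2 ⟨_, hu', rfl⟩
  have hc : pr (R i) ⟨u, hN⟩ * pr (R i) ⟨_, hN'⟩ = pr (R i) ⟨_, hN'⟩ * pr (R i) ⟨u, hN⟩ := by
    have k1 := A_sq b.toBT τ.ne (mul_mem ha hA')
    have k2 : (pr (R i) ⟨u, hN⟩ * pr (R i) ⟨_, hN'⟩)⁻¹ = pr (R i) ⟨u, hN⟩ * pr (R i) ⟨_, hN'⟩ :=
      inv_eq_of_mul_eq_one_left k1
    rw [mul_inv_rev, inv_eq_of_mul_eq_one_left (A_sq b.toBT τ.ne ha),
      inv_eq_of_mul_eq_one_left (A_sq b.toBT τ.ne hA')] at k2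
    exact k2.symm
  rw [hc, mul_smul]
  have e2 : p w + pr (R i) ⟨u, hN⟩ • p w + pr (R i) ⟨_, hN'⟩ • p w +
      pr (R i) ⟨_, hN'⟩ • (pr (R i) ⟨u, hN⟩ • p w) =
      (p w + pr (R i) ⟨u, hN⟩ • p w) + pr (R i) ⟨_, hN'⟩ • (p w + pr (R i) ⟨u, hN⟩ • p w) := by
    rw [smul_add]; abel
  rw [e2, h1, h2]
  have h3 := N0_T b hw hu (τ.memX α hα) (cj_eq_self_iff.2 (τ.normR hα)) (cj_eq_self_iff.2 (τ.normR' hα))
  exact m.p_mem (V_le_WW V (R i) h3) h3

/-- `|e| ≤ q` -/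
theorem card_e [Finite F] (τ : TorD V R i j vv t) : Nat.card (m.sb V) ≤ Nat.card F := by
  have hV : ∀ c, vv 0 c ∈ V := fun c => (τ.v_mem _).2 ⟨_, _, rfl⟩
  refine Nat.card_le_card_of_surjective (fun c : F => (⟨p (vv 0 c), m.p_mem (V_le_WW V (R i) (hV c)) (hV c)⟩ :
    m.sb V)) ?_
  rintro ⟨_, y, hy, hyW, rfl⟩
  obtain ⟨β, c, rfl⟩ := (τ.v_mem y).1 hy
  refine ⟨c, Subtype.ext ?_⟩
  change p (vv 0 c) = p (vv β c)
  rw [m.p_eq_iff (V_le_WW V (R i) (hV c)) hyW]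
  have h1 := τ.v_add β 0 0 c
  rw [add_zero, zero_add] at h1
  have h2 : vv 0 c * (vv β c)⁻¹ = (vv β 0)⁻¹ := by
    rw [h1]; group
  rw [h2]
  exact inv_mem ((τ.Ri _).2 ⟨β, rfl⟩)

end ModQ

end Cfsg.Agent.Omega.Lie
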