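import Mathlib

/-!
# THEOREM D (bb OMEGA #15015): `M = ⟨e^E⟩`, `C_M(S_E) = e`, `H = E N_H(e)`, abstract form

`H` finite acts semilinearly on the finite dimensional `F`-space `M` (`|F| ≥ 4`, `F` finite of characteristic `2`), `B` a nondegenerate
reflexive form, `E` normal in `H` linear and isometric, `A ≤ E = ⟨A^E⟩`, `S` a Sylow 2-subgroup of `H` fixing the point `F e₀`,
`T = {t a}` the torus.  Input `cen` (LEMMA CEN, #14596): the `E`-span `I` of `e₀` satisfies `dim I/[I, S_E] ≤ 1`.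
-/

set_option autoImplicit false
set_option linter.unusedSectionVars false

namespace Cfsg.Agent.Omega.Lie.ThmD

open Subgroup

variable {H : Type*} [Group H] {F : Type*} [Field F] {M : Type*} [AddCommGroup M] [Module F M] [DistribMulAction H M]

/-- invariance of a subspace -/
def Inv (K : Subgroup H) (L : Submodule F M) : Prop := ∀ g ∈ K, ∀ x ∈ L, g • x ∈ L

/-- the `E`-span of a vector -/
def sp (F : Type*) [Field F] {M : Type*} [AddCommGroup M] [Module F M] [DistribMulAction H M] (E : Subgroup H)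
    (v : M) : Submodule F M := Submodule.span F {x | ∃ g ∈ E, x = g • v}

/-- `[L, K]` -/
def cm (K : Subgroup H) (L : Submodule F M) : Submodule F M :=
  Submodule.span F {x | ∃ s ∈ K, ∃ m ∈ L, x = s • m - m}

/-- the module data -/
structure Dat (E A : Subgroup H) (e₀ : M) (D : Submodule F M) (B : LinearMap.BilinForm F M) : Prop where
  normal : E.Normal
  A_le : A ≤ E
  /-- `E = ⟨A^E⟩` -/
  gen : ∀ K : Subgroup H, A ≤ K → (∀ g ∈ E, ∀ k ∈ K, g * k * g⁻¹ ∈ K) → E ≤ K
  lin : ∀ g ∈ E, ∀ (c : F) (x : M), g • c • x = c • g • x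
  semi : ∀ g : H, ∃ σ : F → F, (∀ c, c ≠ 0 → σ c ≠ 0) ∧ ∀ (c : F) (x : M), g • c • x = σ c • g • x
  refl : B.IsRefl
  nd : B.Nondegenerate
  BE : ∀ g ∈ E, ∀ x y, B (g • x) (g • y) = B x y
  BH : ∀ (g : H) (x y : M), B x y = 0 → B (g • x) (g • y) = 0
  ne : e₀ ≠ 0
  A2 : ∀ a ∈ A, ∀ x, B x e₀ = 0 → a • x - x ∈ D
  A3 : ∀ a ∈ A, ∀ x ∈ D, a • x - x ∈ Submodule.span F {e₀}
  ker0 : ∀ x ∈ D, (∀ a ∈ A, a • x = x) → x ∈ Submodule.span F {e₀}
  ker1 : ∀ x, (∀ a ∈ A, a • x = x) → B x e₀ = 0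
  span : ∀ L : Submodule F M, (∀ h : H, h • e₀ ∈ L) → L = ⊤

namespace Dat

variable {E A : Subgroup H} {e₀ : M} {D : Submodule F M} {B : LinearMap.BilinForm F M} (d : Dat E A e₀ D B)
include d

theorem mem_e {x : M} : x ∈ Submodule.span F {e₀} ↔ ∃ c : F, c • e₀ = x := by
  have _ := d
  exact Submodule.mem_span_singleton

/-- if `A` centralises an `E`-invariant subspace, so does `E` -/
theorem cen_E {L : Submodule F M} (hL : Inv E L) (h : ∀ a ∈ A, ∀ x ∈ L, a • x = x) :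
    ∀ g ∈ E, ∀ x ∈ L, g • x = x := by
  let K : Subgroup H :=
    { carrier := {k | ∀ x ∈ L, k • x = x}
      one_mem' := fun x _ => one_smul _ x
      mul_mem' := fun {a b} ha hb x hx => by rw [mul_smul, hb x hx, ha x hx]
      inv_mem' := fun {a} ha x hx => by rw [inv_smul_eq_iff, ha x hx] }
  refine fun g hg => d.gen K (fun a ha => h a ha) ?_ hg
  intro g hg k hk x hx
  have h1 : g⁻¹ • x ∈ L := hL _ (inv_mem hg) x hx
  rw [mul_smul, mul_smul, hk _ h1, smul_inv_smul]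

/-- `C_M(E) = 0` -/
theorem fix_E {x : M} (hx : ∀ g ∈ E, g • x = x) : x = 0 := by
  have key : ∀ h : H, B x (h • e₀) = 0 := by
    intro h
    have h1 : ∀ a ∈ A, a • h⁻¹ • x = h⁻¹ • x := by
      intro a ha
      have h2 := hx (h * a * h⁻¹) (d.normal.conj_mem a (d.A_le ha) h)
      rw [mul_smul, mul_smul] at h2
      rw [eq_inv_smul_iff]
      exact h2
    have h3 := d.BH h _ _ (d.ker1 _ h1)
    rwa [smul_inv_smul] at h3
  let L : Submodule F M :=
    { carrier := {y | B x y = 0}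
      zero_mem' := map_zero _
      add_mem' := fun {y z} hy hz => by
        change B x (y + z) = 0
        rw [map_add, (show B x y = 0 from hy), (show B x z = 0 from hz), add_zero]
      smul_mem' := fun c y hy => by
        change B x (c • y) = 0
        rw [map_smul, (show B x y = 0 from hy), smul_zero] }
  have hL : L = ⊤ := d.span L key
  refine d.nd.1 x fun y => ?_
  have : y ∈ L := by rw [hL]; trivial
  exact this

/-- **(2)** an `E`-invariant subspace of `e^⊥` not containing `e₀` is zero -/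
theorem eq_bot {J : Submodule F M} (hJ : Inv E J) (hP : ∀ x ∈ J, B x e₀ = 0) (he : e₀ ∉ J) : J = ⊥ := by
  have h0 : ∀ x ∈ J, x ∈ Submodule.span F {e₀} → x = 0 := by
    intro x hx hxe
    obtain ⟨c, rfl⟩ := d.mem_e.1 hxe
    by_cases hc : c = 0
    · rw [hc, zero_smul]
    · exact absurd (by
        have := J.smul_mem c⁻¹ hx
        rwa [smul_smul, inv_mul_cancel₀ hc, one_smul] at this) he
  have h1 : ∀ x ∈ J, x ∈ D → x = 0 := by
    intro x hx hxD
    refine h0 x hx (d.ker0 x hxD fun a ha => ?_)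
    exact sub_eq_zero.1 (h0 _ (J.sub_mem (hJ a (d.A_le ha) x hx) hx) (d.A3 a ha x hxD))
  have h2 : ∀ a ∈ A, ∀ x ∈ J, a • x = x := fun a ha x hx =>
    sub_eq_zero.1 (h1 _ (J.sub_mem (hJ a (d.A_le ha) x hx) hx) (d.A2 a ha x (hP x hx)))
  have h3 := d.cen_E hJ h2
  rw [eq_bot_iff]
  intro x hx
  exact (Submodule.mem_bot F).2 (d.fix_E fun g hg => h3 g hg x hx)

theorem mem_sp {g : H} (hg : g ∈ E) (v : M) : g • v ∈ sp F E v := by
  have _ := d
  exact Submodule.subset_span ⟨g, hg, rfl⟩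

theorem self_mem_sp (v : M) : v ∈ sp F E v := by
  have := d.mem_sp (one_mem E) v
  rwa [one_smul] at this

theorem sp_le {L : Submodule F M} (hL : Inv E L) {v : M} (hv : v ∈ L) : sp F E v ≤ L := by
  have _ := d
  rw [sp, Submodule.span_le]
  rintro _ ⟨g, hg, rfl⟩
  exact hL g hg _ hv

theorem sp_inv (v : M) : Inv E (sp F E v) := by
  intro g hg x hx
  unfold sp at hx
  induction hx using Submodule.span_induction with
  | mem x hx =>
    obtain ⟨g', hg', rfl⟩ := hx
    rw [smul_smul]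
    exact d.mem_sp (mul_mem hg hg') v
  | zero => rw [smul_zero]; exact zero_mem _
  | add x y _ _ hx hy => rw [smul_add]; exact add_mem hx hy
  | smul c x _ hx => rw [d.lin g hg]; exact Submodule.smul_mem _ c hx

theorem inv_sup {K L : Submodule F M} (hK : Inv E K) (hL : Inv E L) : Inv E (K ⊔ L) := by
  have _ := d
  intro g hg x hx
  obtain ⟨y, hy, z, hz, rfl⟩ := Submodule.mem_sup.1 hx
  rw [smul_add]
  exact add_mem (Submodule.mem_sup_left (hK g hg y hy)) (Submodule.mem_sup_right (hL g hg z hz))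

theorem inv_orthogonal {L : Submodule F M} (hL : Inv E L) : Inv E (B.orthogonal L) := by
  intro g hg x hx
  rw [LinearMap.BilinForm.mem_orthogonal_iff] at hx ⊢
  intro y hy
  have h1 := hx (g⁻¹ • y) (hL _ (inv_mem hg) y hy)
  have h2 := d.BE g hg (g⁻¹ • y) x
  rw [smul_inv_smul] at h2
  rw [h2, h1]

/-- some conjugate of `e` is not orthogonal to `e` -/
theorem exists_ne : ∃ h : H, B e₀ (h • e₀) ≠ 0 := by
  by_contra hcon
  push Not at hcon
  let L : Submodule F M :=
    { carrier := {y | B e₀ y = 0}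
      zero_mem' := map_zero _
      add_mem' := fun {y z} hy hz => by
        change B e₀ (y + z) = 0
        rw [map_add, (show B e₀ y = 0 from hy), (show B e₀ z = 0 from hz), add_zero]
      smul_mem' := fun c y hy => by
        change B e₀ (c • y) = 0
        rw [map_smul, (show B e₀ y = 0 from hy), smul_zero] }
  have hL : L = ⊤ := d.span L hcon
  refine d.ne (d.nd.1 e₀ fun y => ?_)
  have : y ∈ L := by rw [hL]; trivial
  exact this

/-- **(i)** `M = I + I₁` -/
theorem sup_eq_top [FiniteDimensional F M] {n x : H} (hx : x ∈ E) (h : B e₀ ((x * n) • e₀) ≠ 0) :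
    sp F E e₀ ⊔ sp F E (n • e₀) = ⊤ := by
  have hinv : Inv E (sp F E e₀ ⊔ sp F E (n • e₀)) := d.inv_sup (d.sp_inv _) (d.sp_inv _)
  have h1 : B.orthogonal (sp F E e₀ ⊔ sp F E (n • e₀)) = ⊥ := by
    refine d.eq_bot (d.inv_orthogonal hinv) (fun y hy => ?_) fun he => h ?_
    · rw [LinearMap.BilinForm.mem_orthogonal_iff] at hy
      exact d.refl _ _ (hy e₀ (Submodule.mem_sup_left (d.self_mem_sp e₀)))
    · rw [LinearMap.BilinForm.mem_orthogonal_iff] at he
      have h2 := he (x • n • e₀) (Submodule.mem_sup_right (d.mem_sp hx _))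
      rw [mul_smul]
      exact d.refl _ _ h2
  have h2 := LinearMap.BilinForm.finrank_orthogonal d.nd (sp F E e₀ ⊔ sp F E (n • e₀))
  rw [h1, finrank_bot] at h2
  exact Submodule.eq_top_of_finrank_eq (le_antisymm (Submodule.finrank_le _) (by omega))

end Dat

/-- `cen`: `L ≤ F v + [L, K]` -/
def Cen (F : Type*) [Field F] {M : Type*} [AddCommGroup M] [Module F M] [DistribMulAction H M] (K : Subgroup H)
    (L : Submodule F M) : Prop := ∃ v : M, L ≤ Submodule.span F {v} ⊔ cm K L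

namespace Dat

variable {E A : Subgroup H} {e₀ : M} {D : Submodule F M} {B : LinearMap.BilinForm F M} (d : Dat E A e₀ D B)
include d

/-- vectors fixed by `K ≤ E` are orthogonal to `[M, K]` -/
theorem orth_cm {K : Subgroup H} (hK : K ≤ E) {x : M} (hx : ∀ s ∈ K, s • x = x) {y : M} (hy : y ∈ cm K (⊤ : Submodule F M)) :
    B x y = 0 := by
  unfold cm at hy
  induction hy using Submodule.span_induction with
  | mem y hy =>
    obtain ⟨s, hs, m, -, rfl⟩ := hy
    have h1 := d.BE s (hK hs) x m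
    rw [hx s hs] at h1
    rw [map_sub, h1, sub_self]
  | zero => exact map_zero _
  | add y z _ _ hy hz => rw [map_add, hy, hz, add_zero]
  | smul c y _ hy => rw [map_smul, hy, smul_zero]

theorem cm_mono {K : Subgroup H} {L L' : Submodule F M} (h : L ≤ L') : cm K L ≤ cm K L' := by
  have _ := d
  refine Submodule.span_mono ?_
  rintro _ ⟨s, hs, m, hm, rfl⟩
  exact ⟨s, hs, m, h hm, rfl⟩

theorem sp_tr {n : H} {v x : M} (hx : x ∈ sp F E v) : n • x ∈ sp F E (n • v) := by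
  obtain ⟨σ, -, hσ⟩ := d.semi n
  unfold sp at hx
  induction hx using Submodule.span_induction with
  | mem x hx =>
    obtain ⟨g, hg, rfl⟩ := hx
    have h1 : n • g • v = (n * g * n⁻¹) • n • v := by
      rw [smul_smul, smul_smul, inv_mul_cancel_right]
    rw [h1]
    exact d.mem_sp (d.normal.conj_mem g hg n) _
  | zero => rw [smul_zero]; exact zero_mem _
  | add x y _ _ hx hy => rw [smul_add]; exact add_mem hx hy
  | smul c x _ hx => rw [hσ]; exact Submodule.smul_mem _ _ hx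

theorem cen_tr {K : Subgroup H} {n : H} (hn : n ∈ normalizer (K : Set H)) {v : M} (h : Cen F K (sp F E v)) :
    Cen F K (sp F E (n • v)) := by
  obtain ⟨w, hw⟩ := h
  obtain ⟨σ, -, hσ⟩ := d.semi n
  refine ⟨n • w, fun y hy => ?_⟩
  have h1 : n⁻¹ • y ∈ sp F E v := by
    have := d.sp_tr (n := n⁻¹) hy
    rwa [inv_smul_smul] at this
  obtain ⟨a, ha, b, hb, hab⟩ := Submodule.mem_sup.1 (hw h1)
  obtain ⟨c, rfl⟩ := Submodule.mem_span_singleton.1 ha
  have h2 : n • b ∈ cm K (sp F E (n • v)) := by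
    unfold cm at hb
    clear hab
    induction hb using Submodule.span_induction with
    | mem b hb =>
      obtain ⟨s, hs, m, hm, rfl⟩ := hb
      refine Submodule.subset_span ⟨n * s * n⁻¹, (mem_normalizer_iff.1 hn s).1 hs, n • m, d.sp_tr hm, ?_⟩
      rw [smul_sub, smul_smul, smul_smul, inv_mul_cancel_right]
    | zero => rw [smul_zero]; exact zero_mem _
    | add x y _ _ hx hy => rw [smul_add]; exact add_mem hx hy
    | smul c x _ hx => rw [hσ]; exact Submodule.smul_mem _ _ hx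
  have h3 : y = σ c • n • w + n • b := by
    rw [← hσ, ← smul_add, hab, smul_inv_smul]
  rw [h3]
  exact add_mem (Submodule.mem_sup_left (Submodule.smul_mem _ _ (Submodule.mem_span_singleton_self _)))
    (Submodule.mem_sup_right h2)

/-- one generator: two fixed vectors, the first not zero, are proportional -/
theorem prop_of_one {K : Subgroup H} (hK : K ≤ E) {v : M}
    (h : (⊤ : Submodule F M) ≤ Submodule.span F {v} ⊔ cm K (⊤ : Submodule F M)) {x y : M} (hx : ∀ s ∈ K, s • x = x)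
    (hy : ∀ s ∈ K, s • y = y) (hx0 : x ≠ 0) : ∃ c : F, y = c • x := by
  -- a fixed vector orthogonal to `v` is zero
  have key : ∀ z : M, (∀ s ∈ K, s • z = z) → B z v = 0 → z = 0 := by
    intro z hz hzv
    refine d.nd.1 z fun m => ?_
    obtain ⟨a, ha, b, hb, rfl⟩ := Submodule.mem_sup.1 (h (Submodule.mem_top : m ∈ ⊤))
    obtain ⟨c, rfl⟩ := Submodule.mem_span_singleton.1 ha
    rw [map_add, map_smul, hzv, smul_zero, zero_add, d.orth_cm hK hz hb]
  have h1 : B x v ≠ 0 := fun h0 => hx0 (key x hx h0)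
  refine ⟨B y v / B x v, ?_⟩
  rw [← sub_eq_zero]
  refine key _ (fun s hs => ?_) ?_
  · rw [smul_sub, hy s hs, d.lin s (hK hs), hx s hs]
  · rw [map_sub, LinearMap.sub_apply, map_smul, LinearMap.smul_apply, smul_eq_mul, div_mul_cancel₀ _ h1, sub_self]

/-- two generators: three fixed vectors are dependent -/
theorem prop_of_two {K : Subgroup H} (hK : K ≤ E) {v w : M}
    (h : (⊤ : Submodule F M) ≤ Submodule.span F {v} ⊔ Submodule.span F {w} ⊔ cm K (⊤ : Submodule F M))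
    {x y z : M} (hx : ∀ s ∈ K, s • x = x) (hy : ∀ s ∈ K, s • y = y) (hz : ∀ s ∈ K, s • z = z) (hx0 : x ≠ 0)
    (hxy : ∀ c : F, y ≠ c • x) : ∃ a c : F, z = a • x + c • y := by
  have key : ∀ z : M, (∀ s ∈ K, s • z = z) → B z v = 0 → B z w = 0 → z = 0 := by
    intro z hz hzv hzw
    refine d.nd.1 z fun m => ?_
    have hm : m ∈ Submodule.span F {v} ⊔ Submodule.span F {w} ⊔ cm K (⊤ : Submodule F M) := h Submodule.mem_top
    obtain ⟨a, ha, b, hb, hab⟩ := Submodule.mem_sup.1 hm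
    obtain ⟨a₁, ha₁, a₂, ha₂, ha₁₂⟩ := Submodule.mem_sup.1 ha
    obtain ⟨c, hc⟩ := Submodule.mem_span_singleton.1 ha₁
    obtain ⟨c', hc'⟩ := Submodule.mem_span_singleton.1 ha₂
    rw [← hab, ← ha₁₂, ← hc, ← hc', map_add, map_add, map_smul, map_smul, hzv, hzw, smul_zero, smul_zero, zero_add,
      zero_add, d.orth_cm hK hz hb]
  have hcomb : ∀ (c : F) (y x : M), (∀ s ∈ K, s • y = y) → (∀ s ∈ K, s • x = x) →
      ∀ s ∈ K, s • (y - c • x) = y - c • x := by
    intro c y x hy hx s hs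
    rw [smul_sub, d.lin s (hK hs), hx s hs, hy s hs]
  have hB : ∀ (c : F) (y x u : M), B (y - c • x) u = B y u - c * B x u := by
    intro c y x u
    rw [map_sub, LinearMap.sub_apply, map_smul, LinearMap.smul_apply, smul_eq_mul]
  -- the case `B x v ≠ 0`
  have aux : ∀ v w : M, (∀ z : M, (∀ s ∈ K, s • z = z) → B z v = 0 → B z w = 0 → z = 0) → B x v ≠ 0 →
      ∃ a c : F, z = a • x + c • y := by
    intro v w key h1
    have hy1 := hcomb (B y v / B x v) y x hy hx
    have hz1 := hcomb (B z v / B x v) z x hz hx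
    have hyv : B (y - (B y v / B x v) • x) v = 0 := by rw [hB, div_mul_cancel₀ _ h1, sub_self]
    have hzv : B (z - (B z v / B x v) • x) v = 0 := by rw [hB, div_mul_cancel₀ _ h1, sub_self]
    have hy2 : y - (B y v / B x v) • x ≠ 0 := fun h0 => hxy _ (sub_eq_zero.1 h0)
    set y' := y - (B y v / B x v) • x with hy'
    set z' := z - (B z v / B x v) • x with hz'
    have hyw : B y' w ≠ 0 := fun h0 => hy2 (key y' hy1 hyv h0)
    have h3 : z' - (B z' w / B y' w) • y' = 0 := by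
      refine key _ (hcomb _ _ _ hz1 hy1) ?_ ?_
      · rw [hB, hzv, hyv, mul_zero, sub_zero]
      · rw [hB, div_mul_cancel₀ _ hyw, sub_self]
    refine ⟨B z v / B x v - (B z' w / B y' w) * (B y v / B x v), B z' w / B y' w, ?_⟩
    have h4 : z = z' + (B z v / B x v) • x := by rw [hz']; abel
    rw [sub_eq_zero] at h3
    rw [sub_smul, mul_smul]
    calc z = z' + (B z v / B x v) • x := h4
      _ = (B z' w / B y' w) • y' + (B z v / B x v) • x := by rw [← h3]
      _ = _ := by rw [hy', smul_sub]; abel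
  by_cases h1 : B x v = 0
  · have h2 : B x w ≠ 0 := fun h2 => hx0 (key x hx h1 h2)
    exact aux w v (fun z hz h3 h4 => key z hz h4 h3) h2
  · exact aux v w key h1

end Dat

/-- the torus and the Sylow 2-subgroup -/
structure Tor (S E A : Subgroup H) (t : F → H) (e₀ : M) (D : Submodule F M) (B : LinearMap.BilinForm F M) : Prop where
  lin : ∀ a, a ≠ 0 → ∀ (c : F) (x : M), t a • c • x = c • t a • x
  norm : ∀ a, a ≠ 0 → t a ∈ normalizer ((S ⊓ E : Subgroup H) : Set H)
  e : ∀ a, a ≠ 0 → t a • e₀ = a⁻¹ • e₀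
  P : ∀ a, a ≠ 0 → ∀ x, B x e₀ = 0 → t a • x - a • x ∈ D
  comm : ∀ a b, a ≠ 0 → b ≠ 0 → t a * t b = t b * t a
  N : ∀ h : H, (∃ c : F, h • e₀ = c • e₀) → ∀ a, a ≠ 0 → ∃ b, b ≠ 0 ∧ ∃ a' ∈ A, h * t a * h⁻¹ = t b * a'
  Se : ∀ s ∈ S, ∃ c : F, s • e₀ = c • e₀
  SEe : ∀ s ∈ S ⊓ E, s • e₀ = e₀
  AS : A ≤ S

/-- `|E : S ∩ E| = |S E : S|` -/
theorem relIndex_inf [Finite H] (S E : Subgroup H) [E.Normal] : (S ⊓ E).relIndex E = S.relIndex (S ⊔ E) := by
  have h1 : E.relIndex (S ⊔ E) = E.relIndex S := relIndex_sup_right S E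
  have h2 := relIndex_mul_relIndex ⊥ (S ⊓ E) S bot_le inf_le_left
  have h3 := relIndex_mul_relIndex ⊥ E (S ⊔ E) bot_le le_sup_right
  have h4 := relIndex_mul_relIndex ⊥ S (S ⊔ E) bot_le le_sup_left
  have h5 := relIndex_mul_relIndex ⊥ (S ⊓ E) E bot_le inf_le_right
  rw [inf_relIndex_left] at h2
  have h6 : (⊥ : Subgroup H).relIndex (S ⊓ E) * E.relIndex S ≠ 0 := by
    rw [h2, relIndex_bot_left]
    exact Nat.card_pos.ne'
  have h7 : (⊥ : Subgroup H).relIndex (S ⊓ E) * E.relIndex S * (S ⊓ E).relIndex E =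
      (⊥ : Subgroup H).relIndex (S ⊓ E) * E.relIndex S * S.relIndex (S ⊔ E) := by
    rw [h2, h4, ← h3, ← h5, h1, ← h2]
    ring
  exact mul_left_cancel₀ h6 h7

/-- **Frattini** for `S ∩ E` -/
theorem frattini [Finite H] (S : Sylow 2 H) (E : Subgroup H) [E.Normal] :
    normalizer (((S : Subgroup H) ⊓ E : Subgroup H) : Set H) ⊔ E = ⊤ := by
  have hfact : Fact (Nat.Prime 2) := ⟨Nat.prime_two⟩
  have h1 : IsPGroup 2 ((S : Subgroup H).subgroupOf E) :=
    S.isPGroup'.comap_of_injective E.subtype E.subtype_injective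
  have h2 : ¬ 2 ∣ ((S : Subgroup H).subgroupOf E).index := by
    intro h
    apply S.not_dvd_index
    have h3 : ((S : Subgroup H).subgroupOf E).index = (S : Subgroup H).relIndex ((S : Subgroup H) ⊔ E) := by
      rw [← relIndex_inf, inf_relIndex_right]
      rfl
    rw [h3] at h
    exact h.trans (relIndex_dvd_index_of_le le_sup_left)
  have h3 := Sylow.normalizer_sup_eq_top (h1.toSylow h2)
  rwa [IsPGroup.toSylow_coe, subgroupOf_map_subtype] at h3

/-- a group with a normaliser element of order 2 modulo it has even index -/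
theorem even_index [Finite H] {K : Subgroup H} {x : H} (hx : x ∈ normalizer (K : Set H)) (h1 : x ∉ K) (h2 : x * x ∈ K) :
    2 ∣ K.index := by
  have h3 : (⟨x, hx⟩ : normalizer (K : Set H)) ∉ K.subgroupOf (normalizer (K : Set H)) := fun h => h1 (mem_subgroupOf.1 h)
  have _ : (K.subgroupOf (normalizer (K : Set H))).Normal := Subgroup.normal_in_normalizer
  let q : normalizer (K : Set H) ⧸ K.subgroupOf (normalizer (K : Set H)) := QuotientGroup.mk ⟨x, hx⟩
  have h4 : q ≠ 1 := fun h => h3 ((QuotientGroup.eq_one_iff _).1 h)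
  have h5 : q ^ 2 = 1 := by
    rw [pow_two]
    exact (QuotientGroup.eq_one_iff (⟨x, hx⟩ * ⟨x, hx⟩ : normalizer (K : Set H))).2 (mem_subgroupOf.2 h2)
  have h6 : orderOf q = 2 := orderOf_eq_prime h5 h4
  have h7 : 2 ∣ (K.subgroupOf (normalizer (K : Set H))).index := by
    rw [Subgroup.index, ← h6]
    exact orderOf_dvd_natCard q
  exact h7.trans (relIndex_dvd_index_of_le le_normalizer)

section main

variable [Finite H] [FiniteDimensional F M] [Finite F] [CharP F 2] (S : Sylow 2 H) {E A : Subgroup H} {t : F → H}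
  {e₀ : M} {D : Submodule F M} {B : LinearMap.BilinForm F M} (d : Dat E A e₀ D B)
  (τ : Tor (S : Subgroup H) E A t e₀ D B)

include d τ

theorem line_of_mem (hF : ∃ a : F, a ≠ 0 ∧ a ≠ 1) (hc : Cen F ((S : Subgroup H) ⊓ E) (sp F E e₀)) {n₀ : H}
    (hn₀ : n₀ ∈ normalizer (((S : Subgroup H) ⊓ E : Subgroup H) : Set H)) : ∃ c : F, n₀ • e₀ = c • e₀ := by
  classical
  by_contra hy0
  push Not at hy0
  have hEn := d.normal
  obtain ⟨a, ha0, ha1⟩ := hF
  have hfact : Fact (Nat.Prime 2) := ⟨Nat.prime_two⟩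
  set SE : Subgroup H := (S : Subgroup H) ⊓ E with hSE
  have hSEE : SE ≤ E := inf_le_right
  let N : Subgroup H := normalizer (SE : Set H)
  let Fx : M → Prop := fun x => ∀ s ∈ SE, s • x = x
  have FxN : ∀ n ∈ N, ∀ x, Fx x → Fx (n • x) := by
    intro n hn x hx s hs
    have h1 : n⁻¹ * s * n ∈ SE := by
      have := (mem_normalizer_iff.1 (inv_mem hn) s).1 hs
      rwa [inv_inv] at this
    have h2 := hx _ h1
    have h3 : n • (n⁻¹ * s * n) • x = s • n • x := by
      rw [smul_smul, smul_smul]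
      congr 1
      group
    rw [← h3, h2]
  have Fxe : Fx e₀ := fun s hs => τ.SEe s hs
  have FxA : ∀ x, Fx x → ∀ b ∈ A, b • x = x := fun x hx b hb => hx b (mem_inf.2 ⟨τ.AS hb, d.A_le hb⟩)
  have FxP : ∀ x, Fx x → B x e₀ = 0 := fun x hx => d.ker1 x (FxA x hx)
  have FxD : ∀ x, Fx x → x ∈ D → ∃ c : F, x = c • e₀ := by
    intro x hx hxD
    obtain ⟨c, hc⟩ := d.mem_e.1 (d.ker0 x hxD (FxA x hx))
    exact ⟨c, hc.symm⟩
  have Fxadd : ∀ x y, Fx x → Fx y → Fx (x + y) := fun x y hx hy s hs => by rw [smul_add, hx s hs, hy s hs]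
  have Fxsmul : ∀ (c : F) x, Fx x → Fx (c • x) := fun c x hx s hs => by rw [d.lin s (hSEE hs), hx s hs]
  have Fxsub : ∀ x y, Fx x → Fx y → Fx (x - y) := fun x y hx hy s hs => by rw [smul_sub, hx s hs, hy s hs]
  have TN : ∀ b, b ≠ 0 → t b ∈ N := fun b hb => τ.norm b hb
  -- dimension two
  have dim2 : ∀ x y z : M, Fx x → Fx y → Fx z → x ≠ 0 → (∀ c : F, y ≠ c • x) → ∃ a c : F, z = a • x + c • y := by
    obtain ⟨h, hh⟩ := d.exists_ne
    have hfr : N ⊔ E = ⊤ := frattini S E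
    have h1 : h ∈ E ⊔ N := by rw [sup_comm, hfr]; trivial
    rw [← SetLike.mem_coe, Subgroup.normal_mul] at h1
    obtain ⟨x, hx, n, hn, rfl⟩ := h1
    have h2 := d.sup_eq_top hx hh
    obtain ⟨v, hv⟩ := hc
    obtain ⟨w, hw⟩ := d.cen_tr hn ⟨v, hv⟩
    have h3 : (⊤ : Submodule F M) ≤ Submodule.span F {v} ⊔ Submodule.span F {w} ⊔ cm SE (⊤ : Submodule F M) := by
      rw [← h2]
      refine sup_le (hv.trans (sup_le ?_ ?_)) (hw.trans (sup_le ?_ ?_))
      · exact le_sup_left.trans le_sup_left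
      · exact (d.cm_mono le_sup_left).trans le_sup_right
      · exact le_sup_right.trans le_sup_left
      · exact (d.cm_mono le_sup_right).trans le_sup_right
    intro x y z hx hy hz hx0 hxy
    exact d.prop_of_two hSEE h3 hx hy hz hx0 hxy
  -- the second eigenvector
  have haa : a - a⁻¹ ≠ 0 := by
    intro h0
    have h1 : a * a = 1 := by
      rw [sub_eq_zero] at h0
      nth_rewrite 2 [h0]
      exact mul_inv_cancel₀ ha0
    have h2 : (a - 1) * (a - 1) = 0 := by
      have h3 : (2 : F) = 0 := CharTwo.two_eq_zero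
      linear_combination h1 - (a - 1) * h3
    exact ha1 (sub_eq_zero.1 (mul_self_eq_zero.1 h2))
  obtain ⟨u, hu, hun, huv, l₀, hyu⟩ : ∃ u, Fx u ∧ (∀ c : F, u ≠ c • e₀) ∧ (∀ b, b ≠ 0 → t b • u = b • u) ∧
      ∃ l₀ : F, n₀ • e₀ = u - l₀ • e₀ := by
    have hy : Fx (n₀ • e₀) := FxN _ hn₀ _ Fxe
    obtain ⟨c, hc⟩ := FxD (t a • n₀ • e₀ - a • n₀ • e₀) (Fxsub _ _ (FxN _ (TN a ha0) _ hy) (Fxsmul _ _ hy))
      (τ.P a ha0 _ (FxP _ hy))
    have hc' : t a • n₀ • e₀ = a • n₀ • e₀ + c • e₀ := by rw [← hc]; abel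
    have hcd : c / (a - a⁻¹) * (a - a⁻¹) = c := div_mul_cancel₀ _ haa
    obtain ⟨u, hu⟩ : ∃ u, u = n₀ • e₀ + (c / (a - a⁻¹)) • e₀ := ⟨_, rfl⟩
    have hun : ∀ c : F, u ≠ c • e₀ := by
      intro c' h
      apply hy0 (c' - c / (a - a⁻¹))
      rw [sub_smul, ← h, hu]; abel
    have hta : t a • u = a • u := by
      rw [hu, smul_add, hc', τ.lin a ha0, τ.e a ha0, smul_add, smul_smul, smul_smul, add_assoc, ← add_smul]
      congr 2
      linear_combination -hcd
    have hFu : Fx u := by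
      rw [hu]
      exact Fxadd _ _ hy (Fxsmul _ _ Fxe)
    refine ⟨u, hFu, hun, fun b hb => ?_, c / (a - a⁻¹), by rw [hu]; abel⟩
    obtain ⟨c', hc'⟩ := FxD (t b • u - b • u) (Fxsub _ _ (FxN _ (TN b hb) _ hFu) (Fxsmul _ _ hFu))
      (τ.P b hb _ (FxP _ hFu))
    have h1 : t b • u = b • u + c' • e₀ := by rw [← hc']; abel
    have h2 : t a • t b • u = t b • t a • u := by rw [smul_smul, smul_smul, τ.comm a b ha0 hb]
    have h2' : t a • t b • u = (a * b) • u + (c' * a⁻¹) • e₀ := by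
      rw [h1, smul_add, τ.lin a ha0, τ.lin a ha0, hta, τ.e a ha0, smul_smul, smul_smul, mul_comm b a]
    have h2'' : t b • t a • u = (a * b) • u + (a * c') • e₀ := by
      rw [hta, τ.lin b hb, h1, smul_add, smul_smul, smul_smul]
    rw [h2', h2''] at h2
    have h3 := add_left_cancel h2
    have h4 : c' = 0 := by
      by_contra hc0
      have h5 : (c' * a⁻¹ - a * c') • e₀ = 0 := by rw [sub_smul, h3, sub_self]
      rcases smul_eq_zero.1 h5 with h6 | h6
      · apply haa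
        have h7 : c' * (a - a⁻¹) = 0 := by linear_combination -h6
        exact (mul_eq_zero.1 h7).resolve_left hc0
      · exact d.ne h6
    rw [h1, h4, zero_smul, add_zero]
  have he0 : e₀ ≠ 0 := d.ne
  have hu0 : u ≠ 0 := fun h => hun 0 (by rw [h, zero_smul])
  have heu : ∀ c : F, e₀ ≠ c • u := by
    intro c h
    by_cases hc : c = 0
    · rw [hc, zero_smul] at h; exact he0 h
    · apply hun c⁻¹
      rw [h, smul_smul, inv_mul_cancel₀ hc, one_smul]
  have indep : ∀ α β : F, α • e₀ + β • u = 0 → α = 0 ∧ β = 0 := by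
    intro α β h
    have hβ : β = 0 := by
      by_contra hβ
      apply hun (-(β⁻¹ * α))
      have h1 : β • u = -(α • e₀) := by rw [eq_neg_iff_add_eq_zero, add_comm]; exact h
      have h2 : u = β⁻¹ • β • u := by rw [smul_smul, inv_mul_cancel₀ hβ, one_smul]
      rw [h2, h1, smul_neg, neg_smul, smul_smul]
    rw [hβ, zero_smul, add_zero] at h
    exact ⟨(smul_eq_zero.1 h).resolve_right he0, hβ⟩
  have decomp : ∀ z, Fx z → ∃ α β : F, z = α • e₀ + β • u := fun z hz => dim2 e₀ u z Fxe hu hz he0 hun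
  -- eigenvectors
  have eig : ∀ z, Fx z → (∃ μ : F, t a • z = μ • z) → (∃ c : F, z = c • e₀) ∨ ∃ c : F, z = c • u := by
    rintro z hz ⟨μ, hμ⟩
    obtain ⟨α, β, rfl⟩ := decomp z hz
    by_cases hα : α = 0
    · right; exact ⟨β, by rw [hα, zero_smul, zero_add]⟩
    by_cases hβ : β = 0
    · left; exact ⟨α, by rw [hβ, zero_smul, add_zero]⟩
    exfalso
    rw [smul_add, τ.lin a ha0, τ.lin a ha0, τ.e a ha0, huv a ha0, smul_add, smul_smul, smul_smul, smul_smul,
      smul_smul] at hμ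
    have h1 : (α * a⁻¹ - μ * α) • e₀ + (β * a - μ * β) • u = 0 := by
      rw [sub_smul, sub_smul, sub_add_sub_comm, hμ, sub_self]
    obtain ⟨h2, h3⟩ := indep _ _ h1
    have h4 : a⁻¹ = μ := mul_left_cancel₀ hα (by rw [mul_comm α μ]; exact sub_eq_zero.1 h2)
    have h5 : a = μ := mul_left_cancel₀ hβ (by rw [mul_comm β μ]; exact sub_eq_zero.1 h3)
    exact haa (by rw [h4, ← h5, sub_self])
  -- membership in `F e₀`, `F u`, semilinearity
  have sm : ∀ (g : H) (v w : M), (∃ c : F, v = c • w) → ∃ c : F, g • v = c • g • w := by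
    rintro g v w ⟨c, rfl⟩
    obtain ⟨σ, -, hσ⟩ := d.semi g
    exact ⟨σ c, hσ c w⟩
  have tr : ∀ (u v w : M), (∃ c : F, u = c • v) → (∃ c : F, v = c • w) → ∃ c : F, u = c • w := by
    rintro u v w ⟨c, rfl⟩ ⟨c', rfl⟩
    exact ⟨c * c', smul_smul _ _ _⟩
  have sy : ∀ (v w : M), v ≠ 0 → (∃ c : F, v = c • w) → ∃ c : F, w = c • v := by
    rintro v w hv ⟨c, rfl⟩
    have hc : c ≠ 0 := fun h => hv (by rw [h, zero_smul])
    exact ⟨c⁻¹, by rw [smul_smul, inv_mul_cancel₀ hc, one_smul]⟩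
  have nz : ∀ (g : H) (v : M), v ≠ 0 → g • v ≠ 0 := fun g v hv h => hv ((smul_eq_zero_iff_eq g).1 h)
  -- the stabiliser `K` of `F e₀` in `N`
  let K : Subgroup H :=
    { carrier := {g | g ∈ N ∧ ∃ c : F, g • e₀ = c • e₀}
      one_mem' := ⟨one_mem _, 1, by rw [one_smul, one_smul]⟩
      mul_mem' := by
        rintro g h ⟨hg, hg'⟩ ⟨hh, hh'⟩
        refine ⟨mul_mem hg hh, ?_⟩
        rw [mul_smul]
        exact tr _ _ _ (sm g _ _ hh') hg'
      inv_mem' := by
        rintro g ⟨hg, hg'⟩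
        refine ⟨N.inv_mem hg, ?_⟩
        have h1 := sm g⁻¹ _ _ (sy _ _ (nz g _ he0) hg')
        rwa [inv_smul_smul] at h1 }
  have hK : ∀ g, g ∈ K ↔ g ∈ N ∧ ∃ c : F, g • e₀ = c • e₀ := fun g => Iff.rfl
  have TK : ∀ b, b ≠ 0 → t b ∈ K := fun b hb => ⟨TN b hb, b⁻¹, τ.e b hb⟩
  have hSK : (S : Subgroup H) ≤ K := by
    intro s hs
    refine ⟨?_, τ.Se s hs⟩
    rw [Subgroup.mem_normalizer_iff]
    intro x
    constructor
    · rintro ⟨h1, h2⟩
      exact ⟨(S : Subgroup H).mul_mem ((S : Subgroup H).mul_mem hs h1) ((S : Subgroup H).inv_mem hs),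
        hEn.conj_mem x h2 s⟩
    · rintro ⟨h1, h2⟩
      have h3 := (S : Subgroup H).mul_mem ((S : Subgroup H).mul_mem ((S : Subgroup H).inv_mem hs) h1) hs
      have h4 := hEn.conj_mem _ h2 s⁻¹
      have e1 : s⁻¹ * (s * x * s⁻¹) * s = x := by group
      have e2 : s⁻¹ * (s * x * s⁻¹) * s⁻¹⁻¹ = x := by group
      rw [e1] at h3
      rw [e2] at h4
      exact ⟨h3, h4⟩
  have hKodd : ¬ 2 ∣ K.index := fun h => S.not_dvd_index (h.trans (index_dvd_of_le hSK))
  -- `K` fixes `F u`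
  have Ku : ∀ g ∈ K, ∃ c : F, g • u = c • u := by
    intro g hg
    have hgi := inv_mem hg
    have h1 : ∃ μ : F, t a • g • u = μ • g • u := by
      obtain ⟨b, hb, a', ha', h2⟩ := τ.N g⁻¹ ((hK _).1 hgi).2 a ha0
      rw [inv_inv] at h2
      have h3 : t a • g • u = g • (g⁻¹ * t a * g) • u := by
        rw [smul_smul, smul_smul]
        congr 1
        group
      rw [h3, h2, mul_smul, FxA u hu a' ha', huv b hb]
      exact sm g _ _ ⟨b, rfl⟩
    rcases eig _ (FxN g hg.1 _ hu) h1 with h2 | h2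
    · exfalso
      have h3 := sm g⁻¹ _ _ h2
      rw [inv_smul_smul] at h3
      obtain ⟨c, hc⟩ := tr _ _ _ h3 ((hK _).1 hgi).2
      exact hun c hc
    · exact h2
  -- some `x ∈ N` moves `F e₀` to `F u`
  obtain ⟨x, hxN, ρ, hρ⟩ : ∃ x ∈ N, ∃ c : F, x • e₀ = c • u := by
    by_contra hcon
    push Not at hcon
    have hl : l₀ ≠ 0 := by
      intro h0
      apply hcon n₀ hn₀ 1
      rw [hyu, h0, zero_smul, sub_zero, one_smul]
    have hfin : Fintype F := Fintype.ofFinite F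
    -- all points are reached
    have hex : ∀ c : F, ∃ g ∈ N, ∃ γ : F, γ ≠ 0 ∧ g • e₀ = γ • (e₀ + c • u) := by
      intro c
      by_cases hc0 : c = 0
      · exact ⟨1, one_mem _, 1, one_ne_zero, by rw [hc0, zero_smul, add_zero, one_smul, one_smul]⟩
      have hsq : ∀ z : F, ∃ b : F, b * b = z := by
        intro z
        obtain ⟨b, hb⟩ := FiniteField.isSquare_of_char_two (ringChar.eq F 2) z
        exact ⟨b, hb.symm⟩
      obtain ⟨b, hb⟩ := hsq (-(c * l₀))
      have hb0 : b ≠ 0 := by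
        intro h0
        rw [h0, mul_zero, eq_comm, neg_eq_zero] at hb
        exact (mul_ne_zero hc0 hl) hb
      refine ⟨t b * n₀, mul_mem (TN b hb0) hn₀, -(l₀ * b⁻¹), neg_ne_zero.2 (mul_ne_zero hl (inv_ne_zero hb0)), ?_⟩
      rw [mul_smul, hyu, smul_sub, τ.lin b hb0, τ.e b hb0, huv b hb0, smul_add, smul_smul, smul_smul, neg_smul,
        sub_eq_add_neg, add_comm]
      congr 2
      have h1 : b⁻¹ * (b * b) = b := by rw [← mul_assoc, inv_mul_cancel₀ hb0, one_mul]
      calc b = b⁻¹ * (b * b) := h1.symm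
        _ = b⁻¹ * (-(c * l₀)) := by rw [hb]
        _ = -(l₀ * b⁻¹) * c := by ring
    choose g hgN γ hγ hg using hex
    have hcard : Nat.card F = Nat.card (↥N ⧸ K.subgroupOf N) := by
      refine Nat.card_eq_of_bijective (fun c => (QuotientGroup.mk ⟨g c, hgN c⟩ : ↥N ⧸ K.subgroupOf N)) ⟨?_, ?_⟩
      · intro c c' h
        have h1 : (g c)⁻¹ * g c' ∈ K := mem_subgroupOf.1 (QuotientGroup.eq.1 h)
        obtain ⟨α, hα⟩ := sm (g c) _ _ h1.2
        rw [smul_smul, mul_inv_cancel_left, hg, hg, smul_smul, smul_add, smul_add, smul_smul, smul_smul] at hα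
        have h2 : (γ c' - α * γ c) • e₀ + (γ c' * c' - α * γ c * c) • u = 0 := by
          rw [sub_smul, sub_smul, sub_add_sub_comm, hα, sub_self]
        obtain ⟨h3, h4⟩ := indep _ _ h2
        rw [sub_eq_zero] at h3 h4
        rw [← h3] at h4
        exact (mul_left_cancel₀ (hγ c') h4).symm
      · intro q
        obtain ⟨⟨h, hh⟩, rfl⟩ := QuotientGroup.mk_surjective q
        obtain ⟨α, β, hαβ⟩ := decomp _ (FxN h hh _ Fxe)
        have hα : α ≠ 0 := by
          intro h0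
          apply hcon h hh β
          rw [hαβ, h0, zero_smul, zero_add]
        refine ⟨β / α, ?_⟩
        refine QuotientGroup.eq.2 (mem_subgroupOf.2 ?_)
        change (g (β / α))⁻¹ * h ∈ K
        refine ⟨mul_mem (inv_mem (hgN _)) hh, ?_⟩
        rw [mul_smul, hαβ]
        have h1 : α • e₀ + β • u = (α * (γ (β / α))⁻¹) • g (β / α) • e₀ := by
          rw [hg, smul_smul, mul_assoc, inv_mul_cancel₀ (hγ _), mul_one, smul_add, smul_smul, mul_div_cancel₀ _ hα]
        rw [h1]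
        have h2 := sm (g (β / α))⁻¹ _ _ (⟨_, rfl⟩ : ∃ c : F, (α * (γ (β / α))⁻¹) • g (β / α) • e₀ = c • g (β / α) • e₀)
        rwa [inv_smul_smul] at h2
    have h2 : 2 ∣ Nat.card F := by
      rw [Nat.card_eq_fintype_card]
      obtain ⟨n, -, hn⟩ := FiniteField.card F 2
      rw [hn]
      exact dvd_pow_self 2 n.ne_zero
    rw [hcard] at h2
    have hKN : K ≤ N := fun g hg => hg.1
    exact hKodd (h2.trans (relIndex_dvd_index_of_le hKN))
  have hρ0 : ρ ≠ 0 := fun h => nz x _ he0 (by rw [hρ, h, zero_smul])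
  have hxu : ∃ c : F, x⁻¹ • u = c • e₀ := by
    have h1 := sm x⁻¹ _ _ (sy _ _ (nz x _ he0) ⟨ρ, hρ⟩)
    rwa [inv_smul_smul] at h1
  -- `x` normalises `K`
  have hxi : x⁻¹ ∈ normalizer (K : Set H) := by
    refine mem_normalizer_fintype fun k hk => ?_
    rw [inv_inv]
    refine ⟨mul_mem (mul_mem (inv_mem hxN) hk.1) hxN, ?_⟩
    rw [mul_smul, mul_smul, hρ]
    have h1 := sm k _ _ (⟨ρ, rfl⟩ : ∃ c : F, ρ • u = c • u)
    have h2 := sm x⁻¹ _ _ (tr _ _ _ h1 (Ku k hk))
    exact tr _ _ _ h2 hxu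
  have hxn : x ∈ normalizer (K : Set H) := by
    have := inv_mem hxi
    rwa [inv_inv] at this
  have hxK : x ∉ K := by
    rintro ⟨-, c, hc⟩
    rw [hρ] at hc
    apply hun (ρ⁻¹ * c)
    rw [mul_smul, ← hc, smul_smul, inv_mul_cancel₀ hρ0, one_smul]
  have hxx : x * x ∈ K := by
    refine ⟨mul_mem hxN hxN, ?_⟩
    have h1 : ∃ μ : F, t a • x • u = μ • x • u := by
      have h2 : x⁻¹ * t a * x ∈ K := by
        have := (mem_normalizer_iff.1 hxi (t a)).1 (TK a ha0)
        rwa [inv_inv] at this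
      have h3 : t a • x • u = x • (x⁻¹ * t a * x) • u := by
        rw [smul_smul, smul_smul]
        congr 1
        group
      rw [h3]
      exact sm x _ _ (Ku _ h2)
    rw [mul_smul, hρ]
    have h2 := sm x _ _ (⟨ρ, rfl⟩ : ∃ c : F, ρ • u = c • u)
    refine tr _ _ _ h2 ?_
    rcases eig _ (FxN x hxN _ hu) h1 with h3 | h3
    · exact h3
    · exfalso
      have h4 := sm x⁻¹ _ _ (sy _ _ (nz x _ hu0) h3)
      rw [inv_smul_smul] at h4
      obtain ⟨c, hc⟩ := tr _ _ _ (sy _ _ (nz x⁻¹ _ hu0) h4) hxu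
      exact hun c hc
  exact hKodd (even_index hxn hxK hxx)

/-- **THEOREM D** -/
theorem main (hF : ∃ a : F, a ≠ 0 ∧ a ≠ 1) (hc : Cen F ((S : Subgroup H) ⊓ E) (sp F E e₀)) :
    sp F E e₀ = ⊤ ∧ (∀ x : M, (∀ s ∈ (S : Subgroup H) ⊓ E, s • x = x) → ∃ c : F, x = c • e₀) ∧
      (∀ n ∈ normalizer (((S : Subgroup H) ⊓ E : Subgroup H) : Set H), ∃ c : F, n • e₀ = c • e₀) ∧
      ∀ h : H, ∃ g ∈ E, ∃ n, n ∈ normalizer (((S : Subgroup H) ⊓ E : Subgroup H) : Set H) ∧
        (∃ c : F, n • e₀ = c • e₀) ∧ h = g * n := by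
  have hEn := d.normal
  have h1 : ∀ n ∈ normalizer (((S : Subgroup H) ⊓ E : Subgroup H) : Set H), ∃ c : F, n • e₀ = c • e₀ :=
    fun n hn => line_of_mem S d τ hF hc hn
  have h2 : ∀ h : H, ∃ g ∈ E, ∃ n, n ∈ normalizer (((S : Subgroup H) ⊓ E : Subgroup H) : Set H) ∧
      (∃ c : F, n • e₀ = c • e₀) ∧ h = g * n := by
    intro h
    have h3 : h ∈ E ⊔ normalizer (((S : Subgroup H) ⊓ E : Subgroup H) : Set H) := by
      rw [sup_comm, frattini S E]
      trivial
    rw [← SetLike.mem_coe, Subgroup.normal_mul] at h3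
    obtain ⟨g, hg, n, hn, rfl⟩ := h3
    exact ⟨g, hg, n, hn, h1 n hn, rfl⟩
  have h3 : sp F E e₀ = ⊤ := by
    refine d.span _ fun h => ?_
    obtain ⟨g, hg, n, -, ⟨c, hc⟩, rfl⟩ := h2 h
    rw [mul_smul, hc, d.lin g hg]
    exact Submodule.smul_mem _ _ (d.mem_sp hg _)
  refine ⟨h3, fun x hx => ?_, h1, h2⟩
  obtain ⟨v, hv⟩ := hc
  rw [h3] at hv
  exact d.prop_of_one (inf_le_right : (S : Subgroup H) ⊓ E ≤ E) hv (fun s hs => τ.SEe s hs) hx d.ne

end main

end Cfsg.Agent.Omega.Lie.ThmD
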