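import Cfsg.Agent.Omega.Lie.OddAll
import Cfsg.Agent.Omega.Lie.LemNS

/-!
# (h1), SPLIT: the module `M = W i / R i` for `H = HQ (R i)` when `C_D(X) ≠ 1` is allowed (`b : BTS V R`)

`D1 = C_D(X) R i / R i`, `rad = Z(W i)/R i`, `e = V / R i`.

* `A_rad`: `[rad, A] ≤ D1`; `T_D1`: `T` is trivial on `D1`; `e_rad`: `e ∩ rad = 0`; `fix_D`: `C_M(T) ≤ D/R i`;
* `quadD`: `(1 + a)(1 + tat⁻¹) M ≤ e + D1`; `quad_U`: it vanishes on `U i / R i`; `quad4`: `≤ e` for `q = 4`;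
* `lemN`: `e ≤ (1 + a) M + rad` (LEMMA N', #14071); `faith`: `A` is faithful on `M / rad`;
* `stab_e`, `cen_T_norm_A`: `C_H(T)` stabilises `e` and normalises `A`, `q ≥ 8` (over `BT`, after helper932).
-/

set_option autoImplicit false
set_option linter.unusedSectionVars false

namespace Cfsg.Agent.Omega.Lie.ModQS

open Subgroup Cfsg.Agent.Omega.Lie Cfsg.Agent.Omega.Lie.Quot
open Cfsg.Agent.Omega.BTwo hiding ZZ
open Cfsg.Agent.Omega.Lie.LemN (ZZ N0_sq hallWitt ZZ_le_U)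

universe u v w

variable {G : Type u} [Group G] {ι : Type w} {V : Subgroup G} {R : ι → Subgroup G} {F : Type v} [Field F]
  {i j : ι} {vv : F → F → G} {w1 w2 t : F → G}

/-! ### In `G` -/

/-- **(N0)** for `BTS`: `[[W i, u], t u t⁻¹] ≤ V C_D(X)` for `t ∈ X` fixing `R i` and `R j` -/
theorem N0_T (b : BTS V R) {w u t : G} (hw : w ∈ WW V (R i)) (hu : u ∈ UU V R j)
    (ht : t ∈ XX V R) (hti : cj t (R i) = R i) (htj : cj t (R j) = R j) :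
    (w * u * w⁻¹ * u⁻¹) * (t * u * t⁻¹) * (w * u * w⁻¹ * u⁻¹)⁻¹ * (t * u * t⁻¹)⁻¹ ∈ DD V R ∧ ∃ y ∈ V,
      y * ((w * u * w⁻¹ * u⁻¹) * (t * u * t⁻¹) * (w * u * w⁻¹ * u⁻¹)⁻¹ * (t * u * t⁻¹)⁻¹) ∈ DD V R ⊓ CenX V R := by
  have htN := b.X_le_NV ht
  have hu' : t * u * t⁻¹ ∈ UU V R j := by
    have := conj_mem_cj (g := t) hu
    rwa [b.cj_UU htN htj] at this
  have hy := b.WU' hw hu
  have hsq := N0_sq b.toBT hw hu
  set y := w * u * w⁻¹ * u⁻¹ with hydef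
  have hyY := UU_le_YY i hy
  have huY := UU_le_YY j hu
  have hu'Y := UU_le_YY j hu'
  have hyu := b.Y_comm hyY hu'Y
  refine ⟨hyu, b.cen_DU (i := i) hyu fun h hh => ?_⟩
  have hhY := UU_le_YY i hh
  have hhy : h * y * h⁻¹ * y⁻¹ ∈ V := b.R_le i (b.WW_comm i (UU_le_WW i hh) (UU_le_WW i hy))
  have h1 := hallWitt b.toBT hhY hyY hu'Y hhy
  -- `h' = t⁻¹ h t`
  have hti' : cj t⁻¹ (R i) = R i := by rw [← cj_eq_iff.1 hti]
  have hh' : t⁻¹ * h * t ∈ UU V R i := by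
    have := conj_mem_cj (g := t⁻¹) hh
    rwa [b.cj_UU (inv_mem htN) hti', inv_inv] at this
  have hh'Y := UU_le_YY i hh'
  have hh'y : (t⁻¹ * h * t) * y * (t⁻¹ * h * t)⁻¹ * y⁻¹ ∈ V :=
    b.R_le i (b.WW_comm i (UU_le_WW i hh') (UU_le_WW i hy))
  have h2 := hallWitt b.toBT hh'Y hyY huY hh'y
  have h3 : (t⁻¹ * h * t) * (y * u * y⁻¹ * u⁻¹) * (t⁻¹ * h * t)⁻¹ * (y * u * y⁻¹ * u⁻¹)⁻¹ = 1 := by
    rw [← mem_centralizer_iff.1 (YY_le_cen hh'Y) _ hsq]; group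
  rw [h3] at h2
  have hδ' : (t⁻¹ * h * t) * u * (t⁻¹ * h * t)⁻¹ * u⁻¹ ∈ DD V R := b.Y_comm hh'Y huY
  set δ' := (t⁻¹ * h * t) * u * (t⁻¹ * h * t)⁻¹ * u⁻¹ with hδ'def
  have h4 : h * (t * u * t⁻¹) * h⁻¹ * (t * u * t⁻¹)⁻¹ = (t * δ' * t⁻¹ * δ'⁻¹) * δ' := by
    rw [hδ'def]; group
  have h5 : t * δ' * t⁻¹ * δ'⁻¹ ∈ V := b.XD ht hδ'
  have h6 : y * ((t * δ' * t⁻¹ * δ'⁻¹) * δ') * y⁻¹ * ((t * δ' * t⁻¹ * δ'⁻¹) * δ')⁻¹ = 1 := by
    have k1 := mem_centralizer_iff.1 (YY_le_cen hyY) _ h5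
    set r := t * δ' * t⁻¹ * δ'⁻¹
    calc y * (r * δ') * y⁻¹ * (r * δ')⁻¹ = (y * r) * δ' * y⁻¹ * δ'⁻¹ * r⁻¹ := by group
      _ = r * (y * δ' * y⁻¹ * δ'⁻¹) * r⁻¹ := by rw [← k1]; group
      _ = 1 := by rw [← h2]; group
  rw [h4, h6, mul_inv_eq_one, mul_inv_eq_iff_eq_mul] at h1
  exact h1.symm

/-- `[[y, u], t u t⁻¹] = 1` for `y ∈ U i` -/
theorem N0_TU (b : BT V R) {y u t : G} (hy : y ∈ UU V R i) (hu : u ∈ UU V R j)
    (ht : t ∈ XX V R) :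
    (y * u * y⁻¹ * u⁻¹) * (t * u * t⁻¹) * (y * u * y⁻¹ * u⁻¹)⁻¹ * (t * u * t⁻¹)⁻¹ = 1 := by
  have hyY := UU_le_YY i hy
  have huY := UU_le_YY j hu
  have hδ := b.Y_comm hyY huY
  set δ := y * u * y⁻¹ * u⁻¹ with hδdef
  -- `[δ, u] = 1`
  have h1 : δ * u = u * δ := by
    have hr := b.R_le j (b.W_sq j (UU_le_WW j hu))
    have h2 := mem_centralizer_iff.1 (UU_le_cen i hy) _ hr
    have e0 : y * u * y⁻¹ = δ * u := by rw [hδdef]; group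
    have e1 : y * (u * u) * y⁻¹ = (δ * u) * (δ * u) := by rw [← e0]; group
    have e2 : y * (u * u) * y⁻¹ = u * u := by rw [← h2]; group
    rw [e2] at e1
    have h3 : u = δ * u * δ := by
      have e3 : u * u = (δ * u * δ) * u := by rw [e1]; group
      exact mul_right_cancel e3
    have h4 := b.D_sq hδ
    calc δ * u = δ * (δ * u * δ) := by rw [← h3]
      _ = (δ * δ) * u * δ := by group
      _ = u * δ := by rw [h4, one_mul]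
  have hXt : t⁻¹ ∈ XX V R := inv_mem ht
  have h2 := b.XD hXt hδ
  set r := t⁻¹ * δ * t⁻¹⁻¹ * δ⁻¹ with hr
  have e1 : t⁻¹ * δ * t = r * δ := by rw [hr]; group
  have hru := mem_centralizer_iff.1 (UU_le_cen j hu) _ h2
  calc δ * (t * u * t⁻¹) * δ⁻¹ * (t * u * t⁻¹)⁻¹ =
        t * ((t⁻¹ * δ * t) * u * (t⁻¹ * δ * t)⁻¹ * u⁻¹) * t⁻¹ := by group
    _ = t * (r * (δ * u) * δ⁻¹ * r⁻¹ * u⁻¹) * t⁻¹ := by rw [e1]; group
    _ = t * ((r * u) * r⁻¹ * u⁻¹) * t⁻¹ := by rw [h1]; group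
    _ = 1 := by rw [hru]; group

/-! ### In `M` -/

variable {M B : Type u} [AddCommGroup M] [AddCommGroup B]
  [DistribMulAction (NR R i) M] [DistribMulAction (NR R i) B] [DistribMulAction (HQ (R i)) M] {p : G → M}
  {r : G → B} {f : M →+ M →+ B} (m : ModQ V R i M B p r f)

/-- `C_D(X) R i / R i` -/
def D1 : AddSubgroup M := m.sb (DD V R ⊓ CenX V R)

include m

/-- `e ∩ rad = 0` -/
theorem e_rad (b : BT V R) {c : M} (hc : c ∈ m.sb V) (hr : c ∈ m.rad) : c = 0 := by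
  obtain ⟨x, hx, hxW, rfl⟩ := hc
  obtain ⟨z, hz, e⟩ := (m.mem_rad b).1 hr
  rw [m.p_ker _ hxW]
  refine b.cen_VW hx ?_
  have h1 := (m.p_eq_iff hz.1 hxW).1 e
  have e2 : x = (z * x⁻¹)⁻¹ * z := by group
  rw [e2]
  exact mul_mem (inv_mem (b.R_cen_W i h1)) hz.2

/-- `D1 ≤ rad` -/
theorem D1_le_rad (b : BT V R) {c : M} (hc : c ∈ D1 m) : c ∈ m.rad := by
  obtain ⟨x, hx, hxW, rfl⟩ := hc
  exact (m.mem_rad b).2 ⟨x, mem_inf.2 ⟨hxW, cen_X_le i hx.2⟩, rfl⟩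

/-- `A` centralises `e` -/
theorem A_e (b : BT V R) {a : HQ (R i)} (ha : a ∈ AA V R i j) {c : M} (hc : c ∈ m.sb V) : a • c = c := by
  obtain ⟨u, hu, rfl⟩ := (mem_AA b).1 ha
  rw [m.pr_smul]
  exact m.cen_e b (UU_le_cen j hu) hc

/-- `T` is trivial on `D1` -/
theorem T_D1 (τ : TorD V R i j vv t) {s : HQ (R i)} (hs : s ∈ TT τ) {c : M} (hc : c ∈ D1 m) : s • c = c := by
  obtain ⟨a, ha, rfl⟩ := (mem_TT τ).1 hs
  obtain ⟨x, hx, hxW, rfl⟩ := hc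
  have h1 : t a * x = x * t a := mem_centralizer_iff.1 hx.2 _ (τ.memX a ha)
  rw [m.act (τ.normR ha) hxW, h1, mul_inv_cancel_right]

/-- `T` normalises `e` -/
theorem T_mem_e (b : BT V R) (τ : TorD V R i j vv t) {s : HQ (R i)} (hs : s ∈ TT τ) {c : M} (hc : c ∈ m.sb V) :
    s • c ∈ m.sb V := by
  obtain ⟨a, ha, rfl⟩ := (mem_TT τ).1 hs
  obtain ⟨x, hx, hxW, rfl⟩ := hc
  rw [m.act (τ.normR ha) hxW]
  have h1 := conj_mem_of_normalizer (b.X_le_NV (τ.memX a ha)) hx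
  exact m.p_mem (V_le_WW V (R i) h1) h1

/-- `[rad, A] ≤ D1` -/
theorem A_rad (b : BTS V R) (hij : i ≠ j) {a : HQ (R i)} (ha : a ∈ AA V R i j) {c : M} (hc : c ∈ m.rad) :
    c + a • c ∈ D1 m := by
  obtain ⟨u, hu, rfl⟩ := (mem_AA b.toBT).1 ha
  obtain ⟨z, hz, rfl⟩ := (m.mem_rad b.toBT).1 hc
  rw [m.smul_A b.toBT hz.1 hu]
  obtain ⟨h1, h2⟩ := b.cen_W_U hij hz.2 hu
  obtain ⟨x, hx, hf⟩ := b.cen_DW h1 h2
  set y := z * u * z⁻¹ * u⁻¹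
  have h3 : p y = p (x * y) := by
    rw [m.p_mul _ (b.R_le_W i i hx) _ (D_le_W V R i h1), (m.p_ker _ (b.R_le_W i i hx)).2 hx, zero_add]
  rw [h3]
  exact m.p_mem (D_le_W V R i hf.1) hf

/-- `(1 + a)(1 + sas⁻¹) M ≤ e + D1`, `s ∈ T` -/
theorem quadD (b : BTS V R) (τ : TorD V R i j vv t) {a s : HQ (R i)} (ha : a ∈ AA V R i j) (hs : s ∈ TT τ)
    (c : M) : ∃ x ∈ m.sb V, ∃ d ∈ D1 m,
      c + a • c + (s * a * s⁻¹) • c + (a * (s * a * s⁻¹)) • c = x + d := by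
  obtain ⟨u, hu, rfl⟩ := (mem_AA b.toBT).1 ha
  obtain ⟨α, hα, rfl⟩ := (mem_TT τ).1 hs
  obtain ⟨w, hw, rfl⟩ := m.p_surj c
  have hu' := t_norm_U b.toBT τ hα hu
  have hN := U_le_N b.toBT i j hu
  have hN' := U_le_N b.toBT i j hu'
  have ht := τ.normR hα
  have hy := LemN.cm_mem b.toBT hw (UU_le_cen j hu)
  have h1 := m.smul_A b.toBT hw hu
  have h2 := m.smul_A b.toBT hy hu'
  have e1 : pr (R i) ⟨t α, ht⟩ * pr (R i) ⟨u, hN⟩ * (pr (R i) ⟨t α, ht⟩)⁻¹ = pr (R i) ⟨_, hN'⟩ := rfl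
  rw [e1]
  have hA' : pr (R i) ⟨_, hN'⟩ ∈ AA V R i j := (mem_AA b.toBT).2 ⟨_, hu', rfl⟩
  have hc : pr (R i) ⟨u, hN⟩ * pr (R i) ⟨_, hN'⟩ = pr (R i) ⟨_, hN'⟩ * pr (R i) ⟨u, hN⟩ := by
    have k1 := A_sq b.toBT τ.ne (mul_mem ha hA')
    have k2 : (pr (R i) ⟨u, hN⟩ * pr (R i) ⟨_, hN'⟩)⁻¹ = pr (R i) ⟨u, hN⟩ * pr (R i) ⟨_, hN'⟩ :=
      inv_eq_of_mul_eq_one_left k1
    rw [mul_inv_rev, inv_eq_of_mul_eq_one_left (A_sq b.toBT τ.ne ha),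
      inv_eq_of_mul_eq_one_left (A_sq b.toBT τ.ne hA')] at k2
    exact k2.symm
  rw [hc, mul_smul]
  have e2 : p w + pr (R i) ⟨u, hN⟩ • p w + pr (R i) ⟨_, hN'⟩ • p w +
      pr (R i) ⟨_, hN'⟩ • (pr (R i) ⟨u, hN⟩ • p w) =
      (p w + pr (R i) ⟨u, hN⟩ • p w) + pr (R i) ⟨_, hN'⟩ • (p w + pr (R i) ⟨u, hN⟩ • p w) := by
    rw [smul_add]; abel
  rw [e2, h1, h2]
  obtain ⟨h3, y, hy, h4⟩ := N0_T b hw hu (τ.memX α hα) (cj_eq_self_iff.2 (τ.normR hα))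
    (cj_eq_self_iff.2 (τ.normR' hα))
  have hyW := V_le_WW V (R i) hy
  refine ⟨p y⁻¹, m.p_mem (inv_mem hyW) (inv_mem hy), _, m.p_mem (D_le_W V R i h4.1) h4, ?_⟩
  rw [← m.p_mul _ (inv_mem hyW) _ (D_le_W V R i h4.1), inv_mul_cancel_left]

/-- `(1 + a)(1 + sas⁻¹)` vanishes on `U i / R i` -/
theorem quad_U (b : BT V R) (τ : TorD V R i j vv t) {a s : HQ (R i)} (ha : a ∈ AA V R i j) (hs : s ∈ TT τ)
    {c : M} (hc : c ∈ m.sb (UU V R i)) : c + a • c + (s * a * s⁻¹) • c + (a * (s * a * s⁻¹)) • c = 0 := by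
  obtain ⟨u, hu, rfl⟩ := (mem_AA b).1 ha
  obtain ⟨α, hα, rfl⟩ := (mem_TT τ).1 hs
  obtain ⟨w, hwU, hw, rfl⟩ := hc
  have hu' := t_norm_U b τ hα hu
  have hN := U_le_N b i j hu
  have hN' := U_le_N b i j hu'
  have ht := τ.normR hα
  have hy := LemN.cm_mem b hw (UU_le_cen j hu)
  have h1 := m.smul_A b hw hu
  have h2 := m.smul_A b hy hu'
  have e1 : pr (R i) ⟨t α, ht⟩ * pr (R i) ⟨u, hN⟩ * (pr (R i) ⟨t α, ht⟩)⁻¹ = pr (R i) ⟨_, hN'⟩ := rfl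
  rw [e1]
  have hA' : pr (R i) ⟨_, hN'⟩ ∈ AA V R i j := (mem_AA b).2 ⟨_, hu', rfl⟩
  have hcc : pr (R i) ⟨u, hN⟩ * pr (R i) ⟨_, hN'⟩ = pr (R i) ⟨_, hN'⟩ * pr (R i) ⟨u, hN⟩ := by
    have k1 := A_sq b τ.ne (mul_mem ha hA')
    have k2 : (pr (R i) ⟨u, hN⟩ * pr (R i) ⟨_, hN'⟩)⁻¹ = pr (R i) ⟨u, hN⟩ * pr (R i) ⟨_, hN'⟩ :=
      inv_eq_of_mul_eq_one_left k1
    rw [mul_inv_rev, inv_eq_of_mul_eq_one_left (A_sq b τ.ne ha),
      inv_eq_of_mul_eq_one_left (A_sq b τ.ne hA')] at k2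
    exact k2.symm
  rw [hcc, mul_smul]
  have e2 : p w + pr (R i) ⟨u, hN⟩ • p w + pr (R i) ⟨_, hN'⟩ • p w +
      pr (R i) ⟨_, hN'⟩ • (pr (R i) ⟨u, hN⟩ • p w) =
      (p w + pr (R i) ⟨u, hN⟩ • p w) + pr (R i) ⟨_, hN'⟩ • (p w + pr (R i) ⟨u, hN⟩ • p w) := by
    rw [smul_add]; abel
  rw [e2, h1, h2, N0_TU b hwU hu (τ.memX α hα), m.p_one]

/-- `C_M(T) ≤ D / R i` -/
theorem fix_D' (b : BT V R) (τ : TorD V R i j vv t) {β : F} (hβ : β ≠ 0) (hβ2 : 1 + β ≠ 0) {c : M}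
    (h1 : ModQ.tq τ hβ • c = c) (h2 : ModQ.tq τ hβ2 • c = c) : c ∈ m.sb (DD V R) := by
  have key : ∀ {X : Subgroup G} {x : G}, x ∈ WW V (R i) → p x = c →
      t (1 + β) * x * (t (1 + β))⁻¹ * (t 1 * x * (t 1)⁻¹ * (t β * x * (t β)⁻¹))⁻¹ ∈ X → c ∈ m.sb X := by
    intro X x hx e h
    have h3 := m.drop τ hβ hβ2 hx h
    rw [e, h1, h2, m.two_M b, sub_zero] at h3
    exact h3
  obtain ⟨x, hx, e⟩ := m.p_surj c
  obtain ⟨y, hyU, hyW, e'⟩ := key (X := UU V R i) hx e (τ.wW 1 β one_ne_zero hβ hβ2 x hx)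
  exact key hyW e' (τ.wU 1 β one_ne_zero hβ hβ2 y hyU)

theorem fix_D (b : BT V R) (hF : ∃ a : F, a ≠ 0 ∧ a ≠ 1) (τ : TorD V R i j vv t) {c : M}
    (hc : ∀ s ∈ TT τ, s • c = c) : c ∈ m.sb (DD V R) := by
  obtain ⟨β, hβ, hβ1⟩ := hF
  have hβ2 : 1 + β ≠ 0 := by
    intro h
    apply hβ1
    have h1 := eq_neg_of_add_eq_zero_right h
    have h2 : (1 : F) + 1 = 0 := τ.two b 1
    rw [h1, ← eq_neg_of_add_eq_zero_left h2]
  exact fix_D' m b τ hβ hβ2 (hc _ (ModQ.tq_mem τ hβ)) (hc _ (ModQ.tq_mem τ hβ2))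

/-- **LEMMA N'** in `M`: `e ≤ (1 + a) M + rad` -/
theorem lemN [Finite G] [CharP F 2] (b : BTS V R) (hF : ∃ a : F, a ≠ 0 ∧ a ≠ 1) (c : Coord V R i j vv w1 w2)
    (τ : TorD V R i j vv t) (hodd : Odd ((normalizer (V : Set G)).relIndex (normalizer (R i : Set G))))
    {a : HQ (R i)} (ha : a ∈ AA V R i j) (ha1 : a ≠ 1) {x : M} (hx : x ∈ m.sb V) :
    ∃ y : M, ∃ ζ ∈ m.rad, x = y + a • y + ζ := by
  obtain ⟨u, hu, rfl⟩ := (mem_AA b.toBT).1 ha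
  obtain ⟨y, hy, -, rfl⟩ := hx
  have hD : u ∉ DD V R := by
    intro hD
    exact ha1 ((pr_eq_one _).2 ((U_inf_Q b.toBT c.ne hu).2 hD))
  obtain ⟨w, hw, ζ, hζ, e⟩ := LemNS.lemNS b hF c τ hodd hu hD hy
  have hW : w * u * w⁻¹ * u⁻¹ ∈ WW V (R i) := LemN.cm_mem b.toBT hw (UU_le_cen j hu)
  refine ⟨p w, p ζ, (m.mem_rad b.toBT).2 ⟨ζ, hζ, rfl⟩, ?_⟩
  rw [e, m.p_mul _ hW _ hζ.1, m.smul_A b.toBT hw hu]

/-- `e ≠ 0` -/
theorem exists_e (τ : TorD V R i j vv t) : ∃ x ∈ m.sb V, x ≠ 0 := by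
  have hv : vv 0 1 ∈ V := (τ.v_mem _).2 ⟨_, _, rfl⟩
  refine ⟨p (vv 0 1), m.p_mem (V_le_WW V (R i) hv) hv, fun h => ?_⟩
  rw [m.p_ker _ (V_le_WW V (R i) hv)] at h
  obtain ⟨x, hx⟩ := (τ.Ri _).1 h
  have h7 : vv x (0 - 1) = 1 := by
    have h8 := τ.v_add x (0 - 1) 0 1
    rw [add_zero, sub_add_cancel, hx] at h8
    exact right_eq_mul.1 h8
  have h8 := (τ.v_inj _ _ h7).2
  rw [zero_sub, neg_eq_zero] at h8
  exact one_ne_zero h8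

/-- `A` is faithful on `M / rad` -/
theorem faith [Finite G] [CharP F 2] (b : BTS V R) (hF : ∃ a : F, a ≠ 0 ∧ a ≠ 1) (c : Coord V R i j vv w1 w2)
    (τ : TorD V R i j vv t) (hodd : Odd ((normalizer (V : Set G)).relIndex (normalizer (R i : Set G))))
    {a : HQ (R i)} (ha : a ∈ AA V R i j) (h : ∀ x : M, x + a • x ∈ m.rad) : a = 1 := by
  by_contra ha1
  obtain ⟨x, hx, hx0⟩ := exists_e m τ
  obtain ⟨y, ζ, hζ, e⟩ := lemN m b hF c τ hodd ha ha1 hx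
  apply hx0
  refine e_rad m b.toBT hx ?_
  rw [e]
  exact add_mem (h y) hζ

/-! ### `q = 4` -/

/-- `1 + s + s² = 0` on `e`, `s = t ω` -/
theorem T_e_sum (b : BT V R) (τ : TorD V R i j vv t) {ω : F} (hω0 : ω ≠ 0) (hω : ω * ω + ω + 1 = 0) {c : M}
    (hc : c ∈ m.sb V) :
    c + ModQ.tq τ hω0 • c + ModQ.tq τ hω0 • ModQ.tq τ hω0 • c = 0 := by
  have h2 : (1 : F) + 1 = 0 := τ.two b 1
  obtain ⟨x, hx, hxW, rfl⟩ := hc
  obtain ⟨β, γ, rfl⟩ := (τ.v_mem x).1 hx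
  have hvW : ∀ y z, vv y z ∈ WW V (R i) := fun y z => V_le_WW V (R i) ((τ.v_mem _).2 ⟨_, _, rfl⟩)
  rw [m.tq_act τ hω0 (hvW _ _), τ.act _ _ _ hω0, m.tq_act τ hω0 (hvW _ _), τ.act _ _ _ hω0,
    ← m.p_mul _ (hvW _ _) _ (hvW _ _), ← τ.v_add, ← m.p_mul _ (hvW _ _) _ (hvW _ _), ← τ.v_add,
    m.p_ker _ (hvW _ _)]
  have h3 : γ + ω⁻¹ * γ + ω⁻¹ * (ω⁻¹ * γ) = 0 := by
    have h4 : ω * ω * (γ + ω⁻¹ * γ + ω⁻¹ * (ω⁻¹ * γ)) = (ω * ω + ω + 1) * γ := by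
      field_simp
    rw [hω, zero_mul] at h4
    exact (mul_eq_zero.1 h4).resolve_left (mul_ne_zero hω0 hω0)
  rw [h3]
  exact (τ.Ri _).2 ⟨_, rfl⟩

omit m in
/-- `a · aˢ · aˢˢ = 1`, `s = t ω`, `q = 4` -/
theorem A_sum (b : BT V R) (τ : TorD V R i j vv t) {w : F} (hw0 : w ≠ 0) (hw : w * w + w + 1 = 0)
    {a : HQ (R i)} (ha : a ∈ AA V R i j) :
    a * (ModQ.tq τ hw0 * a * (ModQ.tq τ hw0)⁻¹) *
      (ModQ.tq τ hw0 * ModQ.tq τ hw0 * a * (ModQ.tq τ hw0 * ModQ.tq τ hw0)⁻¹) = 1 := by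
  have h2 : (1 : F) + 1 = 0 := τ.two b 1
  have hww : w * w ≠ 0 := mul_ne_zero hw0 hw0
  have hw3 : w * w * w = 1 := by linear_combination (w - 1) * hw
  have hww1 : 1 + w = w * w := by linear_combination hw - (w * w) * h2
  have htN := τ.normR hw0
  have ht2 : t w * t w = t (w * w) := (τ.mul w w hw0 hw0).symm
  have ht3 : t w * t w * t w = 1 := by
    rw [ht2, ← τ.mul _ _ hww hw0, hw3, τ.one]
  obtain ⟨u, hu, rfl⟩ := (mem_AA b).1 ha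
  have h1 := τ.wU' 1 w one_ne_zero hw0 (by rw [hww1]; exact hww) u hu
  have hi1 : (t (w * w))⁻¹ = t w := inv_eq_of_mul_eq_one_left (by rw [← τ.mul _ _ hw0 hww, ← mul_assoc, hw3, τ.one])
  have hi2 : (t w)⁻¹ = t w * t w := inv_eq_of_mul_eq_one_left ht3
  rw [hww1, hi1, τ.one, inv_one, one_mul, mul_one, hi2] at h1
  have hi3 : t (w * w) = (t w)⁻¹ := by rw [← hi1, inv_inv]
  have hi4 : t w = (t w * t w)⁻¹ := by rw [← hi2, inv_inv]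
  have hN := U_le_N b i j hu
  have h3 : u * (t w * u * (t w)⁻¹) * (t w * t w * u * (t w * t w)⁻¹) ∈ DD V R := by
    have k1 := t_norm_U b τ hw0 hu
    have hx : (t w * u * (t w)⁻¹) * (u * (t w * t w * u * (t w * t w)⁻¹))⁻¹ ∈ DD V R := by
      have e : t w * u * (t w)⁻¹ * (u * (t w * t w * u * (t w * t w)⁻¹))⁻¹ =
        t w * u * t (w * w) * (u * (t w * t w * u * t w))⁻¹ := by rw [hi3, ← hi4]
      rw [e]; exact h1
    set x := t w * u * (t w)⁻¹ with hxdef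
    set z := t w * t w * u * (t w * t w)⁻¹ with hz
    have hxU : x ∈ UU V R j := k1
    have hzU : z ∈ UU V R j := by
      have k2 := t_norm_U b τ hww hu
      rwa [← ht2] at k2
    have hY : ∀ {y : G}, y ∈ UU V R j → y ∈ YY V R := fun h => UU_le_YY j h
    have k3 := b.Y_comm (hY hu) (hY hxU)
    have k4 := b.Y_sq (hY (mul_mem hu hzU))
    have e : u * x * z = (u * x * u⁻¹ * x⁻¹) * (x * (u * z)⁻¹) * ((u * z) * (u * z)) := by group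
    rw [e]
    exact mul_mem (mul_mem k3 hx) k4
  have e : pr (R i) ⟨u, hN⟩ * (ModQ.tq τ hw0 * pr (R i) ⟨u, hN⟩ * (ModQ.tq τ hw0)⁻¹) *
      (ModQ.tq τ hw0 * ModQ.tq τ hw0 * pr (R i) ⟨u, hN⟩ *
        (ModQ.tq τ hw0 * ModQ.tq τ hw0)⁻¹) =
      pr (R i) ⟨u * (t w * u * (t w)⁻¹) * (t w * t w * u * (t w * t w)⁻¹),
        b.cen_le_N i (b.D_le_cen h3)⟩ := rfl
  rw [e, pr_eq_one]
  exact b.W_le_Q i (mem_DD.1 h3 i)

omit m in
theorem tq_cube (b : BT V R) (τ : TorD V R i j vv t) {w : F} (hw0 : w ≠ 0) (hw : w * w + w + 1 = 0) :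
    ModQ.tq τ hw0 * ModQ.tq τ hw0 * ModQ.tq τ hw0 = 1 := by
  have _ := b
  have hww : w * w ≠ 0 := mul_ne_zero hw0 hw0
  have hw3 : w * w * w = 1 := by linear_combination (w - 1) * hw
  have ht2 : t w * t w = t (w * w) := (τ.mul w w hw0 hw0).symm
  have ht3 : t w * t w * t w = 1 := by
    rw [ht2, ← τ.mul _ _ hww hw0, hw3, τ.one]
  unfold ModQ.tq
  rw [← map_mul, ← map_mul]
  have e : (⟨t w, τ.normR hw0⟩ * ⟨t w, τ.normR hw0⟩ * ⟨t w, τ.normR hw0⟩ : ↥(normalizer (R i : Set G))) = 1 :=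
    Subtype.ext ht3
  rw [e, map_one]

/-- `tq (1 + ω) = (tq ω)²` -/
theorem tq_one_add (b : BT V R) (τ : TorD V R i j vv t) {w : F} (hw0 : w ≠ 0) (hw : w * w + w + 1 = 0)
    (h : 1 + w ≠ 0) (c : M) : ModQ.tq τ h • c = ModQ.tq τ hw0 • ModQ.tq τ hw0 • c := by
  have _ := m
  have h2 : (1 : F) + 1 = 0 := τ.two b 1
  have hww1 : 1 + w = w * w := by linear_combination hw - (w * w) * h2
  rw [smul_smul]
  congr 1
  unfold ModQ.tq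
  rw [← map_mul]
  congr 1
  apply Subtype.ext
  change t (1 + w) = t w * t w
  rw [hww1, τ.mul w w hw0 hw0]

/-- **#14316 (0')**: `(1 + a)(1 + sas⁻¹) M ≤ e` for `q = 4`, `s = t ω` -/
theorem quad4 (b : BTS V R) (τ : TorD V R i j vv t) {w : F} (hw0 : w ≠ 0) (hw : w * w + w + 1 = 0)
    {a : HQ (R i)} (ha : a ∈ AA V R i j) (c : M) :
    c + a • c + (ModQ.tq τ hw0 * a * (ModQ.tq τ hw0)⁻¹) • c +
      (a * (ModQ.tq τ hw0 * a * (ModQ.tq τ hw0)⁻¹)) • c ∈ m.sb V := by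
  have h2 : (1 : F) + 1 = 0 := τ.two b.toBT 1
  have hww1 : 1 + w = w * w := by linear_combination hw - (w * w) * h2
  have hw1 : 1 + w ≠ 0 := by rw [hww1]; exact mul_ne_zero hw0 hw0
  have hsT := ModQ.tq_mem τ hw0
  have hs3 := tq_cube b.toBT τ hw0 hw
  have hsum := A_sum b.toBT τ hw0 hw ha
  have ha2 := TA_mem b.toBT τ hsT ha
  have haa := A_sq b.toBT τ.ne ha
  have haa2 := A_sq b.toBT τ.ne ha2
  have hone := tq_one_add m b.toBT τ hw0 hw hw1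
  set s := ModQ.tq τ hw0 with hs
  set a₂ := s * a * s⁻¹ with ha₂
  have hcomm : a * a₂ = a₂ * a := by
    have k1 := A_sq b.toBT τ.ne (mul_mem ha ha2)
    have k2 : (a * a₂)⁻¹ = a * a₂ := inv_eq_of_mul_eq_one_left k1
    rw [mul_inv_rev, inv_eq_of_mul_eq_one_left haa, inv_eq_of_mul_eq_one_left haa2] at k2
    exact k2.symm
  -- `s a₂ s⁻¹ = a a₂`
  have h3 : s * a₂ * s⁻¹ = a * a₂ := by
    have e : s * s * a * (s * s)⁻¹ = s * a₂ * s⁻¹ := by rw [ha₂]; group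
    rw [e] at hsum
    have h := eq_inv_of_mul_eq_one_right hsum
    rw [h, mul_inv_rev, inv_eq_of_mul_eq_one_left haa, inv_eq_of_mul_eq_one_left haa2, hcomm]
  have h4 : s * (a * a₂) * s⁻¹ = a := by
    calc s * (a * a₂) * s⁻¹ = (s * a * s⁻¹) * (s * a₂ * s⁻¹) := by group
      _ = a₂ * (a * a₂) := by rw [h3]
      _ = a * (a₂ * a₂) := by rw [← mul_assoc, ← hcomm, mul_assoc]
      _ = a := by rw [haa2, mul_one]
  let θ : M → M := fun x => x + a • x + a₂ • x + (a * a₂) • x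
  have hθadd : ∀ x y, θ (x + y) = θ x + θ y := by
    intro x y
    change (x + y) + a • (x + y) + a₂ • (x + y) + (a * a₂) • (x + y) =
      (x + a • x + a₂ • x + (a * a₂) • x) + (y + a • y + a₂ • y + (a * a₂) • y)
    rw [smul_add, smul_add, smul_add]; abel
  have hcs : ∀ {x y : HQ (R i)}, s * x * s⁻¹ = y → ∀ z : M, s • (x • z) = y • (s • z) := by
    intro x y h z
    rw [smul_smul, smul_smul, ← h, inv_mul_cancel_right]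
  have hθs : ∀ x, s • θ x = θ (s • x) := by
    intro x
    change s • (x + a • x + a₂ • x + (a * a₂) • x) =
      s • x + a • s • x + a₂ • s • x + (a * a₂) • s • x
    rw [smul_add, smul_add, smul_add, hcs ha₂.symm, hcs h3, hcs h4]
    abel
  change θ c ∈ m.sb V
  obtain ⟨x, hx, d, hd, e⟩ := quadD m b τ ha hsT c
  change θ c = x + d at e
  -- the sum over `T`
  have h5 : θ (c + s • c + s • s • c) = 0 := by
    refine quad_U m b.toBT τ ha hsT ?_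
    refine m.sb_mono (b.D_le_U i) ?_
    have hfix : s • (c + s • c + s • s • c) = c + s • c + s • s • c := by
      rw [smul_add, smul_add, smul_smul s s (s • c), smul_smul (s * s) s c, hs3, one_smul]
      abel
    exact fix_D' m b.toBT τ hw0 hw1 hfix (by rw [hone, hfix, hfix])
  have h6 : θ (c + s • c + s • s • c) = θ c + s • θ c + s • s • θ c := by
    rw [hθadd, hθadd, ← hθs, ← hθs, ← hθs]
  have hd1 : s • d = d := T_D1 m τ hsT hd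
  have hx1 := T_e_sum m b.toBT τ hw0 hw hx
  rw [← hs] at hx1
  rw [h6, e, smul_add, hd1, smul_add, hd1] at h5
  have h7 : x + d + (s • x + d) + (s • s • x + d) = (x + s • x + s • s • x) + (d + d) + d := by abel
  rw [h7, hx1, m.two_M b.toBT, add_zero, zero_add] at h5
  rw [e, h5, add_zero]
  exact hx

end Cfsg.Agent.Omega.Lie.ModQS
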