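import Cfsg.Agent.Omega.Lie.TorEx

/-!
# NODE LIE, #10745 (A2): the torus and a Sylow 2-subgroup

`[C(V), X] ≤ Y`; `S⁰ = P₀ W i` is `T`-invariant for every `P₀` with `Y ≤ P₀ ≤ C(V)`; every 2-subgroup of
`C(R i) ∩ N(V)` containing `W i` is of this shape; `[S⁰, T] ≤ Y W i`; `U j = [U j, t] D`.
-/

set_option autoImplicit false
set_option linter.unusedSectionVars false

namespace Cfsg.Agent.Omega.Lie

open Subgroup Cfsg.Agent.Omega.BTwo

universe u v w

variable {G : Type u} [Group G] {ι : Type w} {V : Subgroup G} {R : ι → Subgroup G}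

theorem NV_le_NC (V : Subgroup G) :
    normalizer (V : Set G) ≤ normalizer (centralizer (V : Set G) : Set G) := by
  intro g hg
  rw [← cj_eq_self_iff, ← centralizer_cj, cj_eq_self_iff.2 hg]

section cen

variable (b : BT V R)
include b

/-- `[C(V), W i] ≤ U i` -/
theorem cen_V_W {i : ι} {g w : G} (hg : g ∈ centralizer (V : Set G)) (hw : w ∈ WW V (R i)) :
    g * w * g⁻¹ * w⁻¹ ∈ UU V R i := by
  refine mem_inf.2 ⟨mul_mem (conj_mem_of_normalizer (b.cen_le_NW i hg) hw) (inv_mem hw), ?_⟩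
  have e : g * w * g⁻¹ * w⁻¹ = g * (w * g⁻¹ * w⁻¹) := by group
  rw [e]
  exact mul_mem hg (conj_mem_of_normalizer (NV_le_NC V (b.W_le_NV i hw)) (inv_mem hg))

/-- `[C(V), X] ≤ Y` -/
theorem cen_V_X {g x : G} (hg : g ∈ centralizer (V : Set G)) (hx : x ∈ XX V R) :
    g * x * g⁻¹ * x⁻¹ ∈ YY V R := by
  let T : Subgroup G :=
    { carrier := {x | x ∈ normalizer (V : Set G) ∧ ∀ g ∈ centralizer (V : Set G), g * x * g⁻¹ * x⁻¹ ∈ YY V R}
      one_mem' := ⟨one_mem _, fun g _ => by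
        have : g * 1 * g⁻¹ * 1⁻¹ = 1 := by group
        rw [this]; exact one_mem _⟩
      mul_mem' := by
        rintro x y ⟨hx, hx'⟩ ⟨hy, hy'⟩
        refine ⟨mul_mem hx hy, fun g hg => ?_⟩
        have e : g * (x * y) * g⁻¹ * (x * y)⁻¹ =
            (g * x * g⁻¹ * x⁻¹) * (x * (g * y * g⁻¹ * y⁻¹) * x⁻¹) := by group
        rw [e]
        exact mul_mem (hx' g hg) (conj_mem_of_normalizer (b.NV_le_NY hx) (hy' g hg))
      inv_mem' := by
        rintro x ⟨hx, hx'⟩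
        refine ⟨inv_mem hx, fun g hg => ?_⟩
        have e : g * x⁻¹ * g⁻¹ * x⁻¹⁻¹ = x⁻¹ * (g * x * g⁻¹ * x⁻¹)⁻¹ * x := by group
        rw [e]
        exact conj_inv_mem_of_normalizer (b.NV_le_NY hx) (inv_mem (hx' g hg)) }
  have hT : XX V R ≤ T := iSup_le fun i w hw =>
    ⟨b.W_le_NV i hw, fun g hg => UU_le_YY i (cen_V_W b hg hw)⟩
  exact (hT hx).2 g hg

/-- `X` normalises every subgroup between `Y` and `C(V)` -/
theorem X_le_N {P : Subgroup G} (hP : P ≤ centralizer (V : Set G)) (hY : YY V R ≤ P) :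
    XX V R ≤ normalizer (P : Set G) := by
  have key : ∀ x ∈ XX V R, ∀ p ∈ P, x * p * x⁻¹ ∈ P := by
    intro x hx p hp
    have e : x * p * x⁻¹ = (p * x * p⁻¹ * x⁻¹)⁻¹ * p := by group
    rw [e]
    exact mul_mem (inv_mem (hY (cen_V_X b (hP hp) hx))) hp
  intro x hx
  rw [mem_normalizer_iff]
  intro p
  refine ⟨key x hx p, fun h => ?_⟩
  have := key x⁻¹ (inv_mem hx) _ h
  rwa [show x⁻¹ * (x * p * x⁻¹) * x⁻¹⁻¹ = p by group] at this

/-- `S⁰ = P₀ W i` is normalised by `N_X(R i)` -/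
theorem X_norm_sup {P : Subgroup G} (hP : P ≤ centralizer (V : Set G)) (hY : YY V R ≤ P) (i : ι) {x : G}
    (hx : x ∈ XX V R) (hR : x ∈ normalizer (R i : Set G)) :
    x ∈ normalizer ((P ⊔ WW V (R i) : Subgroup G) : Set G) := by
  rw [← cj_eq_self_iff, cj_sup, cj_eq_self_iff.2 (X_le_N b hP hY hx),
    cj_eq_self_iff.2 (normalizer_le_WW V (R i) hR)]

/-- `[C(V) W i, N_X(R i)] ≤ Y W i` -/
theorem comm_X_sup (i : ι) {s x : G} (hs : s ∈ centralizer (V : Set G) ⊔ WW V (R i))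
    (hx : x ∈ XX V R) (hR : x ∈ normalizer (R i : Set G)) :
    s * x * s⁻¹ * x⁻¹ ∈ YY V R ⊔ WW V (R i) := by
  have hY : (YY V R : Subgroup G) ≤ YY V R ⊔ WW V (R i) := le_sup_left
  have hW : (WW V (R i) : Subgroup G) ≤ YY V R ⊔ WW V (R i) := le_sup_right
  let T : Subgroup G :=
    { carrier := {s | s ∈ normalizer ((YY V R ⊔ WW V (R i) : Subgroup G) : Set G) ∧
        s * x * s⁻¹ * x⁻¹ ∈ YY V R ⊔ WW V (R i)}
      one_mem' := ⟨one_mem _, by
        have : 1 * x * 1⁻¹ * x⁻¹ = 1 := by group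
        rw [this]; exact one_mem _⟩
      mul_mem' := by
        rintro s s' ⟨hs, hs'⟩ ⟨ht, ht'⟩
        refine ⟨mul_mem hs ht, ?_⟩
        have e : (s * s') * x * (s * s')⁻¹ * x⁻¹ =
            (s * (s' * x * s'⁻¹ * x⁻¹) * s⁻¹) * (s * x * s⁻¹ * x⁻¹) := by group
        rw [e]
        exact mul_mem (conj_mem_of_normalizer hs ht') hs'
      inv_mem' := by
        rintro s ⟨hs, hs'⟩
        refine ⟨inv_mem hs, ?_⟩
        have e : s⁻¹ * x * s⁻¹⁻¹ * x⁻¹ = s⁻¹ * (s * x * s⁻¹ * x⁻¹)⁻¹ * s := by group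
        rw [e]
        exact conj_inv_mem_of_normalizer hs (inv_mem hs') }
  have hN : centralizer (V : Set G) ≤ normalizer ((YY V R ⊔ WW V (R i) : Subgroup G) : Set G) := by
    intro g hg
    rw [← cj_eq_self_iff, cj_sup, cj_eq_self_iff.2 (b.NV_le_NY (cen_le_NV V hg)),
      cj_eq_self_iff.2 (b.cen_le_NW i hg)]
  have hT : centralizer (V : Set G) ⊔ WW V (R i) ≤ T := by
    refine sup_le (fun g hg => ⟨hN hg, hY (cen_V_X b hg hx)⟩) (fun g hg => ⟨?_, hW ?_⟩)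
    · exact le_normalizer (hW hg)
    · have e : g * x * g⁻¹ * x⁻¹ = g * (x * g⁻¹ * x⁻¹) := by group
      rw [e]
      exact mul_mem hg (conj_mem_of_normalizer (normalizer_le_WW V (R i) hR) (inv_mem hg))
  exact (hT hs).2

/-- `Y W i = U j W i` -/
theorem Y_sup_W {i j : ι} (hij : i ≠ j) : YY V R ⊔ WW V (R i) = UU V R j ⊔ WW V (R i) := by
  rw [b.Y_eq hij, sup_comm (UU V R i), sup_assoc, sup_eq_right.2 (UU_le_WW i)]

end cen

section fact

variable {F : Type v} [Field F] {i j : ι} {v : F → F → G} {w1 w2 : F → G}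

theorem Crd.two (b : BT V R) (C : Crd V R i j v w1 w2) (a : F) : a + a = 0 := by
  have h : v (a + a) 0 = 1 := by
    have h1 := C.v_add a 0 a 0
    rw [add_zero] at h1
    rw [h1]
    exact b.V_sq _ ((C.v_mem _).2 ⟨_, _, rfl⟩)
  exact (C.v_inj _ _ h).1

/-- every 2-subgroup of `C(R i) ∩ N(V)` containing `W i` is `(P ∩ C(V)) W i` -/
theorem cen_fact (b : BT V R) (C : Crd V R i j v w1 w2) {P : Subgroup G} (hP : IsPGroup 2 P)
    (hPV : P ≤ normalizer (V : Set G)) (hPR : P ≤ centralizer (R i : Set G)) (hW : WW V (R i) ≤ P) {g : G}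
    (hg : g ∈ P) : ∃ w ∈ WW V (R i), w * g ∈ centralizer (V : Set G) := by
  -- choose `w` such that `w g` fixes `R j`
  obtain ⟨k, hk⟩ := b.perm g (hPV hg) j
  have hgi : cj g (R i) = R i := by
    rw [cj_eq_self_iff]
    exact centralizer_le_normalizer _ (hPR hg)
  have hki : k ≠ i := by
    rintro rfl
    exact C.ne (b.R_index (cj_injective (hgi.trans hk.symm)))
  obtain ⟨w, hw, ew⟩ := b.trans i hki C.ne.symm
  refine ⟨w, hw, ?_⟩
  set h := w * g with hh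
  have hhP : h ∈ P := mul_mem (hW hw) hg
  have hhj : cj h (R j) = R j := by rw [hh, cj_mul, hk, ew]
  have hhi : cj h (R i) = R i := by
    rw [cj_eq_self_iff]
    exact centralizer_le_normalizer _ (hPR hhP)
  -- `h` centralises `R i`
  have h1 : ∀ c, h * v c 0 * h⁻¹ = v c 0 := by
    intro c
    rw [mul_inv_eq_iff_eq_mul]
    exact (mem_centralizer_iff.1 (hPR hhP) (v c 0) ((C.Ri _).2 ⟨c, rfl⟩)).symm
  -- `h` on `R j`
  have h2 : ∀ c, ∃ c', h * v 0 c * h⁻¹ = v 0 c' := by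
    intro c
    have h3 : h * v 0 c * h⁻¹ ∈ R j := by
      rw [← hhj]
      exact conj_mem_cj ((C.Rj _).2 ⟨c, rfl⟩)
    obtain ⟨c', hc'⟩ := (C.Rj _).1 h3
    exact ⟨c', hc'.symm⟩
  choose φ hφ using h2
  -- the third point
  have h3 : ∃ μ : F, ∀ c, c = μ * φ c := by
    obtain ⟨m, hm⟩ := b.perm (w1 1) (b.W_le_NV i (C.W1 1)) j
    have hmi : m ≠ i := by
      rintro rfl
      exact C.ne (b.R_index (cj_injective ((cj_eq_self_iff.2 (b.W_le_N _ (C.W1 1))).trans hm.symm)))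
    obtain ⟨m', hm'⟩ := b.perm h (hPV hhP) m
    have hmi' : m' ≠ i := by
      rintro rfl
      exact hmi (b.R_index (cj_injective (hm'.trans hhi.symm)))
    obtain ⟨w', hw', ew'⟩ := b.trans i C.ne.symm hmi'
    obtain ⟨μ, hμ⟩ := C.f1 w' hw'
    refine ⟨μ, fun c => ?_⟩
    have h4 : h * v c c * h⁻¹ ∈ R m' := by
      rw [← hm', ← hm]
      refine conj_mem_cj ?_
      have h5 := conj_mem_cj (g := w1 1) ((C.Rj _).2 ⟨c, rfl⟩ : v 0 c ∈ R j)
      rw [C.a1, zero_add, one_mul] at h5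
      exact h5
    rw [← ew'] at h4
    obtain ⟨x, hx, ex⟩ := h4
    obtain ⟨c', rfl⟩ := (C.Rj _).1 hx
    have h5 : w' * v 0 c' * w'⁻¹ = h * v c c * h⁻¹ := ex
    have h6 : h * v c c * h⁻¹ = v c (φ c) := by
      have h7 := C.v_add c 0 0 c
      rw [add_zero, zero_add] at h7
      have h8 := C.v_add c 0 0 (φ c)
      rw [add_zero, zero_add] at h8
      rw [h8, ← h1 c, ← hφ c, h7]
      group
    rw [hμ, h6] at h5
    obtain ⟨e1, e2⟩ := C.eq_of h5
    rw [zero_add, e2] at e1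
    exact e1.symm
  obtain ⟨μ, hμ⟩ := h3
  have hμ0 : μ ≠ 0 := by
    rintro rfl
    have := hμ 1
    rw [zero_mul] at this
    exact one_ne_zero this
  have hφ' : ∀ c, φ c = μ⁻¹ * c := by
    intro c
    nth_rw 2 [hμ c]
    rw [inv_mul_cancel_left₀ hμ0]
  have hpow : ∀ n : ℕ, ∀ c, h ^ n * v 0 c * (h ^ n)⁻¹ = v 0 (μ⁻¹ ^ n * c) := by
    intro n
    induction n with
    | zero => intro c; simp
    | succ n ih =>
      intro c
      calc h ^ (n + 1) * v 0 c * (h ^ (n + 1))⁻¹ = h ^ n * (h * v 0 c * h⁻¹) * (h ^ n)⁻¹ := by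
            rw [pow_succ]; group
        _ = v 0 (μ⁻¹ ^ (n + 1) * c) := by
          rw [hφ, hφ', ih]
          congr 1
          ring
  obtain ⟨n, hn⟩ := hP ⟨h, hhP⟩
  have hn' : h ^ 2 ^ n = 1 := congrArg Subtype.val hn
  have h4 : μ⁻¹ ^ 2 ^ n = 1 := by
    have h5 := hpow (2 ^ n) 1
    rw [hn', one_mul, inv_one, mul_one, mul_one] at h5
    exact (C.eq_of h5).2.symm
  have h5 : μ⁻¹ = 1 := by
    have hc : CharP F 2 := CharTwo.of_one_ne_zero_of_two_eq_zero one_ne_zero (by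
      have := Crd.two b C (1 : F)
      rw [← this]; norm_num)
    have h6 : (μ⁻¹ - 1) ^ 2 ^ n = 0 := by
      rw [sub_pow_char_pow, h4, one_pow, sub_self]
    exact sub_eq_zero.1 (pow_eq_zero_iff (by positivity) |>.1 h6)
  refine C.mem_cen fun b' c => ?_
  have h7 := C.v_add b' 0 0 c
  rw [add_zero, zero_add] at h7
  calc h * v b' c * h⁻¹ = (h * v b' 0 * h⁻¹) * (h * v 0 c * h⁻¹) := by rw [h7]; group
    _ = v b' c := by
      rw [h1, hφ, hφ', h5, one_mul, ← h7]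

end fact

section tor

variable {F : Type v} [Field F] {i j : ι} {v : F → F → G} {t : F → G}

theorem TorD.two (b : BT V R) (τ : TorD V R i j v t) (a : F) : a + a = 0 := by
  have h : v (a + a) 0 = 1 := by
    have h1 := τ.v_add a 0 a 0
    rw [add_zero] at h1
    rw [h1]
    exact b.V_sq _ ((τ.v_mem _).2 ⟨_, _, rfl⟩)
  exact (τ.v_inj _ _ h).1

/-- fixed points of `t a` on `U j / D` -/
theorem TorD.fpf_U' (b : BT V R) (τ : TorD V R i j v t) {a : F} (ha : a ≠ 0) (ha1 : a ≠ 1) {u : G}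
    (hu : u ∈ UU V R j) (h : (t a)⁻¹ * u * t a * u⁻¹ ∈ DD V R) : u ∈ DD V R := by
  have hac : a + 1 ≠ 0 := by
    intro h0
    apply ha1
    have h2 := TorD.two b τ (1 : F)
    exact add_right_cancel (h0.trans h2.symm)
  have h1 := τ.wU' a 1 ha one_ne_zero hac u hu
  rw [τ.one, inv_one, one_mul, mul_one] at h1
  have hD : ∀ a, a ≠ 0 → t a ∈ normalizer (DD V R : Set G) := fun a ha =>
    b.NV_le_ND (b.X_le_NV (τ.memX a ha))
  -- `(t a)⁻¹ u (t a) u ∈ D`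
  have h2 : (t a)⁻¹ * u * t a * u ∈ DD V R := by
    have e : (t a)⁻¹ * u * t a * u = ((t a)⁻¹ * u * t a * u⁻¹) * (u * u) := by group
    rw [e]
    exact mul_mem h (b.Y_sq (UU_le_YY j hu))
  have h3 : (t (a + 1))⁻¹ * u * t (a + 1) ∈ DD V R := by
    have e : (t (a + 1))⁻¹ * u * t (a + 1) = ((t (a + 1))⁻¹ * u * t (a + 1) * ((t a)⁻¹ * u * t a * u)⁻¹) *
      ((t a)⁻¹ * u * t a * u) := by group
    rw [e]
    exact mul_mem h1 h2
  have h4 := conj_mem_of_normalizer (hD _ hac) h3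
  rwa [show t (a + 1) * ((t (a + 1))⁻¹ * u * t (a + 1)) * (t (a + 1))⁻¹ = u by group] at h4

/-- `U j = [U j, t a] D` -/
theorem TorD.exists_comm (b : BT V R) (τ : TorD V R i j v t) {a : F} (ha : a ≠ 0) (ha1 : a ≠ 1) {u : G}
    (hu : u ∈ UU V R j) : ∃ u' ∈ UU V R j, u * (t a * u' * (t a)⁻¹ * u'⁻¹)⁻¹ ∈ DD V R := by
  have htwo := TorD.two b τ
  have hac : a + 1 ≠ 0 := by
    intro h0
    exact ha1 (add_right_cancel (h0.trans (htwo 1).symm))
  -- `β = a / (a + 1)`, `1 + β = (a + 1)⁻¹`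
  set β := a * (a + 1)⁻¹ with hβ
  have hβ0 : β ≠ 0 := mul_ne_zero ha (inv_ne_zero hac)
  have hβ1 : β + 1 = (a + 1)⁻¹ := by
    rw [hβ]
    field_simp
    linear_combination htwo a
  have hN : ∀ a, a ≠ 0 → t a ∈ normalizer (UU V R j : Set G) := by
    intro a ha
    rw [← cj_eq_self_iff]
    exact b.cj_UU (b.X_le_NV (τ.memX a ha)) (cj_eq_self_iff.2 (τ.normR' ha))
  have h1 := τ.wU' β 1 hβ0 one_ne_zero (by rw [hβ1]; exact inv_ne_zero hac) u hu
  rw [τ.one, inv_one, one_mul, mul_one, hβ1, τ.inv hac, inv_inv] at h1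
  refine ⟨(t β)⁻¹ * u * t β, conj_inv_mem_of_normalizer (hN β hβ0) hu, ?_⟩
  have h2 : t a * (t β)⁻¹ = t (a + 1) := by
    rw [← τ.inv hβ0, ← τ.mul a _ ha (inv_ne_zero hβ0)]
    congr 1
    rw [hβ]
    field_simp
  have e : u * (t a * ((t β)⁻¹ * u * t β) * (t a)⁻¹ * ((t β)⁻¹ * u * t β)⁻¹)⁻¹ =
      u * (((t β)⁻¹ * u * t β) * ((t a * (t β)⁻¹) * u * (t a * (t β)⁻¹)⁻¹)⁻¹) := by group
  rw [e, h2]
  set u' := (t β)⁻¹ * u * t β with hu'
  set z := t (a + 1) * u * (t (a + 1))⁻¹ with hz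
  have hu'U : u' ∈ UU V R j := conj_inv_mem_of_normalizer (hN β hβ0) hu
  -- `h1 : z * (u' * u)⁻¹ ∈ D`
  have e2 : u * (u' * z⁻¹) = (u * u' * u⁻¹ * u'⁻¹) * (z * (u' * u)⁻¹)⁻¹ := by group
  rw [e2]
  exact mul_mem (b.Y_comm (UU_le_YY j hu) (UU_le_YY j hu'U)) (inv_mem h1)

end tor

end Cfsg.Agent.Omega.Lie
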