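import Cfsg.Agent.Omega.Lie.TorD
import Cfsg.Agent.Omega.BTwo.QuadMod

/-!
# NODE LIE: existence of the torus (#10745 (A2), #11263 (0))

From `BT` + coordinates of `V` + `Y/D = N ⊗ M` (`YMod`): every element of `X` acts on `V` and on `Y/D` by the
same matrix (`Mat`); hence `C_X(V)` is a 2-group and `X` contains a torus of order `q - 1`.
-/

set_option autoImplicit false
set_option linter.unusedSectionVars false

namespace Cfsg.Agent.Omega.Lie

open Subgroup Cfsg.Agent.Omega.BTwo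

universe u v w

variable {G : Type u} [Group G] {ι : Type w} {F : Type v} [Field F]

/-- coordinates on `V` adapted to the points `R i`, `R j`, with root elements `w1 a ∈ W i`, `w2 a ∈ W j` -/
structure Crd (V : Subgroup G) (R : ι → Subgroup G) (i j : ι) (v : F → F → G) (w1 w2 : F → G) : Prop where
  ne : i ≠ j
  v_add : ∀ b c b' c', v (b + b') (c + c') = v b c * v b' c'
  v_inj : ∀ b c, v b c = 1 → b = 0 ∧ c = 0
  v_mem : ∀ g, g ∈ V ↔ ∃ b c, v b c = g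
  Ri : ∀ g, g ∈ R i ↔ ∃ b, v b 0 = g
  Rj : ∀ g, g ∈ R j ↔ ∃ c, v 0 c = g
  W1 : ∀ a, w1 a ∈ WW V (R i)
  W2 : ∀ a, w2 a ∈ WW V (R j)
  a1 : ∀ a b c, w1 a * v b c * (w1 a)⁻¹ = v (b + a * c) c
  a2 : ∀ a b c, w2 a * v b c * (w2 a)⁻¹ = v b (c + a * b)
  f1 : ∀ w ∈ WW V (R i), ∃ a, ∀ b c, w * v b c * w⁻¹ = v (b + a * c) c
  f2 : ∀ w ∈ WW V (R j), ∃ a, ∀ b c, w * v b c * w⁻¹ = v b (c + a * b)

namespace Crd

variable {V : Subgroup G} {R : ι → Subgroup G} {i j : ι} {v : F → F → G} {w1 w2 : F → G}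

theorem eq_of (C : Crd V R i j v w1 w2) {b c b' c' : F} (h : v b c = v b' c') : b = b' ∧ c = c' := by
  have h1 := C.v_add (b - b') (c - c') b' c'
  rw [sub_add_cancel, sub_add_cancel, h] at h1
  obtain ⟨h2, h3⟩ := C.v_inj _ _ (right_eq_mul.mp h1)
  exact ⟨sub_eq_zero.1 h2, sub_eq_zero.1 h3⟩

theorem swap (C : Crd V R i j v w1 w2) : Crd V R j i (fun b c => v c b) w2 w1 where
  ne := C.ne.symm
  v_add b c b' c' := C.v_add c b c' b'
  v_inj b c h := (C.v_inj c b h).symm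
  v_mem g := by
    rw [C.v_mem]
    exact ⟨fun ⟨b, c, h⟩ => ⟨c, b, h⟩, fun ⟨b, c, h⟩ => ⟨c, b, h⟩⟩
  Ri := C.Rj
  Rj := C.Ri
  W1 := C.W2
  W2 := C.W1
  a1 a b c := C.a2 a c b
  a2 a b c := C.a1 a c b
  f1 w hw := by
    obtain ⟨a, ha⟩ := C.f2 w hw
    exact ⟨a, fun b c => ha c b⟩
  f2 w hw := by
    obtain ⟨a, ha⟩ := C.f1 w hw
    exact ⟨a, fun b c => ha c b⟩

/-- an element acting trivially in coordinates centralises `V` -/
theorem mem_cen (C : Crd V R i j v w1 w2) {g : G} (h : ∀ b c, g * v b c * g⁻¹ = v b c) :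
    g ∈ centralizer (V : Set G) := by
  rw [mem_centralizer_iff]
  intro x hx
  obtain ⟨b, c, rfl⟩ := (C.v_mem x).1 hx
  exact (mul_inv_eq_iff_eq_mul.1 (h b c)).symm

theorem of_mem_cen (C : Crd V R i j v w1 w2) {g : G} (h : g ∈ centralizer (V : Set G)) (b c : F) :
    g * v b c * g⁻¹ = v b c := by
  rw [mul_inv_eq_iff_eq_mul]
  exact (mem_centralizer_iff.1 h (v b c) ((C.v_mem _).2 ⟨b, c, rfl⟩)).symm

/-- `W i = {w1 a} U i` -/
theorem fact (C : Crd V R i j v w1 w2) {w : G} (hw : w ∈ WW V (R i)) :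
    ∃ a, ∃ k ∈ UU V R i, w = w1 a * k := by
  obtain ⟨a, ha⟩ := C.f1 w hw
  refine ⟨a, (w1 a)⁻¹ * w, ?_, by group⟩
  refine mem_inf.2 ⟨mul_mem (inv_mem (C.W1 a)) hw, C.mem_cen fun b c => ?_⟩
  have e1 : (w1 a)⁻¹ * v (b + a * c) c * w1 a = v b c := by
    rw [← C.a1 a b c]
    group
  calc (w1 a)⁻¹ * w * v b c * ((w1 a)⁻¹ * w)⁻¹ = (w1 a)⁻¹ * (w * v b c * w⁻¹) * w1 a := by group
    _ = v b c := by rw [ha, e1]

end Crd

/-! ### coordinates of `Y/D` -/

section rep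

variable {V : Subgroup G} {R : ι → Subgroup G} {i j : ι} {v : F → F → G} {w1 w2 : F → G}
  {M : Type u} [AddCommGroup M] [Module F M] {p1 p2 : G → M}

/-- `y ∈ Y` has the coordinates `(m, n)` modulo `D` -/
def Rep (D U1 U2 : Subgroup G) (p1 p2 : G → M) (y : G) (m n : M) : Prop :=
  ∃ u1 ∈ U1, ∃ u2 ∈ U2, y * (u1 * u2)⁻¹ ∈ D ∧ p1 u1 = m ∧ p2 u2 = n

variable (b : BT V R) (C : Crd V R i j v w1 w2)
  (y : YMod (DD V R) (UU V R i) (UU V R j) w1 w2 M p1 p2)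

theorem _root_.Cfsg.Agent.Omega.BTwo.YMod.swap {D U1 U2 : Subgroup G}
    (y : YMod D U1 U2 w1 w2 M p1 p2) : YMod D U2 U1 w2 w1 M p2 p1 :=
  ⟨y.mul2, y.mul1, y.ker2, y.ker1, y.surj2, y.surj1, y.act21, y.act12⟩

include b in
theorem conjD {g x : G} (hg : g ∈ normalizer (V : Set G)) (hx : x ∈ DD V R) : g * x * g⁻¹ ∈ DD V R :=
  conj_mem_of_normalizer (b.NV_le_ND hg) hx

include b C y in
/-- equality of first coordinates, modulo `D` -/
theorem p1_eq {a c : G} (ha : a ∈ UU V R i) (hc : c ∈ UU V R i) (h : a * c⁻¹ ∈ DD V R) : p1 a = p1 c := by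
  have h1 : a = (a * c⁻¹) * c := by group
  rw [h1, y.mul1 _ (b.D_le_U i h) _ hc, (y.ker1 _ (b.D_le_U i h)).2 h, zero_add]

include b C y in
theorem p1_conj {g u' : G} (hg : g ∈ WW V (R i)) (hu : u' ∈ UU V R i) : p1 (g * u' * g⁻¹) = p1 u' := by
  have h1 : g * u' * g⁻¹ ∈ UU V R i := by
    have e : g * u' * g⁻¹ = g * u' * g⁻¹ * u'⁻¹ * u' := by group
    rw [e]
    exact mul_mem (b.R_le_U i (b.WU hg hu)) hu
  refine p1_eq b C y h1 hu ?_
  have e : g * u' * g⁻¹ * u'⁻¹ ∈ R i := b.WU hg hu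
  exact V_le_D V R (b.R_le i e)

include b C in
theorem rep_swap {x : G} {m n : M} (h : Rep (DD V R) (UU V R i) (UU V R j) p1 p2 x m n) :
    Rep (DD V R) (UU V R j) (UU V R i) p2 p1 x n m := by
  obtain ⟨u1, h1, u2, h2, h3, h4, h5⟩ := h
  refine ⟨u2, h2, u1, h1, ?_, h5, h4⟩
  have e : x * (u2 * u1)⁻¹ = x * (u1 * u2)⁻¹ * (u1 * u2 * u1⁻¹ * u2⁻¹) := by group
  rw [e]
  exact mul_mem h3 (b.UU_comm C.ne h1 h2)

include b C y in
theorem rep_unique {x : G} {m n m' n' : M} (h : Rep (DD V R) (UU V R i) (UU V R j) p1 p2 x m n)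
    (h' : Rep (DD V R) (UU V R i) (UU V R j) p1 p2 x m' n') : m = m' ∧ n = n' := by
  have key : ∀ {i j : ι} {v : F → F → G} {w1 w2 : F → G} {p1 p2 : G → M},
      Crd V R i j v w1 w2 → YMod (DD V R) (UU V R i) (UU V R j) w1 w2 M p1 p2 → ∀ {x : G} {m n m' n' : M},
      Rep (DD V R) (UU V R i) (UU V R j) p1 p2 x m n → Rep (DD V R) (UU V R i) (UU V R j) p1 p2 x m' n' →
      m = m' := by
    intro i j v w1 w2 p1 p2 C y x m n m' n' h h'
    obtain ⟨u1, h1, u2, h2, h3, rfl, h5⟩ := h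
    obtain ⟨u1', h1', u2', h2', h3', rfl, h5'⟩ := h'
    have hd : (u1' * u2') * (u1 * u2)⁻¹ ∈ DD V R := by
      have e : (u1' * u2') * (u1 * u2)⁻¹ = (x * (u1' * u2')⁻¹)⁻¹ * (x * (u1 * u2)⁻¹) := by group
      rw [e]
      exact mul_mem (inv_mem h3') h3
    -- `u1⁻¹ u1' ∈ U j`
    have hx : u1' * u1⁻¹ ∈ UU V R j := by
      have e : u1' * u1⁻¹ = ((u1' * u2') * (u1 * u2)⁻¹) * (u1 * (u2 * u2'⁻¹) * u1⁻¹) := by group
      rw [e]
      exact mul_mem (b.D_le_U j hd) (conj_mem_of_normalizer (b.cen_le_NU j (UU_le_cen i h1))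
        (mul_mem h2 (inv_mem h2')))
    have hxi : u1' * u1⁻¹ ∈ UU V R i := mul_mem h1' (inv_mem h1)
    have hxD : u1' * u1⁻¹ ∈ DD V R := by
      rw [← b.UU_inf C.ne]
      exact mem_inf.2 ⟨hxi, hx⟩
    exact (p1_eq b C y h1' h1 hxD).symm
  exact ⟨key C y h h', key C.swap y.swap (rep_swap b C h) (rep_swap b C h')⟩

include b C in
theorem rep_U {x : G} (hx : x ∈ UU V R i) : Rep (DD V R) (UU V R i) (UU V R j) p1 p2 x (p1 x) (p2 1) :=
  ⟨x, hx, 1, one_mem _, by rw [mul_one, mul_inv_cancel]; exact one_mem _, rfl, rfl⟩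

theorem p2_one {D U1 U2 : Subgroup G} (y : YMod D U1 U2 w1 w2 M p1 p2) : p2 1 = 0 := by
  have := y.mul2 1 (one_mem _) 1 (one_mem _)
  rw [mul_one] at this
  exact left_eq_add.1 this

theorem p1_one {D U1 U2 : Subgroup G} (y : YMod D U1 U2 w1 w2 M p1 p2) : p1 1 = 0 := p2_one y.swap

include b C y in
theorem rep_mul {x x' : G} {m n m' n' : M} (h : Rep (DD V R) (UU V R i) (UU V R j) p1 p2 x m n)
    (h' : Rep (DD V R) (UU V R i) (UU V R j) p1 p2 x' m' n') :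
    Rep (DD V R) (UU V R i) (UU V R j) p1 p2 (x * x') (m + m') (n + n') := by
  obtain ⟨u1, h1, u2, h2, h3, rfl, rfl⟩ := h
  obtain ⟨u1', h1', u2', h2', h3', rfl, rfl⟩ := h'
  refine ⟨u1 * u1', mul_mem h1 h1', u2 * u2', mul_mem h2 h2', ?_, y.mul1 _ h1 _ h1', y.mul2 _ h2 _ h2'⟩
  have hN : u1 * u2 ∈ normalizer (DD V R : Set G) :=
    mul_mem (b.Y_le_ND (UU_le_YY i h1)) (b.Y_le_ND (UU_le_YY j h2))
  have e : x * x' * (u1 * u1' * (u2 * u2'))⁻¹ =
      (x * (u1 * u2)⁻¹) * ((u1 * u2) * (x' * (u1' * u2')⁻¹) * (u1 * u2)⁻¹) *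
        (u1 * (u2 * u1' * u2⁻¹ * u1'⁻¹) * u1⁻¹) * ((u1 * u1' * u2 * u2') * (u1 * u1' * (u2 * u2'))⁻¹) := by
    group
  rw [e]
  refine mul_mem (mul_mem (mul_mem h3 (conj_mem_of_normalizer hN h3')) ?_) ?_
  · refine conj_mem_of_normalizer (b.Y_le_ND (UU_le_YY i h1)) ?_
    exact b.UU_comm C.ne.symm h2 h1'
  · have e2 : (u1 * u1' * u2 * u2') * (u1 * u1' * (u2 * u2'))⁻¹ = 1 := by group
    rw [e2]
    exact one_mem _

include b C y in
theorem rep_inv {x : G} {m n : M} (h : Rep (DD V R) (UU V R i) (UU V R j) p1 p2 x m n) :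
    Rep (DD V R) (UU V R i) (UU V R j) p1 p2 x⁻¹ (-m) (-n) := by
  obtain ⟨u1, h1, u2, h2, h3, rfl, rfl⟩ := h
  refine ⟨u1⁻¹, inv_mem h1, u2⁻¹, inv_mem h2, ?_, ?_, ?_⟩
  · have hN : u1 * u2 ∈ normalizer (DD V R : Set G) :=
      mul_mem (b.Y_le_ND (UU_le_YY i h1)) (b.Y_le_ND (UU_le_YY j h2))
    have e : x⁻¹ * (u1⁻¹ * u2⁻¹)⁻¹ =
        ((u1 * u2)⁻¹ * (x * (u1 * u2)⁻¹)⁻¹ * ((u1 * u2)⁻¹)⁻¹) * (u2⁻¹ * u1⁻¹ * u2 * u1) := by group
    rw [e]
    refine mul_mem (conj_mem_of_normalizer (inv_mem hN) (inv_mem h3)) ?_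
    have := b.UU_comm C.ne.symm (inv_mem h2) (inv_mem h1)
    rwa [inv_inv, inv_inv] at this
  · have := y.mul1 _ h1 _ (inv_mem h1)
    rw [mul_inv_cancel, p1_one y] at this
    exact (neg_eq_of_add_eq_zero_right this.symm).symm
  · have := y.mul2 _ h2 _ (inv_mem h2)
    rw [mul_inv_cancel, p2_one y] at this
    exact (neg_eq_of_add_eq_zero_right this.symm).symm

include b C y in
theorem rep_exists {x : G} (hx : x ∈ YY V R) :
    ∃ m n, Rep (DD V R) (UU V R i) (UU V R j) p1 p2 x m n := by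
  rw [b.Y_eq C.ne, sup_eq_closure] at hx
  induction hx using closure_induction with
  | mem x hx =>
    rcases hx with hx | hx
    · exact ⟨_, _, rep_U b C hx⟩
    · exact ⟨_, _, rep_swap b C.swap (rep_U b C.swap hx)⟩
  | one => exact ⟨_, _, rep_U b C (one_mem _)⟩
  | mul x y' _ _ hx hy =>
    obtain ⟨m, n, h⟩ := hx
    obtain ⟨m', n', h'⟩ := hy
    exact ⟨_, _, rep_mul b C y h h'⟩
  | inv x _ hx =>
    obtain ⟨m, n, h⟩ := hx
    exact ⟨_, _, rep_inv b C y h⟩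

/-- `x` acts on `V` and on `Y/D` by the matrix `(α β; γ δ)` of determinant `1` -/
structure Mat (V : Subgroup G) (R : ι → Subgroup G) (i j : ι) (v : F → F → G) (p1 p2 : G → M) (x : G)
    (α β γ δ : F) : Prop where
  norm : x ∈ normalizer (V : Set G)
  det : α * δ - β * γ = 1
  act : ∀ b c, x * v b c * x⁻¹ = v (α * b + β * c) (γ * b + δ * c)
  rep : ∀ z m n, Rep (DD V R) (UU V R i) (UU V R j) p1 p2 z m n →
    Rep (DD V R) (UU V R i) (UU V R j) p1 p2 (x * z * x⁻¹) (α • m + β • n) (γ • m + δ • n)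

include b C y in
theorem mat_w1 (a : F) : Mat V R i j v p1 p2 (w1 a) 1 a 0 1 where
  norm := b.W_le_NV i (C.W1 a)
  det := by ring
  act b' c := by rw [C.a1]; congr 1 <;> ring
  rep := by
    rintro z m n ⟨u1, h1, u2, h2, h3, rfl, rfl⟩
    have hw := C.W1 a
    have hwU : w1 a * u2 * (w1 a)⁻¹ * u2⁻¹ ∈ UU V R i := b.WU' hw h2
    have hw1 : w1 a * u1 * (w1 a)⁻¹ ∈ UU V R i := by
      have e : w1 a * u1 * (w1 a)⁻¹ = w1 a * u1 * (w1 a)⁻¹ * u1⁻¹ * u1 := by group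
      rw [e]
      exact mul_mem (b.R_le_U i (b.WU hw h1)) h1
    refine ⟨(w1 a * u1 * (w1 a)⁻¹) * (w1 a * u2 * (w1 a)⁻¹ * u2⁻¹), mul_mem hw1 hwU, u2, h2, ?_, ?_, ?_⟩
    · have e : w1 a * z * (w1 a)⁻¹ * (w1 a * u1 * (w1 a)⁻¹ * (w1 a * u2 * (w1 a)⁻¹ * u2⁻¹) * u2)⁻¹ =
          w1 a * (z * (u1 * u2)⁻¹) * (w1 a)⁻¹ := by group
      rw [e]
      exact conjD b (b.W_le_NV i hw) h3
    · rw [y.mul1 _ hw1 _ hwU, y.act12 a u2 h2, p1_conj b C y hw h1, one_smul]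
    · rw [zero_smul, one_smul, zero_add]

include b C y in
theorem mat_Y {k : G} (hk : k ∈ UU V R i) : Mat V R i j v p1 p2 k 1 0 0 1 where
  norm := cen_le_NV V (UU_le_cen i hk)
  det := by ring
  act b' c := by rw [C.of_mem_cen (UU_le_cen i hk)]; congr 1 <;> ring
  rep := by
    rintro z m n h
    have hz : z ∈ YY V R := by
      obtain ⟨u1, h1, u2, h2, h3, -, -⟩ := h
      have e : z = (z * (u1 * u2)⁻¹) * (u1 * u2) := by group
      rw [e]
      exact mul_mem (b.D_le_Y h3) (mul_mem (UU_le_YY i h1) (UU_le_YY j h2))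
    obtain ⟨u1, h1, u2, h2, h3, rfl, rfl⟩ := h
    refine ⟨u1, h1, u2, h2, ?_, by rw [one_smul, zero_smul, add_zero], by rw [one_smul, zero_smul, zero_add]⟩
    have e : k * z * k⁻¹ * (u1 * u2)⁻¹ = (k * z * k⁻¹ * z⁻¹) * (z * (u1 * u2)⁻¹) := by group
    rw [e]
    exact mul_mem (b.Y_comm (UU_le_YY i hk) hz) h3

include b C in
theorem Mat.swap {x : G} {α β γ δ : F} (h : Mat V R i j v p1 p2 x α β γ δ) :
    Mat V R j i (fun b c => v c b) p2 p1 x δ γ β α where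
  norm := h.norm
  det := by rw [← h.det]; ring
  act b' c := by
    change x * v c b' * x⁻¹ = v (β * b' + α * c) (δ * b' + γ * c)
    rw [h.act, add_comm (α * c), add_comm (γ * c)]
  rep z m n hz := by
    have h1 := rep_swap b C (h.rep z n m (rep_swap b C.swap hz))
    rwa [add_comm (α • n), add_comm (γ • n)] at h1

include b C y in
theorem Mat.mul {x x' : G} {α β γ δ α' β' γ' δ' : F} (h : Mat V R i j v p1 p2 x α β γ δ)
    (h' : Mat V R i j v p1 p2 x' α' β' γ' δ') :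
    Mat V R i j v p1 p2 (x * x') (α * α' + β * γ') (α * β' + β * δ') (γ * α' + δ * γ')
      (γ * β' + δ * δ') where
  norm := mul_mem h.norm h'.norm
  det := by linear_combination (α' * δ' - β' * γ') * h.det + h'.det
  act b' c := by
    calc x * x' * v b' c * (x * x')⁻¹ = x * (x' * v b' c * x'⁻¹) * x⁻¹ := by group
      _ = _ := by
        rw [h'.act, h.act]
        congr 1 <;> ring
  rep z m n hz := by
    have h1 := h.rep _ _ _ (h'.rep z m n hz)
    have e : x * x' * z * (x * x')⁻¹ = x * (x' * z * x'⁻¹) * x⁻¹ := by group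
    rw [e]
    have e1 : α • (α' • m + β' • n) + β • (γ' • m + δ' • n) = (α * α' + β * γ') • m + (α * β' + β * δ') • n := by
      module
    have e2 : γ • (α' • m + β' • n) + δ • (γ' • m + δ' • n) = (γ * α' + δ * γ') • m + (γ * β' + δ * δ') • n := by
      module
    rwa [e1, e2] at h1

include b C y in
theorem Mat.inv {x : G} {α β γ δ : F} (h : Mat V R i j v p1 p2 x α β γ δ) :
    Mat V R i j v p1 p2 x⁻¹ δ (-β) (-γ) α where
  norm := inv_mem h.norm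
  det := by rw [← h.det]; ring
  act b' c := by
    rw [inv_inv]
    have h1 := h.act (δ * b' + -β * c) (-γ * b' + α * c)
    have e1 : α * (δ * b' + -β * c) + β * (-γ * b' + α * c) = b' := by linear_combination b' * h.det
    have e2 : γ * (δ * b' + -β * c) + δ * (-γ * b' + α * c) = c := by linear_combination c * h.det
    rw [e1, e2] at h1
    rw [← h1]
    group
  rep z m n hz := by
    rw [inv_inv]
    have hzY : z ∈ YY V R := by
      obtain ⟨u1, h1, u2, h2, h3, -, -⟩ := hz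
      have e : z = (z * (u1 * u2)⁻¹) * (u1 * u2) := by group
      rw [e]
      exact mul_mem (b.D_le_Y h3) (mul_mem (UU_le_YY i h1) (UU_le_YY j h2))
    have hzY' : x⁻¹ * z * x ∈ YY V R := by
      have := conj_mem_of_normalizer (b.NV_le_NY (inv_mem h.norm)) hzY
      rwa [inv_inv] at this
    obtain ⟨m', n', h1⟩ := rep_exists b C y hzY'
    have h2 := h.rep _ _ _ h1
    have e : x * (x⁻¹ * z * x) * x⁻¹ = z := by group
    rw [e] at h2
    obtain ⟨e1, e2⟩ := rep_unique b C y hz h2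
    have d : α * δ - β * γ = 1 := h.det
    have e3 : δ • m + (-β) • n = m' := by
      rw [e1, e2]
      have : δ • (α • m' + β • n') + (-β) • (γ • m' + δ • n') = (α * δ - β * γ) • m' := by module
      rw [this, d, one_smul]
    have e4 : (-γ) • m + α • n = n' := by
      rw [e1, e2]
      have : (-γ) • (α • m' + β • n') + α • (γ • m' + δ • n') = (α * δ - β * γ) • n' := by module
      rw [this, d, one_smul]
    rwa [e3, e4]

include b C y in
/-- every element of `X` acts by a matrix -/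
theorem exists_mat {x : G} (hx : x ∈ XX V R) : ∃ α β γ δ, Mat V R i j v p1 p2 x α β γ δ := by
  rw [b.X_eq C.ne, sup_eq_closure] at hx
  have h1 : ∀ {i j : ι} {v : F → F → G} {w1 w2 : F → G} {p1 p2 : G → M},
      Crd V R i j v w1 w2 → YMod (DD V R) (UU V R i) (UU V R j) w1 w2 M p1 p2 → ∀ w ∈ WW V (R i),
      ∃ α β γ δ, Mat V R i j v p1 p2 w α β γ δ := by
    intro i j v w1 w2 p1 p2 C y w hw
    obtain ⟨a, k, hk, rfl⟩ := C.fact hw
    exact ⟨_, _, _, _, (mat_w1 b C y a).mul b C y (mat_Y b C y hk)⟩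
  induction hx using closure_induction with
  | mem x hx =>
    rcases hx with hx | hx
    · exact h1 C y x hx
    · obtain ⟨α, β, γ, δ, h⟩ := h1 C.swap y.swap x hx
      exact ⟨_, _, _, _, h.swap b C.swap⟩
  | one =>
    exact ⟨_, _, _, _, mat_Y b C y (one_mem _)⟩
  | mul x x' _ _ hx hx' =>
    obtain ⟨α, β, γ, δ, h⟩ := hx
    obtain ⟨α', β', γ', δ', h'⟩ := hx'
    exact ⟨_, _, _, _, h.mul b C y h'⟩
  | inv x _ hx =>
    obtain ⟨α, β, γ, δ, h⟩ := hx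
    exact ⟨_, _, _, _, h.inv b C y⟩

include C in
theorem Mat.eq_one {x : G} {α β γ δ : F} (h : Mat V R i j v p1 p2 x α β γ δ)
    (hx : x ∈ centralizer (V : Set G)) : α = 1 ∧ β = 0 ∧ γ = 0 ∧ δ = 1 := by
  have h1 := h.act 1 0
  have h2 := h.act 0 1
  rw [C.of_mem_cen hx] at h1 h2
  obtain ⟨e1, e2⟩ := C.eq_of h1
  obtain ⟨e3, e4⟩ := C.eq_of h2
  refine ⟨?_, ?_, ?_, ?_⟩
  · rw [mul_one, mul_zero, add_zero] at e1; exact e1.symm
  · rw [mul_one, mul_zero, zero_add] at e3; exact e3.symm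
  · rw [mul_one, mul_zero, add_zero] at e2; exact e2.symm
  · rw [mul_one, mul_zero, zero_add] at e4; exact e4.symm

include b C y in
/-- `C_X(V)` centralises `Y/D` -/
theorem cen_Y {x z : G} (hx : x ∈ XX V R) (hxV : x ∈ centralizer (V : Set G)) (hz : z ∈ YY V R) :
    x * z * x⁻¹ * z⁻¹ ∈ DD V R := by
  obtain ⟨α, β, γ, δ, h⟩ := exists_mat b C y hx
  obtain ⟨rfl, rfl, rfl, rfl⟩ := h.eq_one C hxV
  obtain ⟨m, n, hr⟩ := rep_exists b C y hz
  have h1 := h.rep z m n hr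
  rw [one_smul, one_smul, zero_smul, zero_smul, add_zero, zero_add] at h1
  have h2 := rep_mul b C y h1 (rep_inv b C y hr)
  rw [add_neg_cancel, add_neg_cancel] at h2
  obtain ⟨u1, k1, u2, k2, k3, k4, k5⟩ := h2
  have k4' := (y.ker1 u1 k1).1 k4
  have k5' := (y.ker2 u2 k2).1 k5
  have e : x * z * x⁻¹ * z⁻¹ = (x * z * x⁻¹ * z⁻¹ * (u1 * u2)⁻¹) * (u1 * u2) := by group
  rw [e]
  exact mul_mem k3 (mul_mem k4' k5')

end rep

end Cfsg.Agent.Omega.Lie
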