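import Cfsg.Agent.Omega.BTwo.CoordNat
import Cfsg.Agent.Omega.Lie.Torus

/-!
# SQ3 / NODE LIE: `Coord` (BTwo/Coord.lean) gives `Crd` (Lie/Torus.lean)
-/

set_option autoImplicit false

namespace Cfsg.Agent.Omega.Lie.CrdOf

open Subgroup Cfsg.Agent.Omega.BTwo Cfsg.Agent.Omega.NatPair

theorem crd {G : Type*} [Group G] {ι : Type*} {F : Type*} [Field F] {V : Subgroup G} {R : ι → Subgroup G} {i j : ι}
    {v : F → F → G} {w1 w2 : F → G} (c : Coord V R i j v w1 w2) : Crd V R i j v w1 w2 :=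
  ⟨c.ne, c.v_add, c.v_one, c.mem_V, c.mem_R1, c.mem_R2, c.w1_mem, c.w2_mem, c.w1_act, c.w2_act, c.W1_act, c.W2_act⟩

end Cfsg.Agent.Omega.Lie.CrdOf
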