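import Mathlib
import Cfsg.Agent.Omega.Lie.CenTwo

/-!
# Matrix core of the rows `PSL_n(r)`, `PSU_n(r)`, `r` odd, of the K-fact (ZS) (helper584; NODE LIE)

* `of_cent`: `E` a 2-subgroup of `X`, any two elements of square 1 in `C_X(E)` which are conjugate under `MulAut X` are
  equal: then `NoCenMove X`;
* `closure_insert`: generating 2-groups step by step;
* `mono s p`: signed permutation matrices; `sg f`: sign matrices;
* `core` (`n ≠ 4`): `M` invertible, `M²` scalar, `M` commutes up to scalars with all `mono s p` of determinant 1,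
  `s = ±1`, `p ∈ P`: then `M = a • sg f` and `f` is shifted by `P`;
* `conj_card`: `sg g * C = κ • (C * sg f)`, `C` invertible: the numbers of ones of `f`, `g` are equal or complementary;
* `core4` (`n = 4`): the same with `Q₈ × Q₈` and the block swap.
-/

set_option autoImplicit false
set_option linter.dupNamespace false

namespace Cfsg.Agent.Omega.Lie.CenMat

open Matrix Equiv

/-! ### group theory -/

section grp

variable {X : Type*} [Group X] [Finite X]

/-- the criterion: any two `MulAut`-conjugate elements of square 1 in `C_X(E)` are equal -/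
theorem of_cent {E : Subgroup X} (hE : IsPGroup 2 E)
    (h : ∀ (u : X) (τ : MulAut X), (∀ e ∈ E, e * u = u * e) → (∀ e ∈ E, e * τ u = τ u * e) →
      u * u = 1 → τ u = u) : CenTwo.NoCenMove X := by
  have : Fact (Nat.Prime 2) := ⟨Nat.prime_two⟩
  obtain ⟨S', hS'⟩ := hE.exists_le_sylow
  refine CenTwo.NoCenMove.of_one (S := S') ?_
  intro τ _ hS u hu hc huu
  refine h u τ (fun e he => hc e (hS' he)) (fun e he => ?_) huu
  obtain ⟨y, hy, hye⟩ := CenTwo.exists_preimage (S := (S' : Subgroup X)) hS (hS' he)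
  rw [← hye, ← map_mul, hc y hy, map_mul]

/-- a 2-group extended by a 2-element normalising it -/
theorem closure_insert {S : Set X} (hS : IsPGroup 2 (Subgroup.closure S)) {w : X} {k : ℕ}
    (hw : w ^ (2 ^ k) = 1) (h : ∀ s ∈ S, w * s * w⁻¹ ∈ Subgroup.closure S) :
    IsPGroup 2 (Subgroup.closure (insert w S)) := by
  have : Fact (Nat.Prime 2) := ⟨Nat.prime_two⟩
  have hle : Subgroup.map (MulAut.conj w).toMonoidHom (Subgroup.closure S) ≤ Subgroup.closure S := by
    rw [MonoidHom.map_closure, Subgroup.closure_le]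
    rintro _ ⟨s, hs, rfl⟩
    exact h s hs
  have hcard : Nat.card (Subgroup.map (MulAut.conj w).toMonoidHom (Subgroup.closure S))
      = Nat.card (Subgroup.closure S) :=
    Nat.card_congr ((Subgroup.closure S).equivMapOfInjective _ (MulAut.conj w).injective).symm.toEquiv
  have heq : Subgroup.map (MulAut.conj w).toMonoidHom (Subgroup.closure S) = Subgroup.closure S :=
    Subgroup.eq_of_le_of_card_ge hle (le_of_eq hcard.symm)
  have hN : Subgroup.zpowers w ≤ Subgroup.normalizer (Subgroup.closure S : Set X) := by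
    rw [Subgroup.zpowers_le, Subgroup.mem_normalizer_iff]
    intro g
    constructor
    · intro hg
      exact hle ⟨g, hg, rfl⟩
    · intro hg
      have hg' : w * g * w⁻¹ ∈ Subgroup.map (MulAut.conj w).toMonoidHom (Subgroup.closure S) := by
        rw [heq]; exact hg
      obtain ⟨y, hy, hyx⟩ := hg'
      have h2 : y = g := (MulAut.conj w).injective (by simpa using hyx)
      rw [← h2]; exact hy
  have h1 : IsPGroup 2 (Subgroup.zpowers w) := by
    rintro ⟨x, hx⟩
    obtain ⟨m, rfl⟩ := Subgroup.mem_zpowers_iff.1 hx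
    refine ⟨k, ?_⟩
    apply Subtype.ext
    change (w ^ m) ^ (2 ^ k) = 1
    rw [← _root_.zpow_natCast, ← _root_.zpow_mul, mul_comm, _root_.zpow_mul, _root_.zpow_natCast, hw, _root_.one_zpow]
  have h2 : IsPGroup 2 (Subgroup.zpowers w ⊔ Subgroup.closure S : Subgroup X) :=
    IsPGroup.to_sup_of_normal_right' h1 hS hN
  have h3 : Subgroup.closure (insert w S) = Subgroup.zpowers w ⊔ Subgroup.closure S := by
    rw [Set.insert_eq, Subgroup.closure_union, Subgroup.zpowers_eq_closure]
  rw [h3]
  exact h2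

end grp

/-! ### signed permutation matrices -/

section mat

variable {ι F : Type*} [Fintype ι] [DecidableEq ι] [Field F]

/-- signed permutation matrices -/
def mono (s : ι → F) (p : Perm ι) : Matrix ι ι F := fun i j => if i = p j then s i else 0

omit [Fintype ι] in
theorem mono_apply (s : ι → F) (p : Perm ι) (i j : ι) :
    mono s p i j = if i = p j then s i else 0 := rfl

omit [Fintype ι] in
theorem mono_one : mono (fun _ => (1 : F)) (1 : Perm ι) = 1 := by
  ext i j
  rw [mono_apply, one_apply]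
  rfl

omit [Fintype ι] in
theorem mono_diag (s : ι → F) : mono s (1 : Perm ι) = diagonal s := by
  ext i j
  rw [mono_apply, diagonal_apply]
  rfl

theorem mono_mul (s t : ι → F) (p r : Perm ι) :
    mono s p * mono t r = mono (fun i => s i * t (p⁻¹ i)) (p * r) := by
  ext i k
  rw [mul_apply, Finset.sum_eq_single (r k)]
  · rw [mono_apply, mono_apply, mono_apply, if_pos rfl, Perm.mul_apply]
    by_cases h : i = p (r k)
    · rw [if_pos h, if_pos h]
      have : p⁻¹ i = r k := by rw [h]; simp
      rw [this]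
    · rw [if_neg h, if_neg h, zero_mul]
  · intro j _ hj
    rw [mono_apply t, if_neg hj, mul_zero]
  · intro h; exact absurd (Finset.mem_univ _) h

theorem mono_eq (s : ι → F) (p : Perm ι) :
    mono s p = diagonal s * (1 : Matrix ι ι F).submatrix id p := by
  ext i j
  rw [mono_apply, diagonal_mul, submatrix_apply, one_apply, id]
  by_cases h : i = p j
  · rw [if_pos h, if_pos h, mul_one]
  · rw [if_neg h, if_neg h, mul_zero]

theorem det_mono (s : ι → F) (p : Perm ι) :
    (mono s p).det = (∏ i, s i) * ((Perm.sign p : ℤ) : F) := by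
  rw [mono_eq, det_mul, det_diagonal, det_permute', det_one, mul_one]

/-- for each permutation there is a choice of signs with determinant one -/
theorem exists_signs [Nonempty ι] (p : Perm ι) :
    ∃ s : ι → F, (∀ i, s i * s i = 1) ∧ (mono s p).det = 1 := by
  rcases Int.units_eq_one_or (Perm.sign p) with h | h
  · refine ⟨fun _ => 1, fun _ => by rw [one_mul], ?_⟩
    rw [det_mono, h]; simp
  · obtain ⟨i0⟩ := (inferInstance : Nonempty ι)
    refine ⟨fun i => if i = i0 then -1 else 1, fun i => ?_, ?_⟩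
    · by_cases hi : i = i0
      · simp [hi]
      · simp [hi]
    · rw [det_mono, h, Finset.prod_ite_eq' Finset.univ i0 (fun _ => (-1 : F))]
      simp

/-- the sign of an element of `ZMod 2` -/
def sgn (F : Type*) [Field F] (x : ZMod 2) : F := if x = 1 then -1 else 1

theorem sgn_zero : sgn F 0 = 1 := by
  rw [sgn, if_neg (by decide)]

theorem sgn_one : sgn F 1 = -1 := by
  rw [sgn, if_pos rfl]

theorem sgn_add (x y : ZMod 2) : sgn F (x + y) = sgn F x * sgn F y := by
  have h01 : ∀ x : ZMod 2, x = 0 ∨ x = 1 := by decide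
  rcases h01 x with rfl | rfl <;> rcases h01 y with rfl | rfl
  · rw [add_zero, sgn_zero, mul_one]
  · rw [zero_add, sgn_zero, one_mul]
  · rw [add_zero, sgn_zero, mul_one]
  · rw [CharTwo.add_self_eq_zero, sgn_zero, sgn_one]; ring

theorem sgn_mul_self (x : ZMod 2) : sgn F x * sgn F x = 1 := by
  rw [← sgn_add, CharTwo.add_self_eq_zero, sgn_zero]

theorem sgn_ne_zero (x : ZMod 2) : sgn F x ≠ 0 := by
  intro h
  have := sgn_mul_self (F := F) x
  rw [h, zero_mul] at this
  exact zero_ne_one this

theorem neg_one_ne_one (h2 : (2 : F) ≠ 0) : (-1 : F) ≠ 1 := by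
  intro h
  apply h2
  linear_combination -h

theorem sgn_inj (h2 : (2 : F) ≠ 0) {x y : ZMod 2} (h : sgn F x = sgn F y) : x = y := by
  have h01 : ∀ x : ZMod 2, x = 0 ∨ x = 1 := by decide
  rcases h01 x with rfl | rfl <;> rcases h01 y with rfl | rfl
  · rfl
  · rw [sgn_zero, sgn_one] at h; exact absurd h.symm (neg_one_ne_one h2)
  · rw [sgn_zero, sgn_one] at h; exact absurd h (neg_one_ne_one h2)
  · rfl

/-- the sign matrix of a `0-1`-function -/
def sg (F : Type*) [Field F] (f : ι → ZMod 2) : Matrix ι ι F := diagonal fun i => sgn F (f i)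

theorem sg_mul_self (f : ι → ZMod 2) : sg F f * sg F f = 1 := by
  rw [sg, diagonal_mul_diagonal]
  simp only [sgn_mul_self]
  exact diagonal_one

omit [Fintype ι] in
theorem sg_add_one (f : ι → ZMod 2) : sg F (fun i => f i + 1) = -sg F f := by
  rw [sg, sg, diagonal_neg]
  congr 1
  funext i
  rw [sgn_add, sgn_one, mul_neg, mul_one]

/-- ranks of two diagonal matrices which are equivalent by an invertible matrix -/
theorem card_eq_of_conj {u v : ι → F} [DecidablePred fun i => v i ≠ 0]
    [DecidablePred fun i => u i ≠ 0] {C : Matrix ι ι F} (hC : IsUnit C.det)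
    (h : diagonal v * C = C * diagonal u) :
    (Finset.univ.filter fun i => v i ≠ 0).card = (Finset.univ.filter fun i => u i ≠ 0).card := by
  classical
  have h1 := rank_mul_eq_left_of_isUnit_det C (diagonal v) hC
  have h2 := rank_mul_eq_right_of_isUnit_det C (diagonal u) hC
  rw [h, h2, rank_diagonal, rank_diagonal, Fintype.card_subtype, Fintype.card_subtype] at h1
  convert h1.symm

theorem conj_card (h2 : (2 : F) ≠ 0) {f g : ι → ZMod 2} {C : Matrix ι ι F} (hC : IsUnit C.det)
    {κ : F} (h : sg F g * C = κ • (C * sg F f)) :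
    (Finset.univ.filter fun i => f i = 1).card = (Finset.univ.filter fun i => g i = 1).card ∨
      (Finset.univ.filter fun i => f i = 1).card = (Finset.univ.filter fun i => g i = 0).card := by
  classical
  have h01 : ∀ x : ZMod 2, x = 0 ∨ x = 1 := by decide
  rcases isEmpty_or_nonempty ι with hι | ⟨⟨i0⟩⟩
  · left; simp
  have hκ : κ * κ = 1 := by
    have h3 : C = (κ * κ) • C := by
      calc C = (sg F g * sg F g) * C := by rw [sg_mul_self, one_mul]
        _ = sg F g * (κ • (C * sg F f)) := by rw [mul_assoc, h]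
        _ = κ • ((sg F g * C) * sg F f) := by rw [Matrix.mul_smul, mul_assoc]
        _ = (κ * κ) • (C * (sg F f * sg F f)) := by
            rw [h, Matrix.smul_mul, smul_smul, mul_assoc]
        _ = (κ * κ) • C := by rw [sg_mul_self, mul_one]
    obtain ⟨D, hD⟩ : ∃ D, C * D = 1 := ⟨C⁻¹, mul_nonsing_inv C hC⟩
    have h4 : (1 : Matrix ι ι F) = (κ * κ) • (1 : Matrix ι ι F) := by
      rw [← hD, ← Matrix.smul_mul, ← h3]
    have h5 := congrFun (congrFun h4 i0) i0
    rw [Matrix.smul_apply, one_apply_eq, smul_eq_mul, mul_one] at h5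
    exact h5.symm
  have hκ' : κ = 1 ∨ κ = -1 := by
    have h3 : (κ - 1) * (κ + 1) = 0 := by linear_combination hκ
    rcases mul_eq_zero.1 h3 with h4 | h4
    · left; exact sub_eq_zero.1 h4
    · right; exact eq_neg_of_add_eq_zero_left h4
  rcases hκ' with rfl | rfl
  · left
    rw [one_smul] at h
    have h3 : diagonal (fun i => sgn F (g i) - 1) * C = C * diagonal (fun i => sgn F (f i) - 1) := by
      have e1 : diagonal (fun i => sgn F (g i) - 1) = sg F g - 1 := by
        rw [sg, ← diagonal_one, diagonal_sub]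
      have e2 : diagonal (fun i => sgn F (f i) - 1) = sg F f - 1 := by
        rw [sg, ← diagonal_one, diagonal_sub]
      rw [e1, e2, sub_mul, mul_sub, h, one_mul, mul_one]
    have h4 := card_eq_of_conj hC h3
    have key : ∀ f : ι → ZMod 2, (Finset.univ.filter fun i => sgn F (f i) - 1 ≠ 0)
        = Finset.univ.filter fun i => f i = 1 := by
      intro f
      refine Finset.filter_congr fun i _ => ?_
      rcases h01 (f i) with h | h
      · rw [h, sgn_zero]; simp
      · rw [h, sgn_one]
        have : (-1 : F) - 1 ≠ 0 := fun h => neg_one_ne_one h2 (sub_eq_zero.1 h)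
        simp [this]
    rw [key, key] at h4
    exact h4.symm
  · right
    have h3 : diagonal (fun i => sgn F (g i) + 1) * C = C * diagonal (fun i => -sgn F (f i) + 1) := by
      have e1 : diagonal (fun i => sgn F (g i) + 1) = sg F g + 1 := by
        rw [sg, ← diagonal_one, diagonal_add]
      have e2 : diagonal (fun i => -sgn F (f i) + 1) = -sg F f + 1 := by
        rw [sg, ← diagonal_one, diagonal_neg, diagonal_add]
      rw [e1, e2, add_mul, mul_add, h, one_mul, mul_one, mul_neg, neg_smul, one_smul]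
    have h4 := card_eq_of_conj hC h3
    have key : (Finset.univ.filter fun i => sgn F (g i) + 1 ≠ 0)
        = Finset.univ.filter fun i => g i = 0 := by
      refine Finset.filter_congr fun i _ => ?_
      rcases h01 (g i) with h | h
      · rw [h, sgn_zero]
        have : (1 : F) + 1 ≠ 0 := by rwa [one_add_one_eq_two]
        simp [this]
      · rw [h, sgn_one]; simp
    have key' : (Finset.univ.filter fun i => -sgn F (f i) + 1 ≠ 0)
        = Finset.univ.filter fun i => f i = 1 := by
      refine Finset.filter_congr fun i _ => ?_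
      rcases h01 (f i) with h | h
      · rw [h, sgn_zero]; simp
      · rw [h, sgn_one]
        have : (- -1 : F) + 1 ≠ 0 := by rwa [neg_neg, one_add_one_eq_two]
        exact ⟨fun _ => rfl, fun _ => this⟩
    rw [key, key'] at h4
    exact h4.symm

/-- **the core for `n ≠ 4`** -/
theorem core (h2 : (2 : F) ≠ 0) (hn : 3 ≤ Fintype.card ι) (hn4 : Fintype.card ι ≠ 4)
    {P : Set (Perm ι)} (h1 : (1 : Perm ι) ∈ P) {M : Matrix ι ι F} (hM : IsUnit M.det) {μ : F}
    (hμ : M * M = μ • (1 : Matrix ι ι F))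
    (hE : ∀ s : ι → F, (∀ i, s i * s i = 1) → ∀ p ∈ P, (mono s p).det = 1 →
      ∃ c : F, M * mono s p = c • (mono s p * M)) :
    ∃ (a : F) (f : ι → ZMod 2), a ≠ 0 ∧ M = a • sg F f ∧
      ∀ p ∈ P, ∃ c, ∀ i, f (p i) = f i + c := by
  classical
  have hne : Nonempty ι := by
    rw [← Fintype.card_pos_iff]; omega
  have h01 : ∀ x : ZMod 2, x = 0 ∨ x = 1 := by decide
  have hneg := neg_one_ne_one h2
  -- step 1: `M` commutes with the diagonal matrices with two entries `-1`
  have comm : ∀ i j : ι, i ≠ j → ∀ a b : ι,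
      M a b * (if b = i ∨ b = j then -1 else 1) = (if a = i ∨ a = j then -1 else 1) * M a b := by
    intro i j hij a b
    set d : ι → F := fun k => if k = i ∨ k = j then -1 else 1 with hd
    have hdd : ∀ k, d k * d k = 1 := by
      intro k
      simp only [hd]
      by_cases hk : k = i ∨ k = j
      · rw [if_pos hk]; ring
      · rw [if_neg hk]; ring
    have hdet : (mono d 1).det = 1 := by
      rw [det_mono, Perm.sign_one]
      have h3 : ∏ k, d k = 1 := by
        rw [Finset.prod_ite]
        have h4 : (Finset.univ.filter fun k => k = i ∨ k = j) = {i, j} := by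
          ext k; simp
        rw [h4, Finset.prod_const, Finset.prod_const_one, Finset.card_pair hij]
        ring
      rw [h3]; simp
    obtain ⟨c, hc⟩ := hE d hdd 1 h1 hdet
    rw [mono_diag] at hc
    have hent : ∀ a b, M a b * d b = c * (d a * M a b) := by
      intro a b
      have h3 := congrFun (congrFun hc a) b
      rw [mul_diagonal, Matrix.smul_apply, diagonal_mul, smul_eq_mul] at h3
      exact h3
    -- some entry is non zero
    obtain ⟨a0, b0, hab⟩ : ∃ a b, M a b ≠ 0 := by
      by_contra hno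
      push Not at hno
      have h3 : M = 0 := by
        ext a b; exact hno a b
      rw [h3, det_zero] at hM
      exact not_isUnit_zero hM
    have hcc : c * c = 1 := by
      have h3 := hent a0 b0
      have h4 : d b0 = c * d a0 := by
        apply mul_left_cancel₀ hab
        rw [h3]; ring
      have h5 := hdd b0
      rw [h4] at h5
      have h6 := hdd a0
      linear_combination h5 - c * c * h6
    have hc1 : c = 1 := by
      have h3 : (c - 1) * (c + 1) = 0 := by linear_combination hcc
      rcases mul_eq_zero.1 h3 with h4 | h4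
      · exact sub_eq_zero.1 h4
      · exfalso
        have h5 : c = -1 := eq_neg_of_add_eq_zero_left h4
        have h6 : diagonal (fun k => -d k - 1) * M = M * diagonal (fun k => d k - 1) := by
          ext a b
          rw [diagonal_mul, mul_diagonal]
          have h7 := hent a b
          rw [h5] at h7
          linear_combination -h7
        have h7 := card_eq_of_conj hM h6
        have h8 : (Finset.univ.filter fun k => d k - 1 ≠ 0) = {i, j} := by
          ext k
          simp only [Finset.mem_filter, Finset.mem_univ, true_and, Finset.mem_insert,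
            Finset.mem_singleton, hd]
          by_cases hk : k = i ∨ k = j
          · rw [if_pos hk]
            exact ⟨fun _ => hk, fun _ h => hneg (sub_eq_zero.1 h)⟩
          · rw [if_neg hk]
            exact ⟨fun h => absurd (sub_self _) h, fun h => absurd h hk⟩
        have h9 : (Finset.univ.filter fun k => -d k - 1 ≠ 0) = ({i, j} : Finset ι)ᶜ := by
          ext k
          simp only [Finset.mem_filter, Finset.mem_univ, true_and, Finset.mem_insert,
            Finset.mem_singleton, Finset.mem_compl, hd]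
          by_cases hk : k = i ∨ k = j
          · rw [if_pos hk]
            exact ⟨fun h => absurd (by ring) h, fun h => absurd hk h⟩
          · rw [if_neg hk]
            refine ⟨fun _ => hk, fun _ h => h2 ?_⟩
            linear_combination -h
        rw [h8, h9, Finset.card_compl, Finset.card_pair hij] at h7
        omega
    have h3 := hent a b
    rw [hc1, one_mul] at h3
    exact h3
  -- step 2: `M` is diagonal
  have hdiag : ∀ a b : ι, a ≠ b → M a b = 0 := by
    intro a b hab
    obtain ⟨k, hk⟩ : ∃ k : ι, k ∉ ({a, b} : Finset ι) := by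
      by_contra hno
      push Not at hno
      have h3 : (Finset.univ : Finset ι) ⊆ {a, b} := fun k _ => hno k
      have h4 := Finset.card_le_card h3
      rw [Finset.card_univ, Finset.card_pair hab] at h4
      omega
    have hka : a ≠ k := by
      rintro rfl; exact hk (by simp)
    have hkb : b ≠ k := by
      rintro rfl; exact hk (by simp)
    have h3 := comm a k hka a b
    rw [if_neg (by rintro (h | h); exacts [hab h.symm, hkb h]), if_pos (Or.inl rfl)] at h3
    have h4 : (2 : F) * M a b = 0 := by linear_combination h3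
    exact (mul_eq_zero.1 h4).resolve_left h2
  obtain ⟨i0⟩ := hne
  have hMd : M = diagonal fun i => M i i := by
    ext a b
    rw [diagonal_apply]
    by_cases hab : a = b
    · rw [if_pos hab, hab]
    · rw [if_neg hab, hdiag a b hab]
  have hsq : ∀ i, M i i * M i i = μ := by
    intro i
    have h3 := congrFun (congrFun hμ i) i
    rw [hMd, diagonal_mul_diagonal, diagonal_apply_eq, Matrix.smul_apply, one_apply_eq, smul_eq_mul,
      mul_one] at h3
    exact h3
  have hne0 : ∀ i, M i i ≠ 0 := by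
    intro i hi
    rw [hMd, det_diagonal] at hM
    exact hM.ne_zero (Finset.prod_eq_zero (Finset.mem_univ i) hi)
  have hpm : ∀ i, M i i = M i0 i0 ∨ M i i = -M i0 i0 := by
    intro i
    have h3 : (M i i - M i0 i0) * (M i i + M i0 i0) = 0 := by
      linear_combination hsq i - hsq i0
    rcases mul_eq_zero.1 h3 with h4 | h4
    · left; exact sub_eq_zero.1 h4
    · right; exact eq_neg_of_add_eq_zero_left h4
  set a := M i0 i0 with ha
  let f : ι → ZMod 2 := fun i => if M i i = a then 0 else 1
  have hf : ∀ i, M i i = a * sgn F (f i) := by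
    intro i
    simp only [f]
    by_cases hi : M i i = a
    · rw [if_pos hi, sgn_zero, mul_one, hi]
    · rw [if_neg hi, sgn_one]
      rcases hpm i with h | h
      · exact absurd h hi
      · rw [h]; ring
  refine ⟨a, f, hne0 i0, ?_, ?_⟩
  · ext i j
    rw [Matrix.smul_apply, sg, diagonal_apply, smul_eq_mul]
    by_cases hij : i = j
    · rw [if_pos hij, ← hf, hij]
    · rw [if_neg hij, hdiag i j hij, mul_zero]
  · intro p hp
    have : Nonempty ι := ⟨i0⟩
    obtain ⟨s, hs, hdet⟩ := exists_signs (F := F) p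
    obtain ⟨c, hc⟩ := hE s hs p hp hdet
    have hent : ∀ j, sgn F (f (p j)) = c * sgn F (f j) := by
      intro j
      have h3 := congrFun (congrFun hc (p j)) j
      rw [hMd, diagonal_mul, Matrix.smul_apply, mul_diagonal, smul_eq_mul, mono_apply, if_pos rfl, hf,
        hf] at h3
      have h4 : s (p j) ≠ 0 := by
        intro h5
        have h6 := hs (p j)
        rw [h5, zero_mul] at h6
        exact zero_ne_one h6
      have h5 : a * s (p j) * sgn F (f (p j)) = a * s (p j) * (c * sgn F (f j)) := by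
        linear_combination h3
      exact mul_left_cancel₀ (mul_ne_zero (hne0 i0) h4) h5
    have hcval : c = sgn F (f (p i0) + f i0) := by
      rw [sgn_add, hent i0, mul_assoc, sgn_mul_self, mul_one]
    refine ⟨f (p i0) + f i0, fun i => ?_⟩
    apply sgn_inj h2
    rw [hent, hcval, sgn_add (f i), mul_comm]

theorem top_block (h2 : (2 : F) ≠ 0) {p q r : F} (h : p * p + q * r = -1)
    {M N : Matrix (Fin 4) (Fin 4) F} (hNM : N * M = 1) {c : F}
    (hc : M * !![p, q, 0, 0; r, -p, 0, 0; 0, 0, 1, 0; 0, 0, 0, 1]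
      = c • (!![p, q, 0, 0; r, -p, 0, 0; 0, 0, 1, 0; 0, 0, 0, 1] * M)) :
    (M 0 2 = 0 ∧ M 0 3 = 0 ∧ M 1 2 = 0 ∧ M 1 3 = 0) ∧
    (M 2 0 = 0 ∧ M 2 1 = 0 ∧ M 3 0 = 0 ∧ M 3 1 = 0) ∧
    (M 0 0 * p + M 0 1 * r = p * M 0 0 + q * M 1 0 ∧
      M 0 0 * q + M 0 1 * -p = p * M 0 1 + q * M 1 1) := by
  have e : ∀ i j, (M * !![p, q, 0, 0; r, -p, 0, 0; 0, 0, 1, 0; 0, 0, 0, 1]) i j
      = c * ((!![p, q, 0, 0; r, -p, 0, 0; 0, 0, 1, 0; 0, 0, 0, 1] : Matrix (Fin 4) (Fin 4) F) * M) i j := by
    intro i j; rw [hc]; rfl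
  simp only [Matrix.mul_apply, Fin.sum_univ_four] at e
  have n : ∀ i j, N i 0 * M 0 j + N i 1 * M 1 j + N i 2 * M 2 j + N i 3 * M 3 j
      = (1 : Matrix (Fin 4) (Fin 4) F) i j := by
    intro i j; rw [← hNM, Matrix.mul_apply, Fin.sum_univ_four]
  have d22 : M 2 2 = c * M 2 2 := by simpa using e 2 2
  have d23 : M 2 3 = c * M 2 3 := by simpa using e 2 3
  have d32 : M 3 2 = c * M 3 2 := by simpa using e 3 2
  have d33 : M 3 3 = c * M 3 3 := by simpa using e 3 3
  have b02 : M 0 2 = c * (p * M 0 2 + q * M 1 2) := by simpa using e 0 2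
  have b03 : M 0 3 = c * (p * M 0 3 + q * M 1 3) := by simpa using e 0 3
  have b12 : M 1 2 = c * (r * M 0 2 + -p * M 1 2) := by simpa using e 1 2
  have b13 : M 1 3 = c * (r * M 0 3 + -p * M 1 3) := by simpa using e 1 3
  have c20 : M 2 0 * p + M 2 1 * r = c * M 2 0 := by simpa using e 2 0
  have c21 : M 2 0 * q + M 2 1 * -p = c * M 2 1 := by simpa using e 2 1
  have c30 : M 3 0 * p + M 3 1 * r = c * M 3 0 := by simpa using e 3 0
  have c31 : M 3 0 * q + M 3 1 * -p = c * M 3 1 := by simpa using e 3 1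
  have a00 : M 0 0 * p + M 0 1 * r = c * (p * M 0 0 + q * M 1 0) := by simpa using e 0 0
  have a01 : M 0 0 * q + M 0 1 * -p = c * (p * M 0 1 + q * M 1 1) := by simpa using e 0 1
  have hc1 : c = 1 := by
    by_contra hne
    have hz : ∀ x : F, x = c * x → x = 0 := by
      intro x hx
      have h3 : (1 - c) * x = 0 := by linear_combination hx
      rcases mul_eq_zero.1 h3 with h4 | h4
      · exact absurd (sub_eq_zero.1 h4).symm hne
      · exact h4
    have z22 := hz _ d22
    have z23 := hz _ d23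
    have z32 := hz _ d32
    have z33 := hz _ d33
    have n22 : N 2 0 * M 0 2 + N 2 1 * M 1 2 = 1 := by
      have := n 2 2
      rw [z22, z32] at this
      simpa using this
    have n23 : N 2 0 * M 0 3 + N 2 1 * M 1 3 = 0 := by
      have := n 2 3
      rw [z23, z33] at this
      simpa using this
    have n32 : N 3 0 * M 0 2 + N 3 1 * M 1 2 = 0 := by
      have := n 3 2
      rw [z22, z32] at this
      simpa using this
    have n33 : N 3 0 * M 0 3 + N 3 1 * M 1 3 = 1 := by
      have := n 3 3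
      rw [z23, z33] at this
      simpa using this
    have hdet : (N 2 0 * N 3 1 - N 2 1 * N 3 0) * (M 0 2 * M 1 3 - M 0 3 * M 1 2) = 1 := by
      calc (N 2 0 * N 3 1 - N 2 1 * N 3 0) * (M 0 2 * M 1 3 - M 0 3 * M 1 2)
          = (N 2 0 * M 0 2 + N 2 1 * M 1 2) * (N 3 0 * M 0 3 + N 3 1 * M 1 3)
            - (N 2 0 * M 0 3 + N 2 1 * M 1 3) * (N 3 0 * M 0 2 + N 3 1 * M 1 2) := by ring
        _ = 1 := by rw [n22, n33, n23]; ring
    have hdet0 : M 0 2 * M 1 3 - M 0 3 * M 1 2 ≠ 0 := by
      intro h0; rw [h0, mul_zero] at hdet; exact zero_ne_one hdet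
    have k1 : (c * p - 1) * (M 0 2 * M 1 3 - M 0 3 * M 1 2) = 0 := by
      linear_combination -b02 * M 1 3 + b03 * M 1 2
    have k2 : (c * p + 1) * (M 0 2 * M 1 3 - M 0 3 * M 1 2) = 0 := by
      linear_combination -b12 * M 0 3 + b13 * M 0 2
    have k3 := (mul_eq_zero.1 k1).resolve_right hdet0
    have k4 := (mul_eq_zero.1 k2).resolve_right hdet0
    apply h2
    linear_combination k4 - k3
  subst hc1
  rw [one_mul] at b02 b03 b12 b13 c20 c21 c30 c31 a00 a01
  have two : ∀ x : F, 2 * x = 0 → x = 0 := fun x hx => (mul_eq_zero.1 hx).resolve_left h2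
  refine ⟨⟨two _ ?_, two _ ?_, two _ ?_, two _ ?_⟩, ⟨two _ ?_, two _ ?_, two _ ?_, two _ ?_⟩, a00, a01⟩
  · linear_combination (1 + p) * b02 + q * b12 + M 0 2 * h
  · linear_combination (1 + p) * b03 + q * b13 + M 0 3 * h
  · linear_combination (1 - p) * b12 + r * b02 + M 1 2 * h
  · linear_combination (1 - p) * b13 + r * b03 + M 1 3 * h
  · linear_combination -(1 + p) * c20 - r * c21 + M 2 0 * h
  · linear_combination -(1 - p) * c21 - q * c20 + M 2 1 * h
  · linear_combination -(1 + p) * c30 - r * c31 + M 3 0 * h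
  · linear_combination -(1 - p) * c31 - q * c30 + M 3 1 * h

/-- **the core for `n = 4`**: `Q₈ × Q₈` and the swap -/
theorem core4 (h2 : (2 : F) ≠ 0) {a b : F} (hab : a * a + b * b = -1)
    {M N : Matrix (Fin 4) (Fin 4) F} (hNM : N * M = 1)
    (he1 : ∃ c : F, M * !![0, 1, 0, 0; -1, 0, 0, 0; 0, 0, 1, 0; 0, 0, 0, 1]
      = c • (!![0, 1, 0, 0; -1, 0, 0, 0; 0, 0, 1, 0; 0, 0, 0, 1] * M))
    (he2 : ∃ c : F, M * !![a, b, 0, 0; b, -a, 0, 0; 0, 0, 1, 0; 0, 0, 0, 1]
      = c • (!![a, b, 0, 0; b, -a, 0, 0; 0, 0, 1, 0; 0, 0, 0, 1] * M))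
    (he3 : ∃ c : F, M * !![1, 0, 0, 0; 0, 1, 0, 0; 0, 0, 0, 1; 0, 0, -1, 0]
      = c • (!![1, 0, 0, 0; 0, 1, 0, 0; 0, 0, 0, 1; 0, 0, -1, 0] * M))
    (he4 : ∃ c : F, M * !![1, 0, 0, 0; 0, 1, 0, 0; 0, 0, a, b; 0, 0, b, -a]
      = c • (!![1, 0, 0, 0; 0, 1, 0, 0; 0, 0, a, b; 0, 0, b, -a] * M))
    (he5 : ∃ c : F, M * !![0, 0, 1, 0; 0, 0, 0, 1; 1, 0, 0, 0; 0, 1, 0, 0]
      = c • (!![0, 0, 1, 0; 0, 0, 0, 1; 1, 0, 0, 0; 0, 1, 0, 0] * M)) :
    ∃ x : F, x ≠ 0 ∧ (M = x • (1 : Matrix (Fin 4) (Fin 4) F) ∨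
      M = x • !![1, 0, 0, 0; 0, 1, 0, 0; 0, 0, -1, 0; 0, 0, 0, -1]) := by
  have two : ∀ x : F, 2 * x = 0 → x = 0 := fun x hx => (mul_eq_zero.1 hx).resolve_left h2
  obtain ⟨c1, hc1⟩ := he1
  obtain ⟨c2, hc2⟩ := he2
  have hc1' : M * !![0, 1, 0, 0; -1, -0, 0, 0; 0, 0, 1, 0; 0, 0, 0, 1]
      = c1 • (!![0, 1, 0, 0; -1, -0, 0, 0; 0, 0, 1, 0; 0, 0, 0, 1] * M) := by
    rw [neg_zero]; exact hc1
  obtain ⟨⟨m02, m03, m12, m13⟩, ⟨m20, m21, m30, m31⟩, hA1, hA2⟩ :=
    top_block h2 (by ring) hNM hc1'
  obtain ⟨-, -, hA3, hA4⟩ := top_block h2 hab hNM hc2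
  have x01 : M 0 1 = 0 := by
    have h3 : 2 * (a * a + b * b) * M 0 1 = 0 := by
      linear_combination a * (-hA4) + a * b * hA2 + b * hA3 - b * b * hA1
    rw [hab] at h3
    apply two
    linear_combination -h3
  have x10 : M 1 0 = 0 := by
    linear_combination -hA1 - x01
  have x11 : M 1 1 = M 0 0 := by linear_combination -hA2
  have n : ∀ i j, N i 0 * M 0 j + N i 1 * M 1 j + N i 2 * M 2 j + N i 3 * M 3 j
      = (1 : Matrix (Fin 4) (Fin 4) F) i j := by
    intro i j; rw [← hNM, Matrix.mul_apply, Fin.sum_univ_four]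
  have x00 : M 0 0 ≠ 0 := by
    intro h0
    have h3 := n 0 0
    rw [h0, x10, m20, m30] at h3
    simp at h3
  obtain ⟨c3, hc3⟩ := he3
  obtain ⟨c4, hc4⟩ := he4
  obtain ⟨c5, hc5⟩ := he5
  have e3 : ∀ i j, (M * (!![1, 0, 0, 0; 0, 1, 0, 0; 0, 0, 0, 1; 0, 0, -1, 0] : Matrix (Fin 4) (Fin 4) F)) i j
      = c3 * ((!![1, 0, 0, 0; 0, 1, 0, 0; 0, 0, 0, 1; 0, 0, -1, 0] : Matrix (Fin 4) (Fin 4) F) * M) i j := by
    intro i j; rw [hc3]; rfl
  have e4 : ∀ i j, (M * !![1, 0, 0, 0; 0, 1, 0, 0; 0, 0, a, b; 0, 0, b, -a]) i j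
      = c4 * ((!![1, 0, 0, 0; 0, 1, 0, 0; 0, 0, a, b; 0, 0, b, -a] : Matrix (Fin 4) (Fin 4) F) * M) i j := by
    intro i j; rw [hc4]; rfl
  have e5 : ∀ i j, (M * (!![0, 0, 1, 0; 0, 0, 0, 1; 1, 0, 0, 0; 0, 1, 0, 0] : Matrix (Fin 4) (Fin 4) F)) i j
      = c5 * ((!![0, 0, 1, 0; 0, 0, 0, 1; 1, 0, 0, 0; 0, 1, 0, 0] : Matrix (Fin 4) (Fin 4) F) * M) i j := by
    intro i j; rw [hc5]; rfl
  simp only [Matrix.mul_apply, Fin.sum_univ_four] at e3 e4 e5
  have hc31 : c3 = 1 := by
    have h3 : M 0 0 = c3 * M 0 0 := by simpa using e3 0 0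
    have h4 : (c3 - 1) * M 0 0 = 0 := by linear_combination -h3
    exact sub_eq_zero.1 ((mul_eq_zero.1 h4).resolve_right x00)
  have hc41 : c4 = 1 := by
    have h3 : M 0 0 = c4 * M 0 0 := by simpa using e4 0 0
    have h4 : (c4 - 1) * M 0 0 = 0 := by linear_combination -h3
    exact sub_eq_zero.1 ((mul_eq_zero.1 h4).resolve_right x00)
  subst hc31 hc41
  have d1 : -M 2 3 = M 3 2 := by simpa using e3 2 2
  have d2 : M 2 2 = M 3 3 := by simpa using e3 2 3
  have d3 : M 2 2 * a + M 2 3 * b = a * M 2 2 + b * M 3 2 := by simpa using e4 2 2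
  have d4 : M 2 2 * b + -(M 2 3 * a) = a * M 2 3 + b * M 3 3 := by simpa using e4 2 3
  have x23 : M 2 3 = 0 := by
    have h3 : 2 * (a * a + b * b) * M 2 3 = 0 := by
      linear_combination a * (-d4) + a * b * d2 + b * d3 - b * b * d1
    rw [hab] at h3
    apply two
    linear_combination -h3
  have x32 : M 3 2 = 0 := by linear_combination -d1 - x23
  have s1 : M 0 0 = c5 * M 2 2 := by simpa using e5 0 2
  have s2 : M 2 2 = c5 * M 0 0 := by simpa using e5 2 0
  have hc5' : (c5 - 1) * (c5 + 1) = 0 := by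
    have h3 : (c5 * c5 - 1) * M 0 0 = 0 := by linear_combination -s1 - c5 * s2
    have h4 := (mul_eq_zero.1 h3).resolve_right x00
    linear_combination h4
  refine ⟨M 0 0, x00, ?_⟩
  rcases mul_eq_zero.1 hc5' with h | h
  · left
    have h5 : c5 = 1 := sub_eq_zero.1 h
    rw [h5, one_mul] at s2
    ext i j
    fin_cases i <;> fin_cases j <;>
      simp [m02, m03, m12, m13, m20, m21, m30, m31, x01, x10, x11, x23, x32, s2, ← d2]
  · right
    have h5 : c5 = -1 := eq_neg_of_add_eq_zero_left h
    rw [h5] at s2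
    ext i j
    fin_cases i <;> fin_cases j <;>
      simp [m02, m03, m12, m13, m20, m21, m30, m31, x01, x10, x11, x23, x32, s2, ← d2]

end mat

end Cfsg.Agent.Omega.Lie.CenMat
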