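import Mathlib

/-!
# Sylow 2-subgroups of the symmetric group and their invariant sets (helper584; NODE LIE, K-fact (ZS))

`P` is a Sylow 2-subgroup of `Equiv.Perm ι`.

* `mem_of_sq`: `P ≤ K`, `w ∈ N(K)`, `w² ∈ K` imply `w ∈ K` (any group);
* `const_of_shift`: `f, h : ι → ZMod 2` are shifted by the elements of `P`; if some `p ∈ P` fixes `f` and shifts `h` by
  `1` then `f` is constant;
* `eq_of_card`: two `P`-invariant `0-1`-functions with the same number of ones are equal;
* `unique_of_shift`: two `0-1`-functions shifted by `P` whose numbers of ones are the same (or complementary) are equal or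
  complementary.
-/

set_option autoImplicit false
set_option linter.dupNamespace false

namespace Cfsg.Agent.Omega.Lie.PermSyl

open Equiv

section gen

variable {G : Type*} [Group G] [Finite G]

/-- `N(K)/K` has odd order if `K` contains a Sylow 2-subgroup. -/
theorem mem_of_sq (P : Sylow 2 G) {K : Subgroup G} (hK : (P : Subgroup G) ≤ K) {w : G}
    (hw : ∀ g ∈ K, w * g * w⁻¹ ∈ K) (hw2 : w * w ∈ K) : w ∈ K := by
  classical
  have : Fact (Nat.Prime 2) := ⟨Nat.prime_two⟩
  have hwN : w ∈ Subgroup.normalizer (K : Set G) := by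
    have hle : Subgroup.map (MulAut.conj w).toMonoidHom K ≤ K := by
      rintro _ ⟨g, hg, rfl⟩
      exact hw g hg
    have hcard : Nat.card (Subgroup.map (MulAut.conj w).toMonoidHom K) = Nat.card K :=
      Nat.card_congr (K.equivMapOfInjective _ (MulAut.conj w).injective).symm.toEquiv
    have heq : Subgroup.map (MulAut.conj w).toMonoidHom K = K :=
      Subgroup.eq_of_le_of_card_ge hle (le_of_eq hcard.symm)
    rw [Subgroup.mem_normalizer_iff]
    intro g
    constructor
    · intro hg; exact hw g hg
    · intro hg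
      have h1 : w * g * w⁻¹ ∈ Subgroup.map (MulAut.conj w).toMonoidHom K := by
        rw [heq]; exact hg
      obtain ⟨y, hy, hyx⟩ := h1
      have : y = g := (MulAut.conj w).injective (by simpa using hyx)
      rw [← this]; exact hy
  set N := Subgroup.normalizer (K : Set G) with hN
  have hKN : K ≤ N := Subgroup.le_normalizer
  have hodd : ¬ 2 ∣ K.relIndex N := by
    intro h2
    apply P.not_dvd_index
    refine h2.trans ?_
    have h3 : K.relIndex N ∣ K.index := ⟨N.index, (Subgroup.relIndex_mul_index hKN).symm⟩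
    exact h3.trans (Subgroup.index_dvd_of_le hK)
  have : (K.subgroupOf N).Normal := Subgroup.normal_in_normalizer
  let x : N ⧸ K.subgroupOf N := QuotientGroup.mk ⟨w, hwN⟩
  have hx2 : x ^ 2 = 1 := by
    rw [pow_two]
    change (QuotientGroup.mk (⟨w, hwN⟩ * ⟨w, hwN⟩ : N) : N ⧸ K.subgroupOf N) = 1
    rw [QuotientGroup.eq_one_iff]
    exact hw2
  have hx : x = 1 := by
    have h1 : orderOf x ∣ 2 := orderOf_dvd_of_pow_eq_one hx2
    have h2 : orderOf x ∣ K.relIndex N := orderOf_dvd_natCard x
    have h3 : orderOf x ∣ Nat.gcd 2 (K.relIndex N) := Nat.dvd_gcd h1 h2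
    have h4 : Nat.gcd 2 (K.relIndex N) = 1 :=
      ((Nat.Prime.coprime_iff_not_dvd Nat.prime_two).2 hodd)
    rw [h4, Nat.dvd_one] at h3
    exact orderOf_eq_one_iff.1 h3
  have := (QuotientGroup.eq_one_iff (N := K.subgroupOf N) (⟨w, hwN⟩ : N)).1 hx
  exact this

end gen


section perm

variable {ι : Type*} [Finite ι]

omit [Finite ι] in
theorem apply_inv (g : Perm ι) (i : ι) : g (g⁻¹ i) = i := by simp

/-- the permutations which shift both functions -/
def shiftGroup (f h : ι → ZMod 2) : Subgroup (Perm ι) where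
  carrier := {g | ∃ c d : ZMod 2, ∀ i, f (g i) = f i + c ∧ h (g i) = h i + d}
  mul_mem' := by
    rintro g g' ⟨c, d, h1⟩ ⟨c', d', h2⟩
    refine ⟨c + c', d + d', fun i => ⟨?_, ?_⟩⟩
    · rw [Perm.mul_apply, (h1 _).1, (h2 _).1]; ring
    · rw [Perm.mul_apply, (h1 _).2, (h2 _).2]; ring
  one_mem' := ⟨0, 0, fun i => ⟨by simp, by simp⟩⟩
  inv_mem' := by
    rintro g ⟨c, d, h1⟩
    refine ⟨-c, -d, fun i => ⟨?_, ?_⟩⟩
    · have := (h1 (g⁻¹ i)).1
      rw [apply_inv] at this
      rw [this]; ring
    · have := (h1 (g⁻¹ i)).2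
      rw [apply_inv] at this
      rw [this]; ring

/-- **Lemma U**: an element of `P` which fixes `f` and shifts `h` forces `f` to be constant. -/
theorem const_of_shift (P : Sylow 2 (Perm ι)) {f h : ι → ZMod 2}
    (hf : ∀ p ∈ P, ∃ c, ∀ i, f (p i) = f i + c) (hh : ∀ p ∈ P, ∃ c, ∀ i, h (p i) = h i + c)
    {p : Perm ι} (hpf : ∀ i, f (p i) = f i) (hph : ∀ i, h (p i) = h i + 1) (i j : ι) :
    f i = f j := by
  classical
  have hK : (P : Subgroup (Perm ι)) ≤ shiftGroup f h := by
    intro g hg
    obtain ⟨c, hc⟩ := hf g hg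
    obtain ⟨d, hd⟩ := hh g hg
    exact ⟨c, d, fun i => ⟨hc i, hd i⟩⟩
  have h01 : ∀ x : ZMod 2, x = 0 ∨ x = 1 := by decide
  have hpi : ∀ i, f (p i) = 1 ↔ f i = 1 := fun i => by rw [hpf]
  let w : Perm ι := Perm.ofSubtype (p.subtypePerm (p := fun i => f i = 1) hpi)
  have hw1 : ∀ i, f i = 1 → w i = p i := by
    intro i hi
    have h1 := Perm.ofSubtype_apply_of_mem (p.subtypePerm (p := fun i => f i = 1) hpi) hi
    exact h1
  have hw0 : ∀ i, f i ≠ 1 → w i = i := by
    intro i hi
    exact Perm.ofSubtype_apply_of_not_mem _ hi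
  have hwf : ∀ i, f (w i) = f i := by
    intro i
    by_cases hi : f i = 1
    · rw [hw1 i hi, hpf]
    · rw [hw0 i hi]
  have hwh : ∀ i, h (w i) = h i + f i := by
    intro i
    by_cases hi : f i = 1
    · rw [hw1 i hi, hph, hi]
    · rw [hw0 i hi]
      rcases h01 (f i) with h | h
      · rw [h, add_zero]
      · exact absurd h hi
  have hwf' : ∀ i, f (w⁻¹ i) = f i := by
    intro i
    have := hwf (w⁻¹ i)
    rw [apply_inv] at this
    exact this.symm
  have hwh' : ∀ i, h (w⁻¹ i) = h i + f i := by
    intro i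
    have := hwh (w⁻¹ i)
    rw [apply_inv, hwf'] at this
    rw [this, add_assoc, CharTwo.add_self_eq_zero, add_zero]
  have hw : ∀ g ∈ shiftGroup f h, w * g * w⁻¹ ∈ shiftGroup f h := by
    rintro g ⟨c, d, hg⟩
    refine ⟨c, d + c, fun i => ⟨?_, ?_⟩⟩
    · rw [Perm.mul_apply, Perm.mul_apply, hwf, (hg _).1, hwf']
    · rw [Perm.mul_apply, Perm.mul_apply, hwh, (hg _).1, (hg _).2, hwf', hwh']
      have : h i + f i + d + (f i + c) = h i + (d + c) + (f i + f i) := by ring
      rw [this, CharTwo.add_self_eq_zero, add_zero]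
  have hw2 : w * w ∈ shiftGroup f h := by
    refine ⟨0, 0, fun i => ⟨?_, ?_⟩⟩
    · rw [Perm.mul_apply, hwf, hwf, add_zero]
    · rw [Perm.mul_apply, hwh, hwh, hwf, add_zero, add_assoc, CharTwo.add_self_eq_zero, add_zero]
  obtain ⟨c, d, hcd⟩ := mem_of_sq P hK hw hw2
  have key : ∀ i, f i = d := by
    intro i
    have h1 := (hcd i).2
    rw [hwh] at h1
    exact add_left_cancel h1
  rw [key i, key j]

/-- **Lemma 1**: two `P`-invariant `0-1`-functions with the same number of ones are equal. -/
theorem eq_of_card [Fintype ι] (P : Sylow 2 (Perm ι)) {a b : ι → ZMod 2}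
    (ha : ∀ p ∈ P, ∀ i, a (p i) = a i) (hb : ∀ p ∈ P, ∀ i, b (p i) = b i)
    (hc : (Finset.univ.filter fun i => a i = 1).card = (Finset.univ.filter fun i => b i = 1).card) :
    a = b := by
  classical
  have h01 : ∀ x : ZMod 2, x = 0 ∨ x = 1 := by decide
  set A := Finset.univ.filter fun i => a i = 1 with hA
  set B := Finset.univ.filter fun i => b i = 1 with hB
  have hcard : (A \ B).card = (B \ A).card := by
    have h1 := Finset.card_sdiff_add_card_inter A B
    have h2 := Finset.card_sdiff_add_card_inter B A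
    rw [Finset.inter_comm] at h2
    omega
  have memA : ∀ i, i ∈ A ↔ a i = 1 := fun i => by simp [hA]
  have memB : ∀ i, i ∈ B ↔ b i = 1 := fun i => by simp [hB]
  let e : (A \ B : Finset ι) ≃ (B \ A : Finset ι) := Finset.equivOfCardEq hcard
  let w0 : ι → ι := fun i =>
    if h : i ∈ A \ B then (e ⟨i, h⟩ : ι) else if h : i ∈ B \ A then (e.symm ⟨i, h⟩ : ι) else i
  have w0A : ∀ i (h : i ∈ A \ B), w0 i = (e ⟨i, h⟩ : ι) := by
    intro i h
    simp only [w0, dif_pos h]
  have w0B : ∀ i (h : i ∈ B \ A), w0 i = (e.symm ⟨i, h⟩ : ι) := by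
    intro i h
    have h' : i ∉ A \ B := by
      rw [Finset.mem_sdiff] at h ⊢
      tauto
    simp only [w0, dif_neg h', dif_pos h]
  have w0N : ∀ i, i ∉ A \ B → i ∉ B \ A → w0 i = i := by
    intro i h h'
    simp only [w0, dif_neg h, dif_neg h']
  have hinv : Function.Involutive w0 := by
    intro i
    by_cases h1 : i ∈ A \ B
    · rw [w0A i h1, w0B _ (e ⟨i, h1⟩).2]
      simp
    · by_cases h2 : i ∈ B \ A
      · rw [w0B i h2, w0A _ (e.symm ⟨i, h2⟩).2]
        simp
      · rw [w0N i h1 h2, w0N i h1 h2]
  let w : Perm ι := hinv.toPerm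
  have hw : ∀ i, w i = w0 i := fun i => rfl
  have hwa : ∀ i, a (w i) = b i := by
    intro i
    rw [hw]
    by_cases h1 : i ∈ A \ B
    · have h2 := (e ⟨i, h1⟩).2
      rw [← w0A i h1] at h2
      rw [Finset.mem_sdiff, memA, memB] at h1 h2
      rcases h01 (a (w0 i)) with h3 | h3 <;> rcases h01 (b i) with h4 | h4 <;> rw [h3, h4] <;> tauto
    · by_cases h1' : i ∈ B \ A
      · have h2 := (e.symm ⟨i, h1'⟩).2
        rw [← w0B i h1'] at h2
        rw [Finset.mem_sdiff, memA, memB] at h1' h2
        rw [h2.1, h1'.1]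
      · rw [w0N i h1 h1']
        rw [Finset.mem_sdiff, memA, memB] at h1
        rw [Finset.mem_sdiff, memA, memB] at h1'
        rcases h01 (a i) with h3 | h3 <;> rcases h01 (b i) with h4 | h4 <;> rw [h3, h4]
        · exact absurd ⟨h4, by rw [h3]; decide⟩ h1'
        · exact absurd ⟨h3, by rw [h4]; decide⟩ h1
  have hww : ∀ i, w (w i) = i := hinv
  have hwb : ∀ i, b (w i) = a i := by
    intro i
    have := hwa (w i)
    rw [hww] at this
    exact this.symm
  let K : Subgroup (Perm ι) :=
    { carrier := {g | ∀ i, a (g i) = a i ∧ b (g i) = b i}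
      mul_mem' := by
        intro g g' h1 h2 i
        exact ⟨by rw [Perm.mul_apply, (h1 _).1, (h2 _).1], by rw [Perm.mul_apply, (h1 _).2, (h2 _).2]⟩
      one_mem' := fun i => ⟨rfl, rfl⟩
      inv_mem' := by
        intro g h1 i
        have h2 := h1 (g⁻¹ i)
        rw [apply_inv] at h2
        exact ⟨h2.1.symm, h2.2.symm⟩ }
  have hK : (P : Subgroup (Perm ι)) ≤ K := fun g hg i => ⟨ha g hg i, hb g hg i⟩
  have hwi : ∀ i, w⁻¹ i = w i := by
    intro i
    rw [Perm.inv_eq_iff_eq, hww]
  have hwm : w ∈ K := by
    refine mem_of_sq P hK ?_ ?_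
    · intro g hg i
      constructor
      · rw [Perm.mul_apply, Perm.mul_apply, hwa, (hg _).2, hwi, hwb]
      · rw [Perm.mul_apply, Perm.mul_apply, hwb, (hg _).1, hwi, hwa]
    · intro i
      rw [Perm.mul_apply, hww]
      exact ⟨rfl, rfl⟩
  funext i
  have := (hwm i).1
  rw [hwa] at this
  exact this.symm

/-- **uniqueness** of the `0-1`-functions shifted by a Sylow 2-subgroup of `S_n`, given the number of ones -/
theorem unique_of_shift [Fintype ι] [Nonempty ι] (P : Sylow 2 (Perm ι)) {a b : ι → ZMod 2}
    (ha : ∀ p ∈ P, ∃ c, ∀ i, a (p i) = a i + c) (hb : ∀ p ∈ P, ∃ c, ∀ i, b (p i) = b i + c)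
    (hc : (Finset.univ.filter fun i => a i = 1).card = (Finset.univ.filter fun i => b i = 1).card ∨
      (Finset.univ.filter fun i => a i = 1).card = (Finset.univ.filter fun i => b i = 0).card) :
    (∀ i, b i = a i) ∨ (∀ i, b i = a i + 1) := by
  classical
  have h01 : ∀ x : ZMod 2, x = 0 ∨ x = 1 := by decide
  have hn : (Finset.univ.filter fun i => b i = 1).card + (Finset.univ.filter fun i => b i = 0).card
      = Fintype.card ι := by
    have h1 := Finset.card_filter_add_card_filter_not (s := (Finset.univ : Finset ι)) (fun i => b i = 1)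
    rw [Finset.card_univ] at h1
    rw [← h1]
    congr 2
    refine Finset.filter_congr fun i _ => ?_
    rcases h01 (b i) with h | h <;> simp [h]
  have hna : (Finset.univ.filter fun i => a i = 1).card + (Finset.univ.filter fun i => a i = 0).card
      = Fintype.card ι := by
    have h1 := Finset.card_filter_add_card_filter_not (s := (Finset.univ : Finset ι)) (fun i => a i = 1)
    rw [Finset.card_univ] at h1
    rw [← h1]
    congr 2
    refine Finset.filter_congr fun i _ => ?_
    rcases h01 (a i) with h | h <;> simp [h]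
  have hpos : 0 < Fintype.card ι := Fintype.card_pos
  -- a moved function has as many ones as zeros
  have half : ∀ (f : ι → ZMod 2) (p : Perm ι), (∀ i, f (p i) = f i + 1) →
      (Finset.univ.filter fun i => f i = 1).card = (Finset.univ.filter fun i => f i = 0).card := by
    intro f p hp
    refine Finset.card_bij (fun i _ => p i) ?_ ?_ ?_
    · intro i hi
      simp only [Finset.mem_filter, Finset.mem_univ, true_and] at hi ⊢
      rw [hp, hi]; decide
    · intro i _ j _ h
      exact p.injective h
    · intro j hj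
      simp only [Finset.mem_filter, Finset.mem_univ, true_and] at hj
      refine ⟨p⁻¹ j, ?_, by simp⟩
      simp only [Finset.mem_filter, Finset.mem_univ, true_and]
      have h1 := hp (p⁻¹ j)
      rw [apply_inv, hj] at h1
      rcases h01 (f (p⁻¹ j)) with h | h
      · rw [h] at h1; exact absurd h1 (by decide)
      · exact h
  -- a constant function has no ones or no zeros
  have cst : ∀ (f : ι → ZMod 2), (∀ i j, f i = f j) →
      (Finset.univ.filter fun i => f i = 1).card = 0 ∨
        (Finset.univ.filter fun i => f i = 0).card = 0 := by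
    intro f hf
    obtain ⟨i0⟩ := (inferInstance : Nonempty ι)
    rcases h01 (f i0) with h | h
    · left
      rw [Finset.card_eq_zero, Finset.filter_eq_empty_iff]
      intro i _
      rw [hf i i0, h]; decide
    · right
      rw [Finset.card_eq_zero, Finset.filter_eq_empty_iff]
      intro i _
      rw [hf i i0, h]; decide
  by_cases hA : ∀ p ∈ P, ∀ i, a (p i) = a i
  · by_cases hB : ∀ p ∈ P, ∀ i, b (p i) = b i
    · rcases hc with hc | hc
      · left
        intro i
        rw [eq_of_card P hA hB hc]
      · right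
        have h1 : a = fun i => b i + 1 := by
          refine eq_of_card P hA (fun p hp i => by rw [hB p hp]) ?_
          rw [hc]
          congr 1
          ext i
          rcases h01 (b i) with h | h <;> simp [h]
        intro i
        have h2 := congrFun h1 i
        rw [h2, add_assoc, CharTwo.add_self_eq_zero, add_zero]
    · exfalso
      push Not at hB
      obtain ⟨p, hp, i, hi⟩ := hB
      obtain ⟨c, hc'⟩ := hb p hp
      have hc1 : c = 1 := by
        rcases h01 c with h | h
        · rw [hc', h, add_zero] at hi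
          exact absurd rfl hi
        · exact h
      subst hc1
      have h1 := cst a (const_of_shift P ha hb (hA p hp) hc')
      have h2 := half b p hc'
      omega
  · push Not at hA
    obtain ⟨p, hp, i, hi⟩ := hA
    obtain ⟨c, hc'⟩ := ha p hp
    have hc1 : c = 1 := by
      rcases h01 c with h | h
      · rw [hc', h, add_zero] at hi
        exact absurd rfl hi
      · exact h
    subst hc1
    have h1 := half a p hc'
    obtain ⟨d, hd⟩ := hb p hp
    rcases h01 d with h | h
    · exfalso
      subst h
      have hd' : ∀ i, b (p i) = b i := fun i => by rw [hd, add_zero]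
      have h2 := cst b (const_of_shift P hb ha hd' hc')
      omega
    · subst h
      have key : ∀ i j, (fun k => a k + b k) i = (fun k => a k + b k) j := by
        refine const_of_shift P (h := a) ?_ ha ?_ hc'
        · intro g hg
          obtain ⟨c, hc⟩ := ha g hg
          obtain ⟨d, hd⟩ := hb g hg
          refine ⟨c + d, fun i => ?_⟩
          simp only [hc, hd]; ring
        · intro i
          simp only [hc', hd]
          have : a i + 1 + (b i + 1) = a i + b i + (1 + 1) := by ring
          rw [this, CharTwo.add_self_eq_zero, add_zero]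
      obtain ⟨i0⟩ := (inferInstance : Nonempty ι)
      have h3 : ∀ i, b i = a i + (a i0 + b i0) := by
        intro i
        have h4 := key i i0
        simp only at h4
        rw [← h4, ← add_assoc, CharTwo.add_self_eq_zero, zero_add]
      rcases h01 (a i0 + b i0) with h | h
      · left
        intro i
        rw [h3 i, h, add_zero]
      · right
        intro i
        rw [h3 i, h]

end perm

end Cfsg.Agent.Omega.Lie.PermSyl
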