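import Mathlib
import Cfsg.Agent.Omega.Lie.CenMat
import Cfsg.Agent.Omega.Lie.PermSyl
import Cfsg.Agent.ClassicalGeometry.AutPSL.Main

/-!
# The row `PSL_n(r)`, `r` odd, of the K-fact (ZS) (helper584; NODE LIE)

* `noCenMove_three`: `NoCenMove (PSL_n(F))` for `n ≥ 3`, `F` a finite field of odd characteristic;
* `monoGrp P`: the signed permutation matrices of determinant one over a subgroup `P` of the symmetric group.
-/

set_option autoImplicit false
set_option linter.dupNamespace false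
set_option linter.unusedSectionVars false

namespace Cfsg.Agent.Omega.Lie.CenLin

open Matrix Equiv CenMat
open Cfsg.Agent.ClassicalGeometry.AutPSL.Root
open Cfsg.Agent.ClassicalGeometry.AutPSL.Auto

section mono

variable {ι F : Type*} [Fintype ι] [DecidableEq ι] [Field F]

/-- signed permutation matrices of determinant 1 over `P` -/
def monoGrp (F : Type*) [Field F] (P : Subgroup (Perm ι)) : Subgroup (SpecialLinearGroup ι F) where
  carrier := {g | ∃ p ∈ P, ∃ s : ι → F, (∀ i, s i * s i = 1) ∧ (g : Matrix ι ι F) = mono s p}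
  mul_mem' := by
    rintro g h ⟨p, hp, s, hs, hg⟩ ⟨r, hr, t, ht, hh⟩
    refine ⟨p * r, P.mul_mem hp hr, fun i => s i * t (p⁻¹ i), fun i => ?_, ?_⟩
    · have h1 := hs i
      have h2 := ht (p⁻¹ i)
      calc s i * t (p⁻¹ i) * (s i * t (p⁻¹ i)) = (s i * s i) * (t (p⁻¹ i) * t (p⁻¹ i)) := by ring
        _ = 1 := by rw [h1, h2, one_mul]
    · rw [Matrix.SpecialLinearGroup.coe_mul, hg, hh, mono_mul]
  one_mem' := ⟨1, P.one_mem, fun _ => 1, fun _ => one_mul 1, by
    rw [Matrix.SpecialLinearGroup.coe_one, mono_one]⟩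
  inv_mem' := by
    rintro g ⟨p, hp, s, hs, hg⟩
    refine ⟨p⁻¹, P.inv_mem hp, fun i => s (p i), fun i => hs _, ?_⟩
    have h1 : (g : Matrix ι ι F) * mono (fun i => s (p i)) p⁻¹ = 1 := by
      rw [hg, mono_mul, mul_inv_cancel, ← mono_one]
      congr 1
      funext i
      have : p (p⁻¹ i) = i := by simp
      rw [this, hs]
    calc ((g⁻¹ : SpecialLinearGroup ι F) : Matrix ι ι F)
        = (g⁻¹ : SpecialLinearGroup ι F) * ((g : Matrix ι ι F) * mono (fun i => s (p i)) p⁻¹) := by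
          rw [h1, mul_one]
      _ = ((g⁻¹ * g : SpecialLinearGroup ι F) : Matrix ι ι F) * mono (fun i => s (p i)) p⁻¹ := by
          rw [← Matrix.mul_assoc, ← Matrix.SpecialLinearGroup.coe_mul]
      _ = _ := by rw [inv_mul_cancel, Matrix.SpecialLinearGroup.coe_one, one_mul]

theorem mem_monoGrp {P : Subgroup (Perm ι)} {g : SpecialLinearGroup ι F} :
    g ∈ monoGrp F P ↔ ∃ p ∈ P, ∃ s : ι → F, (∀ i, s i * s i = 1) ∧ (g : Matrix ι ι F) = mono s p :=
  Iff.rfl

theorem pow_mono {g : SpecialLinearGroup ι F} {p : Perm ι} {s : ι → F} (hs : ∀ i, s i * s i = 1)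
    (hg : (g : Matrix ι ι F) = mono s p) (m : ℕ) :
    ∃ t : ι → F, (∀ i, t i * t i = 1) ∧ ((g ^ m : SpecialLinearGroup ι F) : Matrix ι ι F)
      = mono t (p ^ m) := by
  induction m with
  | zero =>
    refine ⟨fun _ => 1, fun _ => one_mul 1, ?_⟩
    rw [pow_zero, pow_zero, Matrix.SpecialLinearGroup.coe_one, mono_one]
  | succ m ih =>
    obtain ⟨t, ht, hgm⟩ := ih
    refine ⟨fun i => t i * s ((p ^ m)⁻¹ i), fun i => ?_, ?_⟩
    · have h1 := ht i
      have h2 := hs ((p ^ m)⁻¹ i)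
      calc t i * s ((p ^ m)⁻¹ i) * (t i * s ((p ^ m)⁻¹ i))
          = (t i * t i) * (s ((p ^ m)⁻¹ i) * s ((p ^ m)⁻¹ i)) := by ring
        _ = 1 := by rw [h1, h2, one_mul]
    · rw [pow_succ, pow_succ, Matrix.SpecialLinearGroup.coe_mul, hgm, hg, mono_mul]

theorem isPGroup_monoGrp {P : Subgroup (Perm ι)} (hP : IsPGroup 2 P) :
    IsPGroup 2 (monoGrp F P) := by
  rintro ⟨g, p, hp, s, hs, hg⟩
  obtain ⟨k, hk⟩ := hP ⟨p, hp⟩
  have hk' : p ^ (2 ^ k) = 1 := congrArg Subtype.val hk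
  obtain ⟨t, ht, hgm⟩ := pow_mono hs hg (2 ^ k)
  refine ⟨k + 1, ?_⟩
  apply Subtype.ext
  apply Subtype.ext
  change ((g ^ (2 ^ (k + 1)) : SpecialLinearGroup ι F) : Matrix ι ι F) = 1
  rw [pow_succ, pow_mul, pow_two, Matrix.SpecialLinearGroup.coe_mul, hgm, hk', mono_mul, one_mul,
    ← mono_one]
  congr 1
  funext i
  rw [inv_one, Perm.one_apply, ht]

end mono

section psl

variable {F : Type*} [Field F] [Fintype F] [DecidableEq F] {n : ℕ}

theorem smul_sg_conj {x y : SpecialLinearGroup (Fin n) F} {a b : F} {f g : Fin n → ZMod 2}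
    (hb : b ≠ 0) (hx : (x : Matrix (Fin n) (Fin n) F) = a • sg F f)
    (hy : (y : Matrix (Fin n) (Fin n) F) = b • sg F g) {A : GL (Fin n) F} {σ : F ≃+* F}
    (h : lift (cj A * fld σ) (pr x) = pr y) :
    ∃ (C : Matrix (Fin n) (Fin n) F) (κ : F), IsUnit C.det ∧ sg F g * C = κ • (C * sg F f) := by
  rw [lift_pr, MulAut.mul_apply] at h
  obtain ⟨c, hc⟩ := exists_smul_of_pr_eq h
  have h1 : ((fld σ x : SpecialLinearGroup (Fin n) F) : Matrix (Fin n) (Fin n) F) = σ a • sg F f := by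
    ext i j
    rw [coe_fld_apply, hx, Matrix.smul_apply, Matrix.smul_apply, smul_eq_mul, smul_eq_mul, map_mul]
    congr 1
    rw [sg, diagonal_apply]
    by_cases hij : i = j
    · rw [if_pos hij, sgn]
      split_ifs
      · rw [map_neg, map_one]
      · rw [map_one]
    · rw [if_neg hij, map_zero]
  refine ⟨(A : Matrix (Fin n) (Fin n) F), b⁻¹ * (c * σ a), ?_, ?_⟩
  · exact (Matrix.isUnit_iff_isUnit_det _).1 A.isUnit
  · rw [coe_cj, h1, hy] at hc
    have h2 : b • (sg F g * (A : Matrix (Fin n) (Fin n) F))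
        = (c * σ a) • ((A : Matrix (Fin n) (Fin n) F) * sg F f) := by
      calc b • (sg F g * (A : Matrix (Fin n) (Fin n) F))
          = (b • sg F g) * (A : Matrix (Fin n) (Fin n) F) := by rw [Matrix.smul_mul]
        _ = (c * σ a) • ((A : Matrix (Fin n) (Fin n) F) * sg F f
              * ((A⁻¹ : GL (Fin n) F) : Matrix (Fin n) (Fin n) F)
              * (A : Matrix (Fin n) (Fin n) F)) := by
            rw [hc, Matrix.mul_smul, Matrix.smul_mul, Matrix.smul_mul, Matrix.smul_mul, smul_smul]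
        _ = _ := by
            rw [Matrix.mul_assoc _ ((A⁻¹ : GL (Fin n) F) : Matrix (Fin n) (Fin n) F), ← Units.val_mul,
              inv_mul_cancel, Units.val_one, Matrix.mul_one]
    rw [mul_smul, ← h2, smul_smul, inv_mul_cancel₀ hb, one_smul]

theorem coe_itr_sg {x : SpecialLinearGroup (Fin n) F} {a : F} (ha : a ≠ 0) {f : Fin n → ZMod 2}
    (hx : (x : Matrix (Fin n) (Fin n) F) = a • sg F f) :
    ((itr x : SpecialLinearGroup (Fin n) F) : Matrix (Fin n) (Fin n) F) = a⁻¹ • sg F f := by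
  rw [coe_itr]
  have h1 : (x : Matrix (Fin n) (Fin n) F) * (a⁻¹ • sg F f) = 1 := by
    rw [hx, Matrix.mul_smul, Matrix.smul_mul, smul_smul, sg_mul_self, inv_mul_cancel₀ ha, one_smul]
  have h2 : ((x⁻¹ : SpecialLinearGroup (Fin n) F) : Matrix (Fin n) (Fin n) F) = a⁻¹ • sg F f := by
    calc ((x⁻¹ : SpecialLinearGroup (Fin n) F) : Matrix (Fin n) (Fin n) F)
        = (x⁻¹ : SpecialLinearGroup (Fin n) F) * ((x : Matrix (Fin n) (Fin n) F) * (a⁻¹ • sg F f)) := by
          rw [h1, Matrix.mul_one]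
      _ = ((x⁻¹ * x : SpecialLinearGroup (Fin n) F) : Matrix (Fin n) (Fin n) F) * (a⁻¹ • sg F f) := by
          rw [← Matrix.mul_assoc, ← Matrix.SpecialLinearGroup.coe_mul]
      _ = _ := by rw [inv_mul_cancel, Matrix.SpecialLinearGroup.coe_one, Matrix.one_mul]
  rw [h2, transpose_smul, sg, diagonal_transpose]

/-- two sign vectors conjugate under the automorphism group of `PSL_n` -/
theorem exists_conj_form (hn : 3 ≤ n) {x y : SpecialLinearGroup (Fin n) F} {a b : F}
    {f g : Fin n → ZMod 2} (ha : a ≠ 0) (hb : b ≠ 0)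
    (hx : (x : Matrix (Fin n) (Fin n) F) = a • sg F f)
    (hy : (y : Matrix (Fin n) (Fin n) F) = b • sg F g)
    {τ : MulAut (ProjectiveSpecialLinearGroup (Fin n) F)} (h : τ (pr x) = pr y) :
    ∃ (C : Matrix (Fin n) (Fin n) F) (κ : F), IsUnit C.det ∧ sg F g * C = κ • (C * sg F f) := by
  obtain ⟨p, hp⟩ := CharP.exists F
  have hpp : Fact p.Prime := ⟨CharP.char_is_prime F p⟩
  rcases Cfsg.Agent.ClassicalGeometry.AutPSL.Main.surj_three p hn τ with ⟨A, σ, rfl⟩ | ⟨A, σ, rfl⟩
  · exact smul_sg_conj hb hx hy h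
  · rw [map_mul, MulAut.mul_apply, lift_pr] at h
    exact smul_sg_conj hb (coe_itr_sg ha hx) hy h

theorem comm_of_cent {E : Subgroup (SpecialLinearGroup (Fin n) F)}
    {x : SpecialLinearGroup (Fin n) F}
    (hx : ∀ e ∈ E.map pr, e * pr x = pr x * e) {e : SpecialLinearGroup (Fin n) F} (he : e ∈ E) :
    ∃ c : F, (x : Matrix (Fin n) (Fin n) F) * (e : Matrix (Fin n) (Fin n) F)
      = c • ((e : Matrix (Fin n) (Fin n) F) * (x : Matrix (Fin n) (Fin n) F)) := by
  have h1 := hx (pr e) ⟨e, he, rfl⟩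
  rw [← map_mul, ← map_mul] at h1
  obtain ⟨c, hc⟩ := exists_smul_of_pr_eq h1
  exact ⟨c, by rw [← Matrix.SpecialLinearGroup.coe_mul, ← Matrix.SpecialLinearGroup.coe_mul, hc]⟩

theorem sq_scalar {x : SpecialLinearGroup (Fin n) F} (hx : pr x * pr x = 1) :
    ∃ c : F, (x : Matrix (Fin n) (Fin n) F) * (x : Matrix (Fin n) (Fin n) F)
      = c • (1 : Matrix (Fin n) (Fin n) F) := by
  rw [← map_mul, ← map_one pr] at hx
  obtain ⟨c, hc⟩ := exists_smul_of_pr_eq hx.symm
  exact ⟨c, by rw [← Matrix.SpecialLinearGroup.coe_mul, hc, Matrix.SpecialLinearGroup.coe_one]⟩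

theorem noCenMove_ne_four (h2 : (2 : F) ≠ 0) (hn : 3 ≤ n) (hn4 : n ≠ 4) :
    CenTwo.NoCenMove (ProjectiveSpecialLinearGroup (Fin n) F) := by
  have : Nonempty (Fin n) := ⟨⟨0, by omega⟩⟩
  obtain ⟨P⟩ : Nonempty (Sylow 2 (Perm (Fin n))) := inferInstance
  have hE : IsPGroup 2 ((monoGrp F (P : Subgroup (Perm (Fin n)))).map
      (pr : SpecialLinearGroup (Fin n) F →* _)) :=
    (isPGroup_monoGrp P.isPGroup').map _
  refine of_cent hE ?_
  intro u τ hu hτ huu
  obtain ⟨x, rfl⟩ := pr_surjective u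
  obtain ⟨y, hy⟩ := pr_surjective (τ (pr x))
  rw [← hy] at hτ
  have hyy : pr y * pr y = 1 := by rw [hy, ← map_mul, huu, map_one]
  have core' : ∀ z : SpecialLinearGroup (Fin n) F,
      (∀ e ∈ (monoGrp F (P : Subgroup (Perm (Fin n)))).map pr, e * pr z = pr z * e) →
      pr z * pr z = 1 → ∃ (a : F) (f : Fin n → ZMod 2), a ≠ 0 ∧
        (z : Matrix (Fin n) (Fin n) F) = a • sg F f ∧ ∀ p ∈ P, ∃ c, ∀ i, f (p i) = f i + c := by
    intro z hz hzz
    obtain ⟨μ, hμ⟩ := sq_scalar hzz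
    have hdet : IsUnit ((z : Matrix (Fin n) (Fin n) F)).det := by
      rw [z.2]; exact isUnit_one
    refine core h2 (by rw [Fintype.card_fin]; exact hn) (by rw [Fintype.card_fin]; exact hn4)
      (P := (P : Set (Perm (Fin n)))) P.one_mem hdet hμ ?_
    intro s hs p hp hd
    exact comm_of_cent hz (e := ⟨mono s p, hd⟩) (mem_monoGrp.2 ⟨p, hp, s, hs, rfl⟩)
  obtain ⟨a, f, ha, hxf, hf⟩ := core' x hu huu
  obtain ⟨b, g, hb, hyg, hg⟩ := core' y hτ hyy
  obtain ⟨C, κ, hC, hκ⟩ := exists_conj_form hn ha hb hxf hyg hy.symm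
  rw [← hy]
  symm
  rcases PermSyl.unique_of_shift P hf hg (conj_card h2 hC hκ) with h | h
  · have h3 : g = f := funext h
    apply pr_eq_of_smul (c := b * a⁻¹)
    rw [hyg, hxf, smul_smul, mul_assoc, inv_mul_cancel₀ ha, mul_one, h3]
  · have h3 : g = fun i => f i + 1 := funext h
    apply pr_eq_of_smul (c := -(b * a⁻¹))
    rw [hyg, hxf, smul_smul, h3, sg_add_one, smul_neg, neg_mul, neg_smul, mul_assoc,
      inv_mul_cancel₀ ha, mul_one]

end psl

/-! ### `n = 4` -/

section four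

variable {F : Type*} [Field F]

/-- a square root of `-1` in the upper block -/
def bt (p q r : F) (h : p * p + q * r = -1) : SpecialLinearGroup (Fin 4) F :=
  ⟨!![p, q, 0, 0; r, -p, 0, 0; 0, 0, 1, 0; 0, 0, 0, 1], by
    simp [Matrix.det_succ_row_zero, Fin.sum_univ_succ, Fin.succAbove]
    linear_combination -h⟩

/-- a square root of `-1` in the lower block -/
def bl (p q r : F) (h : p * p + q * r = -1) : SpecialLinearGroup (Fin 4) F :=
  ⟨!![1, 0, 0, 0; 0, 1, 0, 0; 0, 0, p, q; 0, 0, r, -p], by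
    simp [Matrix.det_succ_row_zero, Fin.sum_univ_succ]
    linear_combination -h⟩

/-- the swap of the two blocks -/
def sw (F : Type*) [Field F] : SpecialLinearGroup (Fin 4) F :=
  ⟨!![0, 0, 1, 0; 0, 0, 0, 1; 1, 0, 0, 0; 0, 1, 0, 0], by
    simp [Matrix.det_succ_row_zero, Fin.sum_univ_succ, Fin.succAbove]⟩

theorem coe_bt (p q r : F) (h : p * p + q * r = -1) : (bt p q r h : Matrix (Fin 4) (Fin 4) F)
    = !![p, q, 0, 0; r, -p, 0, 0; 0, 0, 1, 0; 0, 0, 0, 1] := rfl

theorem coe_bl (p q r : F) (h : p * p + q * r = -1) : (bl p q r h : Matrix (Fin 4) (Fin 4) F)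
    = !![1, 0, 0, 0; 0, 1, 0, 0; 0, 0, p, q; 0, 0, r, -p] := rfl

theorem coe_sw : (sw F : Matrix (Fin 4) (Fin 4) F)
    = !![0, 0, 1, 0; 0, 0, 0, 1; 1, 0, 0, 0; 0, 1, 0, 0] := rfl

theorem bt_pow (p q r : F) (h : p * p + q * r = -1) : (bt p q r h) ^ (2 ^ 2) = 1 := by
  have h1 : (bt p q r h * bt p q r h) * (bt p q r h * bt p q r h) = 1 := by
    apply Subtype.ext
    rw [Matrix.SpecialLinearGroup.coe_mul, Matrix.SpecialLinearGroup.coe_mul, coe_bt]
    have e1 : (!![p, q, 0, 0; r, -p, 0, 0; 0, 0, 1, 0; 0, 0, 0, 1] : Matrix (Fin 4) (Fin 4) F)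
        * !![p, q, 0, 0; r, -p, 0, 0; 0, 0, 1, 0; 0, 0, 0, 1]
        = !![-1, 0, 0, 0; 0, -1, 0, 0; 0, 0, 1, 0; 0, 0, 0, 1] := by
      ext i j
      fin_cases i <;> fin_cases j <;> simp [Matrix.mul_apply, Fin.sum_univ_four]
      · exact h
      · ring
      · ring
      · linear_combination h
    rw [e1]
    ext i j
    fin_cases i <;> fin_cases j <;> simp [Matrix.mul_apply, Fin.sum_univ_four]
  rw [show (2 ^ 2 : ℕ) = 2 + 2 from rfl, pow_add, pow_two, h1]

theorem bl_pow (p q r : F) (h : p * p + q * r = -1) : (bl p q r h) ^ (2 ^ 2) = 1 := by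
  have h1 : (bl p q r h * bl p q r h) * (bl p q r h * bl p q r h) = 1 := by
    apply Subtype.ext
    rw [Matrix.SpecialLinearGroup.coe_mul, Matrix.SpecialLinearGroup.coe_mul, coe_bl]
    have e1 : (!![1, 0, 0, 0; 0, 1, 0, 0; 0, 0, p, q; 0, 0, r, -p] : Matrix (Fin 4) (Fin 4) F)
        * !![1, 0, 0, 0; 0, 1, 0, 0; 0, 0, p, q; 0, 0, r, -p]
        = !![1, 0, 0, 0; 0, 1, 0, 0; 0, 0, -1, 0; 0, 0, 0, -1] := by
      ext i j
      fin_cases i <;> fin_cases j <;> simp [Matrix.mul_apply, Fin.sum_univ_four]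
      · exact h
      · ring
      · ring
      · linear_combination h
    rw [e1]
    ext i j
    fin_cases i <;> fin_cases j <;> simp [Matrix.mul_apply, Fin.sum_univ_four]
  rw [show (2 ^ 2 : ℕ) = 2 + 2 from rfl, pow_add, pow_two, h1]

theorem sw_pow : (sw F) ^ (2 ^ 1) = 1 := by
  have h1 : sw F * sw F = 1 := by
    apply Subtype.ext
    rw [Matrix.SpecialLinearGroup.coe_mul, coe_sw]
    ext i j
    fin_cases i <;> fin_cases j <;> simp [Matrix.mul_apply, Fin.sum_univ_four]
  rw [pow_one, pow_two, h1]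

/-- the generators -/
def e1 (F : Type*) [Field F] : SpecialLinearGroup (Fin 4) F := bt 0 1 (-1) (by ring)
def e2 {a b : F} (h : a * a + b * b = -1) : SpecialLinearGroup (Fin 4) F := bt a b b h
def e3 (F : Type*) [Field F] : SpecialLinearGroup (Fin 4) F := bl 0 1 (-1) (by ring)
def e4 {a b : F} (h : a * a + b * b = -1) : SpecialLinearGroup (Fin 4) F := bl a b b h

theorem r12 {a b : F} (h : a * a + b * b = -1) : e1 F * e2 h * e1 F = e2 h := by
  apply Subtype.ext
  rw [Matrix.SpecialLinearGroup.coe_mul, Matrix.SpecialLinearGroup.coe_mul, e1, e2, coe_bt, coe_bt]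
  ext i j
  fin_cases i <;> fin_cases j <;> simp [Matrix.mul_apply, Fin.sum_univ_four]

theorem r34 {a b : F} (h : a * a + b * b = -1) : e3 F * e4 h * e3 F = e4 h := by
  apply Subtype.ext
  rw [Matrix.SpecialLinearGroup.coe_mul, Matrix.SpecialLinearGroup.coe_mul, e3, e4, coe_bl, coe_bl]
  ext i j
  fin_cases i <;> fin_cases j <;> simp [Matrix.mul_apply, Fin.sum_univ_four]

theorem comm_bt_bl {p q r p' q' r' : F} (h : p * p + q * r = -1) (h' : p' * p' + q' * r' = -1) :
    bl p' q' r' h' * bt p q r h = bt p q r h * bl p' q' r' h' := by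
  apply Subtype.ext
  rw [Matrix.SpecialLinearGroup.coe_mul, Matrix.SpecialLinearGroup.coe_mul, coe_bl, coe_bt]
  ext i j
  fin_cases i <;> fin_cases j <;> simp [Matrix.mul_apply, Fin.sum_univ_four]

theorem sw_bt {p q r : F} (h : p * p + q * r = -1) : sw F * bt p q r h = bl p q r h * sw F := by
  apply Subtype.ext
  rw [Matrix.SpecialLinearGroup.coe_mul, Matrix.SpecialLinearGroup.coe_mul, coe_sw, coe_bl, coe_bt]
  ext i j
  fin_cases i <;> fin_cases j <;> simp [Matrix.mul_apply, Fin.sum_univ_four]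

theorem sw_bl {p q r : F} (h : p * p + q * r = -1) : sw F * bl p q r h = bt p q r h * sw F := by
  apply Subtype.ext
  rw [Matrix.SpecialLinearGroup.coe_mul, Matrix.SpecialLinearGroup.coe_mul, coe_sw, coe_bl, coe_bt]
  ext i j
  fin_cases i <;> fin_cases j <;> simp [Matrix.mul_apply, Fin.sum_univ_four]

/-- the 2-group `(Q₈ × Q₈).2` -/
theorem isPGroup_four [Finite F] {a b : F} (h : a * a + b * b = -1) :
    IsPGroup 2 (Subgroup.closure ({sw F, e4 h, e3 F, e2 h, e1 F} : Set (SpecialLinearGroup (Fin 4) F))) := by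
  have h0 : IsPGroup 2 (Subgroup.closure (∅ : Set (SpecialLinearGroup (Fin 4) F))) := by
    rw [Subgroup.closure_empty]
    exact IsPGroup.of_bot
  have h1 := closure_insert h0 (w := e1 F) (k := 2) (bt_pow _ _ _ _) (by
    intro s hs; exact absurd hs (Set.notMem_empty s))
  rw [insert_empty_eq] at h1
  have h2 := closure_insert h1 (w := e2 h) (k := 2) (bt_pow _ _ _ _) (by
    intro s hs
    rw [Set.mem_singleton_iff] at hs
    rcases hs with rfl
    · have e : e2 h * e1 F * (e2 h)⁻¹ = (e1 F)⁻¹ := by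
        have := r12 h
        calc e2 h * e1 F * (e2 h)⁻¹ = (e1 F)⁻¹ * (e1 F * e2 h * e1 F) * (e2 h)⁻¹ := by group
          _ = (e1 F)⁻¹ := by rw [this]; group
      rw [e]
      exact Subgroup.inv_mem _ (Subgroup.subset_closure (by simp)))
  have h3 := closure_insert h2 (w := e3 F) (k := 2) (bl_pow _ _ _ _) (by
    intro s hs
    rw [Set.mem_insert_iff, Set.mem_singleton_iff] at hs
    rcases hs with rfl | rfl
    · have e : e3 F * e2 h * (e3 F)⁻¹ = e2 h := by
        rw [e3, e2, comm_bt_bl]; group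
      rw [e]
      exact Subgroup.subset_closure (by simp)
    · have e : e3 F * e1 F * (e3 F)⁻¹ = e1 F := by
        rw [e3, e1, comm_bt_bl]; group
      rw [e]
      exact Subgroup.subset_closure (by simp))
  have h4 := closure_insert h3 (w := e4 h) (k := 2) (bl_pow _ _ _ _) (by
    intro s hs
    rw [Set.mem_insert_iff, Set.mem_insert_iff, Set.mem_singleton_iff] at hs
    rcases hs with rfl | rfl | rfl
    · have e : e4 h * e3 F * (e4 h)⁻¹ = (e3 F)⁻¹ := by
        have := r34 h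
        calc e4 h * e3 F * (e4 h)⁻¹ = (e3 F)⁻¹ * (e3 F * e4 h * e3 F) * (e4 h)⁻¹ := by group
          _ = (e3 F)⁻¹ := by rw [this]; group
      rw [e]
      exact Subgroup.inv_mem _ (Subgroup.subset_closure (by simp))
    · have e : e4 h * e2 h * (e4 h)⁻¹ = e2 h := by
        rw [e4, e2, comm_bt_bl]; group
      rw [e]
      exact Subgroup.subset_closure (by simp)
    · have e : e4 h * e1 F * (e4 h)⁻¹ = e1 F := by
        rw [e4, e1, comm_bt_bl]; group
      rw [e]
      exact Subgroup.subset_closure (by simp))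
  refine (closure_insert h4 (w := sw F) (k := 1) sw_pow ?_)
  intro s hs
  rw [Set.mem_insert_iff, Set.mem_insert_iff, Set.mem_insert_iff, Set.mem_singleton_iff] at hs
  rcases hs with rfl | rfl | rfl | rfl
  · have e : sw F * e4 h * (sw F)⁻¹ = e2 h := by
      rw [e4, e2, sw_bl]; group
    rw [e]
    exact Subgroup.subset_closure (by simp)
  · have e : sw F * e3 F * (sw F)⁻¹ = e1 F := by
      rw [e3, e1, sw_bl]; group
    rw [e]
    exact Subgroup.subset_closure (by simp)
  · have e : sw F * e2 h * (sw F)⁻¹ = e4 h := by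
      rw [e4, e2, sw_bt]; group
    rw [e]
    exact Subgroup.subset_closure (by simp)
  · have e : sw F * e1 F * (sw F)⁻¹ = e3 F := by
      rw [e3, e1, sw_bt]; group
    rw [e]
    exact Subgroup.subset_closure (by simp)

theorem noCenMove_four [Fintype F] [DecidableEq F] (h2 : (2 : F) ≠ 0) :
    CenTwo.NoCenMove (ProjectiveSpecialLinearGroup (Fin 4) F) := by
  obtain ⟨a, b, hab⟩ : ∃ a b : F, a * a + b * b = -1 := by
    obtain ⟨p, hp⟩ := CharP.exists F
    have hpp : NeZero p := ⟨(CharP.char_is_prime F p).ne_zero⟩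
    obtain ⟨a, b, h⟩ := CharP.sq_add_sq F p (-1)
    refine ⟨(a : F), (b : F), ?_⟩
    rw [← pow_two, ← pow_two, h]
    simp
  set E := Subgroup.closure ({sw F, e4 hab, e3 F, e2 hab, e1 F} :
    Set (SpecialLinearGroup (Fin 4) F)) with hEdef
  have hE : IsPGroup 2 (E.map (pr : SpecialLinearGroup (Fin 4) F →* _)) := (isPGroup_four hab).map _
  refine of_cent hE ?_
  intro u τ hu hτ huu
  obtain ⟨x, rfl⟩ := pr_surjective u
  obtain ⟨y, hy⟩ := pr_surjective (τ (pr x))
  rw [← hy] at hτ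
  have core' : ∀ z : SpecialLinearGroup (Fin 4) F,
      (∀ e ∈ E.map pr, e * pr z = pr z * e) →
      ∃ t : F, t ≠ 0 ∧ ((z : Matrix (Fin 4) (Fin 4) F) = t • (1 : Matrix (Fin 4) (Fin 4) F) ∨
        (z : Matrix (Fin 4) (Fin 4) F) = t • !![1, 0, 0, 0; 0, 1, 0, 0; 0, 0, -1, 0; 0, 0, 0, -1]) := by
    intro z hz
    have hNM : ((z⁻¹ : SpecialLinearGroup (Fin 4) F) : Matrix (Fin 4) (Fin 4) F)
        * (z : Matrix (Fin 4) (Fin 4) F) = 1 := by
      rw [← Matrix.SpecialLinearGroup.coe_mul, inv_mul_cancel, Matrix.SpecialLinearGroup.coe_one]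
    have c1 := comm_of_cent hz (e := e1 F) (Subgroup.subset_closure (by simp))
    have c2 := comm_of_cent hz (e := e2 hab) (Subgroup.subset_closure (by simp))
    have c3 := comm_of_cent hz (e := e3 F) (Subgroup.subset_closure (by simp))
    have c4 := comm_of_cent hz (e := e4 hab) (Subgroup.subset_closure (by simp))
    have c5 := comm_of_cent hz (e := sw F) (Subgroup.subset_closure (by simp))
    rw [e1, coe_bt, neg_zero] at c1
    rw [e2, coe_bt] at c2
    rw [e3, coe_bl, neg_zero] at c3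
    rw [e4, coe_bl] at c4
    rw [coe_sw] at c5
    exact core4 h2 hab hNM c1 c2 c3 c4 c5
  have hone : ∀ (z : SpecialLinearGroup (Fin 4) F) (t : F),
      (z : Matrix (Fin 4) (Fin 4) F) = t • (1 : Matrix (Fin 4) (Fin 4) F) → pr z = 1 := by
    intro z t hz
    rw [← map_one pr]
    symm
    apply pr_eq_of_smul (c := t)
    rw [hz, Matrix.SpecialLinearGroup.coe_one]
  obtain ⟨s, hs, hx⟩ := core' x hu
  obtain ⟨t, ht, hy'⟩ := core' y hτ
  rw [← hy]
  rcases hx with hx | hx
  · rw [hone x s hx, map_one] at hy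
    rw [hy, hone x s hx]
  · rcases hy' with hy' | hy'
    · rw [hone y t hy'] at hy
      have h3 : pr x = 1 := τ.injective (by rw [← hy, map_one])
      rw [h3, hone y t hy']
    · symm
      apply pr_eq_of_smul (c := t * s⁻¹)
      rw [hx, hy', smul_smul, mul_assoc, inv_mul_cancel₀ hs, mul_one]

/-- **the row `PSL_n(r)`, `n ≥ 3`, `r` odd** -/
theorem noCenMove_three [Fintype F] (h2 : (2 : F) ≠ 0) {n : ℕ} (hn : 3 ≤ n) :
    CenTwo.NoCenMove (ProjectiveSpecialLinearGroup (Fin n) F) := by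
  classical
  by_cases h4 : n = 4
  · subst h4
    exact noCenMove_four h2
  · exact noCenMove_ne_four h2 hn h4

end four

/-! ### `n = 2`, `r ≡ ±1 mod 8` -/

section two

variable {F : Type*} [Field F]

/-- an element of order 8 of `SL₂` (`t² = 2`) -/
def x8 (t : F) : SpecialLinearGroup (Fin 2) F :=
  ⟨!![0, -1; 1, t], by simp [Matrix.det_fin_two]⟩

theorem coe_x8 (t : F) : (x8 t : Matrix (Fin 2) (Fin 2) F) = !![0, -1; 1, t] := rfl

theorem x8_pow {t : F} (ht : t * t = 2) : (x8 t) ^ (2 ^ 3) = 1 := by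
  have e2 : x8 t * x8 t * (x8 t * x8 t) * (x8 t * x8 t * (x8 t * x8 t)) = 1 := by
    have s1 : (!![0, -1; 1, t] : Matrix (Fin 2) (Fin 2) F) * !![0, -1; 1, t]
        = !![-1, -t; t, 1] := by
      ext i j
      fin_cases i <;> fin_cases j <;> simp [Matrix.mul_apply, Fin.sum_univ_two]
      linear_combination ht
    have s2 : (!![-1, -t; t, 1] : Matrix (Fin 2) (Fin 2) F) * !![-1, -t; t, 1]
        = !![-1, 0; 0, -1] := by
      ext i j
      fin_cases i <;> fin_cases j <;> simp [Matrix.mul_apply, Fin.sum_univ_two]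
      · linear_combination -ht
      · linear_combination -ht
    apply Subtype.ext
    rw [Matrix.SpecialLinearGroup.coe_mul, Matrix.SpecialLinearGroup.coe_mul,
      Matrix.SpecialLinearGroup.coe_mul, coe_x8, s1, s2]
    ext i j
    fin_cases i <;> fin_cases j <;> simp [Matrix.mul_apply, Fin.sum_univ_two]
  rw [show (2 ^ 3 : ℕ) = (2 + 2) + (2 + 2) from rfl, pow_add, pow_add, pow_two, e2]

/-- `C(x8)` modulo scalars -/
theorem cent_x8 (h2 : (2 : F) ≠ 0) {t : F} (ht : t * t = 2) {M : Matrix (Fin 2) (Fin 2) F}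
    (hM : M.det = 1) {c : F} (hc : M * !![0, -1; 1, t] = c • (!![0, -1; 1, t] * M)) :
    M 0 1 = -M 1 0 ∧ M 1 1 = M 0 0 + t * M 1 0 := by
  have e : ∀ i j, (M * (!![0, -1; 1, t] : Matrix (Fin 2) (Fin 2) F)) i j
      = c * ((!![0, -1; 1, t] : Matrix (Fin 2) (Fin 2) F) * M) i j := by
    intro i j; rw [hc]; rfl
  simp only [Matrix.mul_apply, Fin.sum_univ_two] at e
  have a1 : M 0 1 = -(c * M 1 0) := by simpa using e 0 0
  have a2 : -M 0 0 + M 0 1 * t = -(c * M 1 1) := by simpa using e 0 1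
  have a3 : M 1 1 = c * (M 0 0 + t * M 1 0) := by simpa using e 1 0
  have a4 : -M 1 0 + M 1 1 * t = c * (M 0 1 + t * M 1 1) := by simpa using e 1 1
  have ht0 : t ≠ 0 := by
    rintro rfl
    apply h2; rw [← ht]; ring
  rw [Matrix.det_fin_two] at hM
  have hc1 : c = 1 := by
    have h3 : (1 - c) * t = 0 := by
      linear_combination a1 * M 1 1 - a2 * M 1 0 - a3 * M 0 1 + a4 * M 0 0 - (1 - c) * t * hM
    exact (sub_eq_zero.1 ((mul_eq_zero.1 h3).resolve_right ht0)).symm
  subst hc1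
  exact ⟨by linear_combination a1, by linear_combination a3⟩

/-- **the row `L₂(r)`, `r ≡ ±1 mod 8`** (`2` is a square in `F`) -/
theorem noCenMove_two [Fintype F] (h2 : (2 : F) ≠ 0) (hsq : IsSquare (2 : F)) :
    CenTwo.NoCenMove (ProjectiveSpecialLinearGroup (Fin 2) F) := by
  classical
  obtain ⟨t, ht'⟩ := hsq
  have ht : t * t = 2 := ht'.symm
  have hE : IsPGroup 2 ((Subgroup.zpowers (x8 t)).map (pr : SpecialLinearGroup (Fin 2) F →* _)) := by
    refine IsPGroup.map ?_ _
    rintro ⟨x, hx⟩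
    obtain ⟨m, rfl⟩ := Subgroup.mem_zpowers_iff.1 hx
    refine ⟨3, ?_⟩
    apply Subtype.ext
    change (x8 t ^ m) ^ (2 ^ 3) = 1
    rw [← _root_.zpow_natCast, ← _root_.zpow_mul, mul_comm, _root_.zpow_mul, _root_.zpow_natCast,
      x8_pow ht, _root_.one_zpow]
  refine of_cent hE ?_
  intro u τ hu hτ huu
  obtain ⟨x, rfl⟩ := pr_surjective u
  obtain ⟨y, hy⟩ := pr_surjective (τ (pr x))
  rw [← hy] at hτ
  have hyy : pr y * pr y = 1 := by rw [hy, ← map_mul, huu, map_one]
  have core' : ∀ z : SpecialLinearGroup (Fin 2) F,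
      (∀ e ∈ (Subgroup.zpowers (x8 t)).map pr, e * pr z = pr z * e) → pr z * pr z = 1 →
      pr z = 1 ∨ ∃ s : F, s ≠ 0 ∧ (z : Matrix (Fin 2) (Fin 2) F) = s • !![-t, -2; 2, t] := by
    intro z hz hzz
    obtain ⟨c, hc⟩ := comm_of_cent hz (e := x8 t) (Subgroup.mem_zpowers _)
    rw [coe_x8] at hc
    obtain ⟨h3, h4⟩ := cent_x8 h2 ht z.2 hc
    obtain ⟨μ, hμ⟩ := sq_scalar hzz
    have h5 := congrFun (congrFun hμ 1) 0
    have h6 : (z : Matrix (Fin 2) (Fin 2) F) 1 0 * (z : Matrix (Fin 2) (Fin 2) F) 0 0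
        + (z : Matrix (Fin 2) (Fin 2) F) 1 1 * (z : Matrix (Fin 2) (Fin 2) F) 1 0 = 0 := by
      simpa [Matrix.mul_apply, Fin.sum_univ_two] using h5
    have h7 : (z : Matrix (Fin 2) (Fin 2) F) 1 0 * (2 * (z : Matrix (Fin 2) (Fin 2) F) 0 0
        + t * (z : Matrix (Fin 2) (Fin 2) F) 1 0) = 0 := by
      rw [h4] at h6
      linear_combination h6
    rcases mul_eq_zero.1 h7 with h8 | h8
    · left
      rw [← map_one pr]
      symm
      apply pr_eq_of_smul (c := (z : Matrix (Fin 2) (Fin 2) F) 0 0)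
      rw [Matrix.SpecialLinearGroup.coe_one]
      rw [h8] at h3 h4
      ext i j
      fin_cases i <;> fin_cases j <;> simp [h3, h4, h8]
    · by_cases h9 : (z : Matrix (Fin 2) (Fin 2) F) 1 0 = 0
      · left
        rw [← map_one pr]
        symm
        apply pr_eq_of_smul (c := (z : Matrix (Fin 2) (Fin 2) F) 0 0)
        rw [Matrix.SpecialLinearGroup.coe_one]
        rw [h9] at h3 h4
        ext i j
        fin_cases i <;> fin_cases j <;> simp [h3, h4, h9]
      · right
        refine ⟨(z : Matrix (Fin 2) (Fin 2) F) 1 0 / 2, div_ne_zero h9 h2, ?_⟩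
        have h10 : (z : Matrix (Fin 2) (Fin 2) F) 0 0
            = (z : Matrix (Fin 2) (Fin 2) F) 1 0 / 2 * -t := by
          field_simp
          linear_combination h8
        ext i j
        fin_cases i <;> fin_cases j
        · simpa using h10
        · simp only [Fin.zero_eta, Fin.isValue, Fin.mk_one, Matrix.smul_apply, Matrix.of_apply,
            Matrix.cons_val', Matrix.cons_val_one, Matrix.cons_val_fin_one, Matrix.cons_val_zero,
            smul_eq_mul]
          rw [h3]; field_simp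
        · simp only [Fin.zero_eta, Fin.isValue, Fin.mk_one, Matrix.smul_apply, Matrix.of_apply,
            Matrix.cons_val', Matrix.cons_val_one, Matrix.cons_val_fin_one, Matrix.cons_val_zero,
            smul_eq_mul]
          field_simp
        · simp only [Fin.isValue, Fin.mk_one, Matrix.smul_apply, Matrix.of_apply,
            Matrix.cons_val', Matrix.cons_val_one, Matrix.cons_val_fin_one,
            smul_eq_mul]
          rw [h4, h10]; field_simp; ring
  rw [← hy]
  rcases core' x hu huu with hx | ⟨s, hs, hx⟩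
  · rw [hx, map_one] at hy
    rw [hy, hx]
  · rcases core' y hτ hyy with hy' | ⟨r, hr, hy'⟩
    · rw [hy'] at hy
      have h3 : pr x = 1 := τ.injective (by rw [← hy, map_one])
      rw [h3, hy']
    · symm
      apply pr_eq_of_smul (c := r * s⁻¹)
      rw [hx, hy', smul_smul, mul_assoc, inv_mul_cancel₀ hs, mul_one]

end two

end Cfsg.Agent.Omega.Lie.CenLin
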