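import Cfsg.Prelude.Def_LieTypeChar
import Cfsg.Agent.Omega.Lie.CenLin

/-!
# The row `PSL_n(r)`, `r` odd, of the K-fact (ZS), Prelude form (helper584; NODE LIE)
-/

set_option autoImplicit false
set_option linter.dupNamespace false

namespace Cfsg.Agent.Omega.Lie.CenLinRow

open Cfsg

universe u

/-- **(ZS) for `PSL_n(r)`, `r` odd**: `NoCenMove` or `L₂(r)` with `r ≡ 3, 5 mod 8` -/
theorem row {K : Type u} [Group K] {p : ℕ} (hp : p.Prime) (hp2 : p ≠ 2) (h : IsPSLChar p K) :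
    CenTwo.NoCenMove K ∨ ∃ (F : Type) (_ : Field F) (_ : Fintype F), 4 ≤ Fintype.card F ∧
      (Fintype.card F % 8 = 3 ∨ Fintype.card F % 8 = 5) ∧
      Nonempty (K ≃* Matrix.ProjectiveSpecialLinearGroup (Fin 2) F) := by
  classical
  obtain ⟨F, _, _, hF, n, hn, h4, ⟨e⟩⟩ := h
  have h2 : (2 : F) ≠ 0 := by
    intro h0
    have h1 : ((2 : ℕ) : F) = 0 := by exact_mod_cast h0
    have h3 : p ∣ 2 := (CharP.cast_eq_zero_iff F p 2).1 h1
    exact hp2 ((Nat.prime_dvd_prime_iff_eq hp Nat.prime_two).1 h3)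
  have : Finite K := Finite.of_equiv _ e.symm.toEquiv
  by_cases hn2 : n = 2
  · subst hn2
    by_cases hsq : IsSquare (2 : F)
    · exact Or.inl ((CenLin.noCenMove_two h2 hsq).map e.symm)
    · right
      refine ⟨F, _, _, h4 rfl, ?_, ⟨e⟩⟩
      rw [FiniteField.isSquare_two_iff] at hsq
      tauto
  · exact Or.inl ((CenLin.noCenMove_three h2 (by omega)).map e.symm)

end Cfsg.Agent.Omega.Lie.CenLinRow
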