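import Mathlib
import Cfsg.Agent.Omega.Lie.CenMat
import Cfsg.Agent.Omega.Lie.PermSyl
import Cfsg.Agent.Omega.Lie.CenLin
import Cfsg.Agent.ClassicalGeometry.PSUAutMain

/-!
# The row `PSU_n(r)`, `r` odd, of the K-fact (ZS) (helper138; NODE LIE)

* `noCenMove`: `NoCenMove (PSU n F q)` for `n ≥ 3`, `F` a finite field with `q ^ 2` elements, `q` odd.

The 2-group is the group of signed permutation matrices over a Sylow 2-subgroup of the symmetric group (`n ≠ 4`), resp.
`(Q₈ × Q₈).2` (`n = 4`), intersected with `SU`; the automorphisms are semi-isometries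
(`ClassicalGeometry.PSUAutMain.exists_toAut`).
-/

set_option autoImplicit false
set_option linter.dupNamespace false
set_option linter.unusedSectionVars false

namespace Cfsg.Agent.Omega.Lie.CenUni

open Matrix Equiv CenMat CenLin
open Cfsg Cfsg.Agent.LieClassical.HermBasic Cfsg.Agent.LieClassical.HermSiegel
open Cfsg.Agent.ClassicalGeometry.PSUAutBasic (pr pr_surjective exists_center_mul
  exists_scalar_of_mem_center mem_center_of_act)
open Cfsg.Agent.ClassicalGeometry.PSUAutCount (gm semiConj toAut gm_mul_inv gm_inv_mul guConj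
  mat_guConjFun)
open Cfsg.Agent.LieClassical.FieldTransfer (suCongr)

section basic

variable {F : Type*} [Field F] [Fintype F] {q n : ℕ}

omit [Fintype F] in
theorem mat_ext {A B : Matrix (Fin n) (Fin n) F} (h : ∀ v, A *ᵥ v = B *ᵥ v) : A = B := by
  ext i j
  have h1 := congrFun (h (Pi.single j 1)) i
  rwa [mulVec_single_one, mulVec_single_one] at h1

/-- the Gram criterion -/
theorem mem_SU_of_gram (hF : Fintype.card F = q ^ 2) {g : SpecialLinearGroup (Fin n) F}
    (h : ∀ i j, ∑ k, (g : Matrix (Fin n) (Fin n) F) k i * (g : Matrix (Fin n) (Fin n) F) k j ^ q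
      = if i = j then 1 else 0) : g ∈ SU n F q := by
  rw [Cfsg.Agent.LieClassical.HermBasic.mem_SU_iff]
  intro u v
  rw [herm_def, herm_def]
  have h1 : ∀ k, ((g : Matrix (Fin n) (Fin n) F) *ᵥ u) k * ((g : Matrix (Fin n) (Fin n) F) *ᵥ v) k ^ q
      = ∑ i, ∑ j, u i * v j ^ q * ((g : Matrix (Fin n) (Fin n) F) k i
        * (g : Matrix (Fin n) (Fin n) F) k j ^ q) := by
    intro k
    rw [mulVec, mulVec, dotProduct, dotProduct, sum_pow_q hF, Finset.sum_mul_sum]
    refine Finset.sum_congr rfl fun i _ => Finset.sum_congr rfl fun j _ => ?_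
    rw [mul_pow]
    ring
  calc ∑ k, ((g : Matrix (Fin n) (Fin n) F) *ᵥ u) k * ((g : Matrix (Fin n) (Fin n) F) *ᵥ v) k ^ q
      = ∑ k, ∑ i, ∑ j, u i * v j ^ q * ((g : Matrix (Fin n) (Fin n) F) k i
        * (g : Matrix (Fin n) (Fin n) F) k j ^ q) := Finset.sum_congr rfl fun k _ => h1 k
    _ = ∑ i, ∑ j, u i * v j ^ q * ∑ k, ((g : Matrix (Fin n) (Fin n) F) k i
        * (g : Matrix (Fin n) (Fin n) F) k j ^ q) := by
      rw [Finset.sum_comm]
      refine Finset.sum_congr rfl fun i _ => ?_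
      rw [Finset.sum_comm]
      refine Finset.sum_congr rfl fun j _ => ?_
      rw [Finset.mul_sum]
    _ = ∑ i, u i * v i ^ q := by
      refine Finset.sum_congr rfl fun i _ => ?_
      rw [Finset.sum_eq_single i]
      · rw [h, if_pos rfl, mul_one]
      · intro j _ hj
        rw [h, if_neg hj.symm, mul_zero]
      · intro h0; exact absurd (Finset.mem_univ _) h0

theorem mat_eq_of_pr_eq (hF : Fintype.card F = q ^ 2) (hn : 3 ≤ n) {g h : SU n F q}
    (H : pr n F q g = pr n F q h) : ∃ c : F, mat h = c • mat g := by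
  obtain ⟨z, hz, rfl⟩ := exists_center_mul H
  obtain ⟨c, -, -, hc⟩ := exists_scalar_of_mem_center hF hn hz
  refine ⟨c, mat_ext fun v => ?_⟩
  have h1 := hc v
  rw [mat_mul, smul_mulVec, ← mulVec_mulVec]
  rw [act_def] at h1
  rw [h1, mulVec_smul]

theorem pr_eq_of_smul {g h : SU n F q} {c : F} (H : mat h = c • mat g) :
    pr n F q g = pr n F q h := by
  rw [Cfsg.Agent.ClassicalGeometry.PSUAutBasic.pr_eq_iff]
  apply mem_center_of_act (c := c)
  intro v
  have h1 : mat (g⁻¹ * h) = c • (1 : Matrix (Fin n) (Fin n) F) := by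
    rw [mat_mul, H, mul_smul_comm, ← mat_mul, inv_mul_cancel, mat_one]
  rw [act_def, h1, smul_mulVec, one_mulVec]

theorem finite_PSU : Finite (PSU n F q) :=
  Finite.of_surjective _ (pr_surjective (n := n) (F := F) (q := q))

/-- the 2-group of `PSU` given by a 2-group of `SL` -/
def im (n : ℕ) (F : Type*) [Field F] (q : ℕ) (E : Subgroup (SpecialLinearGroup (Fin n) F)) :
    Subgroup (PSU n F q) := (E.comap (SU n F q).subtype).map (pr n F q)

omit [Fintype F] in
theorem isPGroup_im {E : Subgroup (SpecialLinearGroup (Fin n) F)} (hE : IsPGroup 2 E) :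
    IsPGroup 2 (im n F q E) :=
  (hE.comap_of_injective _ (Subgroup.subtype_injective _)).map _

theorem comm_of_cent (hF : Fintype.card F = q ^ 2) (hn : 3 ≤ n)
    {E : Subgroup (SpecialLinearGroup (Fin n) F)} {x : SU n F q}
    (hx : ∀ e ∈ im n F q E, e * pr n F q x = pr n F q x * e) {e : SpecialLinearGroup (Fin n) F}
    (he : e ∈ E) (he' : e ∈ SU n F q) :
    ∃ c : F, mat x * (e : Matrix (Fin n) (Fin n) F)
      = c • ((e : Matrix (Fin n) (Fin n) F) * mat x) := by
  have h1 := hx (pr n F q ⟨e, he'⟩) ⟨⟨e, he'⟩, he, rfl⟩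
  rw [← map_mul, ← map_mul] at h1
  obtain ⟨c, hc⟩ := mat_eq_of_pr_eq hF hn h1
  rw [mat_mul, mat_mul] at hc
  exact ⟨c, hc⟩

theorem sq_scalar (hF : Fintype.card F = q ^ 2) (hn : 3 ≤ n) {x : SU n F q}
    (hx : pr n F q x * pr n F q x = 1) :
    ∃ c : F, mat x * mat x = c • (1 : Matrix (Fin n) (Fin n) F) := by
  rw [← map_mul, ← map_one (pr n F q)] at hx
  obtain ⟨c, hc⟩ := mat_eq_of_pr_eq hF hn hx.symm
  rw [mat_mul, mat_one] at hc
  exact ⟨c, hc⟩

theorem mat_suCongr (ρ : F ≃+* F) (g : SU n F q) (i j : Fin n) :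
    mat (suCongr n q ρ g) i j = ρ (mat g i j) := rfl

/-- two sign vectors conjugate under the automorphism group of `PSU_n` -/
theorem exists_conj_form (hF : Fintype.card F = q ^ 2) (hn : 3 ≤ n) (h32 : ¬ (n = 3 ∧ q = 2))
    {x y : SU n F q} {a b : F} {f g : Fin n → ZMod 2} (hb : b ≠ 0)
    (hx : mat x = a • sg F f) (hy : mat y = b • sg F g)
    {τ : MulAut (PSU n F q)} (h : τ (pr n F q x) = pr n F q y) :
    ∃ (C : Matrix (Fin n) (Fin n) F) (κ : F), IsUnit C.det ∧ sg F g * C = κ • (C * sg F f) := by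
  obtain ⟨A, ρ, rfl⟩ := Cfsg.Agent.ClassicalGeometry.PSUAutMain.exists_toAut hF hn h32 τ
  rw [Cfsg.Agent.ClassicalGeometry.PSUAutMain.toAut_pr'] at h
  obtain ⟨c, hc⟩ := mat_eq_of_pr_eq hF hn h
  have h0 : mat (semiConj A ρ x) = gm A * mat (suCongr n q ρ x) * gm A⁻¹ := rfl
  have h1 : mat (suCongr n q ρ x) = ρ a • sg F f := by
    ext i j
    rw [mat_suCongr, hx, Matrix.smul_apply, Matrix.smul_apply, smul_eq_mul, smul_eq_mul, map_mul]
    congr 1
    rw [sg, diagonal_apply]
    by_cases hij : i = j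
    · rw [if_pos hij, sgn]
      split_ifs
      · rw [map_neg, map_one]
      · rw [map_one]
    · rw [if_neg hij, map_zero]
  refine ⟨gm A, b⁻¹ * (c * ρ a), ?_, ?_⟩
  · have h3 := congrArg Matrix.det (gm_mul_inv A)
    rw [det_mul, det_one] at h3
    exact IsUnit.of_mul_eq_one _ h3
  · rw [h0, h1, hy] at hc
    have h2 : b • (sg F g * gm A) = (c * ρ a) • (gm A * sg F f) := by
      calc b • (sg F g * gm A)
          = (b • sg F g) * gm A := by rw [Matrix.smul_mul]
        _ = (c * ρ a) • (gm A * sg F f * gm A⁻¹ * gm A) := by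
            rw [hc, Matrix.mul_smul, Matrix.smul_mul, Matrix.smul_mul, Matrix.smul_mul, smul_smul]
        _ = _ := by
            rw [Matrix.mul_assoc _ (gm A⁻¹), gm_inv_mul, Matrix.mul_one]
    rw [mul_smul, ← h2, smul_smul, inv_mul_cancel₀ hb, one_smul]

omit [Fintype F] in
theorem pow_q_of_sq {x : F} (hq : Odd q) (hx : x * x = 1) : x ^ q = x := by
  obtain ⟨k, rfl⟩ := hq
  rw [pow_succ, pow_mul, pow_two, hx, one_pow, one_mul]

theorem mono_mem_SU (hF : Fintype.card F = q ^ 2) (hq : Odd q) {s : Fin n → F}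
    (hs : ∀ i, s i * s i = 1) (p : Perm (Fin n)) (hd : (mono s p).det = 1) :
    (⟨mono s p, hd⟩ : SpecialLinearGroup (Fin n) F) ∈ SU n F q := by
  apply mem_SU_of_gram hF
  intro i j
  change ∑ k, mono s p k i * mono s p k j ^ q = _
  rw [Finset.sum_eq_single (p i)]
  · rw [mono_apply, mono_apply, if_pos rfl]
    by_cases hij : i = j
    · subst hij
      rw [if_pos rfl, if_pos rfl, pow_q_of_sq hq (hs _), hs]
    · rw [if_neg (fun h => hij (p.injective h)), if_neg hij, zero_pow_q hF, mul_zero]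
  · intro k _ hk
    rw [mono_apply, if_neg hk, zero_mul]
  · intro h; exact absurd (Finset.mem_univ _) h

theorem noCenMove_ne_four (hF : Fintype.card F = q ^ 2) (hq : Odd q) (h2 : (2 : F) ≠ 0)
    (hn : 3 ≤ n) (hn4 : n ≠ 4) : CenTwo.NoCenMove (PSU n F q) := by
  classical
  have h32 : ¬ (n = 3 ∧ q = 2) := by
    rintro ⟨-, rfl⟩
    exact absurd hq (by decide)
  have : Finite (PSU n F q) := finite_PSU
  have : Nonempty (Fin n) := ⟨⟨0, by omega⟩⟩
  obtain ⟨P⟩ : Nonempty (Sylow 2 (Perm (Fin n))) := inferInstance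
  have hE : IsPGroup 2 (im n F q (monoGrp F (P : Subgroup (Perm (Fin n))))) :=
    isPGroup_im (isPGroup_monoGrp P.isPGroup')
  refine of_cent hE ?_
  intro u τ hu hτ huu
  obtain ⟨x, rfl⟩ := pr_surjective u
  obtain ⟨y, hy⟩ := pr_surjective (τ (pr n F q x))
  rw [← hy] at hτ
  have hyy : pr n F q y * pr n F q y = 1 := by rw [hy, ← map_mul, huu, map_one]
  have core' : ∀ z : SU n F q,
      (∀ e ∈ im n F q (monoGrp F (P : Subgroup (Perm (Fin n)))),
        e * pr n F q z = pr n F q z * e) →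
      pr n F q z * pr n F q z = 1 → ∃ (a : F) (f : Fin n → ZMod 2), a ≠ 0 ∧
        mat z = a • sg F f ∧ ∀ p ∈ P, ∃ c, ∀ i, f (p i) = f i + c := by
    intro z hz hzz
    obtain ⟨μ, hμ⟩ := sq_scalar hF hn hzz
    have hdet : IsUnit (mat z).det := by
      rw [mat_def, z.1.2]; exact isUnit_one
    refine core h2 (by rw [Fintype.card_fin]; exact hn) (by rw [Fintype.card_fin]; exact hn4)
      (P := (P : Set (Perm (Fin n)))) P.one_mem hdet hμ ?_
    intro s hs p hp hd
    exact comm_of_cent hF hn hz (e := ⟨mono s p, hd⟩) (mem_monoGrp.2 ⟨p, hp, s, hs, rfl⟩)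
      (mono_mem_SU hF hq hs p hd)
  obtain ⟨a, f, ha, hxf, hf⟩ := core' x hu huu
  obtain ⟨b, g, hb, hyg, hg⟩ := core' y hτ hyy
  obtain ⟨C, κ, hC, hκ⟩ := exists_conj_form hF hn h32 hb hxf hyg hy.symm
  rw [← hy]
  symm
  rcases PermSyl.unique_of_shift P hf hg (conj_card h2 hC hκ) with h | h
  · have h3 : g = f := funext h
    apply pr_eq_of_smul (c := b * a⁻¹)
    rw [hyg, hxf, smul_smul, mul_assoc, inv_mul_cancel₀ ha, mul_one, h3]
  · have h3 : g = fun i => f i + 1 := funext h
    apply pr_eq_of_smul (c := -(b * a⁻¹))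
    rw [hyg, hxf, smul_smul, h3, sg_add_one, smul_neg, neg_mul, neg_smul, mul_assoc,
      inv_mul_cancel₀ ha, mul_one]

end basic

section four

variable {F : Type*} [Field F] [Fintype F] {q : ℕ}

/-- conics over the fixed field have points -/
theorem exists_conic (hF : Fintype.card F = q ^ 2) (hq : Odd q) {a : F} (ha : a ^ q = a)
    (ha0 : a ≠ 0) : ∃ x y : F, x ^ q = x ∧ y ^ q = y ∧ a * (x * x) + a * (y * y) + 1 = 0 := by
  classical
  let K : Subfield F := RingHom.eqLocusField (conj hF : F →+* F) (RingHom.id F)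
  have : Fintype K := Fintype.ofFinite _
  have hcard : Fintype.card K = q := by
    rw [← Nat.card_eq_fintype_card]
    exact card_fixed hF
  have hodd : Fintype.card K % 2 = 1 := by
    rw [hcard]; exact Nat.odd_iff.1 hq
  let a' : K := ⟨a, ha⟩
  have ha' : a' ≠ 0 := fun h => ha0 (congrArg Subtype.val h)
  obtain ⟨x, y, hxy⟩ := FiniteField.exists_root_sum_quadratic (R := K)
    (f := Polynomial.C a' * Polynomial.X ^ 2 + Polynomial.C 0 * Polynomial.X + Polynomial.C 0)
    (g := Polynomial.C a' * Polynomial.X ^ 2 + Polynomial.C 0 * Polynomial.X + Polynomial.C 1)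
    (Polynomial.degree_quadratic ha') (Polynomial.degree_quadratic ha') hodd
  refine ⟨x, y, x.2, y.2, ?_⟩
  simp only [Polynomial.eval_add, Polynomial.eval_mul, Polynomial.eval_C, Polynomial.eval_pow,
    Polynomial.eval_X, zero_mul, add_zero] at hxy
  have h5 := congrArg (fun t : K => (t : F)) hxy
  simp only [Subfield.coe_add, Subfield.coe_mul, Subfield.coe_zero, SubmonoidClass.coe_pow,
    Subfield.coe_one] at h5
  linear_combination h5

/-- `q` odd: `a, b` of trace zero with `a² + b² = -1` -/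
theorem exists_ab (hF : Fintype.card F = q ^ 2) (hq : Odd q) :
    ∃ a b : F, a * a + b * b = -1 ∧ a ^ q = -a ∧ b ^ q = -b := by
  obtain ⟨d, hd0, hd⟩ := exists_trace_zero_ne hF
  have hdq : d ^ q = -d := by linear_combination hd
  obtain ⟨x, y, hx, hy, hxy⟩ := exists_conic hF hq (a := d * d)
    (by rw [mul_pow, hdq, neg_mul_neg]) (mul_ne_zero hd0 hd0)
  refine ⟨d * x, d * y, by linear_combination hxy, ?_, ?_⟩
  · rw [mul_pow, hdq, hx]; ring
  · rw [mul_pow, hdq, hy]; ring

theorem bt_mem (hF : Fintype.card F = q ^ 2) {a b : F} (h : a * a + b * b = -1)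
    (ha : a ^ q = -a) (hb : b ^ q = -b) : bt a b b h ∈ SU 4 F q := by
  apply mem_SU_of_gram hF
  have z := zero_pow_q (F := F) hF
  intro i j
  rw [coe_bt]
  fin_cases i <;> fin_cases j <;>
    simp [Fin.sum_univ_four, z, ha, hb, neg_pow_q hF] <;>
    first | linear_combination -h | ring

theorem bl_mem (hF : Fintype.card F = q ^ 2) {a b : F} (h : a * a + b * b = -1)
    (ha : a ^ q = -a) (hb : b ^ q = -b) : bl a b b h ∈ SU 4 F q := by
  apply mem_SU_of_gram hF
  have z := zero_pow_q (F := F) hF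
  intro i j
  rw [coe_bl]
  fin_cases i <;> fin_cases j <;>
    simp [Fin.sum_univ_four, z, ha, hb, neg_pow_q hF] <;>
    first | linear_combination -h | ring

theorem e1_mem (hF : Fintype.card F = q ^ 2) : e1 F ∈ SU 4 F q := by
  apply mem_SU_of_gram hF
  have z := zero_pow_q (F := F) hF
  intro i j
  rw [e1, coe_bt]
  fin_cases i <;> fin_cases j <;>
    simp [Fin.sum_univ_four, z, neg_pow_q hF]

theorem e3_mem (hF : Fintype.card F = q ^ 2) : e3 F ∈ SU 4 F q := by
  apply mem_SU_of_gram hF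
  have z := zero_pow_q (F := F) hF
  intro i j
  rw [e3, coe_bl]
  fin_cases i <;> fin_cases j <;>
    simp [Fin.sum_univ_four, z, neg_pow_q hF]

theorem sw_mem (hF : Fintype.card F = q ^ 2) : sw F ∈ SU 4 F q := by
  apply mem_SU_of_gram hF
  have z := zero_pow_q (F := F) hF
  intro i j
  rw [coe_sw]
  fin_cases i <;> fin_cases j <;>
    simp [Fin.sum_univ_four, z]

theorem noCenMove_four (hF : Fintype.card F = q ^ 2) (hq : Odd q) (h2 : (2 : F) ≠ 0) :
    CenTwo.NoCenMove (PSU 4 F q) := by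
  classical
  have : Finite (PSU 4 F q) := finite_PSU
  have hn : 3 ≤ 4 := by norm_num
  obtain ⟨a, b, hab, ha, hb⟩ := exists_ab hF hq
  set E := Subgroup.closure ({sw F, e4 hab, e3 F, e2 hab, e1 F} :
    Set (SpecialLinearGroup (Fin 4) F)) with hEdef
  have hE : IsPGroup 2 (im 4 F q E) := isPGroup_im (isPGroup_four hab)
  refine of_cent hE ?_
  intro u τ hu hτ huu
  obtain ⟨x, rfl⟩ := pr_surjective u
  obtain ⟨y, hy⟩ := pr_surjective (τ (pr 4 F q x))
  rw [← hy] at hτ
  have core' : ∀ z : SU 4 F q, (∀ e ∈ im 4 F q E, e * pr 4 F q z = pr 4 F q z * e) →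
      ∃ t : F, t ≠ 0 ∧ (mat z = t • (1 : Matrix (Fin 4) (Fin 4) F) ∨
        mat z = t • !![1, 0, 0, 0; 0, 1, 0, 0; 0, 0, -1, 0; 0, 0, 0, -1]) := by
    intro z hz
    have hNM : mat z⁻¹ * mat z = 1 := by
      rw [← mat_mul, inv_mul_cancel, mat_one]
    have c1 := comm_of_cent hF hn hz (e := e1 F) (Subgroup.subset_closure (by simp)) (e1_mem hF)
    have c2 := comm_of_cent hF hn hz (e := e2 hab) (Subgroup.subset_closure (by simp))
      (bt_mem hF hab ha hb)
    have c3 := comm_of_cent hF hn hz (e := e3 F) (Subgroup.subset_closure (by simp)) (e3_mem hF)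
    have c4 := comm_of_cent hF hn hz (e := e4 hab) (Subgroup.subset_closure (by simp))
      (bl_mem hF hab ha hb)
    have c5 := comm_of_cent hF hn hz (e := sw F) (Subgroup.subset_closure (by simp)) (sw_mem hF)
    rw [e1, coe_bt, neg_zero] at c1
    rw [e2, coe_bt] at c2
    rw [e3, coe_bl, neg_zero] at c3
    rw [e4, coe_bl] at c4
    rw [coe_sw] at c5
    exact core4 h2 hab hNM c1 c2 c3 c4 c5
  have hone : ∀ (z : SU 4 F q) (t : F),
      mat z = t • (1 : Matrix (Fin 4) (Fin 4) F) → pr 4 F q z = 1 := by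
    intro z t hz
    rw [← map_one (pr 4 F q)]
    symm
    apply pr_eq_of_smul (c := t)
    rw [hz, mat_one]
  obtain ⟨s, hs, hx⟩ := core' x hu
  obtain ⟨t, ht, hy'⟩ := core' y hτ
  rw [← hy]
  rcases hx with hx | hx
  · rw [hone x s hx, map_one] at hy
    rw [hy, hone x s hx]
  · rcases hy' with hy' | hy'
    · rw [hone y t hy'] at hy
      have h3 : pr 4 F q x = 1 := τ.injective (by rw [← hy, map_one])
      rw [h3, hone y t hy']
    · symm
      apply pr_eq_of_smul (c := t * s⁻¹)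
      rw [hx, hy', smul_smul, mul_assoc, inv_mul_cancel₀ hs, mul_one]

/-- **the row `PSU_n(r)`, `n ≥ 3`, `r` odd** -/
theorem noCenMove (hF : Fintype.card F = q ^ 2) (hq : Odd q) (h2 : (2 : F) ≠ 0) {n : ℕ}
    (hn : 3 ≤ n) : CenTwo.NoCenMove (PSU n F q) := by
  by_cases h4 : n = 4
  · subst h4
    exact noCenMove_four hF hq h2
  · exact noCenMove_ne_four hF hq h2 hn h4

end four

end Cfsg.Agent.Omega.Lie.CenUni
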