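import Cfsg.Prelude.Def_LieTypeChar
import Cfsg.Agent.Omega.Lie.CenUni

/-!
# The row `PSU_n(r)`, `r` odd, of the K-fact (ZS), Prelude form (helper138; NODE LIE)
-/

set_option autoImplicit false
set_option linter.dupNamespace false

namespace Cfsg.Agent.Omega.Lie.CenUniRow

open Cfsg

universe u

/-- **(ZS) for `PSU_n(r)`, `r` odd** -/
theorem row {K : Type u} [Group K] {p : ℕ} (hp : p.Prime) (hp2 : p ≠ 2) (h : IsPSUChar p K) :
    CenTwo.NoCenMove K := by
  classical
  obtain ⟨F, _, _, hF, n, q, hq, hn, h32, ⟨e⟩⟩ := h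
  have h2 : (2 : F) ≠ 0 := by
    intro h0
    have h1 : ((2 : ℕ) : F) = 0 := by exact_mod_cast h0
    have h3 : p ∣ 2 := (CharP.cast_eq_zero_iff F p 2).1 h1
    exact hp2 ((Nat.prime_dvd_prime_iff_eq hp Nat.prime_two).1 h3)
  have hodd : Odd q := by
    rw [← Nat.not_even_iff_odd]
    intro he
    apply h2
    have h3 : ringChar F = 2 := by
      apply FiniteField.even_card_iff_char_two.2
      rw [hq, ← Nat.even_iff]
      exact he.pow_of_ne_zero (by norm_num)
    have h4 : ((2 : ℕ) : F) = 0 := by rw [← h3]; exact ringChar.Nat.cast_ringChar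
    exact_mod_cast h4
  have : Finite (PSU n F q) := CenUni.finite_PSU
  have : Finite K := Finite.of_equiv _ e.symm.toEquiv
  exact (CenUni.noCenMove hq hodd h2 hn).map e.symm

end Cfsg.Agent.Omega.Lie.CenUniRow
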