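import Cfsg.Agent.Omega.Lie.CenOrthD
import Cfsg.Prelude.Def_LieTypeChar

/-!
# The K-fact (ZS) for the orthogonal groups in odd characteristic (helper676)

`NoCenMove` for `PΩ_{2m+1}(q)` (`m ≥ 3`), `PΩ⁺_{2m}(q)` (`m ≥ 4`), `PΩ⁻_{2m}(q)` (`m ≥ 4`), `q` odd.
-/

set_option autoImplicit false

namespace Cfsg.Agent.Omega.Lie.CenOrth

open QuadraticMap Cfsg.Agent.LieClassical.OrthCore Cfsg.Agent.LieClassical.OrthTrans
  Cfsg.Agent.Omega.Lie.CenPerm Cfsg.Agent.Omega.Lie.CenTwo Cfsg.Agent.ClassicalGeometry.OrthSemi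
  Cfsg.Agent.Omega.Lie.CenOrthA Cfsg.Agent.ClassicalGeometry.OrthSemiForms Cfsg.Agent.LieClassical.OrthForms

section

variable {I : Type} [Fintype I] [DecidableEq I] {F : Type*} [Field F] [Finite F]

omit [Fintype I] [DecidableEq I] [Finite F] in
theorem nondegenerate_of_good {Q : QuadraticForm F (I → F)} (hG : Good Q) :
    (polarBilin Q).Nondegenerate := by
  refine ⟨fun x hx => hG.nondeg x hx, fun y hy => hG.nondeg y fun x => ?_⟩
  rw [polar_comm]
  exact hy x

theorem three {ι : Type} [Fintype ι] [DecidableEq ι] (h : 3 ≤ Fintype.card ι) (i j : ι) :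
    ∃ k, k ≠ i ∧ k ≠ j := by
  by_contra hcon
  push Not at hcon
  have h1 : (Finset.univ : Finset ι) ⊆ {i, j} := by
    intro k _
    rw [Finset.mem_insert, Finset.mem_singleton]
    by_cases hk : k = i
    · exact Or.inl hk
    · exact Or.inr (hcon k hk)
  have h2 := (Finset.card_le_card h1).trans Finset.card_le_two
  rw [Finset.card_univ] at h2
  omega

omit [DecidableEq I] in
/-- an orthonormal family gives `NoCenMove` -/
theorem of_family {Q : QuadraticForm F (I → F)} (hG : Good Q) (h2 : (2 : F) ≠ 0)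
    (h7 : 7 ≤ Fintype.card I) (u : Fin (Fintype.card I) → (I → F)) (hu : ∀ i, Q (u i) = 1)
    (ho : ∀ i j, i ≠ j → polar Q (u i) (u j) = 0)
    (hs : (∀ i, Fintype.card I ≠ 2 ^ i) → Function.Surjective (Psi Q)) :
    NoCenMove (↥(E Q) ⧸ Subgroup.center ↥(E Q)) := by
  classical
  by_cases hN : ∃ i, Fintype.card I = 2 ^ i
  · obtain ⟨i, hi⟩ := hN
    have hi3 : 3 ≤ i := by
      by_contra h
      have : 2 ^ i ≤ 2 ^ 2 := Nat.pow_le_pow_right (by norm_num) (by omega)
      omega
    let e : Bool → ℕ := fun _ => i - 1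
    have hcard : Fintype.card (Pt e) = Fintype.card I := by
      rw [card_Pt, hi, Fintype.sum_bool]
      show 2 ^ (i - 1) + 2 ^ (i - 1) = 2 ^ i
      obtain ⟨j, rfl⟩ := Nat.exists_eq_add_of_le hi3
      rw [show 3 + j - 1 = 2 + j by omega, show 3 + j = 2 + j + 1 by omega, pow_succ]
      omega
    let σ : Pt e ≃ Fin (Fintype.card I) := Fintype.equivOfCardEq (by rw [hcard, Fintype.card_fin])
    have : Nonempty (Pt e) := ⟨⟨true, 0⟩⟩
    obtain ⟨A, -, -⟩ := exists_frame (Q := Q) (ι := Pt e) (ν := Empty) h2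
      (Sum.elim (fun x => u (σ x)) Empty.elim) 1 1 one_ne_zero one_ne_zero
      (by rw [Fintype.card_sum, hcard, Fintype.card_empty, add_zero]) (fun x => hu _) (fun x => x.elim)
      (by
        rintro (x | x) (y | y) hxy
        · exact ho _ _ fun h => hxy (congrArg _ (σ.injective h))
        · exact y.elim
        · exact x.elim
        · exact x.elim)
    exact A.noCenMove_two hG h2 (by rw [Fintype.card_sum, hcard]; omega)
      (three (by rw [hcard]; omega)) ⟨true, by show 2 ≤ i - 1; omega⟩ (k₀ := true) (k₁ := false)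
      (by decide) (by decide)
  · push Not at hN
    have hcard := card_Pt_de (Fintype.card I)
    let σ : Pt (de (Fintype.card I)) ≃ Fin (Fintype.card I) :=
      Fintype.equivOfCardEq (by rw [hcard, Fintype.card_fin])
    have : Nonempty (Pt (de (Fintype.card I))) := Fintype.card_pos_iff.1 (by omega)
    obtain ⟨A, -, -⟩ := exists_frame (Q := Q) (ι := Pt (de (Fintype.card I))) (ν := Empty) h2
      (Sum.elim (fun x => u (σ x)) Empty.elim) 1 1 one_ne_zero one_ne_zero
      (by rw [Fintype.card_sum, hcard, Fintype.card_empty, add_zero]) (fun x => hu _) (fun x => x.elim)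
      (by
        rintro (x | x) (y | y) hxy
        · exact ho _ _ fun h => hxy (congrArg _ (σ.injective h))
        · exact y.elim
        · exact x.elim
        · exact x.elim)
    exact A.noCenMove hG h2 Subtype.val_injective (by rw [Fintype.card_sum, hcard]; omega)
      (three (by rw [hcard]; omega)) (exists_big (by omega)) (Or.inr (exists_other hN))
      (fun ⟨x⟩ => x.elim) (hs hN)

/-- **The abstract result**: all automorphisms come from semisimilitudes. -/
theorem of_surjective {Q : QuadraticForm F (I → F)} (hG : Good Q) (h2 : (2 : F) ≠ 0)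
    (h7 : 7 ≤ Fintype.card I) (hs : Function.Surjective (Psi Q)) :
    NoCenMove (↥(E Q) ⧸ Subgroup.center ↥(E Q)) := by
  classical
  obtain ⟨u, h1, ho, h3⟩ := exists_family h2 Q (nondegenerate_of_good hG) (Fintype.card I - 1) (by omega)
  set p : Fin (Fintype.card I) := ⟨Fintype.card I - 1, by omega⟩ with hp
  have hlt : ∀ i : Fin (Fintype.card I), i ≠ p → i.val < Fintype.card I - 1 := by
    intro i hi
    have h4 : i.val ≠ Fintype.card I - 1 := fun h => hi (Fin.ext h)
    have := i.2
    omega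
  by_cases hsq : IsSquare (Q (u p))
  · obtain ⟨t, ht⟩ := hsq
    have ht0 : t ≠ 0 := by
      rintro rfl
      rw [mul_zero] at ht
      exact h1 p ht
    have hval : ∀ i, Function.update u p (t⁻¹ • u p) i = (if i = p then t⁻¹ else 1 : F) • u i := by
      intro i
      by_cases hi : i = p
      · rw [hi, Function.update_self, if_pos rfl]
      · rw [Function.update_of_ne hi, if_neg hi, one_smul]
    refine of_family hG h2 h7 (Function.update u p (t⁻¹ • u p)) (fun i => ?_) (fun i j hij => ?_) fun _ => hs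
    · by_cases hi : i = p
      · rw [hi, Function.update_self, QuadraticMap.map_smul, ht, smul_eq_mul]
        field_simp
      · rw [Function.update_of_ne hi]
        exact h3 i (hlt i hi)
    · rw [hval, hval, polar_smul_left, polar_smul_right, ho i j hij, smul_zero, smul_zero]
  · set N := Fintype.card I - 1 with hN
    have hcard := card_Pt_de N
    let σ : Pt (de N) ≃ Fin N := Fintype.equivOfCardEq (by rw [hcard, Fintype.card_fin])
    have : Nonempty (Pt (de N)) := Fintype.card_pos_iff.1 (by omega)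
    let f : Pt (de N) ⊕ Unit → Fin (Fintype.card I) :=
      Sum.elim (fun x => ⟨(σ x).val, by have := (σ x).2; omega⟩) fun _ => p
    have hf1 : ∀ x, (f (.inl x)).val < N := fun x => (σ x).2
    have hf : Function.Injective f := by
      rintro (x | x) (y | y) hxy
      · have h4 : (f (.inl x)).val = (f (.inl y)).val := congrArg Fin.val hxy
        rw [σ.injective (Fin.ext h4)]
      · exfalso
        have h4 := hf1 x
        rw [hxy] at h4
        exact absurd h4 (lt_irrefl N)
      · exfalso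
        have h4 := hf1 y
        rw [← hxy] at h4
        exact absurd h4 (lt_irrefl N)
      · rfl
    obtain ⟨A, hA1, hA2⟩ := exists_frame (Q := Q) (ι := Pt (de N)) (ν := Unit) h2
      (fun x => u (f x)) 1 (Q (u p)) one_ne_zero (h1 p)
      (by rw [Fintype.card_sum, hcard, Fintype.card_unit]; omega) (fun x => h3 _ (hf1 x)) (fun x => rfl)
      (fun i j hij => ho _ _ fun h => hij (hf h))
    refine A.noCenMove hG h2 Subtype.val_injective (by rw [Fintype.card_sum, hcard]; omega)
      (three (by rw [hcard]; omega)) (exists_big (by omega)) (Or.inl ⟨()⟩) ?_ hs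
    intro _ g hg a a' hga
    refine one_of_mem A h2 hG (by rw [hA1, hA2, mul_one]; exact hsq) hg (fun i => ?_) hga.sq' () (hga.inr ())
    rw [hga.inl]
    rcases mul_self_eq_one_iff.1 (hga.sq i.1) with h | h
    · left; rw [h, one_smul]
    · right; rw [h, neg_one_smul]

end

/-! ### The three families -/

section families

variable {F : Type*} [Field F] [Finite F]

/-- `PΩ_{2m+1}(q)` -/
theorem odd {m : ℕ} (hm : 3 ≤ m) (h2 : (2 : F) ≠ 0) : NoCenMove (Cfsg.POmega F (Cfsg.quadFormOdd m F)) := by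
  have := Fintype.ofFinite F
  have hG := good_odd (F := F) (m := m) (by omega) h2
  have h1 := of_surjective hG h2 (by simp; omega) (Cfsg.Agent.AutOrth.Final.surjective_odd hm h2)
  have h3 := h1.map (pomegaEquiv hG).symm
  rwa [coe_oddForm] at h3

/-- `PΩ⁻_{2m}(q)` -/
theorem minus {m : ℕ} (hm : 4 ≤ m) (h2 : (2 : F) ≠ 0) (a b : F)
    (hab : ∀ z₁ z₂ : F, z₁ ^ 2 + a * z₁ * z₂ + b * z₂ ^ 2 = 0 → z₁ = 0 ∧ z₂ = 0) :
    NoCenMove (Cfsg.POmega F (Cfsg.quadFormMinus (m - 1) F a b)) := by
  have := Fintype.ofFinite F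
  have hG := good_minus (F := F) (m := m - 1) (by omega) a b hab
  have h1 := of_surjective hG h2 (by simp; omega) (Cfsg.Agent.AutOrth.Final.surjective_minus (by omega) hab)
  have h3 := h1.map (pomegaEquiv hG).symm
  rwa [coe_minusForm] at h3

/-- an orthonormal family of eight vectors for the plus form in dimension eight -/
theorem exists_plus_four (h2 : (2 : F) ≠ 0) : ∃ u : Fin 8 → (Fin 4 ⊕ Fin 4 → F),
    (∀ i, plusForm 4 F (u i) = 1) ∧ ∀ i j, i ≠ j → polar (plusForm 4 F) (u i) (u j) = 0 := by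
  obtain ⟨a, b, hab⟩ := ClassicalGeometry.Universal.exists_sq_add_sq (F := F) h2 one_ne_zero one_ne_zero (-1)
  have hQ : ∀ v, plusForm 4 F v = v (.inl 0) * v (.inr 0) + v (.inl 1) * v (.inr 1) +
      v (.inl 2) * v (.inr 2) + v (.inl 3) * v (.inr 3) := by
    intro v
    have h1 : plusForm 4 F v = Cfsg.quadFormPlus 4 F v := congrFun (coe_plusForm 4 F) v
    rw [h1, Cfsg.quadFormPlus, Fin.sum_univ_four]
  have hP : ∀ v w, polar (plusForm 4 F) v w =
      v (.inl 0) * w (.inr 0) + v (.inr 0) * w (.inl 0) + (v (.inl 1) * w (.inr 1) + v (.inr 1) * w (.inl 1)) +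
      (v (.inl 2) * w (.inr 2) + v (.inr 2) * w (.inl 2)) + (v (.inl 3) * w (.inr 3) + v (.inr 3) * w (.inl 3)) := by
    intro v w
    simp only [polar, hQ, Pi.add_apply]
    ring
  refine ⟨![Sum.elim ![1, 0, 0, 0] ![1, 0, 0, 0], Sum.elim ![0, 1, 0, 0] ![0, 1, 0, 0],
    Sum.elim ![a, b, 0, 0] ![-a, -b, 0, 0], Sum.elim ![-b, a, 0, 0] ![b, -a, 0, 0],
    Sum.elim ![0, 0, 1, 0] ![0, 0, 1, 0], Sum.elim ![0, 0, 0, 1] ![0, 0, 0, 1],
    Sum.elim ![0, 0, a, b] ![0, 0, -a, -b], Sum.elim ![0, 0, -b, a] ![0, 0, b, -a]], ?_, ?_⟩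
  · intro i
    rw [hQ]
    fin_cases i <;> simp <;> linear_combination -hab
  · intro i j hij
    rw [hP]
    fin_cases i <;> fin_cases j <;> first | exact absurd rfl hij | (simp; done) | (simp; ring)

/-- `PΩ⁺_{2m}(q)` -/
theorem plus {m : ℕ} (hm : 4 ≤ m) (h2 : (2 : F) ≠ 0) : NoCenMove (Cfsg.POmega F (Cfsg.quadFormPlus m F)) := by
  have := Fintype.ofFinite F
  have hG := good_plus (F := F) (m := m) (by omega)
  have h1 : NoCenMove (↥(E (plusForm m F)) ⧸ Subgroup.center ↥(E (plusForm m F))) := by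
    rcases Nat.eq_or_lt_of_le hm with h | h
    · subst h
      obtain ⟨u, hu, ho⟩ := exists_plus_four (F := F) h2
      have h8 : Fintype.card (Fin 4 ⊕ Fin 4) = 8 := by simp
      refine of_family hG h2 (by rw [h8]; norm_num) (fun i => u (Fin.cast h8 i)) (fun i => hu _)
        (fun i j hij => ho _ _ fun h => hij (Fin.cast_injective _ h)) fun h => ?_
      exact absurd (h8.trans (by norm_num : 8 = 2 ^ 3)) (h 3)
    · exact of_surjective hG h2 (by simp; omega) (Cfsg.Agent.AutOrth.Final.surjective_plus h)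
  have h3 := h1.map (pomegaEquiv hG).symm
  rwa [coe_plusForm] at h3

/-! ### The rows -/

omit [Finite F] in
theorem two_ne_zero_of_odd [Fintype F] (h : Odd (Fintype.card F)) : (2 : F) ≠ 0 :=
  Cfsg.Agent.LieClassical.PomegaCard.odd_card_iff.1 h

omit [Finite F] in
theorem two_ne_zero_of_char {p : ℕ} [CharP F p] (hp : p ≠ 2) : (2 : F) ≠ 0 := by
  intro h
  have h1 : ((2 : ℕ) : F) = 0 := by exact_mod_cast h
  rw [CharP.cast_eq_zero_iff F p] at h1
  have h3 : p.Prime := (CharP.char_is_prime_or_zero F p).resolve_right (by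
    rintro rfl
    have := Nat.zero_dvd.1 h1
    omega)
  exact hp ((Nat.prime_dvd_prime_iff_eq h3 Nat.prime_two).1 h1)

end families

theorem finite_POmega {I : Type} [Fintype I] [DecidableEq I] {F : Type} [Field F] [Finite F]
    (Q : (I → F) → F) : Finite (Cfsg.POmega F Q) := by
  have : Finite (Matrix.GeneralLinearGroup I F) :=
    Finite.of_injective (fun g : Matrix.GeneralLinearGroup I F => (g : Matrix I I F)) fun g h hgh => Units.ext hgh
  have : Finite (Cfsg.isometryGroup F Q) := inferInstance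
  have : Finite (Cfsg.Omega F Q) := Subtype.finite
  exact Quotient.finite _

/-- a finite group isomorphic to a group with `NoCenMove` -/
theorem of_equiv {X Y : Type*} [Group X] [Group Y] [Finite Y] (e : X ≃* Y) (h : NoCenMove Y) : NoCenMove X := by
  have : Finite X := Finite.of_equiv Y e.symm.toEquiv
  exact h.map e.symm

/-- **The row `PΩ_{2m+1}(q)`.** -/
theorem of_isPOmegaOdd {X : Type*} [Group X] (h : Cfsg.IsPOmegaOdd X) : NoCenMove X := by
  obtain ⟨F, _, _, m, hm, hodd, ⟨e⟩⟩ := h
  have := finite_POmega (Cfsg.quadFormOdd m F)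
  exact of_equiv e (odd hm (two_ne_zero_of_odd hodd))

theorem of_isPOmegaOddChar {p : ℕ} {X : Type*} [Group X] (h : Cfsg.IsPOmegaOddChar p X) :
    NoCenMove X := by
  obtain ⟨F, _, _, _, m, hm, hodd, ⟨e⟩⟩ := h
  have := finite_POmega (Cfsg.quadFormOdd m F)
  exact of_equiv e (odd hm (two_ne_zero_of_odd hodd))

/-- **The row `PΩ⁺_{2m}(q)`.** -/
theorem of_isPOmegaPlusChar {p : ℕ} (hp : p ≠ 2) {X : Type*} [Group X]
    (h : Cfsg.IsPOmegaPlusChar p X) : NoCenMove X := by
  obtain ⟨F, _, _, _, m, hm, ⟨e⟩⟩ := h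
  have := finite_POmega (Cfsg.quadFormPlus m F)
  exact of_equiv e (plus hm (two_ne_zero_of_char hp))

/-- **The row `PΩ⁻_{2m}(q)`.** -/
theorem of_isPOmegaMinusChar {p : ℕ} (hp : p ≠ 2) {X : Type*} [Group X]
    (h : Cfsg.IsPOmegaMinusChar p X) : NoCenMove X := by
  obtain ⟨F, _, _, _, m, a, b, hm, hab, ⟨e⟩⟩ := h
  have := finite_POmega (Cfsg.quadFormMinus (m - 1) F a b)
  exact of_equiv e (minus hm (two_ne_zero_of_char hp) a b hab)

end Cfsg.Agent.Omega.Lie.CenOrth
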