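import Cfsg.Agent.Omega.Lie.CenSwap
import Cfsg.Agent.ClassicalGeometry.SympAutExists
import Cfsg.Agent.ClassicalGeometry.SympAutRecog

/-!
# The K-fact (ZS) for the simple symplectic groups in odd characteristic

`noCenMove`: an automorphism of odd order of `PSp_2m(q)`, `q` odd, `m ≥ 2`, which normalises a Sylow 2-subgroup `S`
centralises `Ω₁ Z(S)`.

The 2-group `E`: the image of `(Q₈)^m ⋊ P`, `P` a Sylow 2-subgroup of `Sym(m)`. An element of `Sp_2m(q)` which
commutes with it modulo `± 1` is `± 1` on every plane, with a `P`-semiinvariant set of signs.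
-/

set_option autoImplicit false
open Cfsg
open scoped Matrix

namespace Cfsg.Agent.Omega.Lie.CenSymp

open Cfsg.Agent.ClassicalGeometry.SympBasic
open Cfsg.Agent.ClassicalGeometry.SympSiegel
open Cfsg.Agent.ClassicalGeometry.SympAutCentral
open Cfsg.Agent.ClassicalGeometry.SympAutSemi
open Cfsg.Agent.ClassicalGeometry.SympAutExists
open Cfsg.Agent.Omega.Lie.CenTwo
open Cfsg.Agent.Omega.Lie.CenSwap (Semi eq_or_eq_compl noCenMove_of_inv)

variable {F : Type*} [Field F] {m : ℕ}

local notation "V" => (Fin m ⊕ Fin m → F)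
local notation "G" => Matrix.symplecticGroup (Fin m) F
local notation "f" => sympForm m F
local notation "SL2" => Matrix.SpecialLinearGroup (Fin 2) F

/-! ### The planewise action -/

/-- The linear map with blocks `M i` on the planes. -/
def dLin (M : Fin m → SL2) : V →ₗ[F] V where
  toFun v := Sum.elim (fun i => M i 0 0 * v (Sum.inl i) + M i 0 1 * v (Sum.inr i))
    (fun i => M i 1 0 * v (Sum.inl i) + M i 1 1 * v (Sum.inr i))
  map_add' u v := by
    funext x
    rcases x with i | i <;> simp <;> ring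
  map_smul' c v := by
    funext x
    rcases x with i | i <;> simp <;> ring

theorem dLin_inl (M : Fin m → SL2) (v : V) (i : Fin m) :
    dLin M v (Sum.inl i) = M i 0 0 * v (Sum.inl i) + M i 0 1 * v (Sum.inr i) := rfl

theorem dLin_inr (M : Fin m → SL2) (v : V) (i : Fin m) :
    dLin M v (Sum.inr i) = M i 1 0 * v (Sum.inl i) + M i 1 1 * v (Sum.inr i) := rfl

theorem form_dLin (M : Fin m → SL2) (u v : V) : f (dLin M u) (dLin M v) = f u v := by
  rw [sympForm_eq_sum, sympForm_eq_sum]
  refine Finset.sum_congr rfl fun i _ => ?_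
  rw [dLin_inl, dLin_inr, dLin_inl, dLin_inr]
  have h : M i 0 0 * M i 1 1 - M i 0 1 * M i 1 0 = 1 := by
    rw [← Matrix.det_fin_two]
    exact (M i).2
  linear_combination (u (Sum.inr i) * v (Sum.inl i) - u (Sum.inl i) * v (Sum.inr i)) * h

/-- Blocks on the planes. -/
def D (m : ℕ) (F : Type*) [Field F] :
    (Fin m → Matrix.SpecialLinearGroup (Fin 2) F) →* Matrix.symplecticGroup (Fin m) F where
  toFun M := ofIso (dLin M) (form_dLin M)
  map_one' := by
    apply ext_smul
    intro v
    rw [ofIso_smul, one_smul]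
    funext x
    rcases x with i | i
    · rw [dLin_inl]
      simp
    · rw [dLin_inr]
      simp
  map_mul' M N := by
    apply ext_smul
    intro v
    rw [mul_smul, ofIso_smul, ofIso_smul, ofIso_smul]
    funext x
    rcases x with i | i
    · rw [dLin_inl, dLin_inl, dLin_inl, dLin_inr, Pi.mul_apply, Matrix.SpecialLinearGroup.coe_mul,
        Matrix.mul_apply, Matrix.mul_apply, Fin.sum_univ_two, Fin.sum_univ_two]
      ring
    · rw [dLin_inr, dLin_inr, dLin_inl, dLin_inr, Pi.mul_apply, Matrix.SpecialLinearGroup.coe_mul,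
        Matrix.mul_apply, Matrix.mul_apply, Fin.sum_univ_two, Fin.sum_univ_two]
      ring

theorem D_inl (M : Fin m → SL2) (v : V) (i : Fin m) :
    (D m F M • v) (Sum.inl i) = M i 0 0 * v (Sum.inl i) + M i 0 1 * v (Sum.inr i) :=
  congrFun (ofIso_smul (dLin M) (form_dLin M) v) (Sum.inl i)

theorem D_inr (M : Fin m → SL2) (v : V) (i : Fin m) :
    (D m F M • v) (Sum.inr i) = M i 1 0 * v (Sum.inl i) + M i 1 1 * v (Sum.inr i) :=
  congrFun (ofIso_smul (dLin M) (form_dLin M) v) (Sum.inr i)

/-! ### Permutations of the planes -/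

/-- The linear map permuting the planes. -/
def pLin (σ : Equiv.Perm (Fin m)) : V →ₗ[F] V where
  toFun v := Sum.elim (fun i => v (Sum.inl (σ⁻¹ i))) (fun i => v (Sum.inr (σ⁻¹ i)))
  map_add' u v := by
    funext x
    rcases x with i | i <;> simp
  map_smul' c v := by
    funext x
    rcases x with i | i <;> simp

theorem pLin_inl (σ : Equiv.Perm (Fin m)) (v : V) (i : Fin m) :
    pLin σ v (Sum.inl i) = v (Sum.inl (σ⁻¹ i)) := rfl

theorem pLin_inr (σ : Equiv.Perm (Fin m)) (v : V) (i : Fin m) :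
    pLin σ v (Sum.inr i) = v (Sum.inr (σ⁻¹ i)) := rfl

theorem form_pLin (σ : Equiv.Perm (Fin m)) (u v : V) : f (pLin σ u) (pLin σ v) = f u v := by
  rw [sympForm_eq_sum, sympForm_eq_sum]
  simp only [pLin_inl, pLin_inr]
  exact Equiv.sum_comp σ⁻¹ (fun i => u (Sum.inr i) * v (Sum.inl i) - u (Sum.inl i) * v (Sum.inr i))

/-- Permutations of the planes. -/
def P (m : ℕ) (F : Type*) [Field F] : Equiv.Perm (Fin m) →* Matrix.symplecticGroup (Fin m) F where
  toFun σ := ofIso (pLin σ) (form_pLin σ)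
  map_one' := by
    apply ext_smul
    intro v
    rw [ofIso_smul, one_smul]
    funext x
    rcases x with i | i
    · rw [pLin_inl]
      simp
    · rw [pLin_inr]
      simp
  map_mul' σ τ := by
    apply ext_smul
    intro v
    rw [mul_smul, ofIso_smul, ofIso_smul, ofIso_smul]
    funext x
    rcases x with i | i
    · rw [pLin_inl, pLin_inl, pLin_inl, mul_inv_rev, Equiv.Perm.mul_apply]
    · rw [pLin_inr, pLin_inr, pLin_inr, mul_inv_rev, Equiv.Perm.mul_apply]

theorem P_inl (σ : Equiv.Perm (Fin m)) (v : V) (i : Fin m) :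
    (P m F σ • v) (Sum.inl i) = v (Sum.inl (σ⁻¹ i)) :=
  congrFun (ofIso_smul (pLin σ) (form_pLin σ) v) (Sum.inl i)

theorem P_inr (σ : Equiv.Perm (Fin m)) (v : V) (i : Fin m) :
    (P m F σ • v) (Sum.inr i) = v (Sum.inr (σ⁻¹ i)) :=
  congrFun (ofIso_smul (pLin σ) (form_pLin σ) v) (Sum.inr i)

theorem P_conj (σ : Equiv.Perm (Fin m)) (M : Fin m → SL2) :
    P m F σ * D m F M * (P m F σ)⁻¹ = D m F (fun i => M (σ⁻¹ i)) := by
  rw [mul_inv_eq_iff_eq_mul]
  apply ext_smul
  intro v
  rw [mul_smul, mul_smul]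
  funext x
  rcases x with i | i
  · rw [P_inl, D_inl, D_inl, P_inl, P_inr]
  · rw [P_inr, D_inr, D_inr, P_inl, P_inr]

/-! ### The quaternion group -/

/-- `J` -/
def jM (F : Type*) [Field F] : Matrix.SpecialLinearGroup (Fin 2) F :=
  ⟨!![0, -1; 1, 0], by rw [Matrix.det_fin_two_of]; ring⟩

/-- `K` -/
def kM {x y : F} (h : x ^ 2 + y ^ 2 = -1) : Matrix.SpecialLinearGroup (Fin 2) F :=
  ⟨!![x, y; y, -x], by rw [Matrix.det_fin_two_of]; linear_combination -h⟩

theorem coe_jM : (jM F : Matrix (Fin 2) (Fin 2) F) = !![0, -1; 1, 0] := rfl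

theorem coe_kM {x y : F} (h : x ^ 2 + y ^ 2 = -1) : (kM h : Matrix (Fin 2) (Fin 2) F) = !![x, y; y, -x] := rfl

theorem jM_sq : jM F * jM F = -1 := by
  apply Subtype.ext
  rw [Matrix.SpecialLinearGroup.coe_mul, Matrix.SpecialLinearGroup.coe_neg, Matrix.SpecialLinearGroup.coe_one,
    coe_jM]
  ext i j
  fin_cases i <;> fin_cases j <;> simp

theorem kM_sq {x y : F} (h : x ^ 2 + y ^ 2 = -1) : kM h * kM h = -1 := by
  apply Subtype.ext
  rw [Matrix.SpecialLinearGroup.coe_mul, Matrix.SpecialLinearGroup.coe_neg, Matrix.SpecialLinearGroup.coe_one,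
    coe_kM]
  ext i j
  fin_cases i <;> fin_cases j <;> simp <;> first | ring1 | linear_combination h

theorem kM_jM {x y : F} (h : x ^ 2 + y ^ 2 = -1) : kM h * jM F = -(jM F * kM h) := by
  apply Subtype.ext
  rw [Matrix.SpecialLinearGroup.coe_mul, Matrix.SpecialLinearGroup.coe_neg, Matrix.SpecialLinearGroup.coe_mul,
    coe_kM, coe_jM]
  ext i j
  fin_cases i <;> fin_cases j <;> simp

theorem neg_one_sq' : (-1 : Matrix.SpecialLinearGroup (Fin 2) F) * -1 = 1 := by
  rw [neg_mul_neg, one_mul]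

/-- The quaternion group, as `⟨J⟩ ⊔ ⟨K⟩`. -/
def Q8 {x y : F} (h : x ^ 2 + y ^ 2 = -1) : Subgroup (Matrix.SpecialLinearGroup (Fin 2) F) :=
  Subgroup.zpowers (jM F) ⊔ Subgroup.zpowers (kM h)

theorem isPGroup_zpowers {g : SL2} (h : g * g = -1) : IsPGroup 2 (Subgroup.zpowers g) := by
  have h4 : g ^ (2 ^ 2) = 1 := by
    have e : g ^ (2 ^ 2) = (g * g) * (g * g) := by
      rw [show (2 : ℕ) ^ 2 = 2 + 2 from rfl, pow_add, pow_two]
    rw [e, h, neg_one_sq']
  rintro ⟨x, hx⟩
  obtain ⟨k, rfl⟩ := Subgroup.mem_zpowers_iff.1 hx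
  refine ⟨2, Subtype.ext ?_⟩
  show (g ^ k) ^ (2 ^ 2) = 1
  rw [← zpow_natCast, ← zpow_mul, mul_comm, zpow_mul, zpow_natCast, h4, one_zpow]

theorem isPGroup_Q8 {x y : F} (h : x ^ 2 + y ^ 2 = -1) : IsPGroup 2 (Q8 h) := by
  apply (isPGroup_zpowers jM_sq).to_sup_of_normal_left' (isPGroup_zpowers (kM_sq h))
  have hj : (jM F)⁻¹ = -(jM F) := by
    rw [inv_eq_iff_mul_eq_one, mul_neg, jM_sq, neg_neg]
  have hc : kM h * jM F * (kM h)⁻¹ = (jM F)⁻¹ := by
    rw [hj, kM_jM, neg_mul, mul_inv_cancel_right]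
  rw [Subgroup.zpowers_le, Subgroup.mem_normalizer_iff]
  have key : ∀ g : SL2, g ∈ Subgroup.zpowers (jM F) → kM h * g * (kM h)⁻¹ ∈ Subgroup.zpowers (jM F) := by
    intro g hg
    obtain ⟨k, rfl⟩ := Subgroup.mem_zpowers_iff.1 hg
    rw [← conj_zpow, hc]
    exact Subgroup.zpow_mem _ (Subgroup.inv_mem _ (Subgroup.mem_zpowers _)) _
  intro g
  refine ⟨key g, fun hg => ?_⟩
  have h1 := key _ hg
  have e : kM h * (kM h * g * (kM h)⁻¹) * (kM h)⁻¹ = (kM h * kM h) * g * (kM h * kM h)⁻¹ := by group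
  rw [e, kM_sq] at h1
  simpa using h1

theorem isPGroup_pi {ι H : Type*} [Group H] [Finite H] {Q : Subgroup H} (hQ : IsPGroup 2 Q) :
    IsPGroup 2 (Subgroup.pi Set.univ (fun _ : ι => Q)) := by
  have : Fact (Nat.Prime 2) := ⟨Nat.prime_two⟩
  obtain ⟨n, hn⟩ := (IsPGroup.iff_card (p := 2)).1 hQ
  rintro ⟨g, hg⟩
  refine ⟨n, Subtype.ext ?_⟩
  show g ^ (2 ^ n) = 1
  funext i
  have hi : g i ∈ Q := hg i (Set.mem_univ i)
  have h1 : (⟨g i, hi⟩ : Q) ^ (2 ^ n) = 1 := by
    rw [← hn]
    exact pow_card_eq_one'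
  exact congrArg Subtype.val h1

/-! ### The group `E` -/

/-- The group `(Q₈)^m ⋊ S`. -/
def EE {x y : F} (h : x ^ 2 + y ^ 2 = -1) (S : Subgroup (Equiv.Perm (Fin m))) :
    Subgroup (Matrix.symplecticGroup (Fin m) F) :=
  (Subgroup.pi Set.univ (fun _ => Q8 h)).map (D m F) ⊔ S.map (P m F)

theorem isPGroup_EE [Finite F] {x y : F} (h : x ^ 2 + y ^ 2 = -1) {S : Subgroup (Equiv.Perm (Fin m))}
    (hS : IsPGroup 2 S) : IsPGroup 2 (EE h S) := by
  apply IsPGroup.to_sup_of_normal_left'
  · exact (isPGroup_pi (isPGroup_Q8 h)).map _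
  · exact hS.map _
  · rintro _ ⟨σ, -, rfl⟩
    rw [Subgroup.mem_normalizer_iff]
    have key : ∀ (σ : Equiv.Perm (Fin m)) (g : G), g ∈ (Subgroup.pi Set.univ (fun _ => Q8 h)).map (D m F) →
        P m F σ * g * (P m F σ)⁻¹ ∈ (Subgroup.pi Set.univ (fun _ => Q8 h)).map (D m F) := by
      rintro σ _ ⟨M, hM, rfl⟩
      rw [P_conj]
      exact ⟨_, fun i _ => hM _ (Set.mem_univ _), rfl⟩
    intro g
    refine ⟨key σ g, fun hg => ?_⟩
    have h1 := key σ⁻¹ _ hg
    rw [map_inv, inv_inv] at h1
    have e : (P m F σ)⁻¹ * (P m F σ * g * (P m F σ)⁻¹) * P m F σ = g := by group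
    rwa [e] at h1

/-! ### Elements which commute with `E` modulo `± 1` -/

theorem single_inl (i : Fin m) (g : SL2) (v : V) : (D m F (Pi.mulSingle i g) • v) (Sum.inl i) =
    g 0 0 * v (Sum.inl i) + g 0 1 * v (Sum.inr i) := by
  rw [D_inl, Pi.mulSingle_eq_same]

theorem single_inr (i : Fin m) (g : SL2) (v : V) : (D m F (Pi.mulSingle i g) • v) (Sum.inr i) =
    g 1 0 * v (Sum.inl i) + g 1 1 * v (Sum.inr i) := by
  rw [D_inr, Pi.mulSingle_eq_same]

theorem single_inl_ne {i j : Fin m} (hij : j ≠ i) (g : SL2) (v : V) :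
    (D m F (Pi.mulSingle i g) • v) (Sum.inl j) = v (Sum.inl j) := by
  rw [D_inl, Pi.mulSingle_eq_of_ne hij]
  simp

theorem single_inr_ne {i j : Fin m} (hij : j ≠ i) (g : SL2) (v : V) :
    (D m F (Pi.mulSingle i g) • v) (Sum.inr j) = v (Sum.inr j) := by
  rw [D_inr, Pi.mulSingle_eq_of_ne hij]
  simp

/-- supported on the `i`-th plane -/
def On (i : Fin m) (v : V) : Prop := ∀ j, j ≠ i → v (Sum.inl j) = 0 ∧ v (Sum.inr j) = 0

/-- zero on the `i`-th plane -/
def Off (i : Fin m) (v : V) : Prop := v (Sum.inl i) = 0 ∧ v (Sum.inr i) = 0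

theorem on_iff (h2 : (2 : F) ≠ 0) (i : Fin m) (v : V) :
    D m F (Pi.mulSingle i (-1)) • v = -v ↔ On i v := by
  have hh : ∀ a : F, a = -a → a = 0 := by
    intro a ha
    have : 2 * a = 0 := by linear_combination ha
    rcases mul_eq_zero.1 this with h | h
    · exact absurd h h2
    · exact h
  constructor
  · intro h j hj
    constructor
    · have := congrFun h (Sum.inl j)
      rw [single_inl_ne hj] at this
      exact hh _ this
    · have := congrFun h (Sum.inr j)
      rw [single_inr_ne hj] at this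
      exact hh _ this
  · intro h
    funext x
    rcases x with j | j
    · by_cases hj : j = i
      · subst hj
        rw [single_inl]
        simp
      · rw [single_inl_ne hj, Pi.neg_apply, (h j hj).1, neg_zero]
    · by_cases hj : j = i
      · subst hj
        rw [single_inr]
        simp
      · rw [single_inr_ne hj, Pi.neg_apply, (h j hj).2, neg_zero]

theorem off_iff (h2 : (2 : F) ≠ 0) (i : Fin m) (v : V) :
    D m F (Pi.mulSingle i (-1)) • v = v ↔ Off i v := by
  have hh : ∀ a : F, -a = a → a = 0 := by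
    intro a ha
    have : 2 * a = 0 := by linear_combination -ha
    rcases mul_eq_zero.1 this with h | h
    · exact absurd h h2
    · exact h
  constructor
  · intro h
    constructor
    · have := congrFun h (Sum.inl i)
      rw [single_inl] at this
      apply hh
      simpa using this
    · have := congrFun h (Sum.inr i)
      rw [single_inr] at this
      apply hh
      simpa using this
  · intro h
    funext x
    rcases x with j | j
    · by_cases hj : j = i
      · subst hj
        rw [single_inl, h.1, h.2]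
        simp
      · rw [single_inl_ne hj]
    · by_cases hj : j = i
      · subst hj
        rw [single_inr, h.1, h.2]
        simp
      · rw [single_inr_ne hj]

/-- blocks on plane `i` fix the vectors which vanish there -/
theorem single_of_off (i : Fin m) (g : SL2) {v : V} (h : Off i v) :
    D m F (Pi.mulSingle i g) • v = v := by
  funext x
  rcases x with j | j
  · by_cases hj : j = i
    · subst hj
      rw [single_inl, h.1, h.2]
      simp
    · rw [single_inl_ne hj]
  · by_cases hj : j = i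
    · subst hj
      rw [single_inr, h.1, h.2]
      simp
    · rw [single_inr_ne hj]

/-- `A` commutes with `x` modulo `± 1` -/
def Cm (A x : G) : Prop := ∃ b : F, b * b = 1 ∧ ∀ v : V, x • (A • v) = b • (A • (x • v))

theorem cm_iff {A x : G} : (QuotientGroup.mk x : PSp m F) * QuotientGroup.mk A =
    QuotientGroup.mk A * QuotientGroup.mk x ↔ Cm A x := by
  rw [← QuotientGroup.mk_mul, ← QuotientGroup.mk_mul, eq_comm, mk_eq_mk_iff]
  simp only [mul_smul]
  exact Iff.rfl

section Key

variable {x y : F} {h : x ^ 2 + y ^ 2 = -1} {A : Matrix.symplecticGroup (Fin m) F} {i : Fin m}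

theorem comm_z (hJ : Cm A (D m F (Pi.mulSingle i (jM F)))) (hK : Cm A (D m F (Pi.mulSingle i (kM h)))) (w : V) :
    D m F (Pi.mulSingle i (-1)) • (A • w) = A • (D m F (Pi.mulSingle i (-1)) • w) := by
  obtain ⟨b, hb, hJ⟩ := hJ
  obtain ⟨c, hc, hK⟩ := hK
  set J := D m F (Pi.mulSingle i (jM F)) with hJd
  set K := D m F (Pi.mulSingle i (kM h)) with hKd
  set z := D m F (Pi.mulSingle i (-1)) with hz
  have e : K * J = z * (J * K) := by
    rw [hJd, hKd, hz, ← map_mul, ← map_mul, ← map_mul, ← Pi.mulSingle_mul, ← Pi.mulSingle_mul,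
      ← Pi.mulSingle_mul, kM_jM, neg_one_mul]
  obtain ⟨v, rfl⟩ : ∃ v : V, w = (J * K) • v := ⟨(J * K)⁻¹ • w, (smul_inv_smul _ _).symm⟩
  have e1 : (J * K) • (A • v) = (b * c) • (A • ((J * K) • v)) := by
    rw [mul_smul J K, hK, smul_smul', hJ, smul_smul c b, mul_smul J K, mul_comm c b]
  have e2 : (K * J) • (A • v) = (b * c) • (A • ((K * J) • v)) := by
    rw [mul_smul K J, hJ, smul_smul', hK, smul_smul b c, mul_smul K J]
  have e3 : A • ((J * K) • v) = (b * c) • ((J * K) • (A • v)) := by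
    rw [e1, smul_smul (b * c) (b * c), mul_mul_mul_comm, hb, hc, one_mul, one_smul]
  rw [e3, smul_smul', ← mul_smul z (J * K), ← mul_smul z (J * K), ← e, e2, smul_smul (b * c) (b * c),
    mul_mul_mul_comm, hb, hc, one_mul, one_smul]

theorem on_smul (h2 : (2 : F) ≠ 0) (hJ : Cm A (D m F (Pi.mulSingle i (jM F))))
    (hK : Cm A (D m F (Pi.mulSingle i (kM h)))) {v : V} (hv : On i v) : On i (A • v) := by
  rw [← on_iff h2] at hv ⊢
  rw [comm_z hJ hK, hv, smul_neg']

theorem off_smul (h2 : (2 : F) ≠ 0) (hJ : Cm A (D m F (Pi.mulSingle i (jM F))))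
    (hK : Cm A (D m F (Pi.mulSingle i (kM h)))) {v : V} (hv : Off i v) : Off i (A • v) := by
  rw [← off_iff h2] at hv ⊢
  rw [comm_z hJ hK, hv]

theorem off_E {i j : Fin m} (hij : j ≠ i) : Off i (E F j) := by
  refine ⟨?_, E_inr _ _⟩
  rw [E_inl, if_neg hij.symm]

theorem on_E (i : Fin m) : On i (E F i) := by
  intro j hj
  refine ⟨?_, E_inr _ _⟩
  rw [E_inl, if_neg hj]

/-- `A` commutes with the blocks on plane `i`. -/
theorem cm_exact (hm : 2 ≤ m) (h2 : (2 : F) ≠ 0) (hJ : Cm A (D m F (Pi.mulSingle i (jM F))))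
    (hK : Cm A (D m F (Pi.mulSingle i (kM h)))) {g : SL2} (hg : Cm A (D m F (Pi.mulSingle i g))) (v : V) :
    D m F (Pi.mulSingle i g) • (A • v) = A • (D m F (Pi.mulSingle i g) • v) := by
  obtain ⟨b, hb, hg⟩ := hg
  have : Nontrivial (Fin m) := Fin.nontrivial_iff_two_le.2 hm
  obtain ⟨j, hj⟩ := exists_ne i
  have h1 := hg (E F j)
  have h3 : Off i (A • E F j) := off_smul (h := h) h2 hJ hK (off_E hj)
  rw [single_of_off i g (off_E hj), single_of_off i g h3] at h1
  have hb1 : b = 1 := by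
    by_contra hb1
    have h4 : (b - 1) • (A • E F j) = 0 := by rw [sub_smul, ← h1, one_smul, sub_self]
    rcases smul_eq_zero.1 h4 with h5 | h5
    · exact hb1 (sub_eq_zero.1 h5)
    · exact smul_ne_zero' A (E_ne_zero j) h5
  rw [hg v, hb1, one_smul]

/-- `A` is a scalar on every plane. -/
theorem scalar_E (hm : 2 ≤ m) (h2 : (2 : F) ≠ 0) (hJ : Cm A (D m F (Pi.mulSingle i (jM F))))
    (hK : Cm A (D m F (Pi.mulSingle i (kM h)))) :
    ∃ a : F, a * a = 1 ∧ A • E F i = a • E F i ∧ A • E' F i = a • E' F i := by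
  have hJe := cm_exact (h := h) hm h2 hJ hK hJ
  have hKe := cm_exact (h := h) hm h2 hJ hK hK
  have hon : On i (A • E F i) := on_smul (h := h) h2 hJ hK (on_E i)
  set w := A • E F i with hw
  have ew : w = w (Sum.inl i) • E F i + w (Sum.inr i) • E' F i := by
    funext t
    rcases t with j | j
    · rw [Pi.add_apply, Pi.smul_apply, Pi.smul_apply, E_inl, E'_inl]
      by_cases hj : j = i
      · subst hj; simp
      · rw [if_neg hj, (hon j hj).1]; simp
    · rw [Pi.add_apply, Pi.smul_apply, Pi.smul_apply, E_inr, E'_inr]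
      by_cases hj : j = i
      · subst hj; simp
      · rw [if_neg hj, (hon j hj).2]; simp
  have eJE : D m F (Pi.mulSingle i (jM F)) • E F i = E' F i := by
    funext t
    rcases t with j | j
    · by_cases hj : j = i
      · subst hj
        rw [single_inl, E_inl, E_inr, E'_inl, coe_jM]; simp
      · rw [single_inl_ne hj, E_inl, E'_inl, if_neg hj]
    · by_cases hj : j = i
      · subst hj
        rw [single_inr, E_inl, E_inr, E'_inr, coe_jM]; simp
      · rw [single_inr_ne hj, E_inr, E'_inr, if_neg hj]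
  have eKE : D m F (Pi.mulSingle i (kM h)) • E F i = x • E F i + y • E' F i := by
    funext t
    rcases t with j | j
    · rw [Pi.add_apply, Pi.smul_apply, Pi.smul_apply]
      by_cases hj : j = i
      · subst hj
        rw [single_inl, E_inl, E_inr, E'_inl, coe_kM]; simp
      · rw [single_inl_ne hj, E_inl, E'_inl, if_neg hj]; simp
    · rw [Pi.add_apply, Pi.smul_apply, Pi.smul_apply]
      by_cases hj : j = i
      · subst hj
        rw [single_inr, E_inl, E_inr, E'_inr, coe_kM]; simp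
      · rw [single_inr_ne hj, E_inr, E'_inr, if_neg hj]; simp
  have hu : A • E' F i = D m F (Pi.mulSingle i (jM F)) • w := by
    rw [← eJE, hJe]
  have hk := hKe (E F i)
  rw [eKE, smul_add', smul_smul', smul_smul', hu, ← hw] at hk
  set a := w (Sum.inl i) with ha
  set c := w (Sum.inr i) with hc
  have k1 := congrFun hk (Sum.inl i)
  have k2 := congrFun hk (Sum.inr i)
  rw [Pi.add_apply, Pi.smul_apply, Pi.smul_apply, single_inl, single_inl, coe_jM, coe_kM, ← ha, ← hc] at k1
  rw [Pi.add_apply, Pi.smul_apply, Pi.smul_apply, single_inr, single_inr, coe_jM, coe_kM, ← ha, ← hc] at k2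
  simp at k1 k2
  have c1 : 2 * (y * c) = 0 := by linear_combination k1
  have c2 : 2 * (x * c) = 0 := by linear_combination -k2
  have hc0 : c = 0 := by
    by_contra hcne
    have hy : y = 0 := by
      rcases mul_eq_zero.1 c1 with h3 | h3
      · exact absurd h3 h2
      · rcases mul_eq_zero.1 h3 with h4 | h4
        · exact h4
        · exact absurd h4 hcne
    have hx : x = 0 := by
      rcases mul_eq_zero.1 c2 with h3 | h3
      · exact absurd h3 h2
      · rcases mul_eq_zero.1 h3 with h4 | h4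
        · exact h4
        · exact absurd h4 hcne
    rw [hx, hy] at h
    have : (1 : F) = 0 := by linear_combination h
    exact one_ne_zero this
  have hwa : w = a • E F i := by rw [ew, hc0, zero_smul, add_zero]
  have hua : A • E' F i = a • E' F i := by
    rw [hu, hwa, smul_smul', eJE]
  refine ⟨a, ?_, hwa, hua⟩
  have hf := form_smul A (E F i) (E' F i)
  rw [← hw, hwa, hua, sympForm_smul_left, sympForm_smul_right, form_E_left, E'_inr, if_pos rfl] at hf
  linear_combination -hf

theorem diag (hm : 2 ≤ m) (h2 : (2 : F) ≠ 0) {A : G} (hJ : ∀ i, Cm A (D m F (Pi.mulSingle i (jM F))))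
    (hK : ∀ i, Cm A (D m F (Pi.mulSingle i (kM h)))) :
    ∃ a : Fin m → F, (∀ i, a i * a i = 1) ∧
      ∀ (v : V) (i : Fin m), (A • v) (Sum.inl i) = a i * v (Sum.inl i) ∧
        (A • v) (Sum.inr i) = a i * v (Sum.inr i) := by
  have hh : ∀ i, ∃ a : F, a * a = 1 ∧ A • E F i = a • E F i ∧ A • E' F i = a • E' F i := fun i =>
    scalar_E (h := h) hm h2 (hJ i) (hK i)
  choose a ha1 ha2 ha3 using hh
  refine ⟨a, ha1, fun v i => ?_⟩
  set v' : V := v - v (Sum.inl i) • E F i - v (Sum.inr i) • E' F i with hv'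
  have hoff : Off i v' := by
    constructor
    · rw [hv', Pi.sub_apply, Pi.sub_apply, Pi.smul_apply, Pi.smul_apply, E_inl, E'_inl, if_pos rfl]
      simp
    · rw [hv', Pi.sub_apply, Pi.sub_apply, Pi.smul_apply, Pi.smul_apply, E_inr, E'_inr, if_pos rfl]
      simp
  have hoff' : Off i (A • v') := off_smul (h := h) h2 (hJ i) (hK i) hoff
  have ev : v = v' + v (Sum.inl i) • E F i + v (Sum.inr i) • E' F i := by
    rw [hv']; abel
  have eA : A • v = A • v' + (v (Sum.inl i) * a i) • E F i + (v (Sum.inr i) * a i) • E' F i := by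
    conv_lhs => rw [ev]
    rw [smul_add', smul_add', smul_smul', smul_smul', ha2, ha3, smul_smul, smul_smul]
  rw [eA]
  simp only [Pi.add_apply, Pi.smul_apply, E_inl, E'_inl, E_inr, E'_inr, if_true, hoff'.1, hoff'.2]
  constructor
  · simp [mul_comm]
  · simp [mul_comm]

end Key

/-! ### The signs are semiinvariant -/

theorem perm_sign {A : G} {a : Fin m → F}
    (ha : ∀ (v : V) (i : Fin m), (A • v) (Sum.inl i) = a i * v (Sum.inl i) ∧
        (A • v) (Sum.inr i) = a i * v (Sum.inr i)) {σ : Equiv.Perm (Fin m)} (hσ : Cm A (P m F σ)) :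
    ∃ b : F, b * b = 1 ∧ ∀ i, a (σ⁻¹ i) = b * a i := by
  obtain ⟨b, hb, h⟩ := hσ
  refine ⟨b, hb, fun i => ?_⟩
  have h1 := congrFun (h (E F (σ⁻¹ i))) (Sum.inl i)
  rw [P_inl, (ha _ _).1, E_inl, if_pos rfl, Pi.smul_apply, (ha _ _).1, P_inl, E_inl, if_pos rfl, smul_eq_mul] at h1
  linear_combination h1

open Classical in
/-- the planes on which `A` is the identity -/
noncomputable def T (a : Fin m → F) : Finset (Fin m) := Finset.univ.filter (fun i => a i = 1)

theorem mem_T {a : Fin m → F} {i : Fin m} : i ∈ T a ↔ a i = 1 := by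
  classical
  rw [T, Finset.mem_filter]
  exact ⟨fun h => h.2, fun h => ⟨Finset.mem_univ _, h⟩⟩

theorem sign_cases {b : F} (hb : b * b = 1) : b = 1 ∨ b = -1 := by
  have : (b - 1) * (b + 1) = 0 := by linear_combination hb
  rcases mul_eq_zero.1 this with h | h
  · exact Or.inl (sub_eq_zero.1 h)
  · exact Or.inr (eq_neg_of_add_eq_zero_left h)

theorem semi_T (h2 : (2 : F) ≠ 0) {a : Fin m → F} (ha : ∀ i, a i * a i = 1) {σ : Equiv.Perm (Fin m)} {b : F}
    (hb : b * b = 1) (h : ∀ i, a (σ⁻¹ i) = b * a i) : Semi σ (T a) := by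
  have h11 : (1 : F) ≠ -1 := by
    intro h3
    apply h2
    linear_combination h3
  rcases sign_cases hb with rfl | rfl
  · left
    ext i
    rw [Finset.mem_map_equiv, mem_T, mem_T]
    have := h i
    rw [one_mul] at this
    rw [← this]
    exact Iff.rfl
  · right
    ext i
    rw [Finset.mem_map_equiv, Finset.mem_compl, mem_T, mem_T]
    have h3 : a (σ.symm i) = -1 * a i := h i
    rw [h3]
    rcases sign_cases (ha i) with h4 | h4
    · rw [h4]
      simp only [not_true_eq_false, iff_false, mul_one]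
      exact h11.symm
    · rw [h4]
      simp [h11.symm]

/-! ### Fixed vectors -/

theorem card_fix [Finite F] {A : G} {a : Fin m → F}
    (ha : ∀ (v : V) (i : Fin m), (A • v) (Sum.inl i) = a i * v (Sum.inl i) ∧
        (A • v) (Sum.inr i) = a i * v (Sum.inr i)) :
    Nat.card {v : V // A • v = v} = Nat.card F ^ ((T a).card + (T a).card) := by
  classical
  let c : Fin m ⊕ Fin m → F := Sum.elim a a
  have hc : ∀ (v : V) x, (A • v) x = c x * v x := by
    intro v x
    rcases x with i | i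
    · exact (ha v i).1
    · exact (ha v i).2
  let e : {v : V // A • v = v} ≃ ({x // c x = 1} → F) :=
    { toFun := fun v x => v.1 x.1
      invFun := fun w => ⟨fun x => if hx : c x = 1 then w ⟨x, hx⟩ else 0, by
        funext x
        rw [hc]
        by_cases hx : c x = 1
        · rw [dif_pos hx, hx, one_mul]
        · rw [dif_neg hx, mul_zero]⟩
      left_inv := by
        rintro ⟨v, hv⟩
        apply Subtype.ext
        funext x
        by_cases hx : c x = 1
        · simp only [dif_pos hx]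
        · simp only [dif_neg hx]
          have h1 := congrFun hv x
          rw [hc] at h1
          have h3 : (c x - 1) * v x = 0 := by linear_combination h1
          rcases mul_eq_zero.1 h3 with h4 | h4
          · exact absurd (sub_eq_zero.1 h4) hx
          · exact h4.symm
      right_inv := by
        intro w
        funext x
        simp only [dif_pos x.2] }
  have e2 : {x // c x = 1} ≃ {i // i ∈ T a} ⊕ {i // i ∈ T a} :=
    Equiv.subtypeSum.trans (Equiv.sumCongr (Equiv.subtypeEquivRight fun i => mem_T.symm)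
      (Equiv.subtypeEquivRight fun i => mem_T.symm))
  rw [Nat.card_congr e, Nat.card_fun, Nat.card_congr e2, Nat.card_sum]
  simp

/-! ### The invariant -/

/-- the numbers of fixed vectors of the preimages -/
def inv (m : ℕ) (F : Type*) [Field F] (u : PSp m F) : Set ℕ :=
  {k | ∃ A : Matrix.symplecticGroup (Fin m) F, (QuotientGroup.mk A : PSp m F) = u ∧
    Nat.card {v : Fin m ⊕ Fin m → F // A • v = v} = k}

theorem card_conj (g : semiSim m F) (A : G) :
    Nat.card {v : V // conjHom m F g A • v = v} = Nat.card {v : V // A • v = v} := by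
  have h : ∀ (B : G) (v : V), B • v = rho m F B v := fun B v => rfl
  symm
  apply Nat.card_congr
  refine (g.1).subtypeEquiv fun v => ?_
  rw [h, h, rho_conjHom, Equiv.Perm.mul_apply, Equiv.Perm.mul_apply, perm_inv_apply_self]
  exact (g.1).injective.eq_iff.symm

theorem inv_le [Finite F] (hm : 2 ≤ m) (h2 : (2 : F) ≠ 0) (α : MulAut (PSp m F)) (u : PSp m F) :
    inv m F u ⊆ inv m F (α u) := by
  obtain ⟨g, hg⟩ := exists_semi hm α (Cfsg.Agent.ClassicalGeometry.SympAutRecog.recog_odd hm h2 α)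
  rintro k ⟨A, rfl, hk⟩
  refine ⟨conjHom m F g A, ?_, ?_⟩
  · rw [← hg, Psi_mk]
  · rw [card_conj, hk]

theorem inv_eq [Finite F] (hm : 2 ≤ m) (h2 : (2 : F) ≠ 0) (α : MulAut (PSp m F)) (u : PSp m F) :
    inv m F (α u) = inv m F u := by
  apply Set.Subset.antisymm
  · have h := inv_le hm h2 α⁻¹ (α u)
    rwa [MulAut.inv_apply_self] at h
  · exact inv_le hm h2 α u

/-! ### The theorem -/

theorem exists_sum_sq [Finite F] : ∃ x y : F, x ^ 2 + y ^ 2 = -1 := by
  obtain ⟨p, hp⟩ := CharP.exists F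
  have hpp : Fact p.Prime := ⟨CharP.char_is_prime F p⟩
  obtain ⟨a, b, hab⟩ := CharP.sq_add_sq F p (-1)
  exact ⟨a, b, by rw [hab]; simp⟩

/-- **(ZS) for `PSp_2m(q)`, `q` odd, `m ≥ 2`.** -/
theorem noCenMove [Finite F] (hm : 2 ≤ m) (h2 : (2 : F) ≠ 0) : NoCenMove (PSp m F) := by
  have : Fact (Nat.Prime 2) := ⟨Nat.prime_two⟩
  obtain ⟨x, y, h⟩ := exists_sum_sq (F := F)
  let S : Sylow 2 (Equiv.Perm (Fin m)) := default
  have hfin : Finite (PSp m F) := by
    have : Finite G := Subtype.finite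
    exact Quotient.finite _
  refine noCenMove_of_inv (inv m F) (fun τ u _ => inv_eq hm h2 τ u)
    ((EE h (S : Subgroup (Equiv.Perm (Fin m)))).map (QuotientGroup.mk' _)) ((isPGroup_EE h S.isPGroup').map _) ?_
  intro u v hu hv _ _ huv _ _
  have key : ∀ A : G, (∀ t ∈ (EE h (S : Subgroup (Equiv.Perm (Fin m)))).map
      (QuotientGroup.mk' (Subgroup.center G)), t * (QuotientGroup.mk A : PSp m F) = QuotientGroup.mk A * t) →
      ∃ a : Fin m → F, (∀ i, a i * a i = 1) ∧
        (∀ (v : V) (i : Fin m), (A • v) (Sum.inl i) = a i * v (Sum.inl i) ∧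
        (A • v) (Sum.inr i) = a i * v (Sum.inr i)) ∧ ∀ σ ∈ S, Semi σ (T a) := by
    intro A hA
    have hcm : ∀ t ∈ EE h (S : Subgroup (Equiv.Perm (Fin m))), Cm A t := fun t ht =>
      cm_iff.1 (hA _ ⟨t, ht, rfl⟩)
    have hq : ∀ (g : SL2) (i : Fin m), g ∈ Q8 h → Cm A (D m F (Pi.mulSingle i g)) := by
      intro g i hg
      apply hcm
      apply Subgroup.mem_sup_left
      refine ⟨_, ?_, rfl⟩
      intro j _
      by_cases hj : j = i
      · subst hj
        rw [Pi.mulSingle_eq_same]
        exact hg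
      · rw [Pi.mulSingle_eq_of_ne hj]
        exact Subgroup.one_mem _
    obtain ⟨a, ha1, ha2⟩ := diag (h := h) hm h2
      (fun i => hq _ i (Subgroup.mem_sup_left (Subgroup.mem_zpowers _)))
      (fun i => hq _ i (Subgroup.mem_sup_right (Subgroup.mem_zpowers _)))
    refine ⟨a, ha1, ha2, fun σ hσ => ?_⟩
    obtain ⟨b, hb, hb2⟩ := perm_sign ha2 (hcm _ (Subgroup.mem_sup_right ⟨σ, hσ, rfl⟩))
    exact semi_T h2 ha1 hb hb2
  obtain ⟨A, rfl⟩ := QuotientGroup.mk_surjective u
  have h3 : Nat.card {v : V // A • v = v} ∈ inv m F v := by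
    rw [← huv]
    exact ⟨A, rfl, rfl⟩
  obtain ⟨B, rfl, hB⟩ := h3
  obtain ⟨a, ha1, ha2, ha3⟩ := key A hu
  obtain ⟨b, hb1, hb2, hb3⟩ := key B hv
  rw [card_fix ha2, card_fix hb2] at hB
  have hc : (T a).card = (T b).card := by
    have h4 := Nat.pow_right_injective (Finite.one_lt_card (α := F)) hB
    have h5 : (T b).card + (T b).card = (T a).card + (T a).card := h4
    omega
  rw [mk_eq_mk_iff]
  rcases eq_or_eq_compl S ha3 hb3 hc with h4 | h4
  · refine ⟨1, one_mul 1, fun v => ?_⟩
    have hab : a = b := by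
      funext i
      have h5 : i ∈ T a ↔ i ∈ T b := by rw [h4]
      rw [mem_T, mem_T] at h5
      rcases sign_cases (ha1 i) with h6 | h6
      · rw [h6, h5.1 h6]
      · rcases sign_cases (hb1 i) with h7 | h7
        · rw [h7, h5.2 h7]
        · rw [h6, h7]
    funext t
    rw [one_smul]
    rcases t with i | i
    · rw [(ha2 _ _).1, (hb2 _ _).1, hab]
    · rw [(ha2 _ _).2, (hb2 _ _).2, hab]
  · refine ⟨-1, by ring, fun v => ?_⟩
    have hab : ∀ i, b i = - a i := by
      intro i
      have h5 : i ∈ T a ↔ ¬ i ∈ T b := by rw [h4, Finset.mem_compl]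
      rw [mem_T, mem_T] at h5
      rcases sign_cases (hb1 i) with h7 | h7
      · rcases sign_cases (ha1 i) with h6 | h6
        · exact absurd h7 (h5.1 h6)
        · rw [h6, h7, neg_neg]
      · have h8 : a i = 1 := by
          apply h5.2
          rw [h7]
          intro h9
          apply h2
          linear_combination -h9
        rw [h7, h8]
    funext t
    rw [Pi.smul_apply]
    rcases t with i | i
    · rw [(ha2 _ _).1, (hb2 _ _).1, hab, smul_eq_mul]
      ring
    · rw [(ha2 _ _).2, (hb2 _ _).2, hab, smul_eq_mul]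
      ring

end Cfsg.Agent.Omega.Lie.CenSymp
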