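import Cfsg.Agent.Omega.KFacts
import Cfsg.Agent.Omega.Lie.CenSymp

/-!
# The row `PSp_2m(q)`, `q` odd, of `KFacts.RowsZS`
-/

set_option autoImplicit false

namespace Cfsg.Agent.Omega.Lie.CenSympRow

open Cfsg Cfsg.Agent.Omega.Lie.CenTwo Cfsg.Agent.Omega.KFacts

universe u

theorem psp (K : Type u) [Group K] (h : OddChar @IsPSpChar K) : NoCenMove K := by
  obtain ⟨p, hp, hp2, F, _, _, _, m, hm, -, ⟨e⟩⟩ := h
  have h2 : (2 : F) ≠ 0 := by
    intro h0
    have h1 : ((2 : ℕ) : F) = 0 := by exact_mod_cast h0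
    rw [CharP.cast_eq_zero_iff F p] at h1
    exact hp2 ((Nat.prime_dvd_prime_iff_eq hp Nat.prime_two).1 h1)
  have : Finite (PSp m F) := by
    have : Finite (Matrix.symplecticGroup (Fin m) F) := Subtype.finite
    exact Quotient.finite _
  have : Finite K := Finite.of_equiv _ e.symm.toEquiv
  exact (CenSymp.noCenMove hm h2).map e.symm

/-- the field `psp` of `KFacts.RowsZS` -/
theorem row (K : Type u) [Group K] (h : OddChar @IsPSpChar K ∧ ¬ IsLieTypeChar 2 K) : NoCenMove K := psp K h.1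

end Cfsg.Agent.Omega.Lie.CenSympRow
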