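import Cfsg.Agent.Omega.Lie.CenChk
import Cfsg.Agent.Omega.Lie.CenTwo

/-!
# (ZS) rows: `NoCenMove` for the Chevalley groups `G₂, F₄, E₆, E₇, E₈` over a finite field of odd characteristic
-/

set_option autoImplicit false
set_option maxRecDepth 10000

namespace Cfsg.Agent.Omega.Lie.CenTab

open CoxeterSystem Cfsg.Agent.ChevalleyStructure.CoxeterGeom Cfsg.Agent.Tits.Roots Cfsg.Agent.Tits.Core
  Cfsg.Agent.Nodes Cfsg.Agent.Nodes.Reps
  Cfsg.Agent.Nodes.RGDChev Cfsg.Agent.KFacts.RgdChevCoord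
  Cfsg.Agent.Omega.Lie.CenSL Cfsg.Agent.Omega.Lie.CenRGD Cfsg.Agent.Omega.Lie.CenChev
  Cfsg.Agent.Omega.Lie.CenExp Cfsg.Agent.Omega.Lie.CenTwo
open Cfsg.Lie Cfsg.Agent.ChevalleyStructure Cfsg.Agent.ChevalleyStructure.RootCombGood
  Cfsg.Agent.ChevalleyStructure.RootCombBase Cfsg.Agent.ChevalleyStructure.RootCombBridge
  Cfsg.Agent.ChevalleyStructure.RootCombTab

universe u

/-- the data of type G2 -/
def inpG2 : Inp where
  lg := 3171
  ω := []
  β := [11]
  b₀ := 6
  bs := [10]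
  s := 0
  f₀ := 2
  sp := [(3, 10, 5), (2, 6, 6)]

/-- the data of type F4 -/
def inpF4 : Inp where
  lg := 261691415953527
  ω := [3, 2, 0, 1, 2, 3, 1]
  β := [47, 41, 30, 25]
  b₀ := 24
  bs := [25, 30, 41]
  s := 2
  f₀ := 2
  sp := [(2, 41, 17), (2, 30, 22), (2, 25, 25), (2, 24, 24)]

/-- the data of type E6 -/
def inpE6 : Inp where
  lg := 4722366482869645213695
  ω := [1, 3, 4, 5, 2, 3, 4, 0, 2, 1]
  β := [71, 60, 44, 39]
  b₀ := 56
  bs := [42, 39, 46, 37, 36]
  s := 2
  f₀ := 53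
  sp := [(2, 56, 56), (2, 46, 46), (2, 42, 42), (2, 39, 39), (2, 37, 37), (2, 36, 36)]

/-- the data of type E7 -/
def inpE7 : Inp where
  lg := 85070591730234615865843651857942052863
  ω := [5, 6, 3, 2, 1, 3, 4, 5]
  β := [125, 92, 87, 78, 73, 66, 63]
  b₀ := 93
  bs := [73, 69, 78, 66, 64, 63]
  s := 2
  f₀ := 1
  sp := [(2, 93, 93), (2, 78, 78), (2, 73, 73), (2, 69, 69), (2, 66, 66), (2, 64, 64), (2, 63, 63)]

/-- the data of type E8 -/
def inpE8 : Inp where
  lg := 1766847064778384329583297500742918515827483896875618958121606201292619775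
  ω := [5, 6, 7, 4, 5, 6, 0, 2, 3, 4, 5, 1, 3, 4, 2, 3, 0, 2, 1, 3, 4, 5, 6, 7]
  β := [239, 226, 159, 152, 141, 135, 126, 121]
  b₀ := 162
  bs := [135, 130, 141, 126, 123, 121, 120]
  s := 2
  f₀ := 137
  sp := [(2, 162, 162), (2, 141, 141), (2, 135, 135), (2, 130, 130), (2, 126, 126), (2, 123, 123), (2, 121, 121), (2, 120, 120)]

/-- the commutator terms of orthogonal roots -/
def cc (D : ChevalleyDatum) (β : List ℕ) : Bool := allL (fun r => allL (fun s => or (Nat.beq s r)
  (and (not (Nat.beq s (D.neg r))) <| and (D.commTerms r s).isEmpty <| and (D.commTerms r (D.neg s)).isEmpty <|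
    and (D.commTerms (D.neg r) s).isEmpty (D.commTerms (D.neg r) (D.neg s)).isEmpty)) β) β

theorem noCenMove_of_cd {D : ChevalleyDatum} {l : ℕ} {M : CoxeterMatrix (Fin l)} (hp : IsType D l M) (K : Type u)
    [Field K] [Finite K] (h2 : (2 : K) ≠ 0) {lg : ℕ → Bool} {ω : List (Fin l)} {β bs : List ℕ} {b₀ : ℕ}
    {f₀ : Fin l → ZMod 2} {s : ℕ} (C : CD D l lg ω β bs b₀ f₀ s) (hβ : β ≠ []) (hc : cc D β = true) :
    NoCenMove ↥(D.group K) := by
  obtain ⟨p, hchar⟩ := CharP.exists K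
  have hpp : Fact p.Prime := ⟨CharP.char_is_prime K p⟩
  have hp2 : p ≠ 2 := by
    rintro rfl
    exact h2 (by exact_mod_cast CharP.cast_eq_zero K 2)
  let cs := M.toCoxeterSystem
  have hW : Finite M.Group := finite_W hp cs
  have hne : Nonempty {r : ℕ // r ∈ β} := by
    obtain ⟨r, hr⟩ := List.exists_mem_of_ne_nil β hβ
    exact ⟨⟨r, hr⟩⟩
  have L := long hp (K := K) cs C.inv C.neg C.odd' h2
  have hG : Nodes.Bruhat.GG cs hp.isCartan (TT D K) (XX D l K) = ⊤ := by
    rw [eq_top_iff, ← G1_eq_top hp (K := K) cs]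
    exact le_sup_right
  obtain ⟨E, hE, hO⟩ := exists_E (rgd (K := K) hp cs p) L (comb hp cs C) hp2 h2 hG (by
    rintro ⟨s, hs⟩ ⟨r, hr⟩ hne N N'
    have h1 := allL_spec (allL_spec hc r hr) s hs
    simp only [Bool.or_eq_true, Bool.and_eq_true, Bool.not_eq_true', List.isEmpty_iff] at h1
    have hsr : s ≠ r := fun h => hne (Subtype.ext h)
    rcases h1 with h1 | ⟨h1, h2, h3, h4, h5⟩
    · exact absurd (Nat.eq_of_beq_eq_true h1) hsr
    · have h1' : s ≠ D.neg r := by
        rintro h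
        rw [← h, Nat.beq_refl] at h1
        exact Bool.noConfusion h1
      exact phi_comm hp (C.mem r hr).1 (C.mem s hs).1 hsr h1' h2 h3 h4 h5 N N')
  intro S t ht hS u hu hc hu2
  exact noMove hE hO S t hS u hu hc hu2

theorem bridgeG2 : Bridged chevG2 tabG2 :=
  bridged_of_check (by decide +kernel) (by decide +kernel) (by decide +kernel) (by decide +kernel)

theorem isTypeG2 : IsType chevG2 2 CoxeterMatrix.G₂ := by simp [IsType, typeList]

theorem chkG2 : inpG2.chk tabG2 chevG2 = true := by decide +kernel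

theorem ccG2 : cc chevG2 inpG2.β = true := by decide +kernel

/-- **(ZS)** for `G2(q)`, `q` odd. -/
theorem noCenMove_G2 (K : Type u) [Field K] [Finite K] (h2 : (2 : K) ≠ 0) : NoCenMove ↥(chevG2.group K) :=
  noCenMove_of_cd isTypeG2 K h2 (cd_of_chk bridgeG2 isTypeG2 chkG2 (by decide)) (by decide) ccG2

theorem bridgeF4 : Bridged chevF4 tabF4 :=
  bridged_of_check (by decide +kernel) (by decide +kernel) (by decide +kernel) (by decide +kernel)

theorem isTypeF4 : IsType chevF4 4 CoxeterMatrix.F₄ := by simp [IsType, typeList]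

theorem chkF4 : inpF4.chk tabF4 chevF4 = true := by decide +kernel

theorem ccF4 : cc chevF4 inpF4.β = true := by decide +kernel

/-- **(ZS)** for `F4(q)`, `q` odd. -/
theorem noCenMove_F4 (K : Type u) [Field K] [Finite K] (h2 : (2 : K) ≠ 0) : NoCenMove ↥(chevF4.group K) :=
  noCenMove_of_cd isTypeF4 K h2 (cd_of_chk bridgeF4 isTypeF4 chkF4 (by decide)) (by decide) ccF4

theorem bridgeE6 : Bridged chevE6 tabE6 :=
  bridged_of_check (by decide +kernel) (by decide +kernel) (by decide +kernel) (by decide +kernel)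

theorem isTypeE6 : IsType chevE6 6 CoxeterMatrix.E₆ := by simp [IsType, typeList]

theorem chkE6 : inpE6.chk tabE6 chevE6 = true := by decide +kernel

theorem ccE6 : cc chevE6 inpE6.β = true := by decide +kernel

/-- **(ZS)** for `E6(q)`, `q` odd. -/
theorem noCenMove_E6 (K : Type u) [Field K] [Finite K] (h2 : (2 : K) ≠ 0) : NoCenMove ↥(chevE6.group K) :=
  noCenMove_of_cd isTypeE6 K h2 (cd_of_chk bridgeE6 isTypeE6 chkE6 (by decide)) (by decide) ccE6

theorem bridgeE7 : Bridged chevE7 tabE7 :=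
  bridged_of_check (by decide +kernel) (by decide +kernel) (by decide +kernel) (by decide +kernel)

theorem isTypeE7 : IsType chevE7 7 CoxeterMatrix.E₇ := by simp [IsType, typeList]

theorem chkE7 : inpE7.chk tabE7 chevE7 = true := by decide +kernel

theorem ccE7 : cc chevE7 inpE7.β = true := by decide +kernel

/-- **(ZS)** for `E7(q)`, `q` odd. -/
theorem noCenMove_E7 (K : Type u) [Field K] [Finite K] (h2 : (2 : K) ≠ 0) : NoCenMove ↥(chevE7.group K) :=
  noCenMove_of_cd isTypeE7 K h2 (cd_of_chk bridgeE7 isTypeE7 chkE7 (by decide)) (by decide) ccE7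

theorem bridgeE8 : Bridged chevE8 tabE8 :=
  bridged_of_check (by decide +kernel) (by decide +kernel) (by decide +kernel) (by decide +kernel)

theorem isTypeE8 : IsType chevE8 8 CoxeterMatrix.E₈ := by simp [IsType, typeList]

theorem chkE8 : inpE8.chk tabE8 chevE8 = true := by decide +kernel

theorem ccE8 : cc chevE8 inpE8.β = true := by decide +kernel

/-- **(ZS)** for `E8(q)`, `q` odd. -/
theorem noCenMove_E8 (K : Type u) [Field K] [Finite K] (h2 : (2 : K) ≠ 0) : NoCenMove ↥(chevE8.group K) :=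
  noCenMove_of_cd isTypeE8 K h2 (cd_of_chk bridgeE8 isTypeE8 chkE8 (by decide)) (by decide) ccE8

end Cfsg.Agent.Omega.Lie.CenTab
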