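import Cfsg.Agent.Omega.Lie.ThmD

/-!
# LEMMA C and (L8) (bb OMEGA #15015 ff.), abstract forms

* `fixes` = LEMMA C: a subgroup `K' ≤ H⁰` (a component) centralised by `A`, whose Sylow 2-subgroup `S'` satisfies `[S', T] ≤ A`, fixes `e₀`;
* `stable` = (L8): the set `Λ` of the moved components is `H`-invariant.
-/

set_option autoImplicit false
set_option linter.unusedSectionVars false

namespace Cfsg.Agent.Omega.Lie.LemC

open Subgroup

variable {H : Type*} [Group H] {F : Type*} [Field F] {M : Type*} [AddCommGroup M] [Module F M] [DistribMulAction H M]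

/-- the module data without `E` -/
structure Bas (H0 A : Subgroup H) (e₀ : M) (D : Submodule F M) (B : LinearMap.BilinForm F M) : Prop where
  normal : H0.Normal
  A_le : A ≤ H0
  lin : ∀ g ∈ H0, ∀ (c : F) (x : M), g • c • x = c • g • x
  semi : ∀ g : H, ∃ σ : F → F, (∀ c, c ≠ 0 → σ c ≠ 0) ∧ ∀ (c : F) (x : M), g • c • x = σ c • g • x
  refl : B.IsRefl
  nd : B.Nondegenerate
  BE : ∀ g ∈ H0, ∀ x y, B (g • x) (g • y) = B x y
  BH : ∀ (g : H) (x y : M), B x y = 0 → B (g • x) (g • y) = 0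
  ne : e₀ ≠ 0
  A2 : ∀ a ∈ A, ∀ x, B x e₀ = 0 → a • x - x ∈ D
  A3 : ∀ a ∈ A, ∀ x ∈ D, a • x - x ∈ Submodule.span F {e₀}
  A4 : ∀ a ∈ A, a • e₀ = e₀
  ker0 : ∀ x ∈ D, (∀ a ∈ A, a • x = x) → x ∈ Submodule.span F {e₀}
  inj : ∀ m, B m e₀ ≠ 0 → ∀ a ∈ A, a • m - m ∈ D → a = 1
  surj : ∀ m, B m e₀ ≠ 0 → ∀ x, B x e₀ = 0 → ∃ a ∈ A, x - (a • m - m) ∈ D
  span : ∀ L : Submodule F M, (∀ h : H, h • e₀ ∈ L) → L = ⊤

/-- the torus -/
structure TorB (A : Subgroup H) (t : F → H) (e₀ : M) (D : Submodule F M) (B : LinearMap.BilinForm F M) : Prop where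
  lin : ∀ a, a ≠ 0 → ∀ (c : F) (x : M), t a • c • x = c • t a • x
  e : ∀ a, a ≠ 0 → t a • e₀ = a⁻¹ • e₀
  P : ∀ a, a ≠ 0 → ∀ x, B x e₀ = 0 → t a • x - a • x ∈ D
  D : ∀ a, a ≠ 0 → ∀ x ∈ D, t a • x - x ∈ Submodule.span F {e₀}
  form : ∀ a, a ≠ 0 → ∀ x y, B (t a • x) (t a • y) = a * B x y
  norm : ∀ a, a ≠ 0 → t a ∈ normalizer (A : Set H)

namespace Bas

variable {H0 A : Subgroup H} {e₀ : M} {D : Submodule F M} {B : LinearMap.BilinForm F M} (d : Bas H0 A e₀ D B)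
include d

theorem ker1 {a : H} (ha : a ∈ A) (ha1 : a ≠ 1) {x : M} (hx : a • x = x) : B x e₀ = 0 := by
  by_contra h
  exact ha1 (d.inj x h a ha (by rw [hx, sub_self]; exact zero_mem _))

/-- the data of THEOREM D -/
theorem dat {E : Subgroup H} (hn : E.Normal) (hE : E ≤ H0) (hA : A ≤ E) (hA1 : ∃ a ∈ A, a ≠ 1)
    (gen : ∀ K : Subgroup H, A ≤ K → (∀ g ∈ E, ∀ k ∈ K, g * k * g⁻¹ ∈ K) → E ≤ K) : ThmD.Dat E A e₀ D B where
  normal := hn
  A_le := hA
  gen := gen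
  lin := fun g hg => d.lin g (hE hg)
  semi := d.semi
  refl := d.refl
  nd := d.nd
  BE := fun g hg => d.BE g (hE hg)
  BH := d.BH
  ne := d.ne
  A2 := d.A2
  A3 := d.A3
  ker0 := d.ker0
  ker1 := fun x hx => by
    obtain ⟨a, ha, ha1⟩ := hA1
    exact d.ker1 ha ha1 (hx a ha)
  span := d.span

variable {t : F → H} (τ : TorB A t e₀ D B)
include τ

/-- **LEMMA C** -/
theorem fixes (hF : ∃ a : F, a ≠ 0 ∧ a ≠ 1) [CharP F 2] {K' S' : Subgroup H} (hK : K' ≤ H0)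
    (hA : ∀ k ∈ K', ∀ a ∈ A, a * k = k * a) (hA1 : ∃ a ∈ A, a ≠ 1) (hS : S' ≤ K') (h2 : IsPGroup 2 S')
    (hT : ∀ a, a ≠ 0 → ∀ s ∈ S', s⁻¹ * (t a * s * (t a)⁻¹) ∈ A)
    (hmax : ∀ N : Subgroup H, N ≤ K' → (∀ k ∈ K', ∀ n ∈ N, k * n * k⁻¹ ∈ N) → S' ≤ N → K' ≤ N) :
    ∀ k ∈ K', k • e₀ = e₀ := by
  obtain ⟨a₁, ha₁, ha₁1⟩ := hA1
  obtain ⟨b, hb0, hb1⟩ := hF
  -- a 2-element acting as a scalar on a vector is trivial on it
  have h2e : ∀ s ∈ S', ∀ (x : M) (c : F), s • x = c • x → s • x = x := by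
    intro s hs x c hc
    obtain ⟨n, hn⟩ := h2 ⟨s, hs⟩
    have hn' : s ^ 2 ^ n = 1 := congrArg Subtype.val hn
    have h3 : ∀ j : ℕ, s ^ j • x = c ^ j • x := by
      intro j
      induction j with
      | zero => rw [pow_zero, pow_zero, one_smul, one_smul]
      | succ j ih =>
        rw [pow_succ', mul_smul, ih, d.lin s (hK (hS hs)), hc, smul_smul, pow_succ]
    have h4 := h3 (2 ^ n)
    rw [hn', one_smul] at h4
    by_cases hx : x = 0
    · rw [hx, smul_zero]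
    have h5 : c ^ 2 ^ n = 1 := by
      by_contra h6
      have h7 : (c ^ 2 ^ n - 1) • x = 0 := by rw [sub_smul, one_smul, ← h4, sub_self]
      rcases smul_eq_zero.1 h7 with h8 | h8
      · exact h6 (sub_eq_zero.1 h8)
      · exact hx h8
    have h6 : (c - 1) ^ 2 ^ n = 0 := by
      rw [sub_pow_char_pow, h5, one_pow, sub_self]
    have h7 : c = 1 := sub_eq_zero.1 (pow_eq_zero_iff (by positivity) |>.1 h6)
    rw [hc, h7, one_smul]
  -- it is enough that `K'` normalises `F e₀`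
  suffices hline : ∀ k ∈ K', ∃ c : F, k • e₀ = c • e₀ by
    let N : Subgroup H :=
      { carrier := {k | k ∈ K' ∧ k • e₀ = e₀}
        one_mem' := ⟨one_mem _, one_smul _ _⟩
        mul_mem' := by
          rintro x y ⟨hx, hx'⟩ ⟨hy, hy'⟩
          exact ⟨K'.mul_mem hx hy, by rw [mul_smul, hy', hx']⟩
        inv_mem' := by
          rintro x ⟨hx, hx'⟩
          exact ⟨K'.inv_mem hx, by rw [inv_smul_eq_iff, hx']⟩ }
    have h3 := hmax N (fun x hx => hx.1) (by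
      rintro k hk n ⟨hn, hn'⟩
      refine ⟨K'.mul_mem (K'.mul_mem hk hn) (K'.inv_mem hk), ?_⟩
      obtain ⟨c, hc⟩ := hline k⁻¹ (K'.inv_mem hk)
      rw [mul_smul, mul_smul, hc, d.lin n (hK hn), hn', ← hc, smul_inv_smul]) (by
      intro s hs
      obtain ⟨c, hc⟩ := hline s (hS hs)
      exact ⟨hS hs, h2e s hs e₀ c hc⟩)
    exact fun k hk => (h3 hk).2
  intro k hk
  by_contra hy0
  push Not at hy0
  have hkH := hK hk
  have hkA : ∀ a ∈ A, ∀ x : M, k⁻¹ • a • x = a • k⁻¹ • x := by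
    intro a ha x
    rw [smul_smul, smul_smul]
    congr 1
    rw [inv_mul_eq_iff_eq_mul, ← mul_assoc, ← hA k hk a ha, mul_inv_cancel_right]
  obtain ⟨y, hy⟩ : ∃ y, y = k • e₀ := ⟨_, rfl⟩
  rw [← hy] at hy0
  have hky : k⁻¹ • y = e₀ := by rw [hy, inv_smul_smul]
  have hyA : ∀ a ∈ A, a • y = y := by
    intro a ha
    rw [hy, smul_smul, hA k hk a ha, mul_smul, d.A4 a ha]
  have hyn : y ≠ 0 := fun h => d.ne (by rw [← hky, h, smul_zero])
  have Bk : ∀ x z, B (k⁻¹ • x) (k⁻¹ • z) = B x z := d.BE k⁻¹ (H0.inv_mem hkH)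
  have A2' : ∀ a ∈ A, ∀ x, B x y = 0 → k⁻¹ • (a • x - x) ∈ D := by
    intro a ha x hx
    rw [smul_sub, hkA a ha]
    exact d.A2 a ha _ (by rw [← hky, Bk, hx])
  have mv : ∀ x, k⁻¹ • x ∈ Submodule.span F {e₀} → ∃ c : F, x = c • y := by
    intro x hx
    obtain ⟨c, hc⟩ := Submodule.mem_span_singleton.1 hx
    refine ⟨c, ?_⟩
    rw [hy, ← d.lin k hkH, hc, smul_inv_smul]
  have A3' : ∀ a ∈ A, ∀ x, k⁻¹ • x ∈ D → ∃ c : F, a • x - x = c • y := by
    intro a ha x hx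
    apply mv
    rw [smul_sub, hkA a ha]
    exact d.A3 a ha _ hx
  have ker0' : ∀ x, k⁻¹ • x ∈ D → (∀ a ∈ A, a • x = x) → ∃ c : F, x = c • y := by
    intro x hx hxA
    exact mv _ (d.ker0 _ hx fun a ha => by rw [← hkA a ha, hxA a ha])
  have A3'' : ∀ a ∈ A, ∀ x ∈ D, ∃ c : F, a • x - x = c • e₀ := by
    intro a ha x hx
    obtain ⟨c, hc⟩ := Submodule.mem_span_singleton.1 (d.A3 a ha x hx)
    exact ⟨c, hc.symm⟩
  have ker0'' : ∀ x ∈ D, (∀ a ∈ A, a • x = x) → ∃ c : F, x = c • e₀ := by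
    intro x hx hxA
    obtain ⟨c, hc⟩ := Submodule.mem_span_singleton.1 (d.ker0 x hx hxA)
    exact ⟨c, hc.symm⟩
  have indep : ∀ α β : F, α • e₀ = β • y → α • e₀ = 0 := by
    intro α β h
    by_cases hβ : β = 0
    · rw [h, hβ, zero_smul]
    · exact absurd (by rw [mul_smul, h, smul_smul, inv_mul_cancel₀ hβ, one_smul]) (hy0 (β⁻¹ * α))
  -- quadratic
  have orth : ∀ z : M, (∀ a ∈ A, a • z = z) → ∀ a ∈ A, ∀ m, B (a • m - m) z = 0 := by
    intro z hz a ha m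
    have h3 := d.BE a (d.A_le ha) m z
    rw [hz a ha] at h3
    rw [map_sub, LinearMap.sub_apply, h3, sub_self]
  have quad : ∀ a ∈ A, ∀ c ∈ A, ∀ m : M, a • (c • m - m) = c • m - m := by
    intro a ha c hc m
    have h3 := d.A2 a ha _ (orth e₀ d.A4 c hc m)
    have h4 := A2' a ha _ (orth y hyA c hc m)
    set w := a • (c • m - m) - (c • m - m) with hw
    have h5 : ∀ a' ∈ A, a' • w = w := by
      intro a' ha'
      obtain ⟨α, hα⟩ := A3'' a' ha' w h3
      obtain ⟨β, hβ⟩ := A3' a' ha' w h4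
      have := indep α β (by rw [← hα, hβ])
      rw [this] at hα
      exact sub_eq_zero.1 hα
    obtain ⟨α, hα⟩ := ker0'' w h3 h5
    obtain ⟨β, hβ⟩ := ker0' w h4 h5
    have h6 := indep α β (by rw [← hα, hβ])
    rw [h6] at hα
    exact sub_eq_zero.1 (hw ▸ hα)
  -- `m`
  obtain ⟨m, hm, hmy⟩ : ∃ m, B m e₀ ≠ 0 ∧ B m y = 0 := by
    by_contra hcon
    push Not at hcon
    have hcon' : ∀ m, B m y = 0 → B m e₀ = 0 := fun m h => by
      by_contra h3
      exact hcon m h3 h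
    obtain ⟨m₁, hm₁⟩ : ∃ m₁, B m₁ y ≠ 0 := by
      by_contra h3
      push Not at h3
      exact hyn (d.nd.2 y h3)
    apply hy0 ((B m₁ e₀ / B m₁ y)⁻¹)
    have h3 : e₀ - (B m₁ e₀ / B m₁ y) • y = 0 := by
      apply d.nd.2
      intro m
      have h4 := hcon' (m - (B m y / B m₁ y) • m₁) (by
        rw [map_sub, LinearMap.sub_apply, map_smul, LinearMap.smul_apply, smul_eq_mul, div_mul_cancel₀ _ hm₁,
          sub_self])
      rw [map_sub, LinearMap.sub_apply, map_smul, LinearMap.smul_apply, smul_eq_mul, sub_eq_zero] at h4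
      rw [map_sub, map_smul, smul_eq_mul, h4]
      field_simp
      ring
    have h4 : B m₁ e₀ / B m₁ y ≠ 0 := by
      intro h5
      rw [h5, zero_smul, sub_zero] at h3
      exact d.ne h3
    exact ((inv_smul_eq_iff₀ h4).2 (sub_eq_zero.1 h3)).symm
  have hmA : ∀ a ∈ A, ∃ c : F, a • m - m = c • y := fun a ha =>
    ker0' _ (A2' a ha m hmy) fun c hc => quad c hc a ha m
  -- `C_M(A) = e + y`
  have hye : B y e₀ = 0 := d.ker1 ha₁ ha₁1 (hyA a₁ ha₁)
  have CMA : ∀ x : M, (∀ a ∈ A, a • x = x) → ∃ α β : F, x = α • e₀ + β • y := by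
    intro x hx
    obtain ⟨a, ha, h3⟩ := d.surj m hm x (d.ker1 ha₁ ha₁1 (hx a₁ ha₁))
    obtain ⟨c, hc⟩ := hmA a ha
    rw [hc] at h3
    obtain ⟨α, hα⟩ := ker0'' _ h3 fun a' ha' => by rw [smul_sub, hx a' ha', d.lin a' (d.A_le ha'), hyA a' ha']
    exact ⟨α, c, by rw [← hα]; abel⟩
  have DA : ∀ x ∈ D, (∀ a ∈ A, a • x = x) → ∃ c : F, x = c • e₀ := ker0''
  -- the eigenvector `u`
  have hbb : b - b⁻¹ ≠ 0 := by
    intro h0
    have h1 : b * b = 1 := by
      rw [sub_eq_zero] at h0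
      nth_rewrite 2 [h0]
      exact mul_inv_cancel₀ hb0
    have h2 : (b - 1) * (b - 1) = 0 := by
      have h3 : (2 : F) = 0 := CharTwo.two_eq_zero
      linear_combination h1 - (b - 1) * h3
    exact hb1 (sub_eq_zero.1 (mul_self_eq_zero.1 h2))
  have tA : ∀ x : M, (∀ a ∈ A, a • x = x) → ∀ a ∈ A, a • t b • x = t b • x := by
    intro x hx a ha
    have h3 : (t b)⁻¹ * a * t b ∈ A := by
      have := (mem_normalizer_iff.1 (inv_mem (τ.norm b hb0)) a).1 ha
      rwa [inv_inv] at this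
    have h4 : a • t b • x = t b • ((t b)⁻¹ * a * t b) • x := by
      rw [smul_smul, smul_smul]
      congr 1
      group
    rw [h4, hx _ h3]
  obtain ⟨c₀, hc₀⟩ := DA (t b • y - b • y) (τ.P b hb0 y hye) fun a ha => by
    rw [smul_sub, tA y hyA a ha, d.lin a (d.A_le ha), hyA a ha]
  have hty : t b • y = b • y + c₀ • e₀ := by rw [← hc₀]; abel
  have hcd : c₀ / (b - b⁻¹) * (b - b⁻¹) = c₀ := div_mul_cancel₀ _ hbb
  obtain ⟨u, hu⟩ : ∃ u, u = y + (c₀ / (b - b⁻¹)) • e₀ := ⟨_, rfl⟩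
  have hun : ∀ c : F, u ≠ c • e₀ := by
    intro c' h
    apply hy0 (c' - c₀ / (b - b⁻¹))
    rw [sub_smul, ← h, hu]; abel
  have htu : t b • u = b • u := by
    rw [hu, smul_add, hty, τ.lin b hb0, τ.e b hb0, smul_add, smul_smul, smul_smul, add_assoc, ← add_smul]
    congr 2
    linear_combination -hcd
  have huA : ∀ a ∈ A, a • u = u := by
    intro a ha
    rw [hu, smul_add, hyA a ha, d.lin a (d.A_le ha), d.A4 a ha]
  have CMA' : ∀ x : M, (∀ a ∈ A, a • x = x) → ∃ α β : F, x = α • e₀ + β • u := by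
    intro x hx
    obtain ⟨α, β, h3⟩ := CMA x hx
    refine ⟨α - β * (c₀ / (b - b⁻¹)), β, ?_⟩
    rw [h3, hu, sub_smul, smul_add, smul_smul]; abel
  have indep' : ∀ α β : F, α • e₀ + β • u = 0 → α = 0 ∧ β = 0 := by
    intro α β h
    have hβ : β = 0 := by
      by_contra hβ
      apply hun (-(β⁻¹ * α))
      have h1 : β • u = -(α • e₀) := by rw [eq_neg_iff_add_eq_zero, add_comm]; exact h
      have h2 : u = β⁻¹ • β • u := by rw [smul_smul, inv_mul_cancel₀ hβ, one_smul]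
      rw [h2, h1, smul_neg, neg_smul, smul_smul]
    rw [hβ, zero_smul, add_zero] at h
    exact ⟨(smul_eq_zero.1 h).resolve_right d.ne, hβ⟩
  -- `S'` is trivial on `C_M(A)`
  have tS : ∀ x : M, (∀ a ∈ A, a • x = x) → ∀ s ∈ S', t b • s • x = s • t b • x := by
    intro x hx s hs
    have h3 : t b • s • x = s • (s⁻¹ * (t b * s * (t b)⁻¹)) • t b • x := by
      rw [smul_smul, smul_smul, smul_smul]
      congr 1
      group
    rw [h3, tA x hx _ (hT b hb0 s hs)]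
  have KC : ∀ x : M, (∀ a ∈ A, a • x = x) → ∀ k' ∈ K', ∀ a ∈ A, a • k' • x = k' • x := by
    intro x hx k' hk' a ha
    rw [smul_smul, hA k' hk' a ha, mul_smul, hx a ha]
  have Se : ∀ s ∈ S', s • e₀ = e₀ := by
    intro s hs
    obtain ⟨α, β, h3⟩ := CMA' (s • e₀) (KC e₀ d.A4 s (hS hs))
    have h4 : t b • s • e₀ = b⁻¹ • s • e₀ := by
      rw [tS e₀ d.A4 s hs, τ.e b hb0, d.lin s (hK (hS hs))]
    rw [h3, smul_add, τ.lin b hb0, τ.lin b hb0, τ.e b hb0, htu, smul_add, smul_smul, smul_smul, smul_smul,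
      smul_smul] at h4
    have h5 : (α * b⁻¹ - b⁻¹ * α) • e₀ + (β * b - b⁻¹ * β) • u = 0 := by
      rw [sub_smul, sub_smul, sub_add_sub_comm, h4, sub_self]
    obtain ⟨-, h6⟩ := indep' _ _ h5
    have h7 : β = 0 := by
      have : β * (b - b⁻¹) = 0 := by linear_combination h6
      exact (mul_eq_zero.1 this).resolve_right hbb
    rw [h7, zero_smul, add_zero] at h3
    exact h2e s hs e₀ α h3
  have Su : ∀ s ∈ S', s • u = u := by
    intro s hs
    obtain ⟨α, β, h3⟩ := CMA' (s • u) (KC u huA s (hS hs))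
    have h4 : t b • s • u = b • s • u := by
      rw [tS u huA s hs, htu, d.lin s (hK (hS hs))]
    rw [h3, smul_add, τ.lin b hb0, τ.lin b hb0, τ.e b hb0, htu, smul_add, smul_smul, smul_smul, smul_smul,
      smul_smul] at h4
    have h5 : (α * b⁻¹ - b * α) • e₀ + (β * b - b * β) • u = 0 := by
      rw [sub_smul, sub_smul, sub_add_sub_comm, h4, sub_self]
    obtain ⟨h6, -⟩ := indep' _ _ h5
    have h7 : α = 0 := by
      have : α * (b - b⁻¹) = 0 := by linear_combination -h6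
      exact (mul_eq_zero.1 this).resolve_right hbb
    rw [h7, zero_smul, zero_add] at h3
    exact h2e s hs u β h3
  -- the kernel
  let N : Subgroup H :=
    { carrier := {n | n ∈ K' ∧ ∀ x : M, (∀ a ∈ A, a • x = x) → n • x = x}
      one_mem' := ⟨one_mem _, fun x _ => one_smul _ x⟩
      mul_mem' := by
        rintro x y ⟨hx, hx'⟩ ⟨hy, hy'⟩
        exact ⟨K'.mul_mem hx hy, fun z hz => by rw [mul_smul, hy' z hz, hx' z hz]⟩
      inv_mem' := by
        rintro x ⟨hx, hx'⟩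
        exact ⟨K'.inv_mem hx, fun z hz => by rw [inv_smul_eq_iff, hx' z hz]⟩ }
  have h3 := hmax N (fun x hx => hx.1) (by
    rintro k' hk' n ⟨hn, hn'⟩
    refine ⟨K'.mul_mem (K'.mul_mem hk' hn) (K'.inv_mem hk'), fun x hx => ?_⟩
    rw [mul_smul, mul_smul, hn' _ (KC x hx k'⁻¹ (K'.inv_mem hk')), smul_inv_smul]) (by
    intro s hs
    refine ⟨hS hs, fun x hx => ?_⟩
    obtain ⟨α, β, h4⟩ := CMA' x hx
    rw [h4, smul_add, d.lin s (hK (hS hs)), d.lin s (hK (hS hs)), Se s hs, Su s hs])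
  have h4 := (h3 hk).2 e₀ d.A4
  rw [← hy] at h4
  exact hy0 1 (by rw [one_smul, h4])

/-- **(L8)** the set `Λ` of the moved components is invariant -/
theorem stable (hF : ∃ a : F, a ≠ 0 ∧ a ≠ 1) {Λ : Set (Subgroup H)} (h1 : ∀ K ∈ Λ, ∃ a ∈ A, a ∈ K ∧ a ≠ 1)
    (h2 : ∀ (h : H), ∀ K ∈ Λ, K.map (MulAut.conj h).toMonoidHom ∈ Λ ∨ ∀ k ∈ K, (h * k * h⁻¹) • e₀ = e₀)
    (hA : ∀ a ∈ A, ∀ K ∈ Λ, K.map (MulAut.conj a).toMonoidHom ∈ Λ)
    (hT : ∀ a, a ≠ 0 → ∀ K ∈ Λ, K.map (MulAut.conj (t a)).toMonoidHom ∈ Λ ∧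
      K.map (MulAut.conj (t a)⁻¹).toMonoidHom ∈ Λ) :
    ∀ h : H, ∀ K ∈ Λ, K.map (MulAut.conj h).toMonoidHom ∈ Λ := by
  obtain ⟨b, hb0, hb1⟩ := hF
  have cjcj : ∀ (g h : H) (K : Subgroup H), (K.map (MulAut.conj h).toMonoidHom).map (MulAut.conj g).toMonoidHom =
      K.map (MulAut.conj (g * h)).toMonoidHom := by
    intro g h K
    rw [Subgroup.map_map]
    congr 1
    ext x
    simp
  let Γ : Subgroup H :=
    { carrier := {h | (∀ K ∈ Λ, K.map (MulAut.conj h).toMonoidHom ∈ Λ) ∧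
        ∀ K ∈ Λ, K.map (MulAut.conj h⁻¹).toMonoidHom ∈ Λ}
      one_mem' := by
        have h3 : ∀ K : Subgroup H, K.map (MulAut.conj (1 : H)).toMonoidHom = K := by
          intro K
          ext x
          simp
        refine ⟨fun K hK => by rw [h3]; exact hK, fun K hK => by rw [inv_one, h3]; exact hK⟩
      mul_mem' := by
        rintro x y ⟨hx, hx'⟩ ⟨hy, hy'⟩
        refine ⟨fun K hK => ?_, fun K hK => ?_⟩
        · rw [← cjcj]
          exact hx _ (hy _ hK)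
        · rw [mul_inv_rev, ← cjcj]
          exact hy' _ (hx' _ hK)
      inv_mem' := by
        rintro x ⟨hx, hx'⟩
        exact ⟨hx', fun K hK => by rw [inv_inv]; exact hx K hK⟩ }
  have hAΓ : A ≤ Γ := fun a ha => ⟨hA a ha, hA a⁻¹ (A.inv_mem ha)⟩
  have hTΓ : ∀ a, a ≠ 0 → t a ∈ Γ := fun a ha => ⟨fun K hK => (hT a ha K hK).1, fun K hK => (hT a ha K hK).2⟩
  -- opposite points
  have half : ∀ h : H, B e₀ (h • e₀) ≠ 0 → ∀ K ∈ Λ, K.map (MulAut.conj h⁻¹).toMonoidHom ∈ Λ := by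
    intro h hh K hK
    rcases h2 h⁻¹ K hK with h3 | h3
    · exact h3
    · exfalso
      obtain ⟨a, ha, haK, ha1⟩ := h1 K hK
      apply hh
      apply d.refl
      apply d.ker1 ha ha1
      have h4 := h3 a haK
      rw [inv_inv, mul_smul, mul_smul, inv_smul_eq_iff] at h4
      exact h4
  have opp : ∀ h : H, B e₀ (h • e₀) ≠ 0 → h ∈ Γ := by
    intro h hh
    refine ⟨fun K hK => ?_, half h hh⟩
    have h3 := half h⁻¹ (fun h4 => hh ?_) K hK
    · rwa [inv_inv] at h3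
    · have h5 := d.BH h _ _ h4
      rw [smul_inv_smul] at h5
      exact d.refl _ _ h5
  let M₁ : Submodule F M := Submodule.span F {x | ∃ h ∈ Γ, x = h • e₀}
  let M₂ : Submodule F M := Submodule.span F {x | ∃ h, h ∉ Γ ∧ x = h • e₀}
  have perp : ∀ x ∈ M₁, ∀ y ∈ M₂, B x y = 0 := by
    intro x hx y hy
    induction hx using Submodule.span_induction with
    | mem x hx =>
      obtain ⟨g, hg, rfl⟩ := hx
      induction hy using Submodule.span_induction with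
      | mem y hy =>
        obtain ⟨h, hh, rfl⟩ := hy
        by_contra h3
        apply hh
        have h4 : g⁻¹ * h ∈ Γ := opp _ (fun h5 => h3 (by
          have h6 := d.BH g _ _ h5
          rwa [smul_smul, mul_inv_cancel_left] at h6))
        have := Γ.mul_mem hg h4
        rwa [mul_inv_cancel_left] at this
      | zero => exact map_zero _
      | add y z _ _ hy hz => rw [map_add, hy, hz, add_zero]
      | smul c y _ hy => rw [map_smul, hy, smul_zero]
    | zero => rw [map_zero, LinearMap.zero_apply]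
    | add x z _ _ hx hz => rw [map_add, LinearMap.add_apply, hx, hz, add_zero]
    | smul c x _ hx => rw [map_smul, LinearMap.smul_apply, hx, smul_zero]
  have htop : M₁ ⊔ M₂ = ⊤ := d.span _ fun h => by
    by_cases hh : h ∈ Γ
    · exact Submodule.mem_sup_left (Submodule.subset_span ⟨h, hh, rfl⟩)
    · exact Submodule.mem_sup_right (Submodule.subset_span ⟨h, hh, rfl⟩)
  have zero_of : ∀ z, (∀ x ∈ M₁, B z x = 0) → (∀ x ∈ M₂, B z x = 0) → z = 0 := by
    intro z hz1 hz2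
    refine d.nd.1 z fun y => ?_
    have hy : y ∈ M₁ ⊔ M₂ := by rw [htop]; trivial
    obtain ⟨x, hx, x', hx', rfl⟩ := Submodule.mem_sup.1 hy
    rw [map_add, hz1 x hx, hz2 x' hx', add_zero]
  have he1 : e₀ ∈ M₁ := Submodule.subset_span ⟨1, Γ.one_mem, (one_smul _ _).symm⟩
  have inv1 : ∀ g : H, g ∈ Γ → (∀ (c : F) (x : M), g • c • x = c • g • x) → ∀ x ∈ M₁, g • x ∈ M₁ := by
    intro g hg hlin x hx
    induction hx using Submodule.span_induction with
    | mem x hx =>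
      obtain ⟨h, hh, rfl⟩ := hx
      rw [smul_smul]
      exact Submodule.subset_span ⟨g * h, Γ.mul_mem hg hh, rfl⟩
    | zero => rw [smul_zero]; exact zero_mem _
    | add x y _ _ hx hy => rw [smul_add]; exact add_mem hx hy
    | smul c x _ hx => rw [hlin]; exact Submodule.smul_mem _ _ hx
  have inv2 : ∀ g : H, g ∈ Γ → (∀ (c : F) (x : M), g • c • x = c • g • x) → ∀ x ∈ M₂, g • x ∈ M₂ := by
    intro g hg hlin x hx
    induction hx using Submodule.span_induction with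
    | mem x hx =>
      obtain ⟨h, hh, rfl⟩ := hx
      rw [smul_smul]
      refine Submodule.subset_span ⟨g * h, fun h3 => hh ?_, rfl⟩
      have := Γ.mul_mem (Γ.inv_mem hg) h3
      rwa [inv_mul_cancel_left] at this
    | zero => rw [smul_zero]; exact zero_mem _
    | add x y _ _ hx hy => rw [smul_add]; exact add_mem hx hy
    | smul c x _ hx => rw [hlin]; exact Submodule.smul_mem _ _ hx
  -- `m ∈ M₁` opposite to `e₀`
  obtain ⟨m, hm1, hm⟩ : ∃ m ∈ M₁, B m e₀ ≠ 0 := by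
    by_contra hcon
    push Not at hcon
    refine d.ne (zero_of e₀ (fun x hx => d.refl _ _ (hcon x hx)) fun x hx => perp _ he1 x hx)
  have hM₂ : ∀ x ∈ M₂, t b • x = x := by
    intro x hx
    have hxe : B x e₀ = 0 := d.refl _ _ (perp _ he1 x hx)
    obtain ⟨a, ha, h3⟩ := d.surj m hm x hxe
    have h4 : a • m - m ∈ M₁ := M₁.sub_mem (inv1 a (hAΓ ha) (d.lin a (d.A_le ha)) m hm1) hm1
    have h5 := τ.D b hb0 _ h3
    obtain ⟨c, hc⟩ := Submodule.mem_span_singleton.1 h5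
    have h6 : t b • x - x ∈ M₁ := by
      have e : t b • x - x = (t b • (a • m - m) - (a • m - m)) + c • e₀ := by
        rw [hc]
        simp only [smul_sub]
        abel
      rw [e]
      exact M₁.add_mem (M₁.sub_mem (inv1 _ (hTΓ b hb0) (τ.lin b hb0) _ h4) h4) (M₁.smul_mem c he1)
    have h7 : t b • x - x ∈ M₂ := M₂.sub_mem (inv2 _ (hTΓ b hb0) (τ.lin b hb0) _ hx) hx
    exact sub_eq_zero.1 (zero_of _ (fun y hy => d.refl _ _ (perp y hy _ h7)) fun y hy => perp _ h6 y hy)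
  intro h
  by_cases hh : h ∈ Γ
  · exact hh.1
  exfalso
  have h3 : h • e₀ ∈ M₂ := Submodule.subset_span ⟨h, hh, rfl⟩
  have h4 : h • e₀ = 0 := by
    refine zero_of _ (fun y hy => d.refl _ _ (perp y hy _ h3)) fun y hy => ?_
    have h5 := τ.form b hb0 (h • e₀) y
    rw [hM₂ _ h3, hM₂ _ hy] at h5
    have h6 : (b - 1) * B (h • e₀) y = 0 := by linear_combination -h5
    exact (mul_eq_zero.1 h6).resolve_left (sub_ne_zero.2 hb1)
  exact d.ne ((smul_eq_zero_iff_eq h).1 h4)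

end Bas

end Cfsg.Agent.Omega.Lie.LemC
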