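import Cfsg.Agent.Omega.BTwo.ModG
import Cfsg.Agent.Omega.Lie.ModQ
import Cfsg.Agent.Omega.Lie.LemC
import Cfsg.Agent.Omega.SQEnd.Tor
import Cfsg.Agent.Omega.IIa4.Lay
import Cfsg.Agent.Omega.Lie.CrdOf
import Cfsg.Agent.SignalizersComponents.Components

/-!
# THEOREM D, LEMMA C, (L8) (bb OMEGA #15015, #15752) for the real module `M = W i / R i`

`FQ` = `FMod` together with the action of `H = HQ (R i) = N(R i)/O₂(N(R i))`.

* `FQ.bas` : `LemC.Bas` for `H⁰ = C(R i)/O₂`, `A = U j O₂/O₂`, `e₀ = p (v 0 1)`, `D̄ = D/R i`;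
* `FQ.torB`, `FQ.tor` : the torus data `LemC.TorB`, `ThmD.Tor`;
* `FQ.fix` : a component of `H⁰` centralised by `A` fixes `e₀`;
* `normal_of_lay` : the product of the moved components is normal in `H` ((L8)).
-/

set_option autoImplicit false
set_option linter.unusedSectionVars false

namespace Cfsg.Agent.Omega.Lie.BasOf

open Subgroup Cfsg Cfsg.Agent.Omega.BTwo Cfsg.Agent.Omega.Lie Cfsg.Agent.Omega.Lie.Quot Cfsg.Agent.Omega.IIa4

universe u v w

section

variable {G : Type u} [Group G] {ι : Type w} {V : Subgroup G} {R : ι → Subgroup G} {i j : ι}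
variable {F : Type v} [Field F] [CharP F 2] {v : F → F → G} {w1 w2 : F → G}
variable {M B : Type u} [AddCommGroup M] [AddCommGroup B] [DistribMulAction (NR R i) M]
  [DistribMulAction (NR R i) B] [Module F M] [DistribMulAction (HQ (R i)) M] {p : G → M} {r : G → B}
  {f : M →+ M →+ B} {φ : M →ₗ[F] M →ₗ[F] F} {s : NR R i → (F ≃+* F)}

/-- the `F`-space `M = W i / R i` with the action of `H = N(R i)/O₂(N(R i))` -/
structure FQ (V : Subgroup G) (R : ι → Subgroup G) (i j : ι) (v : F → F → G) (w1 w2 : F → G)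
    (M B : Type u) [AddCommGroup M] [AddCommGroup B] [DistribMulAction (NR R i) M]
    [DistribMulAction (NR R i) B] [Module F M] [DistribMulAction (HQ (R i)) M] (p : G → M) (r : G → B)
    (f : M →+ M →+ B) (φ : M →ₗ[F] M →ₗ[F] F) (s : NR R i → (F ≃+* F)) : Prop
    extends FMod V R i j v w1 w2 M B p r f φ s where
  pr_smul : ∀ (g : NR R i) (m : M), pr (R i) g • m = g • m

end

section

variable {G : Type u} [Group G] {ι : Type w} {V : Subgroup G} {R : ι → Subgroup G} {i j : ι}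
variable {F : Type v} [Field F] [CharP F 2] {v : F → F → G} {w1 w2 : F → G}

/-- **existence of `FQ`** -/
theorem exists_FQ {M B : Type u} [AddCommGroup M] [AddCommGroup B] [DistribMulAction (NR R i) M]
    [DistribMulAction (NR R i) B] [Module F M] {p : G → M} {r : G → B}
    {f : M →+ M →+ B} {φ : M →ₗ[F] M →ₗ[F] F} {s : NR R i → (F ≃+* F)}
    (h : FMod V R i j v w1 w2 M B p r f φ s) :
    ∃ _ : DistribMulAction (HQ (R i)) M, FQ V R i j v w1 w2 M B p r f φ s := by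
  obtain ⟨act, hact⟩ := exists_quot_action (M := M) (pCore 2 ↥(normalizer (R i : Set G))) (by
    intro k hk a
    exact h.fr.Q_act h.bt (h := k) ⟨k, hk, rfl⟩ a)
  exact ⟨act, { h with pr_smul := hact }⟩

/-- the torus in `H` -/
noncomputable def tq {t : F → G} (τ : TorD V R i j v t) (a : F) : HQ (R i) :=
  open Classical in if ha : a ≠ 0 then pr (R i) (tT τ (Units.mk0 a ha)) else 1

theorem tq_of {t : F → G} (τ : TorD V R i j v t) {a : F} (ha : a ≠ 0) :
    tq τ a = pr (R i) (tT τ (Units.mk0 a ha)) := by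
  unfold tq
  rw [dif_pos ha]

theorem tq_eq {t : F → G} (τ : TorD V R i j v t) {a : F} (ha : a ≠ 0) :
    tq τ a = pr (R i) ⟨t a, τ.normR ha⟩ := tq_of τ ha

theorem tq_mem {t : F → G} (τ : TorD V R i j v t) {a : F} (ha : a ≠ 0) : tq τ a ∈ TT τ := by
  rw [mem_TT τ]
  exact ⟨a, ha, (tq_eq τ ha).symm⟩

end

namespace FQ

variable {G : Type u} [Group G] {ι : Type w} {V : Subgroup G} {R : ι → Subgroup G} {i j : ι}
variable {F : Type v} [Field F] [CharP F 2] {v : F → F → G} {w1 w2 : F → G}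
variable {M B : Type u} [AddCommGroup M] [AddCommGroup B] [DistribMulAction (NR R i) M]
  [DistribMulAction (NR R i) B] [Module F M] [DistribMulAction (HQ (R i)) M] {p : G → M} {r : G → B}
  {f : M →+ M →+ B} {φ : M →ₗ[F] M →ₗ[F] F} {s : NR R i → (F ≃+* F)}
variable (h : FQ V R i j v w1 w2 M B p r f φ s)
include h

theorem exists_A {a : HQ (R i)} (ha : a ∈ AA V R i j) : ∃ g : NR R i, (g : G) ∈ UU V R j ∧ pr (R i) g = a := by
  obtain ⟨u, hu, rfl⟩ := (mem_AA h.bt).1 ha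
  exact ⟨⟨u, U_le_N h.bt i j hu⟩, hu, rfl⟩

theorem lin_H0 {g : HQ (R i)} (hg : g ∈ H0 R i) (c : F) (x : M) : g • c • x = c • g • x := by
  obtain ⟨g, hg', rfl⟩ := ModQ.exists_H0 hg
  rw [h.pr_smul, h.pr_smul, h.lin_cen hg']

theorem phi_H0 {g : HQ (R i)} (hg : g ∈ H0 R i) (x y : M) : φ (g • x) (g • y) = φ x y := by
  obtain ⟨g, hg', rfl⟩ := ModQ.exists_H0 hg
  rw [h.pr_smul, h.pr_smul, h.phi_cen hg']

theorem normal_H0 : (H0 R i).Normal := by
  have _ := h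
  have h1 : ((centralizer (R i : Set G)).subgroupOf (normalizer (R i : Set G))).Normal := by
    refine ⟨fun x hx g => ?_⟩
    rw [mem_subgroupOf, mem_centralizer_iff] at hx ⊢
    intro z hz
    have h2 : (g : G)⁻¹ * z * g ∈ R i := conj_inv_mem_of_normalizer g.2 hz
    have h3 := hx _ h2
    change z * ((g : G) * x * (g : G)⁻¹) = (g : G) * x * (g : G)⁻¹ * z
    calc z * ((g : G) * x * (g : G)⁻¹) = g * ((g : G)⁻¹ * z * g * x) * (g : G)⁻¹ := by group
      _ = g * (x * ((g : G)⁻¹ * z * g)) * (g : G)⁻¹ := by rw [h3]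
      _ = (g : G) * x * (g : G)⁻¹ * z := by group
  exact h1.map (pr (R i)) (pr_surjective (R i))

theorem ne_zero_of_map (g : NR R i) {c : F} (hc : c ≠ 0) : s g c ≠ 0 := by
  have _ := h
  exact (map_ne_zero_iff _ (s g).injective).2 hc

theorem sg_zero (g : NR R i) : h.fr.sg h.co h.bt g 0 = 0 := h.fr.sg_zero h.co h.bt g

/-- a line normalised: `h` normalises `V` -/
theorem mem_NV [Finite G] {n : NR R i} {c : F} (hc : pr (R i) n • p (v 0 1) = c • p (v 0 1)) :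
    (n : G) ∈ normalizer (V : Set G) := by
  have hVW := V_le_WW V (R i)
  refine mem_normalizer_of_conj fun z hz => ?_
  have h1 : p z ∈ h.fr.sb V := h.fr.p_mem (hVW hz) hz
  obtain ⟨γ, hγ⟩ := h.mem_V.1 h1
  have h2 : n • p z ∈ h.fr.sb V := by
    rw [← hγ, h.semi, ← h.pr_smul, hc, smul_smul]
    exact h.mem_V.2 ⟨_, rfl⟩
  rw [h.fr.p_act n z (hVW hz)] at h2
  exact (h.fr.p_mem_iff (conj_mem_of_normalizer (normalizer_le_WW V (R i) n.2) (hVW hz)) (h.bt.R_le i)).1 h2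

theorem line_of_NV {n : NR R i} (hn : (n : G) ∈ normalizer (V : Set G)) :
    ∃ c : F, pr (R i) n • p (v 0 1) = c • p (v 0 1) := by
  have h1 : n • p (v 0 1) ∈ h.fr.sb V := h.fr.sb_smul hn (h.mem_V.2 ⟨1, one_smul _ _⟩)
  obtain ⟨c, hc⟩ := h.mem_V.1 h1
  exact ⟨c, by rw [h.pr_smul, hc]⟩

section eig

variable [Finite G] [Finite F] {t : F → G} (τ : TorD V R i j v t) {N : Type u}
  [AddCommGroup N] [Module F N] {P1 P2 : G → N} (y : YPair V R i j w1 w2 N P1 P2)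

/-- `D̄` as a subspace -/
def D : Submodule F M where
  carrier := h.fr.sb (DD V R)
  zero_mem' := zero_mem _
  add_mem' := fun ha hb => add_mem ha hb
  smul_mem' := fun c _ hx => h.D_smul τ y hx c

theorem mem_D' (x : M) : x ∈ h.D τ y ↔ x ∈ h.fr.sb (DD V R) := Iff.rfl

theorem notU {x : M} (hx : φ x (p (v 0 1)) ≠ 0) : x ∉ h.fr.sb (UU V R i) := fun h1 => hx (h.mem_U.1 h1)

/-- **the module data** -/
theorem bas : LemC.Bas (H0 R i) (AA V R i j) (p (v 0 1)) (h.D τ y) φ where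
  normal := h.normal_H0
  A_le := ModQ.A_le_H0 h.bt j
  lin := fun g hg => h.lin_H0 hg
  semi := fun g => by
    obtain ⟨g, rfl⟩ := pr_surjective (R i) g
    exact ⟨s g, fun c hc => h.ne_zero_of_map g hc, fun c x => by rw [h.pr_smul, h.pr_smul, h.semi]⟩
  refl := fun x z e => by rw [h.phi_symm]; exact e
  nd := ⟨fun x hx => h.ext (a' := 0) fun z => by rw [hx, map_zero, LinearMap.zero_apply],
    fun x hx => h.ext (a' := 0) fun z => by rw [h.phi_symm, hx, map_zero, LinearMap.zero_apply]⟩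
  BE := fun g hg x z => h.phi_H0 hg x z
  BH := fun g x z e => by
    obtain ⟨g, rfl⟩ := pr_surjective (R i) g
    rw [h.pr_smul, h.pr_smul, h.phi_act, e, h.sg_zero]
  ne := h.e_ne
  A2 := fun a ha x hx => by
    obtain ⟨a, ha', rfl⟩ := h.exists_A ha
    rw [h.pr_smul]
    exact h.fr.A_U h.bt ha' (h.mem_U.2 hx)
  A3 := fun a ha x hx => by
    obtain ⟨a, ha', rfl⟩ := h.exists_A ha
    rw [h.pr_smul, Submodule.mem_span_singleton]
    exact h.mem_V.1 (h.fr.A_D h.bt ha' hx)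
  A4 := fun a ha => by
    obtain ⟨a, ha', rfl⟩ := h.exists_A ha
    rw [h.pr_smul]
    exact h.fr.cen_e h.bt (UU_le_cen j ha') (h.mem_V.2 ⟨1, one_smul _ _⟩)
  ker0 := fun x hx hA => by
    rw [Submodule.mem_span_singleton]
    refine h.mem_V.1 (h.fr.C_A_D h.btc h.co.ne hx fun a ha => ?_)
    have := hA (pr (R i) a) ((mem_AA h.bt).2 ⟨a, ha, rfl⟩)
    rwa [h.pr_smul] at this
  inj := fun m hm a ha hD => by
    obtain ⟨a, ha', rfl⟩ := h.exists_A ha
    rw [h.pr_smul] at hD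
    have h1 := h.fr.A_inj h.bt h.co.ne ha' (h.notU hm) hD
    exact (pr_eq_one a.2).2 ((U_inf_Q h.bt h.co.ne ha').2 h1)
  surj := fun m hm x hx => by
    obtain ⟨a, ha, hD⟩ := h.fr.A_surj h.bt h.co.ne (h.notU hm) (h.mem_U.2 hx)
    refine ⟨pr (R i) a, (mem_AA h.bt).2 ⟨a, ha, rfl⟩, ?_⟩
    rw [h.pr_smul, h.mem_D']
    have h1 := neg_mem hD
    have e : -(a • m - m - x) = x - (a • m - m) := by abel
    rwa [e] at h1
  span := fun L hL => by
    let L₀ : AddSubgroup M := AddSubgroup.closure {x | ∃ g : HQ (R i), ∃ c : F, x = c • g • p (v 0 1)}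
    have h1 : L₀ = ⊤ := by
      apply h.fr.gen
      · intro g x hx
        induction hx using AddSubgroup.closure_induction with
        | mem x hx =>
          obtain ⟨k, c, rfl⟩ := hx
          refine AddSubgroup.subset_closure ⟨pr (R i) g * k, s g c, ?_⟩
          rw [h.semi, mul_smul, h.pr_smul]
        | zero => rw [smul_zero]; exact zero_mem _
        | add x z _ _ hx hz => rw [smul_add]; exact add_mem hx hz
        | neg x _ hx => rw [smul_neg]; exact neg_mem hx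
      · intro x hx
        obtain ⟨γ, rfl⟩ := h.mem_V.1 hx
        exact AddSubgroup.subset_closure ⟨1, γ, by rw [one_smul]⟩
    have h2 : L₀ ≤ L.toAddSubgroup := by
      rw [AddSubgroup.closure_le]
      rintro _ ⟨g, c, rfl⟩
      exact L.smul_mem c (hL g)
    rw [eq_top_iff]
    intro x _
    exact h2 (h1 ▸ AddSubgroup.mem_top x)

end eig

section torus

variable [Finite G] [Finite F] {t : F → G} {τ : TorD V R i j v t} {N : Type u}
  [AddCommGroup N] [Module F N] {P1 P2 : G → N} {y : YPair V R i j w1 w2 N P1 P2} {n : N →ₗ[F] M}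
  {sf : N →ₗ[F] N →ₗ[F] M} {q : N → N →ₗ[F] F} (E : Eig h.toFMod τ y n sf q)
include E

/-- the torus on `e^⊥` -/
theorem T_perp (a : Fˣ) {x : M} (hx : φ x (p (v 0 1)) = 0) : tT τ a • x - (a : F) • x ∈ h.fr.sb (DD V R) := by
  obtain ⟨γ, d, hd, g, rfl⟩ := (E.mem_U x).1 hx
  have h1 : tT τ a • (γ • p (v 0 1) + d + n g) - (a : F) • (γ • p (v 0 1) + d + n g) =
      (γ * (a : F)⁻¹ - a * γ) • p (v 0 1) + ((1 : F) - a) • d := by
    rw [smul_add, smul_add, h.T_smul_e τ, hd a, E.n_mem g a, smul_add, smul_add, smul_smul, sub_smul, sub_smul,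
      one_smul]
    abel
  rw [h1]
  exact (E.mem_D _).2 ⟨_, _, (h.M0 τ).smul_mem _ hd, rfl⟩

/-- **the torus data of LEMMA C** -/
theorem torB : LemC.TorB (AA V R i j) (tq τ) (p (v 0 1)) (h.D τ y) φ where
  lin := fun a ha c x => by rw [tq_of τ ha, h.pr_smul, h.pr_smul, h.T_lin τ]
  e := fun a ha => by rw [tq_of τ ha, h.pr_smul, h.T_e τ]; rfl
  P := fun a ha x hx => by
    rw [tq_of τ ha, h.pr_smul]
    exact h.T_perp E (Units.mk0 a ha) hx
  D := fun a ha x hx => by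
    rw [tq_of τ ha, h.pr_smul, Submodule.mem_span_singleton]
    exact h.mem_V.1 (h.fr.X_D h.bt (h := tT τ (Units.mk0 a ha)) (τ.memX a ha) hx)
  form := fun a ha x z => by
    rw [tq_of τ ha, h.pr_smul, h.pr_smul, h.phi_T τ]; rfl
  norm := fun a ha => by
    have h1 : ∀ x ∈ TT τ, ∀ a ∈ AA V R i j, x * a * x⁻¹ ∈ AA V R i j := fun x hx a ha => TA_mem h.bt τ hx ha
    exact mem_normalizer_of_conj fun x hx => h1 _ (tq_mem τ ha) x hx

end torus

section sylow

variable [Finite G] [Finite F] {t : F → G} (τ : TorD V R i j v t) {N : Type u}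
  [AddCommGroup N] [Module F N] {P1 P2 : G → N} (y : YPair V R i j w1 w2 N P1 P2)

include y in
/-- the torus under `N(V) ∩ N(R i)` -/
theorem conj_tq {n : NR R i} (hn : (n : G) ∈ normalizer (V : Set G)) {a : F} (ha : a ≠ 0) :
    ∃ b, b ≠ 0 ∧ ∃ a' ∈ AA V R i j, pr (R i) n * tq τ a * (pr (R i) n)⁻¹ = tq τ b * a' := by
  have b := h.bt
  have c := h.co
  obtain ⟨M', _, _, p1, p2, y'⟩ := c.exists_yMod b
  obtain ⟨x, hx⟩ : ∃ x, x = (n : G) * t a * (n : G)⁻¹ := ⟨_, rfl⟩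
  have hxX : x ∈ XX V R := by
    rw [hx]
    exact conj_mem_of_normalizer (b.NV_le_NX hn) (τ.memX a ha)
  have hxR : x ∈ normalizer (R i : Set G) := by
    rw [hx]
    exact mul_mem (mul_mem n.2 (τ.normR ha)) (inv_mem n.2)
  obtain ⟨k, hk⟩ := b.perm x (b.X_le_NV hxX) j
  have hki : k ≠ i := by
    rintro rfl
    exact c.ne (b.R_index (cj_injective ((cj_eq_self_iff.2 hxR).trans hk.symm)))
  obtain ⟨w, hw, ew⟩ := b.trans i hki c.ne.symm
  have hX' : w * x ∈ XX V R := mul_mem (W_le_X V R i hw) hxX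
  have hR' : w * x ∈ normalizer (R i : Set G) := mul_mem (b.W_le_N i hw) hxR
  have hj' : w * x ∈ normalizer (R j : Set G) := by
    rw [← cj_eq_self_iff, cj_mul, hk, ew]
  obtain ⟨β, hβ, hact, -, -⟩ := SQEnd.Tor.exists_tor y' b c hX' hR' hj'
  have hY : (t β)⁻¹ * (w * x) ∈ YY V R := by
    rw [← y.cen_X_V c h.btc, mem_inf]
    refine ⟨mul_mem (inv_mem (τ.memX β hβ)) hX', ?_⟩
    rw [mem_centralizer_iff]
    intro z hz
    obtain ⟨e, f, rfl⟩ := (c.mem_V z).1 hz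
    have h1 := τ.act β e f hβ
    have h2 := hact e f
    calc v e f * ((t β)⁻¹ * (w * x))
        = (t β)⁻¹ * (t β * v e f * (t β)⁻¹) * (w * x) := by group
      _ = (t β)⁻¹ * (w * x * v e f * (w * x)⁻¹) * (w * x) := by rw [h1, h2]
      _ = (t β)⁻¹ * (w * x) * v e f := by group
  obtain ⟨u1, hu1, u2, hu2, e⟩ := b.exists_mul_Y c.ne hY
  have hu1N : u1 ∈ normalizer (R i : Set G) := b.W_le_N i (UU_le_WW i hu1)
  have hu2N : u2 ∈ normalizer (R i : Set G) := U_le_N b i j hu2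
  have hwN : w ∈ normalizer (R i : Set G) := b.W_le_N i hw
  refine ⟨β, hβ, pr (R i) ⟨u2, hu2N⟩, (mem_AA b).2 ⟨u2, hu2, rfl⟩, ?_⟩
  have e1 : pr (R i) ⟨w, hwN⟩ = 1 := (pr_eq_one hwN).2 (b.W_le_Q i hw)
  have e2 : pr (R i) ⟨u1, hu1N⟩ = 1 := (pr_eq_one hu1N).2 (b.W_le_Q i (UU_le_WW i hu1))
  have e3 : (⟨w, hwN⟩ : NR R i) * (n * ⟨t a, τ.normR ha⟩ * n⁻¹) =
      ⟨t β, τ.normR hβ⟩ * (⟨u1, hu1N⟩ * ⟨u2, hu2N⟩) := by
    apply Subtype.ext
    change w * ((n : G) * t a * (n : G)⁻¹) = t β * (u1 * u2)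
    rw [← hx, ← e, mul_inv_cancel_left]
  have e4 := congrArg (pr (R i)) e3
  rw [map_mul, map_mul, map_mul, map_mul, map_mul, map_inv, e1, e2, one_mul, one_mul] at e4
  rw [tq_eq τ ha, tq_eq τ hβ]
  exact e4

/-- `SS = S ∩ H⁰` -/
theorem SS_eq (S₁ : Sylow 2 G) (hR : (S₁ : Subgroup G) ≤ normalizer (R i : Set G)) :
    SS R i S₁ = im (R i) S₁ ⊓ H0 R i :=
  im_inf (QQ_le_sylow S₁ hR) (Q_le_C h.bt i)

/-- a 2-element of `H⁰` normalising the line of `e₀` fixes `e₀` -/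
theorem fix_of_two {g : HQ (R i)} (hg : g ∈ H0 R i) {k : ℕ} (hk : g ^ 2 ^ k = 1) {c : F}
    (hc : g • p (v 0 1) = c • p (v 0 1)) : g • p (v 0 1) = p (v 0 1) := by
  have h3 : ∀ m : ℕ, g ^ m • p (v 0 1) = c ^ m • p (v 0 1) := by
    intro m
    induction m with
    | zero => rw [pow_zero, pow_zero, one_smul, one_smul]
    | succ m ih => rw [pow_succ', mul_smul, ih, h.lin_H0 hg, hc, smul_smul, pow_succ]
  have h4 := h3 (2 ^ k)
  rw [hk, one_smul] at h4
  have h5 : c ^ 2 ^ k = 1 := by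
    have h6 : (c ^ 2 ^ k - 1) • p (v 0 1) = 0 := by rw [sub_smul, one_smul, ← h4, sub_self]
    exact sub_eq_zero.1 (h.e_smul_eq_zero h6)
  have h6 : (c - 1) ^ 2 ^ k = 0 := by rw [sub_pow_char_pow, h5, one_pow, sub_self]
  have h7 : c = 1 := sub_eq_zero.1 (pow_eq_zero_iff (by positivity) |>.1 h6)
  rw [hc, h7, one_smul]

end sylow

section tor

variable [Finite G] [Finite F] {t : F → G} {τ : TorD V R i j v t} {N : Type u}
  [AddCommGroup N] [Module F N] {P1 P2 : G → N} {y : YPair V R i j w1 w2 N P1 P2} {n : N →ₗ[F] M}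
  {sf : N →ₗ[F] N →ₗ[F] M} {q : N → N →ₗ[F] F} (E : Eig h.toFMod τ y n sf q)
include E

/-- **the torus data of THEOREM D** -/
theorem tor (S₁ : Sylow 2 G) (hV : (S₁ : Subgroup G) ≤ normalizer (V : Set G))
    (hR : (S₁ : Subgroup G) ≤ normalizer (R i : Set G)) {S : Sylow 2 (HQ (R i))}
    (hS : (S : Subgroup (HQ (R i))) = im (R i) S₁) {K : Subgroup (HQ (R i))} (hK : K.Normal) (hK0 : K ≤ H0 R i) :
    ThmD.Tor (S : Subgroup (HQ (R i))) K (AA V R i j) (tq τ) (p (v 0 1)) (h.D τ y) φ := by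
  have hSK : ((S : Subgroup (HQ (R i))) ⊓ K) = SS R i S₁ ⊓ K := by
    rw [h.SS_eq S₁ hR, hS, inf_assoc, inf_eq_right.2 hK0]
  have B := h.torB E
  have hline : ∀ s ∈ (S : Subgroup (HQ (R i))), ∃ c : F, s • p (v 0 1) = c • p (v 0 1) := by
    intro s hs
    rw [hS] at hs
    obtain ⟨g, hg, hgS, rfl⟩ := mem_im.1 hs
    exact h.line_of_NV (n := ⟨g, hg⟩) (hV hgS)
  exact
    { lin := B.lin
      norm := fun a ha => by
        rw [hSK]
        refine mem_normalizer_of_conj fun x hx => ?_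
        exact mem_inf.2 ⟨TS_mem h.bt τ (CrdOf.crd h.co) S₁ hV hR (tq_mem τ ha) hx.1, hK.conj_mem x hx.2 _⟩
      e := B.e
      P := B.P
      comm := fun a b ha hb => T_comm τ (tq_mem τ ha) (tq_mem τ hb)
      N := fun g hg a ha => by
        obtain ⟨g, rfl⟩ := pr_surjective (R i) g
        obtain ⟨c, hc⟩ := hg
        exact h.conj_tq τ y (h.mem_NV hc) ha
      Se := hline
      SEe := fun s hs => by
        obtain ⟨c, hc⟩ := hline s hs.1
        obtain ⟨k, hk⟩ := S.isPGroup' ⟨s, hs.1⟩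
        exact h.fix_of_two (hK0 hs.2) (congrArg Subtype.val hk) hc
      AS := by
        refine (A_le_S h.bt S₁ i j hV).trans ?_
        rw [h.SS_eq S₁ hR, hS]
        exact inf_le_left }

end tor

section lay

variable [Finite G] [Finite F] {t : F → G} {τ : TorD V R i j v t} {N : Type u}
  [AddCommGroup N] [Module F N] {P1 P2 : G → N} {y : YPair V R i j w1 w2 N P1 P2} {n : N →ₗ[F] M}
  {sf : N →ₗ[F] N →ₗ[F] M} {q : N → N →ₗ[F] F} (E : Eig h.toFMod τ y n sf q)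
  (S₁ : Sylow 2 G) (hV : (S₁ : Subgroup G) ≤ normalizer (V : Set G))
  (hR : (S₁ : Subgroup G) ≤ normalizer (R i : Set G))
include E hV hR

/-- **LEMMA C** for components: a component `K ≤ H⁰` of even order centralised by `A ≠ 1` fixes `e₀` -/
theorem fix_comp (hA1 : ∃ a ∈ AA V R i j, a ≠ 1) {K : Subgroup (HQ (R i))} (hK : IsComponent K)
    (hK0 : K ≤ H0 R i) (h2 : 2 ∣ Nat.card K) (hc : ∀ k ∈ K, ∀ a ∈ AA V R i j, a * k = k * a) :
    ∀ k ∈ K, k • p (v 0 1) = p (v 0 1) := by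
  have b := h.bt
  have C := CrdOf.crd h.co
  refine (h.bas τ y).fixes (h.torB E) h.four hK0 hc hA1 (S' := SS R i S₁ ⊓ K) inf_le_right
    ((S_isPGroup S₁).to_le inf_le_left) ?_ ?_
  · intro a ha x hx
    exact ST_mem b τ C S₁ h.co.ne hV hR (tq_mem τ ha) hx.1
  · intro L hLK hL hSL
    have hn : (L.subgroupOf K).Normal := by
      refine ⟨fun x hx g => ?_⟩
      exact mem_subgroupOf.2 (hL g g.2 x (mem_subgroupOf.1 hx))
    rcases SignalizersComponents.Components.quasisimple_normal hK.2 _ hn with h1 | h1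
    · intro x hx
      have h2 : (⟨x, hx⟩ : K) ∈ L.subgroupOf K := by rw [h1]; trivial
      exact mem_subgroupOf.1 h2
    · exfalso
      apply S_inf_ne_bot b τ C S₁ hR hK hK0 h2
      rw [eq_bot_iff]
      intro x hx
      rw [mem_bot]
      refine S_inf_cen b τ C S₁ hK hx fun z hz => ?_
      have h3 : (⟨x, hx.2⟩ : K) ∈ center K := h1 (mem_subgroupOf.2 (hSL hx))
      exact (congrArg Subtype.val (mem_center_iff.1 h3 ⟨z, hz⟩)).symm

/-- **(L8)**: the moved components are permuted by `H` -/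
theorem mcomp_conj (l : Lay V R i j (TT τ) (SS R i S₁)) (g : HQ (R i)) {K : Subgroup (HQ (R i))}
    (hK : MComp V R i j K) : MComp V R i j (K.map (MulAut.conj g).toMonoidHom) := by
  have b := h.bt
  have hne : ∀ K : Subgroup (HQ (R i)), MComp V R i j K → ∃ a ∈ AA V R i j, a ∈ K ∧ a ≠ 1 := by
    intro K hK
    obtain ⟨x, hx⟩ := ne_bot_iff_exists_ne_one.1 ((l.hyp K hK).inf_ne_bot hK.2.2)
    exact ⟨x, x.2.1, x.2.2, fun h0 => hx (Subtype.ext h0)⟩
  have hself : ∀ (g : HQ (R i)) (K : Subgroup (HQ (R i))), (∀ x ∈ K, g * x * g⁻¹ ∈ K) →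
      (∀ x ∈ K, g⁻¹ * x * g ∈ K) → K.map (MulAut.conj g).toMonoidHom = K := by
    intro g K h1 h2
    apply le_antisymm
    · rintro _ ⟨x, hx, rfl⟩
      exact h1 x hx
    · intro x hx
      refine ⟨g⁻¹ * x * g, h2 x hx, ?_⟩
      change g * (g⁻¹ * x * g) * g⁻¹ = x
      group
  refine (h.bas τ y).stable (h.torB E) h.four (Λ := {K | MComp V R i j K}) hne ?_ ?_ ?_ g K hK
  · intro g K hK
    have hc : IsComponent (K.map (MulAut.conj g).toMonoidHom) :=
      SignalizersComponents.Components.isComponent_conj g hK.1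
    have h0 : K.map (MulAut.conj g).toMonoidHom ≤ H0 R i := by
      rintro _ ⟨x, hx, rfl⟩
      exact h.normal_H0.conj_mem x (hK.2.1 hx) g
    by_cases hm : ∃ a ∈ AA V R i j, ∃ k ∈ K.map (MulAut.conj g).toMonoidHom, a * k ≠ k * a
    · exact Or.inl ⟨hc, h0, hm⟩
    · right
      push Not at hm
      obtain ⟨a, ha, haK, ha1⟩ := hne K hK
      have h2 : 2 ∣ Nat.card K := by
        have h3 : orderOf (⟨a, haK⟩ : K) = 2 := by
          refine orderOf_eq_prime ?_ fun h4 => ha1 (congrArg Subtype.val h4)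
          rw [pow_two]
          exact Subtype.ext (A_sq b h.co.ne ha)
        have h4 := orderOf_dvd_natCard (⟨a, haK⟩ : K)
        rwa [h3] at h4
      have h3 : Nat.card (K.map (MulAut.conj g).toMonoidHom) = Nat.card K :=
        Nat.card_congr (K.equivMapOfInjective _ (MulAut.conj g).injective).symm.toEquiv
      intro k hk
      exact h.fix_comp E S₁ hV hR ⟨a, ha, ha1⟩ hc h0 (h3 ▸ h2) (fun k hk a ha => hm a ha k hk) _
        ⟨k, hk, rfl⟩
  · intro a ha K hK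
    have h1 := (l.hyp K hK).AK
    have h2 : K.map (MulAut.conj a).toMonoidHom = K :=
      hself a K (h1 a ha) fun x hx => by
        have := h1 a⁻¹ (inv_mem ha) x hx
        rwa [inv_inv] at this
    rw [h2]
    exact hK
  · intro a ha K hK
    have h1 := (l.hyp K hK).TK
    have ht := tq_mem τ ha
    refine ⟨?_, ?_⟩
    · rw [hself (tq τ a) K (h1 _ ht) fun x hx => by
        have := h1 _ (inv_mem ht) x hx
        rwa [inv_inv] at this]
      exact hK
    · rw [hself (tq τ a)⁻¹ K (h1 _ (inv_mem ht)) fun x hx => by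
        rw [inv_inv]
        exact h1 _ ht x hx]
      exact hK

omit E in
omit h hV hR in
/-- `1 ≠ A ∩ K` for the moved components -/
theorem _root_.Cfsg.Agent.Omega.Lie.BasOf.exists_inf {T S : Subgroup (HQ (R i))} (l : Lay V R i j T S) {K : Subgroup (HQ (R i))}
    (hK : MComp V R i j K) : ∃ a ∈ AA V R i j, a ∈ K ∧ a ≠ 1 := by
  obtain ⟨x, hx⟩ := ne_bot_iff_exists_ne_one.1 ((l.hyp K hK).inf_ne_bot hK.2.2)
  exact ⟨x, x.2.1, x.2.2, fun h0 => hx (Subtype.ext h0)⟩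

/-- **(L8)**: the product `E` of the moved components is normal -/
theorem normal_EE (l : Lay V R i j (TT τ) (SS R i S₁)) :
    (⨆ K ∈ {K : Subgroup (HQ (R i)) | MComp V R i j K}, K).Normal := by
  refine ⟨fun x hx g => ?_⟩
  have h1 : (⨆ K ∈ {K : Subgroup (HQ (R i)) | MComp V R i j K}, K) ≤
      (⨆ K ∈ {K : Subgroup (HQ (R i)) | MComp V R i j K}, K).comap (MulAut.conj g).toMonoidHom := by
    refine iSup₂_le fun K hK => ?_
    rw [← map_le_iff_le_comap]
    exact le_iSup₂ (f := fun (K : Subgroup (HQ (R i))) (_ : K ∈ {K : Subgroup (HQ (R i)) | MComp V R i j K}) => K)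
      _ (h.mcomp_conj E S₁ hV hR l g hK)
  exact h1 hx

end lay

section thmD

variable [Finite G] [Finite F] {t : F → G} {τ : TorD V R i j v t} {N : Type u}
  [AddCommGroup N] [Module F N] {P1 P2 : G → N} {y : YPair V R i j w1 w2 N P1 P2} {n : N →ₗ[F] M}
  {sf : N →ₗ[F] N →ₗ[F] M} {q : N → N →ₗ[F] F} (E : Eig h.toFMod τ y n sf q)
  (S₁ : Sylow 2 G) (hV : (S₁ : Subgroup G) ≤ normalizer (V : Set G))
  (hR : (S₁ : Subgroup G) ≤ normalizer (R i : Set G)) (l : Lay V R i j (TT τ) (SS R i S₁))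
include E hV hR l

/-- the data of THEOREM D -/
theorem dat (hA1 : ∃ a ∈ AA V R i j, a ≠ 1) :
    ThmD.Dat (⨆ K ∈ {K : Subgroup (HQ (R i)) | MComp V R i j K}, K) (AA V R i j) (p (v 0 1)) (h.D τ y) φ := by
  refine (h.bas τ y).dat (h.normal_EE E S₁ hV hR l) (iSup₂_le fun K hK => hK.2.1) ?_ hA1 ?_
  · exact (l.A_le h.bt h.co.ne).trans (iSup₂_mono fun K _ => inf_le_right)
  · intro L hAL hL
    refine iSup₂_le fun K hK => ?_
    have hKE : K ≤ ⨆ K ∈ {K : Subgroup (HQ (R i)) | MComp V R i j K}, K :=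
      le_iSup₂ (f := fun (K : Subgroup (HQ (R i))) (_ : K ∈ {K : Subgroup (HQ (R i)) | MComp V R i j K}) => K) K hK
    have hn : ((L ⊓ K).subgroupOf K).Normal := by
      refine ⟨fun x hx g => ?_⟩
      exact mem_subgroupOf.2 ⟨hL g (hKE g.2) x (mem_subgroupOf.1 hx).1, K.mul_mem (K.mul_mem g.2 x.2) (K.inv_mem g.2)⟩
    rcases SignalizersComponents.Components.quasisimple_normal hK.1.2 _ hn with h1 | h1
    · intro x hx
      have h2 : (⟨x, hx⟩ : K) ∈ (L ⊓ K).subgroupOf K := by rw [h1]; trivial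
      exact (mem_subgroupOf.1 h2).1
    · exfalso
      obtain ⟨a, ha, haK, ha1⟩ := exists_inf l hK
      apply ha1
      refine center_eq_one (pCore_HQ (R i)) hK.1 haK (fun z hz => ?_) (A_sq h.bt h.co.ne ha)
      have h2 : (⟨a, haK⟩ : K) ∈ center K := h1 (mem_subgroupOf.2 ⟨hAL ha, haK⟩)
      exact (congrArg Subtype.val (mem_center_iff.1 h2 ⟨z, hz⟩)).symm

omit E hV hR l in
theorem finite_M : Finite M :=
  Finite.of_surjective (fun x : WW V (R i) => p x) fun a => by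
    obtain ⟨x, hx, rfl⟩ := h.fr.p_surj a
    exact ⟨⟨x, hx⟩, rfl⟩

/-- **THEOREM D** for the real module: LEMMA CEN ⇒ `C_M(S_E) = e`, `M = ⟨e^E⟩`, `N(S_E) ≤ N(e)`, `H = E N(e)` -/
theorem thmD (hA1 : ∃ a ∈ AA V R i j, a ≠ 1)
    (hc : ThmD.Cen F (SS R i S₁ ⊓ ⨆ K ∈ {K : Subgroup (HQ (R i)) | MComp V R i j K}, K)
      (ThmD.sp F (⨆ K ∈ {K : Subgroup (HQ (R i)) | MComp V R i j K}, K) (p (v 0 1)))) :
    ThmD.sp F (⨆ K ∈ {K : Subgroup (HQ (R i)) | MComp V R i j K}, K) (p (v 0 1)) = ⊤ ∧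
      (∀ x : M, (∀ s ∈ SS R i S₁ ⊓ ⨆ K ∈ {K : Subgroup (HQ (R i)) | MComp V R i j K}, K, s • x = x) →
        ∃ c : F, x = c • p (v 0 1)) ∧
      (∀ n ∈ normalizer ((SS R i S₁ ⊓ ⨆ K ∈ {K : Subgroup (HQ (R i)) | MComp V R i j K}, K :
        Subgroup (HQ (R i))) : Set (HQ (R i))), ∃ c : F, n • p (v 0 1) = c • p (v 0 1)) ∧
      ∀ g : HQ (R i), ∃ e ∈ (⨆ K ∈ {K : Subgroup (HQ (R i)) | MComp V R i j K}, K), ∃ n,
        n ∈ normalizer ((SS R i S₁ ⊓ ⨆ K ∈ {K : Subgroup (HQ (R i)) | MComp V R i j K}, K :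
          Subgroup (HQ (R i))) : Set (HQ (R i))) ∧ (∃ c : F, n • p (v 0 1) = c • p (v 0 1)) ∧ g = e * n := by
  have hM := h.finite_M
  obtain ⟨S, hS⟩ := exists_sylow S₁ hR
  have hE0 : (⨆ K ∈ {K : Subgroup (HQ (R i)) | MComp V R i j K}, K) ≤ H0 R i := iSup₂_le fun K hK => hK.2.1
  have hSE : ((S : Subgroup (HQ (R i))) ⊓ ⨆ K ∈ {K : Subgroup (HQ (R i)) | MComp V R i j K}, K) =
      SS R i S₁ ⊓ ⨆ K ∈ {K : Subgroup (HQ (R i)) | MComp V R i j K}, K := by
    rw [h.SS_eq S₁ hR, hS, inf_assoc, inf_eq_right.2 hE0]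
  rw [← hSE] at hc ⊢
  exact ThmD.main S (h.dat E S₁ hV hR l hA1)
    (h.tor E S₁ hV hR hS (h.normal_EE E S₁ hV hR l) hE0) h.four hc

/-- **`C_M(S₁ ∩ C(R)) = e`** from LEMMA CEN -/
theorem cenSE (hA1 : ∃ a ∈ AA V R i j, a ≠ 1)
    (hc : ThmD.Cen F (SS R i S₁ ⊓ ⨆ K ∈ {K : Subgroup (HQ (R i)) | MComp V R i j K}, K)
      (ThmD.sp F (⨆ K ∈ {K : Subgroup (HQ (R i)) | MComp V R i j K}, K) (p (v 0 1)))) {x : G}
    (hx : x ∈ WW V (R i))
    (hs : ∀ s ∈ (S₁ : Subgroup G), s ∈ centralizer (R i : Set G) → s * x * s⁻¹ * x⁻¹ ∈ R i) : x ∈ V := by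
  obtain ⟨-, h1, -, -⟩ := h.thmD E S₁ hV hR l hA1 hc
  obtain ⟨c, hc⟩ := h1 (p x) fun s hs' => by
    obtain ⟨g, hg, hgS, rfl⟩ := mem_im.1 hs'.1
    rw [h.pr_smul, h.fr.p_act _ x hx]
    exact (h.fr.p_eq_iff (conj_mem_of_normalizer (normalizer_le_WW V (R i) hg) hx) hx).2 (hs g hgS.1 hgS.2)
  have h2 : p x ∈ h.fr.sb V := h.mem_V.2 ⟨c, hc.symm⟩
  exact (h.fr.p_mem_iff hx (h.bt.R_le i)).1 h2

end thmD

end FQ

/-- **(L8)** from the structures: the product of the moved components is normal in `H` -/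
theorem normal_of_lay {G : Type u} [Group G] [Finite G] {ι : Type w} {V : Subgroup G} {R : ι → Subgroup G} {i j : ι}
    {F : Type v} [Field F] [Finite F] [CharP F 2] {v : F → F → G} {w1 w2 : F → G} {t : F → G} (b : BTC V R)
    (c : Coord V R i j v w1 w2) (τ : TorD V R i j v t) (hF : ∃ a : F, a ≠ 0 ∧ a ≠ 1)
    (hC : centralizer (WW V (R i) : Set G) ≤ R i) (S₁ : Sylow 2 G)
    (hV : (S₁ : Subgroup G) ≤ normalizer (V : Set G)) (hR : (S₁ : Subgroup G) ≤ normalizer (R i : Set G))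
    (l : Lay V R i j (TT τ) (SS R i S₁)) :
    (⨆ K ∈ {K : Subgroup (HQ (R i)) | MComp V R i j K}, K).Normal := by
  obtain ⟨M, B, _, _, _, _, _, p, r, f, φ, s, hM⟩ := b.exists_fMod c hF hC
  obtain ⟨N, _, _, P1, P2, y⟩ := c.exists_yPair b.toBT
  obtain ⟨n, sf, q, E⟩ := hM.exists_eig τ y
  obtain ⟨_, h⟩ := exists_FQ hM
  exact h.normal_EE (E : Eig h.toFMod τ y n sf q) S₁ hV hR l

end Cfsg.Agent.Omega.Lie.BasOf
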