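import Cfsg.Agent.Omega.Lie.CenE
import Cfsg.Agent.KFacts.RgdChevCoord
import Cfsg.Agent.KFacts.ChevTwoInst
import Cfsg.Agent.ChevalleyStructure.TorusConj
import Cfsg.Agent.ChevalleyStructure.StringMem
import Cfsg.Agent.S1077

/-!
# (ZS) rows: long root data (`CenRGD.Long`) of the Chevalley groups `D.group K` of odd characteristic
-/

set_option autoImplicit false
set_option linter.unusedSectionVars false

namespace Cfsg.Agent.Omega.Lie.CenChev

open CoxeterSystem Cfsg.Agent.ChevalleyStructure.CoxeterGeom Cfsg.Agent.Tits.Roots Cfsg.Agent.Tits.Core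
  Cfsg.Agent.Nodes Cfsg.Agent.Nodes.Reps Cfsg.Agent.Nodes.BNOf Cfsg.Agent.Nodes.Coroot
  Cfsg.Agent.Nodes.RGDChev Cfsg.Agent.KFacts.RgdChevCoord
  Cfsg.Agent.Omega.Lie.CenSL Cfsg.Agent.Omega.Lie.CenRGD
open Cfsg.Lie Cfsg.Agent.ChevalleyStructure Cfsg.Agent.ChevalleyStructure.Elts
  Cfsg.Agent.ChevalleyStructure.NPerm Cfsg.Agent.ChevalleyStructure.CoxeterGeomTypes
  Cfsg.Agent.ChevalleyStructure.SL2Rep
open scoped commutatorElement

universe u

theorem prod_zpow_sum {G ι : Type*} [CommGroup G] (g : G) (f : ι → ℤ) (s : Finset ι) :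
    ∏ j ∈ s, g ^ f j = g ^ ∑ j ∈ s, f j := by
  classical
  induction s using Finset.induction_on with
  | empty => simp
  | insert a s ha ih => rw [Finset.prod_insert ha, Finset.sum_insert ha, zpow_add, ih]

section

variable {D : ChevalleyDatum} {l : ℕ} {M : CoxeterMatrix (Fin l)} (hp : IsType D l M) {K : Type u} [Field K]

/-! ### the homomorphisms from `SL₂` -/

theorem goodR (hp : IsType D l M) {r : ℕ} (hr : r < D.nroots) : Good D r := SL2All.good_of_mem D hp.inList r hr

theorem phi_mem (hp : IsType D l M) {r : ℕ} (hr : r < D.nroots) (N : SL2 K) :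
    SL2Hom.phi (goodR hp hr) K N ∈ D.group K := by
  have h1 : (SL2Hom.phi (goodR hp hr) K).range ≤ D.group K := by
    rw [SL2Hom.range_phi (goodR hp hr)]
    refine sup_le ?_ ?_
    · intro g hg
      obtain ⟨t, rfl⟩ := (mem_rootSubgroup_iff hp.inList r g).1 hg
      exact xG_mem_group hp.inList r t
    · intro g hg
      obtain ⟨t, rfl⟩ := (mem_rootSubgroup_iff hp.inList _ g).1 hg
      exact xG_mem_group hp.inList _ t
  exact h1 ⟨N, rfl⟩

/-- `SL₂(K) → D.group K` for the root with number `r` -/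
noncomputable def phiR (hp : IsType D l M) (K : Type u) [Field K] (r : ℕ) (hr : r < D.nroots) :
    SL2 K →* ↥(D.group K) :=
  (SL2Hom.phi (goodR hp hr) K).codRestrict (D.group K) (phi_mem hp hr)

theorem coe_phiR {r : ℕ} (hr : r < D.nroots) (N : SL2 K) :
    (((phiR hp K r hr N : ↥(D.group K)) : GL D.Idx K) : Matrix D.Idx D.Idx K) =
      Phi D r (N.1 0 0) (N.1 0 1) (N.1 1 0) (N.1 1 1) := rfl

open Classical in
/-- `SL₂(K) → D.group K` for the vector `x` -/
noncomputable def phiV (hp : IsType D l M) (K : Type u) [Field K] (x : Fin l → ℤ) : SL2 K →* ↥(D.group K) :=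
  if h : idx D l x < D.nroots then phiR hp K (idx D l x) h else 1

theorem phiV_vec {r : ℕ} (hr : r < D.nroots) : phiV hp K (vec D l r) = phiR hp K r hr := by
  have e := idx_vec hp hr
  unfold phiV
  have h : idx D l (vec D l r) < D.nroots := by rw [e]; exact hr
  rw [dif_pos h]
  congr 1

theorem phiV_up {r : ℕ} (hr : r < D.nroots) (c : K) : phiV hp K (vec D l r) (up c) = xc hp (vec D l r) c := by
  rw [phiV_vec hp hr]
  apply Subtype.ext
  rw [coe_xc hp hr]
  apply Units.ext
  rw [coe_xG]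
  exact SL2Hom.phi_upper (goodR hp hr) (up c) c rfl

theorem phiV_lo {r : ℕ} (hr : r < D.nroots) (c : K) : phiV hp K (vec D l r) (lo c) = xc hp (-vec D l r) c := by
  have hn := neg_lt hp.inList hr
  rw [phiV_vec hp hr, ← vec_neg hp hr]
  apply Subtype.ext
  rw [coe_xc hp hn]
  apply Units.ext
  rw [coe_xG]
  exact SL2Hom.phi_lower (goodR hp hr) (lo c) c rfl

/-! ### the central involution of `SL₂` -/

theorem additive_car (hp : IsType D l M) (r : ℕ) : TorusConj.IsAdditive D (fun s => Strings.cartanR D r s) := by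
  refine ⟨fun j => ∑ i ∈ Finset.range D.rank, Strings.co D r i * D.cartan i (D.simple j), fun s hs => ?_⟩
  show ∑ i ∈ Finset.range D.rank, _ * D.cartan i s = _
  simp only [Finset.sum_mul]
  rw [Finset.sum_comm]
  refine Finset.sum_congr rfl fun i hi => ?_
  rw [RootVec.cartan_eq_sum hp.checked (Finset.mem_range.1 hi) hs, Finset.mul_sum]
  refine Finset.sum_congr rfl fun j _ => ?_
  ring

theorem coe_neg1 {r : ℕ} (hr : r < D.nroots) :
    (((phiV hp K (vec D l r) neg1 : ↥(D.group K)) : GL D.Idx K) : Matrix D.Idx D.Idx K) =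
      TorusConj.torus D K (fun s => Strings.cartanR D r s) (-1) := by
  obtain ⟨h1, h2, h3, h4⟩ := neg1_ent (F := K)
  have h0 : (-1 : K) ≠ 0 := neg_ne_zero.2 one_ne_zero
  rw [phiV_vec hp hr, coe_phiR, h1, h2, h3, h4, TorusConj.torus_def,
    ← StringMem.hMat_eq hp.inList hr h0, HMatDiagAll.hMat_eq_Phi (goodR hp hr) h0, inv_neg, inv_one]

theorem neg1_mem {r : ℕ} (hr : r < D.nroots) : phiV hp K (vec D l r) neg1 ∈ TT D K := by
  have h0 : (-1 : K) ≠ 0 := neg_ne_zero.2 one_ne_zero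
  rw [Subgroup.mem_subgroupOf]
  have h1 : ((phiV hp K (vec D l r) neg1 : ↥(D.group K)) : GL D.Idx K) = hG hp.inList r (-1) := by
    apply Units.ext
    rw [coe_neg1 hp hr, coe_hG, StringMem.hMat_eq hp.inList hr h0]
    rfl
  rw [h1]
  exact hG_mem_diagonal hp.inList hr h0

theorem neg1_conj {r s : ℕ} (hr : r < D.nroots) (hs : s < D.nroots) (b : K) :
    phiV hp K (vec D l r) neg1 * xc hp (vec D l s) b * (phiV hp K (vec D l r) neg1)⁻¹ =
      xc hp (vec D l s) ((-1) ^ Strings.cartanR D r s * b) := by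
  have h0 : (-1 : K) ≠ 0 := neg_ne_zero.2 one_ne_zero
  rw [mul_inv_eq_iff_eq_mul]
  apply Subtype.ext
  rw [Subgroup.coe_mul, Subgroup.coe_mul, coe_xc hp hs, coe_xc hp hs]
  apply Units.ext
  rw [Units.val_mul, Units.val_mul, coe_xG, coe_xG, coe_neg1 hp hr]
  exact TorusConj.torus_mul_x hp.checked (additive_car hp r) h0 s b hs

theorem mem_XX {r : ℕ} (hr : r < D.nroots) (y : ↥(D.group K)) :
    y ∈ XX D l K (vec D l r) ↔ ∃ a, y = xc hp (vec D l r) a := by
  rw [Subgroup.mem_subgroupOf, XV_vec hp K hr, mem_rootSubgroup_iff hp.inList]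
  constructor
  · rintro ⟨a, ha⟩
    exact ⟨a, Subtype.ext (by rw [coe_xc hp hr, ha])⟩
  · rintro ⟨a, rfl⟩
    exact ⟨a, coe_xc hp hr a⟩

theorem xc_neg {r : ℕ} (hr : r < D.nroots) (a : K) : (xc hp (vec D l r) a)⁻¹ = xc hp (vec D l r) (-a) := by
  apply Subtype.ext
  rw [Subgroup.coe_inv, coe_xc hp hr, coe_xc hp hr, xG_inv]

theorem neg1_conj' {r s : ℕ} (hr : r < D.nroots) (hs : s < D.nroots) {y : ↥(D.group K)} (hy : y ∈ XX D l K (vec D l s)) :
    phiV hp K (vec D l r) neg1 * y * (phiV hp K (vec D l r) neg1)⁻¹ =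
      if ((RootCombGood.car D r s : ℤ) : ZMod 2) = 0 then y else y⁻¹ := by
  obtain ⟨b, rfl⟩ := (mem_XX hp hs y).1 hy
  rw [neg1_conj hp hr hs]
  have e : Strings.cartanR D r s = RootCombGood.car D r s := rfl
  rw [e]
  by_cases h : ((RootCombGood.car D r s : ℤ) : ZMod 2) = 0
  · rw [if_pos h]
    rw [ZMod.intCast_zmod_eq_zero_iff_dvd] at h
    have h2 : Even (RootCombGood.car D r s) := by
      rw [even_iff_two_dvd]; exact_mod_cast h
    rw [h2.neg_one_zpow, one_mul]
  · rw [if_neg h]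
    have h2 : Odd (RootCombGood.car D r s) := by
      rw [← Int.not_even_iff_odd, even_iff_two_dvd]
      intro h3
      apply h
      rw [ZMod.intCast_zmod_eq_zero_iff_dvd]
      exact_mod_cast h3
    rw [h2.neg_one_zpow, neg_one_mul, xc_neg hp hs]

/-! ### injectivity -/

theorem phiV_inj {r : ℕ} (hr : r < D.nroots) (hodd : ∃ s < D.nroots, ((RootCombGood.car D r s : ℤ) : ZMod 2) ≠ 0)
    (h2 : (2 : K) ≠ 0) : Function.Injective (phiV hp K (vec D l r)) := by
  rw [injective_iff_map_eq_one]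
  intro N hN
  have hG := goodR hp hr
  have hM : Phi D r (N.1 0 0) (N.1 0 1) (N.1 1 0) (N.1 1 1) = (1 : Matrix D.Idx D.Idx K) := by
    rw [← coe_phiR hp hr, ← phiV_vec hp hr, hN]
    rfl
  have hnr := hG.neg_lt
  have hne := hG.neg_ne
  have hdet := det_ent N
  have key : ∀ s : ℕ, ∀ hs : s < D.nroots, ∀ v : ℕ, ∀ hv : v < D.nroots,
      colE D r (N.1 0 0) (N.1 0 1) (N.1 1 0) (N.1 1 1) s (Sum.inr ⟨v, hv⟩) = if v = s then 1 else 0 := by
    intro s hs v hv
    have h1 := congrFun (congrFun hM (Sum.inr ⟨v, hv⟩)) (Sum.inr ⟨s, hs⟩)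
    have h3 : Phi D r (N.1 0 0) (N.1 0 1) (N.1 1 0) (N.1 1 1) (Sum.inr ⟨v, hv⟩) (Sum.inr ⟨s, hs⟩) =
      colE D r (N.1 0 0) (N.1 0 1) (N.1 1 0) (N.1 1 1) s (Sum.inr ⟨v, hv⟩) := rfl
    rw [← h3, h1, Matrix.one_apply]
    simp only [Sum.inr.injEq, Fin.mk.injEq]
  have k1 := key r hr r hr
  have k2 := key r hr (D.neg r) hnr
  have k3 := key (D.neg r) hnr r hr
  have k4 := key (D.neg r) hnr (D.neg r) hnr
  simp [colE, eV, hR, hne, hne.symm] at k1 k2 k3 k4
  have hcases : N.1 0 0 = 1 ∨ N.1 0 0 = -1 := by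
    rcases k1 with h | h <;> simp [h]
  have hc : N.1 1 0 = 0 := k2
  have hb : N.1 0 1 = 0 := k3
  rw [hb, hc, mul_zero, sub_zero] at hdet
  rcases hcases with ha | ha
  · have hd : N.1 1 1 = 1 := by rw [ha, one_mul] at hdet; exact hdet
    apply ext2
    · rw [ha]; rfl
    · rw [hb]; rfl
    · rw [hc]; rfl
    · rw [hd]; rfl
  · exfalso
    have hd : N.1 1 1 = -1 := by
      rw [ha, neg_one_mul] at hdet
      exact neg_eq_iff_eq_neg.1 hdet
    have hN1 : N = neg1 := by
      obtain ⟨h1, h2, h3, h4⟩ := neg1_ent (F := K)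
      apply ext2
      · rw [ha, h1]
      · rw [hb, h2]
      · rw [hc, h3]
      · rw [hd, h4]
    obtain ⟨s, hs, hodd⟩ := hodd
    have h3 := neg1_conj' hp (K := K) hr hs (y := xc hp (vec D l s) 1) ((mem_XX hp hs _).2 ⟨1, rfl⟩)
    rw [if_neg hodd, ← hN1, hN, one_mul, inv_one, mul_one, xc_neg hp hs] at h3
    have h4 := xc_inj hp hs h3
    apply h2
    rw [← one_add_one_eq_two]
    nth_rw 1 [h4]
    rw [neg_add_cancel]

/-! ### the torus -/

include hp in
theorem tt_comm {s t : ↥(D.group K)} (hs : s ∈ TT D K) (ht : t ∈ TT D K) : s * t = t * s := by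
  obtain ⟨χ, hχ⟩ := HMatDiagAll.mem_torus.1 (HMatDiagAll.diagonalSubgroup_le_torus hp.inList (Subgroup.mem_subgroupOf.1 hs))
  obtain ⟨ψ, hψ⟩ := HMatDiagAll.mem_torus.1 (HMatDiagAll.diagonalSubgroup_le_torus hp.inList (Subgroup.mem_subgroupOf.1 ht))
  apply Subtype.ext
  rw [Subgroup.coe_mul, Subgroup.coe_mul]
  apply Units.ext
  rw [Units.val_mul, Units.val_mul, hχ, hψ, Matrix.diagonal_mul_diagonal, Matrix.diagonal_mul_diagonal]
  congr 1
  funext i
  exact mul_comm _ _

/-- The scalars of a torus element on the root groups. -/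
theorem exists_char {t : ↥(D.group K)} (ht : t ∈ TT D K) :
    ∃ u : ℕ → Kˣ, ∀ s < D.nroots, ∀ b : K, t * xc hp (vec D l s) b * t⁻¹ =
      xc hp (vec D l s) (((∏ j ∈ Finset.range D.rank, u j ^ RootVec.rt D s j : Kˣ) : K) * b) := by
  classical
  obtain ⟨c, hc, hw⟩ := S1034.result D hp.inList (t : GL D.Idx K) (Subgroup.mem_subgroupOf.1 ht)
  -- the coefficients as units
  let c' : ℕ → Kˣ := fun i => if h : c i = 0 then 1 else Units.mk0 (c i) h
  have hc' : ∀ i < D.rank, ((c' i : Kˣ) : K) = c i := by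
    intro i hi
    show (((if h : c i = 0 then 1 else Units.mk0 (c i) h : Kˣ)) : K) = c i
    rw [dif_neg (hc i hi)]
    rfl
  refine ⟨fun j => ∏ i ∈ Finset.range D.rank, c' i ^ D.cartan i (D.simple j), fun s hs b => ?_⟩
  have key : ∀ L : List ℕ, (∀ i ∈ L, i < D.rank) → ∀ b : K,
      D.wordMat K (L.flatMap fun i => D.hWord (D.simple i) (c i)) * D.x K s b =
        D.x K s (((L.map fun i => c' i ^ D.cartan i s).prod : Kˣ) * b) *
          D.wordMat K (L.flatMap fun i => D.hWord (D.simple i) (c i)) := by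
    intro L
    induction L with
    | nil =>
      intro _ b
      rw [List.flatMap_nil, wordMat_nil, one_mul, mul_one, List.map_nil, List.prod_nil, Units.val_one, one_mul]
    | cons i L ih =>
      intro hL b
      have hi := hL i List.mem_cons_self
      have h1 : ∀ b : K, D.wordMat K (D.hWord (D.simple i) (c i)) * D.x K s b =
          D.x K s (c i ^ D.cartan i s * b) * D.wordMat K (D.hWord (D.simple i) (c i)) :=
        S1032.result D hp.inList i s hi hs (c i) (hc i hi)
      rw [List.flatMap_cons, wordMat_append, mul_assoc, ih (fun j hj => hL j (List.mem_cons_of_mem _ hj)) b,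
        ← mul_assoc, h1, mul_assoc, List.map_cons, List.prod_cons, Units.val_mul, Units.val_zpow_eq_zpow_val,
        hc' i hi, mul_assoc (c i ^ D.cartan i s)]
  have h1 := key (List.range D.rank) (fun i hi => List.mem_range.1 hi) b
  have h2 : ((List.range D.rank).map fun i => c' i ^ D.cartan i s).prod =
      ∏ j ∈ Finset.range D.rank, (∏ i ∈ Finset.range D.rank, c' i ^ D.cartan i (D.simple j)) ^ RootVec.rt D s j := by
    have h3 : ((List.range D.rank).map fun i => c' i ^ D.cartan i s).prod =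
        ∏ i ∈ Finset.range D.rank, c' i ^ D.cartan i s := rfl
    rw [h3]
    have h4 : ∀ j ∈ Finset.range D.rank,
        (∏ i ∈ Finset.range D.rank, c' i ^ D.cartan i (D.simple j)) ^ RootVec.rt D s j =
        ∏ i ∈ Finset.range D.rank, c' i ^ (RootVec.rt D s j * D.cartan i (D.simple j)) := by
      intro j _
      rw [← Finset.prod_zpow]
      refine Finset.prod_congr rfl fun i _ => ?_
      rw [← zpow_mul, mul_comm]
    rw [Finset.prod_congr rfl h4, Finset.prod_comm]
    refine Finset.prod_congr rfl fun i hi => ?_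
    rw [prod_zpow_sum, ← RootVec.cartan_eq_sum hp.checked (Finset.mem_range.1 hi) hs]
  rw [mul_inv_eq_iff_eq_mul]
  apply Subtype.ext
  rw [Subgroup.coe_mul, Subgroup.coe_mul, coe_xc hp hs, coe_xc hp hs]
  apply Units.ext
  rw [Units.val_mul, Units.val_mul, coe_xG, coe_xG, hw, h1, h2]

theorem unit_sq {u : Kˣ} (h : u * u = 1) : u = 1 ∨ u = -1 := by
  have h1 : (u : K) * u = 1 := by rw [← Units.val_mul, h, Units.val_one]
  rcases mul_self_eq_one_iff.1 h1 with h2 | h2
  · left; exact Units.ext h2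
  · right; exact Units.ext h2

include hp in
theorem sgn (h2 : (2 : K) ≠ 0) {t : ↥(D.group K)} (ht : t ∈ TT D K) (htt : t * t = 1) :
    ∃ ε : (Fin l → ℤ) →+ ZMod 2, ∀ s < D.nroots, ∀ y ∈ XX D l K (vec D l s),
      t * y * t⁻¹ = if ε (vec D l s) = 0 then y else y⁻¹ := by
  classical
  obtain ⟨u, hu⟩ := exists_char hp ht
  have hne : (1 : Kˣ) ≠ -1 := by
    intro h
    have h1 := congrArg (fun u : Kˣ => (u : K)) h
    simp only [Units.val_one, Units.val_neg] at h1
    apply h2
    rw [← one_add_one_eq_two]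
    nth_rw 1 [h1]
    rw [neg_add_cancel]
  let χ : (Fin l → ℤ) → Kˣ := fun v => ∏ j : Fin l, u j ^ v j
  have hχ : ∀ s < D.nroots, ∏ j ∈ Finset.range D.rank, u j ^ RootVec.rt D s j = χ (vec D l s) := by
    intro s _
    rw [hp.rank_eq, ← Fin.prod_univ_eq_prod_range (fun j => u j ^ RootVec.rt D s j)]
    rfl
  have hadd : ∀ v w, χ (v + w) = χ v * χ w := by
    intro v w
    show ∏ j : Fin l, u j ^ (v j + w j) = (∏ j : Fin l, u j ^ v j) * ∏ j : Fin l, u j ^ w j
    rw [← Finset.prod_mul_distrib]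
    exact Finset.prod_congr rfl fun j _ => zpow_add _ _ _
  have hu2 : ∀ j : Fin l, u j * u j = 1 := by
    intro j
    have hs := simple_lt hp.inList (lt_rank hp j)
    have h3 := hu _ hs 1
    have h4 := hu _ hs (((∏ j ∈ Finset.range D.rank, u j ^ RootVec.rt D (D.simple j) j : Kˣ) : K) * 1)
    have h5 := hu _ hs (((∏ i ∈ Finset.range D.rank, u i ^ RootVec.rt D (D.simple j) i : Kˣ) : K) * 1)
    rw [← h3] at h5
    have h6 : t * (t * xc hp (vec D l (D.simple j)) 1 * t⁻¹) * t⁻¹ = xc hp (vec D l (D.simple j)) 1 := by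
      calc t * (t * xc hp (vec D l (D.simple j)) 1 * t⁻¹) * t⁻¹ =
          (t * t) * xc hp (vec D l (D.simple j)) 1 * (t * t)⁻¹ := by group
        _ = _ := by rw [htt, one_mul, inv_one, mul_one]
    rw [h6] at h5
    have h7 := xc_inj hp hs h5
    have h8 : ∏ i ∈ Finset.range D.rank, u i ^ RootVec.rt D (D.simple j) i = u j := by
      rw [Finset.prod_eq_single_of_mem (j : ℕ) (Finset.mem_range.2 (lt_rank hp j))]
      · rw [RootVec.rt_simple hp.checked (lt_rank hp j), if_pos rfl, zpow_one]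
      · intro i _ hij
        rw [RootVec.rt_simple hp.checked (lt_rank hp j), if_neg hij, zpow_zero]
    rw [h8, mul_one] at h7
    exact Units.ext (by rw [Units.val_mul, ← h7, Units.val_one])
  have hsq : ∀ v, χ v * χ v = 1 := by
    intro v
    show (∏ j : Fin l, u j ^ v j) * ∏ j : Fin l, u j ^ v j = 1
    rw [← Finset.prod_mul_distrib]
    refine Finset.prod_eq_one fun j _ => ?_
    rw [← mul_zpow, hu2, one_zpow]
  refine ⟨⟨⟨fun v => if χ v = 1 then 0 else 1, ?_⟩, ?_⟩, ?_⟩
  · show (if χ 0 = 1 then (0 : ZMod 2) else 1) = 0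
    have h3 : χ 0 = 1 := by
      show ∏ j : Fin l, u j ^ (0 : ℤ) = 1
      exact Finset.prod_eq_one fun j _ => zpow_zero _
    rw [if_pos h3]
  · intro v w
    show (if χ (v + w) = 1 then (0 : ZMod 2) else 1) = (if χ v = 1 then 0 else 1) + (if χ w = 1 then 0 else 1)
    rw [hadd]
    rcases unit_sq (hsq v) with h3 | h3 <;> rcases unit_sq (hsq w) with h4 | h4 <;> rw [h3, h4]
    · simp
    · simp [hne.symm]
    · simp [hne.symm]
    · simp [hne.symm]; decide
  · intro s hs y hy
    obtain ⟨b, rfl⟩ := (mem_XX hp hs y).1 hy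
    rw [hu s hs, hχ s hs]
    show _ = if (if χ (vec D l s) = 1 then (0 : ZMod 2) else 1) = 0 then _ else _
    rcases unit_sq (hsq (vec D l s)) with h3 | h3
    · rw [h3]; simp
    · rw [h3]; simp [hne.symm, xc_neg hp hs]

/-! ### the long root data -/

/-- the long roots given by a Boolean table -/
def LR (D : ChevalleyDatum) (l : ℕ) (lg : ℕ → Bool) : Set (Fin l → ℤ) :=
  {x | ∃ r, r < D.nroots ∧ lg r = true ∧ vec D l r = x}

/-- the parity of the Cartan integers -/
noncomputable def zet {W : Type*} [Group W] (cs : CoxeterSystem M W) (hp : IsType D l M) (x y : Fin l → ℤ) : ZMod 2 :=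
  ((cpr cs hp.isCartan y x : ℤ) : ZMod 2)

variable {W : Type*} [Group W] (cs : CoxeterSystem M W)

theorem zet_vec {r s : ℕ} (hr : r < D.nroots) (hs : s < D.nroots) :
    zet cs hp (vec D l r) (vec D l s) = ((RootCombGood.car D r s : ℤ) : ZMod 2) := by
  unfold zet
  rw [KFacts.ChevTwoInst.cpr_vec hp cs hr s hs]

theorem zz_eq {r : ℕ} (hr : r < D.nroots) : zz (xc (K := K) hp) (vec D l r) = phiV hp K (vec D l r) neg1 := by
  unfold neg1 zz
  simp only [map_mul, phiV_up hp hr, phiV_lo hp hr]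

/-- **The long root data of `D.group K`.** -/
theorem long {lg : ℕ → Bool} (hinv : ∀ i < D.rank, ∀ r < D.nroots, lg r = true → lg (D.reflectRoot i r) = true)
    (hneg : ∀ r < D.nroots, lg r = true → lg (D.neg r) = true)
    (hodd : ∀ r < D.nroots, lg r = true → ∃ s < D.nroots, ((RootCombGood.car D r s : ℤ) : ZMod 2) ≠ 0)
    (h2 : (2 : K) ≠ 0) :
    Long cs hp.isCartan (TT D K) (nc hp K) (XX D l K) (LR D l lg) (xc hp) (phiV hp K) (zet cs hp) where
  root := by
    rintro _ ⟨r, hr, -, rfl⟩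
    exact isRoot_vec hp cs hr
  act := by
    rintro w _ ⟨r, hr, hl, rfl⟩
    obtain ⟨ω, rfl⟩ := cs.wordProd_surjective w
    induction ω with
    | nil =>
      rw [wordProd_nil, map_one, Module.End.one_apply]
      exact ⟨r, hr, hl, rfl⟩
    | cons i ω ih =>
      obtain ⟨s, hs, hls, e⟩ := ih
      rw [wordProd_cons, rep_mul_apply, ← e, rep_vec hp cs i hs]
      exact ⟨_, reflectRoot_lt hp.inList (lt_rank hp i) hs, hinv _ (lt_rank hp i) _ hs hls, rfl⟩
  neg := by
    rintro _ ⟨r, hr, hl, rfl⟩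
    exact ⟨D.neg r, neg_lt hp.inList hr, hneg r hr hl, vec_neg hp hr⟩
  inj := by
    rintro _ ⟨r, hr, hl, rfl⟩
    exact phiV_inj hp hr (hodd r hr hl) h2
  up := by
    rintro _ ⟨r, hr, hl, rfl⟩ c
    exact phiV_up hp hr c
  lo := by
    rintro _ ⟨r, hr, hl, rfl⟩ c
    exact phiV_lo hp hr c
  tor := by
    rintro _ ⟨r, hr, hl, rfl⟩ t ht
    exact ⟨_, (act hp hr ht).2⟩
  nn := by
    rintro i _ ⟨r, hr, hl, rfl⟩
    obtain ⟨c, -, hc⟩ := nact hp (K := K) (i := i) hr
    refine ⟨c, fun b => ?_⟩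
    rw [rep_vec hp cs i hr]
    exact hc b
  memX := by
    rintro _ ⟨r, hr, hl, rfl⟩ b
    exact (mem_XX hp hr _).2 ⟨b, rfl⟩
  zT := by
    rintro _ ⟨r, hr, hl, rfl⟩
    rw [zz_eq hp hr]
    exact neg1_mem hp hr
  zact := by
    rintro _ ⟨r, hr, hl, rfl⟩ y hy u hu
    obtain ⟨s, hs, rfl⟩ := (isRoot_iff hp cs y).1 hy
    rw [zz_eq hp hr, zet_vec hp cs hr hs]
    exact neg1_conj' hp hr hs hu
  sgn := by
    intro c hc hcc
    obtain ⟨ε, hε⟩ := sgn hp h2 hc hcc
    refine ⟨ε, fun y hy u hu => ?_⟩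
    obtain ⟨s, hs, rfl⟩ := (isRoot_iff hp cs y).1 hy
    exact hε s hs u hu
  cen := by
    intro t ht _ h1
    rw [← Subgroup.mem_bot, ← S1077.center_group_eq_bot (K := K) hp.inList, Subgroup.mem_center_iff]
    have h2 : RGDLib.G1 cs hp.isCartan (XX D l K) ≤ Subgroup.centralizer {t} := by
      unfold RGDLib.G1
      refine iSup_le ?_
      rintro ⟨y, hy⟩ a ha
      rw [Subgroup.mem_centralizer_singleton_iff]
      have := h1 y hy a ha
      rw [mul_inv_eq_iff_eq_mul] at this
      exact this.symm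
    rw [G1_eq_top hp cs] at h2
    intro g
    have h3 := h2 (Subgroup.mem_top g)
    rw [Subgroup.mem_centralizer_singleton_iff] at h3
    exact h3
  tcomm := fun s hs t ht => tt_comm hp hs ht

/-! ### commuting root groups -/

theorem xc_comm {r s : ℕ} (hr : r < D.nroots) (hs : s < D.nroots) (hne : s ≠ r) (hneg : s ≠ D.neg r)
    (h : D.commTerms r s = []) (a b : K) :
    xc hp (vec D l s) a * xc hp (vec D l r) b = xc hp (vec D l r) b * xc hp (vec D l s) a := by
  apply Subtype.ext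
  rw [Subgroup.coe_mul, Subgroup.coe_mul, coe_xc hp hs, coe_xc hp hr]
  have e := comm_xG (K := K) hp hr hs hne hneg (-b) (-a)
  have hemp : D.commWord K r s (-b) (-a) = [] := by
    show (D.commTerms r s).map _ = []
    rw [h, List.map_nil]
  rw [hemp] at e
  have e4 : wordG (F := K) hp.inList [] = 1 := by
    apply Units.ext
    rw [coe_wordG]
    rfl
  rw [e4, commutatorElement_eq_one_iff_mul_comm, xG_inv, xG_inv, _root_.neg_neg, _root_.neg_neg] at e
  exact e

theorem phi_comm {r s : ℕ} (hr : r < D.nroots) (hs : s < D.nroots) (hne : s ≠ r) (hneg : s ≠ D.neg r)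
    (h1 : D.commTerms r s = []) (h2 : D.commTerms r (D.neg s) = []) (h3 : D.commTerms (D.neg r) s = [])
    (h4 : D.commTerms (D.neg r) (D.neg s) = []) (N N' : SL2 K) :
    phiV hp K (vec D l s) N * phiV hp K (vec D l r) N' = phiV hp K (vec D l r) N' * phiV hp K (vec D l s) N := by
  have hnr := neg_lt hp.inList hr
  have hns := neg_lt hp.inList hs
  have hnn : D.neg (D.neg r) = r := RootVec.neg_neg hp.checked hr
  have hnn' : D.neg (D.neg s) = s := RootVec.neg_neg hp.checked hs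
  have e1 : D.neg s ≠ r := fun h => hneg (by rw [← h, hnn'])
  have e2 : D.neg s ≠ D.neg r := fun h => hne (by rw [← hnn', h, hnn])
  -- the generators
  have hg : ∀ x ∈ Set.range (up (F := K)) ∪ Set.range (lo (F := K)), ∀ y ∈ Set.range (up (F := K)) ∪
      Set.range (lo (F := K)), phiV hp K (vec D l s) x * phiV hp K (vec D l r) y =
        phiV hp K (vec D l r) y * phiV hp K (vec D l s) x := by
    rintro _ (⟨a, rfl⟩ | ⟨a, rfl⟩) _ (⟨b, rfl⟩ | ⟨b, rfl⟩)
    · rw [phiV_up hp hs, phiV_up hp hr]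
      exact xc_comm hp hr hs hne hneg h1 a b
    · rw [phiV_up hp hs, phiV_lo hp hr, ← vec_neg hp hr]
      exact xc_comm hp hnr hs hneg (by rw [hnn]; exact hne) h3 a b
    · rw [phiV_lo hp hs, phiV_up hp hr, ← vec_neg hp hs]
      exact xc_comm hp hr hns e1 e2 h2 a b
    · rw [phiV_lo hp hs, phiV_lo hp hr, ← vec_neg hp hs, ← vec_neg hp hr]
      exact xc_comm hp hnr hns e2 (by rw [hnn]; exact e1) h4 a b
  have h5 : ∀ x ∈ Set.range (up (F := K)) ∪ Set.range (lo (F := K)), ∀ N' : SL2 K,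
      phiV hp K (vec D l s) x * phiV hp K (vec D l r) N' = phiV hp K (vec D l r) N' * phiV hp K (vec D l s) x := by
    intro x hx N'
    have h6 : (⊤ : Subgroup (SL2 K)) ≤ (Subgroup.centralizer {phiV hp K (vec D l s) x}).comap (phiV hp K (vec D l r)) := by
      rw [← closure_up_lo, Subgroup.closure_le]
      intro y hy
      show phiV hp K (vec D l r) y ∈ Subgroup.centralizer _
      rw [Subgroup.mem_centralizer_singleton_iff]
      exact (hg x hx y hy).symm
    have h7 := h6 (Subgroup.mem_top N')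
    rw [Subgroup.mem_comap, Subgroup.mem_centralizer_singleton_iff] at h7
    exact h7.symm
  have h6 : (⊤ : Subgroup (SL2 K)) ≤ (Subgroup.centralizer {phiV hp K (vec D l r) N'}).comap (phiV hp K (vec D l s)) := by
    rw [← closure_up_lo, Subgroup.closure_le]
    intro y hy
    show phiV hp K (vec D l s) y ∈ Subgroup.centralizer _
    rw [Subgroup.mem_centralizer_singleton_iff]
    exact h5 y hy N'
  have h7 := h6 (Subgroup.mem_top N)
  rw [Subgroup.mem_comap, Subgroup.mem_centralizer_singleton_iff] at h7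
  exact h7

end

end Cfsg.Agent.Omega.Lie.CenChev
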