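import Cfsg.Agent.Omega.Lie.CenTab

/-!
# (ZS) rows: the kernel check for `CenTab.CD`
-/

set_option autoImplicit false
set_option linter.unusedSectionVars false

namespace Cfsg.Agent.Omega.Lie.CenTab

open CoxeterSystem Cfsg.Agent.ChevalleyStructure.CoxeterGeom Cfsg.Agent.Tits.Roots Cfsg.Agent.Tits.Core
  Cfsg.Agent.Nodes Cfsg.Agent.Nodes.Reps
  Cfsg.Agent.Nodes.RGDChev
open Cfsg.Lie Cfsg.Agent.ChevalleyStructure Cfsg.Agent.ChevalleyStructure.RootCombGood
  Cfsg.Agent.ChevalleyStructure.RootCombBase Cfsg.Agent.ChevalleyStructure.RootCombBridge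

/-- parity of an integer -/
def pz (z : ℤ) : Bool := Nat.beq (Nat.mod (Int.natAbs z) 2) 1

theorem pz_iff (z : ℤ) : pz z = true ↔ ((z : ℤ) : ZMod 2) ≠ 0 := by
  have h1 : pz z = true ↔ z.natAbs % 2 = 1 := by
    unfold pz
    rw [Nat.beq_eq]
    rfl
  rw [h1, Ne, ZMod.intCast_zmod_eq_zero_iff_dvd]
  omega

theorem pz_eq_iff {a b : ℤ} : ((a : ℤ) : ZMod 2) = ((b : ℤ) : ZMod 2) ↔ pz a = pz b := by
  have key : ∀ x y : ZMod 2, (x ≠ 0 ↔ y ≠ 0) → x = y := by decide
  constructor
  · intro h
    have := pz_iff a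
    have := pz_iff b
    by_cases ha : pz a = true
    · have h1 := (pz_iff a).1 ha
      rw [h] at h1
      rw [ha, (pz_iff b).2 h1]
    · have h2 : ¬ pz b = true := fun h3 => ha ((pz_iff a).2 (by rw [h]; exact (pz_iff b).1 h3))
      rw [Bool.not_eq_true] at ha h2
      rw [ha, h2]
  · intro h
    apply key
    rw [← pz_iff, ← pz_iff, h]

/-- `Bool` to `ZMod 2` -/
def toZ (b : Bool) : ZMod 2 := bif b then 1 else 0

theorem toZ_pz (z : ℤ) : ((z : ℤ) : ZMod 2) = toZ (pz z) := by
  have key : ∀ x : ZMod 2, x ≠ 0 → x = 1 := by decide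
  by_cases h : pz z = true
  · rw [h]
    exact key _ ((pz_iff z).1 h)
  · have h1 : ((z : ℤ) : ZMod 2) = 0 := by
      by_contra h2
      exact h ((pz_iff z).2 h2)
    rw [Bool.not_eq_true] at h
    rw [h, h1]
    rfl

/-- the parity of `∑ m k F k` -/
def evB (m F : ℕ → Bool) (n : ℕ) : Bool :=
  Nat.rec (motive := fun _ => Bool) false (fun k ih => xor (and (m k) (F k)) ih) n

theorem evB_eq (m F : ℕ → Bool) (n : ℕ) : ∑ k ∈ Finset.range n, toZ (m k) * toZ (F k) = toZ (evB m F n) := by
  induction n with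
  | zero => rfl
  | succ n ih =>
    rw [Finset.sum_range_succ, ih]
    have : evB m F (n + 1) = xor (and (m n) (F n)) (evB m F n) := rfl
    rw [this]
    cases m n <;> cases F n <;> cases evB m F n <;> decide

/-- all Boolean functions on `{0, …, n-1}` -/
def allB : ℕ → ((ℕ → Bool) → Bool) → Bool
  | 0, P => P (fun _ => false)
  | n + 1, P => and (allB n (fun f => P (fun k => bif Nat.beq k n then false else f k)))
      (allB n (fun f => P (fun k => bif Nat.beq k n then true else f k)))

theorem allB_spec : ∀ (n : ℕ) (P : (ℕ → Bool) → Bool), allB n P = true → ∀ f : ℕ → Bool, (∀ k, n ≤ k → f k = false) →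
    P f = true := by
  intro n
  induction n with
  | zero =>
    intro P h f hf
    have : f = fun _ => false := funext fun k => hf k (Nat.zero_le k)
    rw [this]
    exact h
  | succ n ih =>
    intro P h f hf
    have h' : (allB n (fun f => P (fun k => bif Nat.beq k n then false else f k)) &&
      allB n (fun f => P (fun k => bif Nat.beq k n then true else f k))) = true := h
    rw [Bool.and_eq_true] at h'
    let g : ℕ → Bool := fun k => bif Nat.beq k n then false else f k
    have hg : ∀ k, n ≤ k → g k = false := by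
      intro k hk
      by_cases hkn : k = n
      · show (bif Nat.beq k n then false else f k) = false
        subst hkn
        have : Nat.beq k k = true := Nat.beq_refl k
        rw [this]; rfl
      · show (bif Nat.beq k n then false else f k) = false
        rw [hf k (by omega)]
        cases Nat.beq k n <;> rfl
    have hfn : f = fun k => bif Nat.beq k n then f n else g k := by
      funext k
      by_cases hkn : k = n
      · subst hkn
        have : Nat.beq k k = true := Nat.beq_refl k
        show f k = (bif Nat.beq k k then f k else g k)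
        rw [this]; rfl
      · have : Nat.beq k n = false := by
          rw [← Bool.not_eq_true]
          intro h
          exact hkn (Nat.eq_of_beq_eq_true h)
        show f k = (bif Nat.beq k n then f n else (bif Nat.beq k n then false else f k))
        rw [this]; rfl
    cases hc : f n with
    | false =>
      have h1 := ih _ h'.1 g hg
      rw [hfn, hc]
      exact h1
    | true =>
      have h1 := ih _ h'.2 g hg
      rw [hfn, hc]
      exact h1

/-- some member of the list -/
def anyL {α : Type} (f : α → Bool) (l : List α) : Bool :=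
  List.rec (motive := fun _ => Bool) false (fun a _ ih => or (f a) ih) l

theorem anyL_spec {α : Type} {f : α → Bool} : ∀ {l : List α}, anyL f l = true → ∃ a ∈ l, f a = true
  | [], h => by cases h
  | b :: l, h => by
    have h' : (f b || anyL f l) = true := h
    rw [Bool.or_eq_true] at h'
    rcases h' with h' | h'
    · exact ⟨b, List.mem_cons_self, h'⟩
    · obtain ⟨a, ha, h''⟩ := anyL_spec h'
      exact ⟨a, List.mem_cons_of_mem _ ha, h''⟩

theorem anyL_of {α : Type} {f : α → Bool} : ∀ {l : List α} {a : α}, a ∈ l → f a = true → anyL f l = true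
  | b :: l, a, ha, h => by
    show (f b || anyL f l) = true
    rw [Bool.or_eq_true]
    rcases List.mem_cons.1 ha with rfl | ha
    · exact Or.inl h
    · exact Or.inr (anyL_of ha h)

/-- the input of the check -/
structure Inp where
  /-- bit mask of the long roots -/
  lg : ℕ
  ω : List ℕ
  β : List ℕ
  b₀ : ℕ
  bs : List ℕ
  s : ℕ
  f₀ : ℕ
  sp : List (ℤ × ℕ × ℕ)

namespace Inp

variable (T : Tab) (D : ChevalleyDatum) (P : Inp)

def lgB (r : ℕ) : Bool := bit P.lg r
def carT (r s : ℕ) : ℤ := isum (fun k => Int.mul (T.coroZ r k) (T.cartZ k s)) T.l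
def actT (r : ℕ) : ℕ := List.rec (motive := fun _ => ℕ) r (fun i _ ih => T.reflN i ih) P.ω
def iter (f : ℕ → ℕ) (k r : ℕ) : ℕ := Nat.rec (motive := fun _ => ℕ) r (fun _ ih => f ih) k

def c1 : Bool := allLt (fun i => allLt (fun r => or (not (P.lgB r)) (P.lgB (T.reflN i r))) T.n) T.l
def c2 : Bool := allLt (fun r => or (not (P.lgB r)) (P.lgB (T.negN r))) T.n
def c3 : Bool := allL (fun r => and (Nat.ble (Nat.succ r) T.n) (P.lgB r)) P.β
def c4 : Bool := allL (fun r => and (Nat.ble (Nat.succ r) T.n) (P.lgB r)) (P.b₀ :: P.bs)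
def c5 : Bool := allL (fun r => anyL (fun k => or (Nat.beq (P.actT T r) k) (Nat.beq (P.actT T r) (T.negN k))) P.β) P.β
def c6 : Bool := allLt (fun i => Nat.beq (iter (P.actT T) (Nat.pow 2 P.s) (T.simpN i)) (T.simpN i)) T.l
def c7 : Bool := allLt (fun s => anyLt (fun r => and (P.lgB r) (pz (carT T r s))) T.n) T.n
def c8 : Bool := allLt (fun r => or (not (P.lgB r)) (anyLt (fun s => pz (carT T r s)) T.n)) T.n
def c9 : Bool := allL (fun b => allLt (fun r => or (not (P.lgB r)) (or (Nat.beq r b) (or (Nat.beq r (T.negN b))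
  (anyLt (fun j => xor (pz (carT T r (T.simpN j))) (pz (carT T b (T.simpN j)))) T.l)))) T.n) (P.b₀ :: P.bs)
def c10 : Bool := conn (fun c b => not (ieq (carT T c b) 0)) [P.b₀] P.bs
def memB (r : ℕ) : Bool := anyL (fun b => or (Nat.beq r b) (Nat.beq r (T.negN b))) (P.b₀ :: P.bs)
def c11 : Bool := allLt (fun i =>
  let q := P.sp.getD i (0, 0, 0)
  and (and (P.memB T q.2.1) (P.memB T q.2.2)) (and (not (ieq q.1 0))
    (allLt (fun j => ieq (Int.add (RootVec.rt D q.2.1 j) (RootVec.rt D q.2.2 j)) (bif Nat.beq i j then q.1 else 0)) T.l))) T.l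
def c12 : Bool := allB T.l (fun F =>
  or (anyL (fun r => evB (fun k => pz (RootVec.rt D r k)) F T.l) P.β) <|
  or (anyLt (fun i => xor (evB (fun k => pz (RootVec.rt D (P.actT T (T.simpN i)) k)) F T.l) (F i)) T.l) <|
  or (allLt (fun i => not (F i)) T.l) (allLt (fun i => not (xor (F i) (bit P.f₀ i))) T.l))
def c13 : Bool := allL (fun i => Nat.ble (Nat.succ i) T.l) P.ω

/-- the check -/
def chk : Bool := and (P.c1 T) <| and (P.c2 T) <| and (P.c3 T) <| and (P.c4 T) <| and (P.c5 T) <| and (P.c6 T) <|
  and (P.c7 T) <| and (P.c8 T) <| and (P.c9 T) <| and (P.c10 T) <| and (P.c11 T D) <| and (P.c12 T D) (P.c13 T)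

end Inp

section

variable {T : Tab} {D : ChevalleyDatum} {P : Inp} (B : Bridged D T)

include B

theorem carT_eq {r s : ℕ} (hr : r < T.n) (hs : s < T.n) : Inp.carT T r s = car D r s := by
  unfold Inp.carT car
  rw [isum_eq, B.rank]
  refine Finset.sum_congr rfl fun k hk => ?_
  have hk := Finset.mem_range.1 hk
  show T.coroZ r k * T.cartZ k s = co D r k * D.cartan k s
  rw [B.cartan k hk s hs]
  congr 1
  exact (B.co r hr k hk).symm

theorem refl_lt' {i r : ℕ} (hD : Good D) (hi : i < T.l) (hr : r < T.n) : T.reflN i r < T.n := by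
  rw [← B.refl i hi r hr, ← B.nroots]
  exact hD.reflect_lt (by rw [B.rank]; exact hi) (by rw [B.nroots]; exact hr)

/-- the word as a list over `Fin l` -/
def wd (l : ℕ) (L : List ℕ) (h : ∀ i ∈ L, i < l) : List (Fin l) := L.pmap (fun i hi => ⟨i, hi⟩) h

omit B in
theorem wd_cons (l : ℕ) (i : ℕ) (L : List ℕ) (h : ∀ j ∈ i :: L, j < l) :
    wd l (i :: L) h = ⟨i, h i List.mem_cons_self⟩ :: wd l L (fun j hj => h j (List.mem_cons_of_mem _ hj)) := rfl

theorem actT_aux (hD : Good D) {l : ℕ} (hl : T.l = l) : ∀ (L : List ℕ) (h : ∀ i ∈ L, i < l) {r : ℕ}, r < T.n →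
    (List.rec (motive := fun _ => ℕ) r (fun i _ ih => T.reflN i ih) L : ℕ) < T.n ∧
    (List.rec (motive := fun _ => ℕ) r (fun i _ ih => T.reflN i ih) L : ℕ) = actD D (wd l L h) r := by
  intro L
  induction L with
  | nil => intro h r hr; exact ⟨hr, rfl⟩
  | cons i L ih =>
    intro h r hr
    obtain ⟨h1, h2⟩ := ih (fun j hj => h j (List.mem_cons_of_mem _ hj)) hr
    have hi : i < T.l := by rw [hl]; exact h i List.mem_cons_self
    refine ⟨refl_lt' B hD hi h1, ?_⟩
    rw [wd_cons]
    show T.reflN i (List.rec (motive := fun _ => ℕ) r (fun i _ ih => T.reflN i ih) L) =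
      D.reflectRoot i (actD D (wd l L _) r)
    rw [← h2, B.refl i hi _ h1]

theorem iter_aux (hD : Good D) {l : ℕ} (hl : T.l = l) (hω : ∀ i ∈ P.ω, i < l) (k : ℕ) {r : ℕ} (hr : r < T.n) :
    Inp.iter (P.actT T) k r < T.n ∧ Inp.iter (P.actT T) k r = (actD D (wd l P.ω hω))^[k] r := by
  induction k with
  | zero => exact ⟨hr, rfl⟩
  | succ k ih =>
    rw [Function.iterate_succ_apply', ← ih.2]
    exact actT_aux B hD hl P.ω hω ih.1

omit B in
theorem conn_mono {f g : ℕ → ℕ → Bool} {Q : ℕ → Prop} (hfg : ∀ c b, Q c → Q b → f c b = true → g c b = true) :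
    ∀ (rest seen : List ℕ), (∀ b ∈ rest, Q b) → (∀ b ∈ seen, Q b) → conn f seen rest = true →
      conn g seen rest = true := by
  intro rest
  induction rest with
  | nil => intro seen _ _ _; rfl
  | cons a rest ih =>
    intro seen hr hs h
    have h' : (seen.any (fun c => f c a) && conn f (a :: seen) rest) = true := h
    show (seen.any (fun c => g c a) && conn g (a :: seen) rest) = true
    rw [Bool.and_eq_true, List.any_eq_true] at h' ⊢
    obtain ⟨⟨c, hc, hca⟩, h2⟩ := h'
    have ha := hr a List.mem_cons_self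
    refine ⟨⟨c, hc, hfg c a (hs c hc) ha hca⟩, ih _ (fun b hb => hr b (List.mem_cons_of_mem _ hb)) ?_ h2⟩
    intro b hb
    rcases List.mem_cons.1 hb with rfl | hb
    · exact ha
    · exact hs b hb

omit B in
theorem or_not {a b : Bool} (h : or (not a) b = true) (ha : a = true) : b = true := by
  subst ha; exact h

/-- **Soundness of the check.** -/
theorem cd_of_chk {l : ℕ} {M : CoxeterMatrix (Fin l)} (hp : IsType D l M) (h : P.chk T D = true)
    (hω : ∀ i ∈ P.ω, i < l) :
    CD D l P.lgB (wd l P.ω hω) P.β P.bs P.b₀ (fun i => toZ (bit P.f₀ i)) P.s := by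
  unfold Inp.chk at h
  simp only [Bool.and_eq_true] at h
  obtain ⟨h1, h2, h3, h4, h5, h6, h7, h8, h9, h10, h11, h12, -⟩ := h
  have hD : Good D := RootComb.good_of_mem hp.inList
  have hn := B.nroots
  have hl : T.l = l := by rw [← B.rank]; exact hp.rank_eq
  have hsimp : ∀ i < l, D.simple i = T.simpN i := fun i hi => B.simple i (by rw [hl]; exact hi)
  have hslt : ∀ i < l, T.simpN i < T.n := fun i hi => by
    rw [← hsimp i hi, ← hn]
    exact hD.simple_lt (by rw [hp.rank_eq]; exact hi)
  have hneg : ∀ r < T.n, D.neg r = T.negN r := B.neg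
  have m3 : ∀ r ∈ P.β, r < T.n ∧ P.lgB r = true := by
    intro r hr
    have := allL_spec h3 r hr
    rw [Bool.and_eq_true] at this
    exact ⟨Nat.le_of_ble_eq_true this.1, this.2⟩
  have m4 : ∀ r ∈ P.b₀ :: P.bs, r < T.n ∧ P.lgB r = true := by
    intro r hr
    have := allL_spec h4 r hr
    rw [Bool.and_eq_true] at this
    exact ⟨Nat.le_of_ble_eq_true this.1, this.2⟩
  have hmemB : ∀ r, P.memB T r = true → (r ∈ P.b₀ :: P.bs ∨ ∃ r' ∈ P.b₀ :: P.bs, r = D.neg r') := by
    intro r hr
    obtain ⟨b, hb, h⟩ := anyL_spec hr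
    rw [Bool.or_eq_true] at h
    rcases h with h | h
    · left
      rw [Nat.eq_of_beq_eq_true h]; exact hb
    · right
      exact ⟨b, hb, by rw [Nat.eq_of_beq_eq_true h, hneg b (m4 b hb).1]⟩
  refine ⟨?_, ?_, ?_, ?_, ?_, ?_, ?_, ?_, ?_, ?_, ?_, ?_⟩
  · -- inv
    intro i hi r hr hlr
    rw [B.rank] at hi
    rw [hn] at hr
    rw [B.refl i hi r hr]
    exact or_not (allLt_spec (allLt_spec h1 i hi) r hr) hlr
  · -- neg
    intro r hr hlr
    rw [hn] at hr
    rw [hneg r hr]
    exact or_not (allLt_spec h2 r hr) hlr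
  · intro r hr; rw [hn]; exact m3 r hr
  · intro r hr; rw [hn]; exact m4 r hr
  · -- perm
    intro r hr
    obtain ⟨k, hk, h⟩ := anyL_spec (allL_spec h5 r hr)
    refine ⟨k, hk, ?_⟩
    rw [← (actT_aux B hD hl P.ω hω (m3 r hr).1).2]
    rw [Bool.or_eq_true] at h
    rcases h with h | h
    · left; exact Nat.eq_of_beq_eq_true h
    · right; rw [hneg k (m3 k hk).1]; exact Nat.eq_of_beq_eq_true h
  · -- pow
    intro i
    rw [hsimp i i.2, ← (iter_aux B hD hl hω (2 ^ P.s) (hslt i i.2)).2]
    exact Nat.eq_of_beq_eq_true (allLt_spec h6 i (by rw [hl]; exact i.2))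
  · -- odd
    intro s hs
    rw [hn] at hs
    obtain ⟨r, hr, h⟩ := anyLt_spec (allLt_spec h7 s hs)
    rw [Bool.and_eq_true] at h
    refine ⟨r, by rw [hn]; exact hr, h.1, ?_⟩
    rw [← carT_eq B hr hs]
    exact (pz_iff _).1 h.2
  · -- odd'
    intro r hr hlr
    rw [hn] at hr
    obtain ⟨s, hs, h⟩ := anyLt_spec (or_not (allLt_spec h8 r hr) hlr)
    refine ⟨s, by rw [hn]; exact hs, ?_⟩
    rw [← carT_eq B hr hs]
    exact (pz_iff _).1 h
  · -- uniq
    intro b hb r hr hlr hpar
    rw [hn] at hr
    have hbn := (m4 b hb).1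
    have h := or_not (allLt_spec (allL_spec h9 b hb) r hr) hlr
    rw [Bool.or_eq_true, Bool.or_eq_true] at h
    rcases h with h | h | h
    · left; exact Nat.eq_of_beq_eq_true h
    · right; rw [hneg b hbn]; exact Nat.eq_of_beq_eq_true h
    · exfalso
      obtain ⟨j, hj, h⟩ := anyLt_spec h
      rw [hl] at hj
      have h9 := hpar ⟨j, hj⟩
      rw [pz_eq_iff] at h9
      have e : D.simple ((⟨j, hj⟩ : Fin l) : ℕ) = T.simpN j := hsimp j hj
      rw [e, ← carT_eq B hr (hslt j hj), ← carT_eq B hbn (hslt j hj)] at h9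
      rw [h9, Bool.xor_self] at h
      exact Bool.noConfusion h
  · -- con
    refine conn_mono (Q := fun r => r < T.n) (fun c b hc hb h => ?_) P.bs [P.b₀]
      (fun b hb => (m4 b (List.mem_cons_of_mem _ hb)).1) (fun b hb => ?_) h10
    · apply decide_eq_true
      rw [← carT_eq B hc hb]
      intro h0
      rw [h0] at h
      exact Bool.noConfusion h
    · rw [List.mem_singleton] at hb
      subst hb
      exact (m4 _ List.mem_cons_self).1
  · -- span
    intro i
    have h := allLt_spec h11 i (by rw [hl]; exact i.2)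
    simp only [Bool.and_eq_true] at h
    obtain ⟨⟨ha, hb⟩, hc, hd⟩ := h
    refine ⟨_, _, (P.sp.getD i (0, 0, 0)).1, hmemB _ ha, hmemB _ hb, ?_, ?_⟩
    · intro h0
      rw [h0] at hc
      exact Bool.noConfusion hc
    · funext j
      have h := ieq_spec (allLt_spec hd j (by rw [hl]; exact j.2))
      have h' : RootVec.rt D (P.sp.getD i (0, 0, 0)).2.1 j + RootVec.rt D (P.sp.getD i (0, 0, 0)).2.2 j =
        (bif Nat.beq i j then (P.sp.getD i (0, 0, 0)).1 else 0) := h
      rw [Pi.add_apply, vec_apply, vec_apply, h', Pi.smul_apply, smul_eq_mul]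
      by_cases hij : j = i
      · subst hij
        rw [sr_self, mul_one, Nat.beq_refl]
        rfl
      · rw [sr_ne hij, mul_zero]
        have : Nat.beq i j = false := by
          rw [← Bool.not_eq_true]
          intro h
          exact hij (Fin.ext (Nat.eq_of_beq_eq_true h)).symm
        rw [this]
        rfl
  · -- one
    intro f hf1 hf2
    let F : ℕ → Bool := fun k => if h : k < l then decide (f ⟨k, h⟩ ≠ 0) else false
    have hF : ∀ k (h : k < l), f ⟨k, h⟩ = toZ (F k) := by
      intro k h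
      have key : ∀ x : ZMod 2, x = toZ (decide (x ≠ 0)) := by decide
      show _ = toZ (if h : k < l then decide (f ⟨k, h⟩ ≠ 0) else false)
      rw [dif_pos h]
      exact key _
    have hsum : ∀ r, ∑ i : Fin l, ((vec D l r i : ℤ) : ZMod 2) * f i =
        toZ (evB (fun k => pz (RootVec.rt D r k)) F T.l) := by
      intro r
      rw [hl, ← evB_eq, ← Fin.sum_univ_eq_sum_range (fun k => toZ (pz (RootVec.rt D r k)) * toZ (F k))]
      refine Finset.sum_congr rfl fun i _ => ?_
      rw [vec_apply, toZ_pz, hF i i.2]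
    have htoZ : ∀ b : Bool, toZ b = 0 → b = false := by decide
    have htoZ2 : ∀ a b : Bool, toZ a = toZ b → a = b := by decide
    have h := allB_spec T.l _ h12 F (fun k hk => by
      show (if h : k < l then decide (f ⟨k, h⟩ ≠ 0) else false) = false
      rw [dif_neg (by rw [hl] at hk; omega)])
    rw [Bool.or_eq_true, Bool.or_eq_true, Bool.or_eq_true] at h
    rcases h with h | h | h | h
    · exfalso
      obtain ⟨r, hr, h⟩ := anyL_spec h
      have h' := hf1 r hr
      rw [hsum] at h'
      rw [htoZ _ h'] at h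
      exact Bool.noConfusion h
    · exfalso
      obtain ⟨i, hi, h⟩ := anyLt_spec h
      rw [hl] at hi
      have h' := hf2 ⟨i, hi⟩
      rw [hsum, hF i hi] at h'
      have h'' := htoZ2 _ _ h'
      have e : actD D (wd l P.ω hω) (D.simple ((⟨i, hi⟩ : Fin l) : ℕ)) = P.actT T (T.simpN i) := by
        rw [show D.simple ((⟨i, hi⟩ : Fin l) : ℕ) = T.simpN i from hsimp i hi]
        exact (actT_aux B hD hl P.ω hω (hslt i hi)).2.symm
      rw [e] at h''
      rw [h'', Bool.xor_self] at h
      exact Bool.noConfusion h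
    · left
      funext i
      have h' := allLt_spec h i (by rw [hl]; exact i.2)
      rw [hF i i.2]
      have : F i = false := by
        cases hFi : F i with
        | false => rfl
        | true => rw [hFi] at h'; exact Bool.noConfusion h'
      show toZ (F i) = 0
      rw [this]; rfl
    · right
      funext i
      have h' := allLt_spec h i (by rw [hl]; exact i.2)
      rw [hF i i.2]
      show toZ (F i) = toZ (bit P.f₀ i)
      congr 1
      revert h'
      cases F i <;> cases bit P.f₀ i <;> decide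

end

end Cfsg.Agent.Omega.Lie.CenTab
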