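import Cfsg.Agent.Omega.Lie.CenLarge
import Cfsg.Agent.TypeM.Two

/-!
# `CenTwo` for the double covers of `A_n`, for groups with involution centraliser `2.A_n` (helper484)

* `not_cen_of_conj`: `z` a central involution, `u` conjugate to `u z`: then `u` does not centralise a Sylow
  2-subgroup;
* `cenTwo_of_cover`: double covers of `A_n`;
* `cenTwo_of_mt`: groups of type `MT n` (`McL`, `Ly`).
-/

set_option autoImplicit false
set_option linter.dupNamespace false

namespace Cfsg.Agent.Omega.Lie.CenTwo

open Subgroup Cfsg.Agent.SporRec.TwoAn Cfsg.Agent.TypeM.Two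

/-- an element conjugate to its product with a central involution does not centralise a Sylow 2-subgroup -/
theorem not_cen_of_conj {C : Type*} [Group C] [Finite C] {z u w : C} (hz : ∀ x : C, x * z = z * x) (hzz : z * z = 1)
    (hz1 : z ≠ 1) (hw : w * u * w⁻¹ = u * z) (S : Sylow 2 C) (hS : ∀ x ∈ S, x * u = u * x) : False := by
  have : Fact (Nat.Prime 2) := ⟨Nat.prime_two⟩
  -- `N` = the centraliser of `u` modulo `z`
  let N : Subgroup C :=
    { carrier := {x | x * u * x⁻¹ = u ∨ x * u * x⁻¹ = u * z}
      one_mem' := Or.inl (by group)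
      mul_mem' := by
        intro x y hx hy
        have e : x * y * u * (x * y)⁻¹ = x * (y * u * y⁻¹) * x⁻¹ := by group
        show x * y * u * (x * y)⁻¹ = u ∨ x * y * u * (x * y)⁻¹ = u * z
        rw [e]
        have hxz : x * z * x⁻¹ = z := by rw [hz x]; group
        rcases hy with hy | hy <;> rw [hy]
        · exact hx
        · have e2 : x * (u * z) * x⁻¹ = (x * u * x⁻¹) * (x * z * x⁻¹) := by group
          rw [e2, hxz]
          rcases hx with hx | hx <;> rw [hx]
          · right; rfl
          · left; rw [mul_assoc, hzz, mul_one]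
      inv_mem' := by
        intro x hx
        show x⁻¹ * u * x⁻¹⁻¹ = u ∨ x⁻¹ * u * x⁻¹⁻¹ = u * z
        rcases hx with hx | hx
        · left
          calc x⁻¹ * u * x⁻¹⁻¹ = x⁻¹ * (x * u * x⁻¹) * x⁻¹⁻¹ := by rw [hx]
            _ = u := by group
        · right
          have h1 : x * (u * z) * x⁻¹ = u := by
            calc x * (u * z) * x⁻¹ = (x * u * x⁻¹) * (x * z * x⁻¹) := by group
              _ = u * z * z := by rw [hx, hz x]; group
              _ = u := by rw [mul_assoc, hzz, mul_one]
          calc x⁻¹ * u * x⁻¹⁻¹ = x⁻¹ * (x * (u * z) * x⁻¹) * x⁻¹⁻¹ := by rw [h1]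
            _ = u * z := by group }
  have hmem : ∀ x, x ∈ N ↔ x * u * x⁻¹ = u ∨ x * u * x⁻¹ = u * z := fun x => Iff.rfl
  have huz : u * z ≠ u := fun h => hz1 (mul_eq_left.1 h)
  have hcen : ∀ x, x ∈ centralizer ({u} : Set C) ↔ x * u * x⁻¹ = u := by
    intro x
    rw [mem_centralizer_singleton_iff, mul_inv_eq_iff_eq_mul]
  have hle : centralizer ({u} : Set C) ≤ N := fun x hx => Or.inl ((hcen x).1 hx)
  have hrel : (centralizer ({u} : Set C)).relIndex N = 2 := by
    rw [relIndex, index_eq_two_iff]
    refine ⟨⟨w, Or.inr hw⟩, ?_⟩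
    rintro ⟨b, hb⟩
    rw [mem_subgroupOf, mem_subgroupOf]
    show Xor (b * w ∈ centralizer ({u} : Set C)) (b ∈ centralizer ({u} : Set C))
    rw [hcen, hcen]
    have e : b * w * u * (b * w)⁻¹ = (b * u * b⁻¹) * z := by
      calc b * w * u * (b * w)⁻¹ = b * (w * u * w⁻¹) * b⁻¹ := by group
        _ = b * u * (z * b⁻¹) := by rw [hw]; group
        _ = b * u * (b⁻¹ * z) := by rw [hz b⁻¹]
        _ = _ := by group
    rw [e]
    rcases (hmem b).1 hb with h | h
    · rw [h]
      exact Or.inr ⟨rfl, huz⟩
    · rw [h]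
      refine Or.inl ⟨by rw [mul_assoc, hzz, mul_one], huz⟩
  have h1 : (S : Subgroup C) ≤ centralizer ({u} : Set C) := fun x hx =>
    mem_centralizer_singleton_iff.2 (hS x hx)
  have h2 : (centralizer ({u} : Set C)).index ∣ (S : Subgroup C).index := index_dvd_of_le h1
  have h3 : (centralizer ({u} : Set C)).relIndex N * N.index = (centralizer ({u} : Set C)).index :=
    relIndex_mul_index hle
  rw [hrel] at h3
  have h4 : ¬ 2 ∣ (S : Subgroup C).index := S.not_dvd_index
  exact h4 ((Dvd.intro _ h3).trans h2)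

/-- the double covers of the alternating groups -/
theorem cenTwo_of_cover {n : ℕ} {C : Type*} [Group C] [Finite C] (K : Cover (Fin n) C) : CenTwo C := by
  obtain ⟨S⟩ : Nonempty (Sylow 2 C) := inferInstance
  refine ⟨S, K.z, ?_⟩
  intro u _ hc huu
  by_contra hne
  have h1 : K.π u ≠ 1 := fun h => hne ((K.ker u).1 h)
  have h2 : K.π u * K.π u = 1 := by rw [← map_mul, huu, map_one]
  obtain ⟨w, hw⟩ := K.exists_conj_mul_z h2 h1
  exact not_cen_of_conj (fun x => K.z_comm x) K.z_mul_z K.z_ne hw S hc

/-- with one class of involutions the centraliser of an involution has odd index -/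
theorem odd_index_of_one {X : Type*} [Group X] [Finite X] {t : X} (htt : t * t = 1) (ht1 : t ≠ 1)
    (one : ∀ s : X, s * s = 1 → s ≠ 1 → ∃ g, g * t * g⁻¹ = s) : ¬ 2 ∣ (centralizer ({t} : Set X)).index := by
  have : Fact (Nat.Prime 2) := ⟨Nat.prime_two⟩
  obtain ⟨S⟩ : Nonempty (Sylow 2 X) := inferInstance
  have hcard : 2 ∣ Nat.card X := by
    have h1 : orderOf t = 2 := orderOf_eq_prime (by rw [pow_two, htt]) ht1
    rw [← h1]; exact orderOf_dvd_natCard t
  -- the Sylow subgroup is not trivial
  have hS : (S : Subgroup X) ≠ ⊥ := by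
    intro h
    have h2 := S.not_dvd_index
    rw [show ((S : Subgroup X)).index = Nat.card X by rw [h, index_bot]] at h2
    exact h2 hcard
  obtain ⟨y, hy, hy1⟩ := (nontrivial_iff_exists_ne_one _).1 ((nontrivial_iff_ne_bot _).2 hS)
  obtain ⟨u, hu, hu1, huu, hc⟩ := exists_central (S := (S : Subgroup X)) S.isPGroup' le_rfl
    (fun g hg y hy => mul_mem (mul_mem hg hy) (inv_mem hg)) hy hy1
  obtain ⟨g, hg⟩ := one u huu hu1
  have h1 : (S : Subgroup X) ≤ centralizer ({u} : Set X) := fun x hx => mem_centralizer_singleton_iff.2 (hc x hx)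
  have h2 : ¬ 2 ∣ (centralizer ({u} : Set X)).index := fun h => S.not_dvd_index (h.trans (index_dvd_of_le h1))
  have h3 : (centralizer ({u} : Set X)).index = (centralizer ({t} : Set X)).index := by
    have e : centralizer ({u} : Set X) = (centralizer ({t} : Set X)).map (MulAut.conj g).toMonoidHom := by
      ext x
      rw [mem_centralizer_singleton_iff]
      constructor
      · intro hx
        refine ⟨g⁻¹ * x * g, mem_centralizer_singleton_iff.2 ?_, ?_⟩
        · rw [← hg] at hx
          calc g⁻¹ * x * g * t = g⁻¹ * (x * (g * t * g⁻¹)) * g := by group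
            _ = g⁻¹ * (g * t * g⁻¹ * x) * g := by rw [hx]
            _ = _ := by group
        · show g * (g⁻¹ * x * g) * g⁻¹ = x
          group
      · rintro ⟨y, hy, rfl⟩
        have hy' := mem_centralizer_singleton_iff.1 hy
        show g * y * g⁻¹ * u = u * (g * y * g⁻¹)
        rw [← hg]
        calc g * y * g⁻¹ * (g * t * g⁻¹) = g * (y * t) * g⁻¹ := by group
          _ = g * (t * y) * g⁻¹ := by rw [hy']
          _ = _ := by group
    rw [e]
    exact index_map_equiv _ (MulAut.conj g)
  rwa [h3] at h2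

/-- **groups with one class of involutions and involution centraliser `2.A_n`** -/
theorem cenTwo_of_mt {n : ℕ} {X : Type*} [Group X] [Finite X] (L : MT n X) : CenTwo X :=
  cenTwo_of_subgroup (odd_index_of_one L.t_mul_t L.t_ne L.one) (cenTwo_of_cover L.K)

end Cfsg.Agent.Omega.Lie.CenTwo
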