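import Cfsg.Agent.Omega.Lie.CenRGD

/-!
# (ZS) rows: existence of the 2-subgroup `E` of `CenRGD.oneInv_of`
-/

set_option autoImplicit false
set_option linter.unusedSectionVars false

namespace Cfsg.Agent.Omega.Lie.CenRGD

open CoxeterSystem Cfsg.Agent.ChevalleyStructure.CoxeterGeom Cfsg.Agent.Tits.Roots Cfsg.Agent.Tits.Core
  Cfsg.Agent.Nodes.Reps Cfsg.Agent.Nodes.BNOf Cfsg.Agent.Nodes.Bruhat Cfsg.Agent.Nodes.NormalForm
  Cfsg.Agent.Omega.Lie.CenSL Cfsg.Agent.Omega.Lie.CenExp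
open scoped Pointwise

section General

variable {G : Type*} [Group G]

theorem mem_sup_of_norm {L R : Subgroup G} (hR : R ≤ Subgroup.normalizer (L : Set G)) {g : G} (hg : g ∈ L ⊔ R) :
    ∃ r ∈ R, ∃ l ∈ L, g = r * l := by
  have hc : ∀ r ∈ R, ∀ l ∈ L, r⁻¹ * l * r ∈ L := by
    intro r hr l hl
    have := (Subgroup.mem_normalizer_iff.1 (hR (inv_mem hr)) l).1 hl
    rwa [inv_inv] at this
  let K : Subgroup G :=
    { carrier := {g | ∃ r ∈ R, ∃ l ∈ L, g = r * l}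
      mul_mem' := by
        rintro _ _ ⟨r, hr, l, hl, rfl⟩ ⟨s, hs, k, hk, rfl⟩
        refine ⟨r * s, mul_mem hr hs, (s⁻¹ * l * s) * k, mul_mem (hc s hs l hl) hk, ?_⟩
        group
      one_mem' := ⟨1, one_mem _, 1, one_mem _, by rw [mul_one]⟩
      inv_mem' := by
        rintro _ ⟨r, hr, l, hl, rfl⟩
        refine ⟨r⁻¹, inv_mem hr, r * l⁻¹ * r⁻¹, ?_, by group⟩
        have := hc r⁻¹ (inv_mem hr) l⁻¹ (inv_mem hl)
        rwa [inv_inv] at this }
  have h1 : L ⊔ R ≤ K := by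
    refine sup_le (fun l hl => ⟨1, one_mem _, l, hl, (one_mul l).symm⟩) (fun r hr => ⟨r, hr, 1, one_mem _, (mul_one r).symm⟩)
  exact h1 hg

/-- a Sylow 2-subgroup of `L R` containing `R` contains an `L`-conjugate of every 2-subgroup of `L` -/
theorem exists_sylow [Finite G] {L R : Subgroup G} (hR : R ≤ Subgroup.normalizer (L : Set G)) (hR2 : IsPGroup 2 R) :
    ∃ E : Subgroup G, IsPGroup 2 E ∧ R ≤ E ∧ ∀ D : Subgroup G, D ≤ L → IsPGroup 2 D → ∃ l ∈ L, ∀ d ∈ D, l * d * l⁻¹ ∈ E := by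
  have hRM : R ≤ L ⊔ R := le_sup_right
  have hRs : IsPGroup 2 (R.subgroupOf (L ⊔ R)) := hR2.comap_of_injective _ (Subgroup.subtype_injective _)
  obtain ⟨P, hP⟩ := hRs.exists_le_sylow
  have hRE : R ≤ (P : Subgroup ↥(L ⊔ R)).map (L ⊔ R).subtype := by
    intro r hr
    exact ⟨⟨r, hRM hr⟩, hP (Subgroup.mem_subgroupOf.2 hr), rfl⟩
  refine ⟨(P : Subgroup ↥(L ⊔ R)).map (L ⊔ R).subtype, P.isPGroup'.map _, hRE, ?_⟩
  intro D hD hD2
  have hDs : IsPGroup 2 (D.subgroupOf (L ⊔ R)) := hD2.comap_of_injective _ (Subgroup.subtype_injective _)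
  obtain ⟨Q, hQ⟩ := hDs.exists_le_sylow
  obtain ⟨m, hm⟩ := MulAction.exists_smul_eq ↥(L ⊔ R) Q P
  obtain ⟨r, hr, l, hl, hrl⟩ := mem_sup_of_norm hR m.2
  refine ⟨l, hl, fun d hd => ?_⟩
  have hdM : d ∈ L ⊔ R := (le_sup_left : L ≤ L ⊔ R) (hD hd)
  have h1 : (⟨d, hdM⟩ : ↥(L ⊔ R)) ∈ Q := hQ (Subgroup.mem_subgroupOf.2 hd)
  have h2 : m * ⟨d, hdM⟩ * m⁻¹ ∈ P := by
    rw [← hm]
    show _ ∈ MulAut.conj m • (Q : Subgroup ↥(L ⊔ R))
    exact Subgroup.smul_mem_pointwise_smul _ _ _ h1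
  have h3 : r⁻¹ * ((m : G) * d * (m : G)⁻¹) * r ∈ (P : Subgroup ↥(L ⊔ R)).map (L ⊔ R).subtype :=
    mul_mem (mul_mem (inv_mem (hRE hr)) ⟨_, h2, rfl⟩) (hRE hr)
  have h4 : r⁻¹ * ((m : G) * d * (m : G)⁻¹) * r = l * d * l⁻¹ := by
    rw [hrl]; group
  rwa [h4] at h3

theorem mem_normalizer_of_cj_le [Finite G] {g : G} {L : Subgroup G} (h : cj g L ≤ L) :
    g ∈ Subgroup.normalizer (L : Set G) := by
  rw [mem_normalizer_iff_cj]
  refine Subgroup.eq_of_le_of_card_ge h ?_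
  apply le_of_eq
  exact Nat.card_congr ((L.equivMapOfInjective _ (MulAut.conj g).injective).toEquiv)

end General

variable {I W Y F ι : Type*} [Fintype I] [DecidableEq I] [Group W] [Group Y] [Field F] {M : CoxeterMatrix I}
  {cs : CoxeterSystem M W} {A : I → I → ℤ} {h : IsCartan M A} {p : ℕ} {T : Subgroup Y} {n : I → Y}
  {X : (I → ℤ) → Subgroup Y} {LR : Set (I → ℤ)} {e : (I → ℤ) → F → Y} {φ : (I → ℤ) → SL2 F →* Y}
  {ζ : (I → ℤ) → (I → ℤ) → ZMod 2} {w₀ : W} {β : ι → (I → ℤ)}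

theorem rp_pow {hN : NSys M T n} {w : W} {g : Y} (hg : Rp cs hN w g) (k : ℕ) : Rp cs hN (w ^ k) (g ^ k) := by
  induction k with
  | zero => rw [pow_zero, pow_zero]; exact rp_one
  | succ k ih => rw [pow_succ, pow_succ]; exact ih.mul hg

section

variable (R : RGD cs h p T n X) (L : Long cs h T n X LR e φ ζ) (C : Comb cs h LR ζ w₀ β)

include L in
theorem range_neg {x : I → ℤ} (hx : x ∈ LR) : (φ (-x)).range ≤ (φ x).range := by
  rw [MonoidHom.range_eq_map, ← closure_up_lo (F := F), MonoidHom.map_closure, Subgroup.closure_le]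
  rintro _ ⟨_, ⟨c, rfl⟩ | ⟨c, rfl⟩, rfl⟩
  · exact ⟨lo c, by rw [L.lo x hx, L.up _ (L.neg x hx)]⟩
  · exact ⟨up c, by rw [L.up x hx, L.lo _ (L.neg x hx), neg_neg]⟩

include C in
theorem perm_pow (k : ℕ) (j : ι) : ∃ l, rep cs h (w₀ ^ k) (β j) = β l ∨ rep cs h (w₀ ^ k) (β j) = -β l := by
  induction k with
  | zero => exact ⟨j, Or.inl (by rw [pow_zero, map_one, Module.End.one_apply])⟩
  | succ k ih =>
    obtain ⟨l, hl⟩ := ih
    obtain ⟨m, hm⟩ := C.perm l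
    refine ⟨m, ?_⟩
    rw [pow_succ', rep_mul_apply]
    rcases hl with hl | hl <;> rcases hm with hm | hm
    · left; rw [hl, hm]
    · right; rw [hl, hm]
    · right; rw [hl, map_neg, hm]
    · left; rw [hl, map_neg, hm, neg_neg]

include R L in
theorem cj_range {w : W} {g : Y} (hg : Rp cs R.nsys w g) {x : I → ℤ} (hx : x ∈ LR) :
    cj g (φ x).range ≤ (φ (rep cs h w x)).range := by
  obtain ⟨a, ha, h1⟩ := conj_phi R L hg hx
  intro y hy
  rw [mem_cj] at hy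
  obtain ⟨N, hN⟩ := hy
  refine ⟨dl a ha N, ?_⟩
  rw [← h1, hN]; group

include R L C in
theorem norm_of_perm [Finite Y] {w : W} {g : Y} (hg : Rp cs R.nsys w g)
    (hw : ∀ j, ∃ l, rep cs h w (β j) = β l ∨ rep cs h w (β j) = -β l) :
    g ∈ Subgroup.normalizer ((⨆ j, (φ (β j)).range : Subgroup Y) : Set Y) := by
  apply mem_normalizer_of_cj_le
  rw [cj_iSup]
  refine iSup_le fun j => ?_
  refine (cj_range R L hg (C.mem j)).trans ?_
  obtain ⟨l, hl | hl⟩ := hw j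
  · rw [hl]; exact le_iSup (fun j => (φ (β j)).range) l
  · rw [hl]; exact (range_neg L (C.mem l)).trans (le_iSup (fun j => (φ (β j)).range) l)

/-- **A 2-subgroup of the group which centralises at most one involution.** -/
theorem exists_E [Finite W] [Finite Y] [Finite F] [Fact p.Prime] [Nonempty ι] (R : RGD cs h p T n X)
    (L : Long cs h T n X LR e φ ζ) (C : Comb cs h LR ζ w₀ β) (hp2 : p ≠ 2) (h2 : (2 : F) ≠ 0) (hG : GG cs h T X = ⊤)
    (hcomm : ∀ j k, j ≠ k → ∀ N N', φ (β j) N * φ (β k) N' = φ (β k) N' * φ (β j) N) :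
    ∃ E : Subgroup Y, IsPGroup 2 E ∧ OneInv E := by
  -- the 2-element over a power of `w₀`
  obtain ⟨k₀, hk₀⟩ := exists_rp cs R.nsys w₀
  obtain ⟨s, hs⟩ := C.pow
  obtain ⟨a, m, hm2, hm⟩ := Nat.exists_eq_two_pow_mul_odd (orderOf_pos k₀).ne'
  set n₀ : Y := k₀ ^ m with hn₀
  have hn₀R : Rp cs R.nsys (w₀ ^ m) n₀ := rp_pow hk₀ m
  have hn₀2 : n₀ ^ 2 ^ a = 1 := by
    rw [hn₀, ← pow_mul, mul_comm, ← hm, pow_orderOf_eq_one]
  obtain ⟨m', hm'⟩ : ∃ m', (w₀ ^ m) ^ m' = w₀ := by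
    have hco : Nat.Coprime m (orderOf w₀) := by
      have h3 : orderOf w₀ ∣ 2 ^ s := orderOf_dvd_of_pow_eq_one hs
      exact Nat.Coprime.coprime_dvd_right h3 (Nat.Coprime.pow_right s hm2.coprime_two_right)
    exact exists_pow_eq_self_of_coprime hco
  have hn' : Rp cs R.nsys w₀ (n₀ ^ m') := by
    have := rp_pow hn₀R m'
    rwa [hm'] at this
  -- the group generated by the central involutions
  set S : Set Y := zz e '' LR with hS
  have hSinv : ∀ {w : W} {g : Y}, Rp cs R.nsys w g → ∀ z ∈ Subgroup.closure S, g * z * g⁻¹ ∈ Subgroup.closure S := by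
    intro w g hg z hz
    have h3 : Subgroup.closure S ≤ (Subgroup.closure S).comap (MulAut.conj g).toMonoidHom := by
      rw [Subgroup.closure_le]
      rintro _ ⟨x, hx, rfl⟩
      show g * zz e x * g⁻¹ ∈ Subgroup.closure S
      rw [conj_zz R L hg hx]
      exact Subgroup.subset_closure ⟨_, L.act w x hx, rfl⟩
    exact h3 hz
  have hZT : Subgroup.closure S ≤ T := by
    rw [Subgroup.closure_le]
    exact S_sub L
  have hZ2 : ∀ z ∈ Subgroup.closure S, z * z = 1 := by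
    intro z hz
    induction hz using Subgroup.closure_induction with
    | mem z hz =>
      obtain ⟨x, hx, rfl⟩ := hz
      exact zz_sq L hx
    | one => exact one_mul 1
    | mul a b ha hb iha ihb =>
      have h3 := L.tcomm a (hZT ha) b (hZT hb)
      have h4 : a * b * (a * b) = (a * a) * (b * b) := by
        calc a * b * (a * b) = a * (b * a) * b := by group
          _ = a * (a * b) * b := by rw [h3]
          _ = _ := by group
      rw [h4, iha, ihb, one_mul]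
    | inv a ha iha =>
      have h4 : a⁻¹ * a⁻¹ = (a * a)⁻¹ := by group
      rw [h4, iha, inv_one]
  have hZp : IsPGroup 2 (Subgroup.closure S) := by
    rintro ⟨z, hz⟩
    refine ⟨1, Subtype.ext ?_⟩
    show z ^ 2 ^ 1 = 1
    rw [pow_one, pow_two, hZ2 z hz]
  have hnp : IsPGroup 2 (Subgroup.zpowers n₀) := by
    rintro ⟨z, k, rfl⟩
    refine ⟨a, Subtype.ext ?_⟩
    show (n₀ ^ k) ^ 2 ^ a = 1
    rw [← zpow_natCast, ← zpow_mul, mul_comm, zpow_mul]
    have : n₀ ^ ((2 ^ a : ℕ) : ℤ) = 1 := by rw [zpow_natCast, hn₀2]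
    rw [this, one_zpow]
  have hR2 : IsPGroup 2 (Subgroup.closure S ⊔ Subgroup.zpowers n₀ : Subgroup Y) := by
    refine IsPGroup.to_sup_of_normal_left' hZp hnp ?_
    rw [Subgroup.zpowers_le]
    exact mem_normalizer_of_cj_le (fun y hy => by
      rw [mem_cj] at hy
      have h3 := hSinv hn₀R _ hy
      have h4 : n₀ * (n₀⁻¹ * y * n₀) * n₀⁻¹ = y := by group
      rwa [h4] at h3)
  set K : Subgroup Y := ⨆ j, (φ (β j)).range with hK
  have hRK : (Subgroup.closure S ⊔ Subgroup.zpowers n₀ : Subgroup Y) ≤ Subgroup.normalizer (K : Set Y) := by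
    refine sup_le ?_ ?_
    · rw [Subgroup.closure_le]
      rintro _ ⟨x, hx, rfl⟩
      refine norm_of_perm R L C (rp_of_mem (L.zT x hx)) fun j => ⟨j, Or.inl ?_⟩
      rw [map_one, Module.End.one_apply]
    · rw [Subgroup.zpowers_le]
      exact norm_of_perm R L C hn₀R (perm_pow C m)
  obtain ⟨E, hE2, hRE, hE⟩ := exists_sylow hRK hR2
  refine ⟨E, hE2, oneInv_of R L C hp2 h2 hG (fun x hx => hRE (Subgroup.mem_sup_left
    (Subgroup.subset_closure ⟨x, hx, rfl⟩))) ⟨n₀ ^ m', hRE (Subgroup.mem_sup_right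
    (Subgroup.npow_mem_zpowers n₀ m')), hn'⟩ fun j => ?_⟩
  obtain ⟨x, y, hxy, hp'⟩ := exists_pair h2
  have hDK : (Subgroup.closure {x, y}).map (φ (β j)) ≤ K := by
    rintro _ ⟨z, -, rfl⟩
    exact (le_iSup (fun j => (φ (β j)).range) j) ⟨z, rfl⟩
  obtain ⟨l, hl, hlD⟩ := hE _ hDK (hp'.map _)
  have hnorm : K ≤ Subgroup.normalizer ((φ (β j)).range : Set Y) := by
    rw [hK]
    refine iSup_le fun k => ?_
    by_cases hjk : j = k
    · subst hjk; exact Subgroup.le_normalizer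
    · rintro _ ⟨N', rfl⟩
      rw [Subgroup.mem_normalizer_iff]
      intro z
      constructor
      · rintro ⟨N, rfl⟩
        rw [← hcomm j k hjk, mul_inv_cancel_right]
        exact ⟨N, rfl⟩
      · rintro ⟨N, hN⟩
        have h3 : z = (φ (β k) N')⁻¹ * φ (β j) N * φ (β k) N' := by rw [hN]; group
        rw [h3, mul_assoc, hcomm j k hjk, inv_mul_cancel_left]
        exact ⟨N, rfl⟩
  have key : ∀ z ∈ Subgroup.closure {x, y}, ∃ z' : SL2 F, l * φ (β j) z * l⁻¹ = φ (β j) z' ∧ φ (β j) z' ∈ E := by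
    intro z hz
    obtain ⟨z', hz'⟩ := (Subgroup.mem_normalizer_iff.1 (hnorm hl) (φ (β j) z)).1 ⟨z, rfl⟩
    exact ⟨z', hz'.symm, by rw [hz']; exact hlD _ ⟨z, hz, rfl⟩⟩
  obtain ⟨x', hx', hxE⟩ := key x (Subgroup.subset_closure (Set.mem_insert _ _))
  obtain ⟨y', hy', hyE⟩ := key y (Subgroup.subset_closure (Set.mem_insert_of_mem _ rfl))
  refine ⟨x', y', fun h3 => hxy ?_, hxE, hyE⟩
  apply L.inj _ (C.mem j)
  have h4 : φ (β j) x' * φ (β j) y' = φ (β j) y' * φ (β j) x' := by rw [← map_mul, h3, map_mul]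
  rw [← hx', ← hy'] at h4
  rw [map_mul, map_mul]
  have h5 : φ (β j) x * φ (β j) y = l⁻¹ * (l * φ (β j) x * l⁻¹ * (l * φ (β j) y * l⁻¹)) * l := by group
  rw [h5, h4]; group

end

end Cfsg.Agent.Omega.Lie.CenRGD
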