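import Mathlib

/-!
# (ZS) rows: involutions central in a Sylow 2-subgroup

`noMove` : if a 2-subgroup `E` of `X` centralises at most one involution, then no automorphism of `X` normalising a
Sylow 2-subgroup `S` moves an involution of `Z(S)`.
-/

set_option autoImplicit false

open scoped Pointwise

namespace Cfsg.Agent.Omega.Lie.CenExp

variable {X : Type*} [Group X]

/-- at most one involution centralises `E` -/
def OneInv (E : Subgroup X) : Prop :=
  ∀ u v : X, u * u = 1 → v * v = 1 → u ≠ 1 → v ≠ 1 → (∀ x ∈ E, x * u = u * x) → (∀ x ∈ E, x * v = v * x) → u = v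

theorem noMove [Finite X] {E : Subgroup X} (hE : IsPGroup 2 E) (hO : OneInv E) (S : Sylow 2 X) (t : MulAut X)
    (ht : ∀ x ∈ S, t x ∈ S) (u : X) (huS : u ∈ S) (huc : ∀ x ∈ S, x * u = u * x) (hu2 : u * u = 1) : t u = u := by
  obtain ⟨P, hP⟩ := hE.exists_le_sylow
  obtain ⟨g, hg⟩ := MulAction.exists_smul_eq X S P
  -- `E` is conjugate into `S`
  have hES : ∀ x ∈ E, g⁻¹ * x * g ∈ S := by
    intro x hx
    have h1 : x ∈ g • S := by rw [hg]; exact hP hx
    have h2 : x ∈ MulAut.conj g • (S : Subgroup X) := h1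
    rw [Subgroup.mem_pointwise_smul_iff_inv_smul_mem] at h2
    have h3 : (MulAut.conj g)⁻¹ • x = g⁻¹ * x * g := by
      rw [← map_inv]
      simp [MulAut.smul_def]
    rwa [h3] at h2
  have hts : ∀ x ∈ S, ∃ y ∈ S, t y = x := by
    have hinj : Function.Injective (fun y : S => (⟨t y, ht y y.2⟩ : S)) := fun a b hab => by
      have := congrArg Subtype.val hab
      exact Subtype.ext (t.injective this)
    intro x hx
    obtain ⟨y, hy⟩ := Finite.surjective_of_injective hinj ⟨x, hx⟩
    exact ⟨y, y.2, congrArg Subtype.val hy⟩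
  have htc : ∀ x ∈ S, x * t u = t u * x := by
    intro x hx
    obtain ⟨y, hy, rfl⟩ := hts x hx
    rw [← map_mul, ← map_mul, huc y hy]
  have hcen : ∀ w : X, (∀ x ∈ S, x * w = w * x) → ∀ x ∈ E, x * (g * w * g⁻¹) = g * w * g⁻¹ * x := by
    intro w hw x hx
    have h1 := hw _ (hES x hx)
    have h2 : x * (g * w * g⁻¹) = g * (g⁻¹ * x * g * w) * g⁻¹ := by group
    rw [h2, h1]; group
  by_cases hu1 : u = 1
  · rw [hu1, map_one]
  have e := hO (g * t u * g⁻¹) (g * u * g⁻¹) ?_ ?_ ?_ ?_ (hcen _ htc) (hcen _ huc)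
  · have h1 : t u = g⁻¹ * (g * t u * g⁻¹) * g := by group
    rw [h1, e]; group
  · have h1 : g * t u * g⁻¹ * (g * t u * g⁻¹) = g * (t (u * u)) * g⁻¹ := by rw [map_mul]; group
    rw [h1, hu2, map_one]; group
  · have h1 : g * u * g⁻¹ * (g * u * g⁻¹) = g * (u * u) * g⁻¹ := by group
    rw [h1, hu2]; group
  · intro h1
    apply hu1
    have h2 : t u = g⁻¹ * (g * t u * g⁻¹) * g := by group
    rw [h1] at h2
    have h3 : t u = 1 := by rw [h2]; group
    exact t.injective (by rw [h3, map_one])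
  · intro h1
    apply hu1
    have h2 : u = g⁻¹ * (g * u * g⁻¹) * g := by group
    rw [h2, h1]; group

end Cfsg.Agent.Omega.Lie.CenExp
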