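import Cfsg.Agent.Omega.Lie.CenRGD
import Cfsg.Agent.Nodes.Reindex

/-!
# (ZS) rows: change of the index set in `CenRGD.Comb`
-/

set_option autoImplicit false
set_option linter.unusedSectionVars false

namespace Cfsg.Agent.Omega.Lie.CenRGD

open CoxeterSystem Cfsg.Agent.ChevalleyStructure.CoxeterGeom Cfsg.Agent.Tits.Roots Cfsg.Agent.Tits.Core
  Cfsg.Agent.Nodes.Reps Cfsg.Agent.Nodes.BNOf Cfsg.Agent.Nodes.Reindex

variable {I J W ι : Type*} [Fintype I] [DecidableEq I] [Fintype J] [DecidableEq J] [Group W]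
  {M : CoxeterMatrix I} {M' : CoxeterMatrix J} {cs : CoxeterSystem M W} {cs' : CoxeterSystem M' W}
  {A : I → I → ℤ} {A' : J → J → ℤ} {h : IsCartan M A} {h' : IsCartan M' A'} {e : I ≃ J}

theorem rep_comp (hA : ∀ i j, A i j = A' (e i) (e j)) (hs : ∀ i, cs'.simple (e i) = cs.simple i) (w : W)
    (x : J → ℤ) : rep cs' h' w x ∘ e = rep cs h w (x ∘ e) := by
  have h1 := rep_reindex (cs := cs) (cs' := cs') (h := h) (h' := h') hA hs w (x ∘ e)
  rw [comp_symm] at h1
  rw [h1, comp_symm']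

theorem isRoot_comp (hA : ∀ i j, A i j = A' (e i) (e j)) (hs : ∀ i, cs'.simple (e i) = cs.simple i) {x : J → ℤ} :
    IsRoot cs h (x ∘ e) ↔ IsRoot cs' h' x := by
  have h1 := isRoot_reindex (cs := cs) (cs' := cs') (h := h) (h' := h') hA hs (x := x ∘ e)
  rw [comp_symm] at h1
  exact h1.symm

/-- composition with `e` -/
def compHom (e : I ≃ J) : (J → ℤ) →+ (I → ℤ) where
  toFun x := x ∘ e
  map_zero' := rfl
  map_add' _ _ := rfl

/-- composition with `e.symm` -/
def compHom' (e : I ≃ J) : (I → ℤ) →+ (J → ℤ) where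
  toFun x := x ∘ e.symm
  map_zero' := rfl
  map_add' _ _ := rfl

theorem Comb.reindex {LR : Set (I → ℤ)} {ζ : (I → ℤ) → (I → ℤ) → ZMod 2} {w₀ : W} {β : ι → (I → ℤ)}
    (C : Comb cs h LR ζ w₀ β) (hA : ∀ i j, A i j = A' (e i) (e j)) (hs : ∀ i, cs'.simple (e i) = cs.simple i) :
    Comb cs' h' {x | x ∘ e ∈ LR} (fun x y => ζ (x ∘ e) (y ∘ e)) w₀ (fun j => β j ∘ e.symm) where
  mem j := by
    show (β j ∘ e.symm) ∘ e ∈ LR
    rw [comp_symm']
    exact C.mem j
  perm j := by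
    obtain ⟨k, hk⟩ := C.perm j
    refine ⟨k, ?_⟩
    rw [rep_reindex (cs := cs) (cs' := cs') (h := h) (h' := h') hA hs]
    rcases hk with hk | hk
    · left; rw [hk]
    · right; rw [hk]; rfl
  pow := C.pow
  one := by
    obtain ⟨ε₀, h0⟩ := C.one
    refine ⟨ε₀.comp (compHom e), fun ε h1 h2 => ?_⟩
    rcases h0 (ε.comp (compHom' e)) h1 (fun y hy => by
      show ε (rep cs h w₀ y ∘ e.symm) = ε (y ∘ e.symm)
      rw [← rep_reindex (cs := cs) (cs' := cs') (h := h) (h' := h') hA hs]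
      exact h2 _ ((isRoot_reindex (cs := cs) (cs' := cs') (h := h) (h' := h') hA hs).2 hy)) with h3 | h3
    · left
      intro y hy
      have h4 := h3 (y ∘ e) ((isRoot_comp (cs := cs) (h := h) hA hs).2 hy)
      have h5 : ε ((y ∘ e) ∘ e.symm) = 0 := h4
      rwa [comp_symm] at h5
    · right
      intro y hy
      have h4 := h3 (y ∘ e) ((isRoot_comp (cs := cs) (h := h) hA hs).2 hy)
      have h5 : ε ((y ∘ e) ∘ e.symm) = ε₀ (y ∘ e) := h4
      rwa [comp_symm] at h5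
  par w hw := by
    rcases C.par w (fun x hx y hy => by
      have h1 := hw (x ∘ e.symm) (by show (x ∘ e.symm) ∘ e ∈ LR; rw [comp_symm']; exact hx) (y ∘ e.symm)
        ((isRoot_reindex (cs := cs) (cs' := cs') (h := h) (h' := h') hA hs).2 hy)
      have h2 : ζ (rep cs' h' w (x ∘ e.symm) ∘ e) ((y ∘ e.symm) ∘ e) = ζ ((x ∘ e.symm) ∘ e) ((y ∘ e.symm) ∘ e) := h1
      rw [rep_comp (cs := cs) (h := h) hA hs, comp_symm', comp_symm'] at h2
      exact h2) with h3 | h3
    · exact Or.inl h3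
    · right
      intro x hx
      have h4 := h3 (x ∘ e) hx
      rw [← rep_comp (cs := cs) (cs' := cs') (h := h) (h' := h') hA hs] at h4
      funext j
      have h5 := congrFun h4 (e.symm j)
      simpa using h5
  odd y hy := by
    obtain ⟨x, hx, h1⟩ := C.odd (y ∘ e) ((isRoot_comp (cs := cs) (h := h) hA hs).2 hy)
    refine ⟨x ∘ e.symm, by show (x ∘ e.symm) ∘ e ∈ LR; rw [comp_symm']; exact hx, ?_⟩
    show ζ ((x ∘ e.symm) ∘ e) (y ∘ e) ≠ 0
    rw [comp_symm']
    exact h1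

end Cfsg.Agent.Omega.Lie.CenRGD
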