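import Cfsg.Agent.Omega.Lie.CenTab
import Cfsg.Agent.Omega.Lie.CenReindex
import Cfsg.Agent.Nodes.RGDFold

/-!
# (ZS) rows: long root data (`CenRGD.Long`) of the twisted groups obtained by folding (`RGDFold`)
-/

set_option autoImplicit false
set_option linter.unusedSectionVars false

namespace Cfsg.Agent.Omega.Lie.CenFold

open CoxeterSystem Cfsg.Agent.ChevalleyStructure.CoxeterGeom Cfsg.Agent.Tits.Roots Cfsg.Agent.Tits.Core
  Cfsg.Agent.Nodes Cfsg.Agent.Nodes.Reps Cfsg.Agent.Nodes.BNOf Cfsg.Agent.Nodes.Coroot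
  Cfsg.Agent.Nodes.RGDChev Cfsg.Agent.KFacts.RgdChevCoord Cfsg.Agent.Nodes.RGDFold Cfsg.Agent.Nodes.RGDTwGen
  Cfsg.Agent.Omega.Lie.CenSL Cfsg.Agent.Omega.Lie.CenRGD Cfsg.Agent.Omega.Lie.CenChev
open Cfsg.Lie Cfsg.Agent.ChevalleyStructure Cfsg.Agent.ChevalleyStructure.Elts Cfsg.Agent.ChevalleyStructure.CoxeterGeomTypes
  Cfsg.Agent.ChevalleyStructure.NPerm Cfsg.Agent.ChevalleyStructure.TwistedU
  Cfsg.Agent.ChevalleyStructure.TwistedFix Cfsg.Agent.ChevalleyStructure.RootCombGood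
open scoped commutatorElement

universe u

/-- The table facts of a folding of `D` onto `D₀`. -/
structure FT (D : ChevalleyDatum) (l : ℕ) (D₀ : ChevalleyDatum) (m : ℕ) (J : Fin m → List (Fin l))
    (e : Fin m ≃ Fin m) (ρ : ℕ → ℕ) (ε : ℕ → ℤ) (lg lg₀ : ℕ → Bool) (κ : ℕ → ℕ) : Prop where
  kap : ∀ s < D.nroots, κ s < D₀.nroots ∧ ∀ i, vec D₀ m (κ s) i = V D J s (e i)
  fx : ∀ r < D.nroots, lg r = true → ρ r = r ∧ ε r = 1
  inv : ∀ i, ∀ r < D.nroots, lg r = true → lg (wp D (J i) r) = true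
  neg : ∀ r < D.nroots, lg r = true → lg (D.neg r) = true
  one : ∀ r < D.nroots, lg r = true → ∀ s < D.nroots, κ s = κ r → s = r
  lg0 : ∀ r < D.nroots, lg r = true → lg₀ (κ r) = true
  lg1 : ∀ k < D₀.nroots, lg₀ k = true → ∃ r < D.nroots, lg r = true ∧ κ r = k
  crt : ∀ r < D.nroots, lg r = true → ∀ s < D.nroots, car D r s = car D₀ (κ r) (κ s)
  odd' : ∀ r < D.nroots, lg r = true → ∃ s < D.nroots, ((car D r s : ℤ) : ZMod 2) ≠ 0
  cls : ∀ r < D.nroots, ∀ s < D.nroots, κ r = κ s → r = s ∨ (s ≠ D.neg r ∧ D.commTerms r s = [])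
  rlt : ∀ r < D.nroots, ρ r < D.nroots ∧ (ε r = 1 ∨ ε r = -1)
  orb : ∀ i, ∀ j ∈ J i, ∀ j' ∈ J i, ∃ n < 3, ρ^[n] (D.simple (j : ℕ)) = D.simple (j' : ℕ)
  part : ∀ g : Fin l → ZMod 2, ∑ j, g j = ∑ i, ((J i).map g).sum

/-- the fixed field -/
abbrev FF {K : Type u} [Field K] (φ : K →+* K) : Subfield K := φ.eqLocusField (RingHom.id K)

section

variable {D : ChevalleyDatum} {l : ℕ} {M' : CoxeterMatrix (Fin l)} (hp : IsType D l M')
  {D₀ : ChevalleyDatum} {m : ℕ} {M₀ : CoxeterMatrix (Fin m)} (hp₀ : IsType D₀ m M₀)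
  {K : Type u} [Field K] {M : CoxeterMatrix (Fin m)} {W : Type*} [Group W] (cs : CoxeterSystem M W)
  {A : Fin m → Fin m → ℤ} (h : IsCartan M A)
  {J : Fin m → List (Fin l)} {L : List (List ℕ)} {σ : GL D.Idx K →* GL D.Idx K} {ρ ρ' : ℕ → ℕ}
  {f : ℕ → K → K} {G : Subgroup (GL D.Idx K)} {φ : K →+* K} {ε : ℕ → ℤ}
  {e : Fin m ≃ Fin m} {lg lg₀ : ℕ → Bool} {κ : ℕ → ℕ}

theorem mem_FF {a : K} : a ∈ FF φ ↔ φ a = a := Iff.rfl

/-! ### the homomorphisms -/

/-- `SL₂(F) → GL` for the root `r`. -/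
noncomputable def psi (hp : IsType D l M') (φ : K →+* K) (r : ℕ) (hr : r < D.nroots) : SL2 ↥(FF φ) →* GL D.Idx K :=
  (SL2Hom.phi (goodR hp hr) K).comp (Matrix.SpecialLinearGroup.map (FF φ).subtype)

theorem psi_eq {r : ℕ} (hr : r < D.nroots) (N : SL2 ↥(FF φ)) : psi hp φ r hr N =
    ((phiV hp K (vec D l r) (Matrix.SpecialLinearGroup.map (FF φ).subtype N) : ↥(D.group K)) : GL D.Idx K) := by
  rw [phiV_vec hp hr]
  rfl

theorem map_up (c : ↥(FF φ)) : Matrix.SpecialLinearGroup.map (FF φ).subtype (up c) = up (c : K) := by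
  apply ext2
  · show (FF φ).subtype ((up c).1 0 0) = _
    simp
  · show (FF φ).subtype ((up c).1 0 1) = _
    simp
  · show (FF φ).subtype ((up c).1 1 0) = _
    simp
  · show (FF φ).subtype ((up c).1 1 1) = _
    simp

theorem map_lo (c : ↥(FF φ)) : Matrix.SpecialLinearGroup.map (FF φ).subtype (lo c) = lo (c : K) := by
  apply ext2
  · show (FF φ).subtype ((lo c).1 0 0) = _
    simp [lo]
  · show (FF φ).subtype ((lo c).1 0 1) = _
    simp [lo]
  · show (FF φ).subtype ((lo c).1 1 0) = _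
    simp [lo]
  · show (FF φ).subtype ((lo c).1 1 1) = _
    simp [lo]

theorem psi_up {r : ℕ} (hr : r < D.nroots) (c : ↥(FF φ)) : psi hp φ r hr (up c) = xG hp.inList r (c : K) := by
  rw [psi_eq, map_up, phiV_up hp hr, coe_xc hp hr]

theorem psi_lo {r : ℕ} (hr : r < D.nroots) (c : ↥(FF φ)) :
    psi hp φ r hr (lo c) = xG hp.inList (D.neg r) (c : K) := by
  rw [psi_eq, map_lo, phiV_lo hp hr, ← vec_neg hp hr, coe_xc hp (neg_lt hp.inList hr)]

theorem map_inj : Function.Injective (Matrix.SpecialLinearGroup.map (n := Fin 2) (FF φ).subtype) := by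
  intro N N' hN
  have key : ∀ i j, ((N.1 i j : ↥(FF φ)) : K) = ((N'.1 i j : ↥(FF φ)) : K) := by
    intro i j
    have h1 := congrArg (fun g : SL2 K => g.1 i j) hN
    exact h1
  apply ext2 <;> exact Subtype.ext (key _ _)

theorem psi_inj {r : ℕ} (hr : r < D.nroots) (hodd : ∃ s < D.nroots, ((car D r s : ℤ) : ZMod 2) ≠ 0)
    (h2 : (2 : K) ≠ 0) : Function.Injective (psi hp φ r hr) := by
  intro N N' hN
  rw [psi_eq, psi_eq] at hN
  exact map_inj (phiV_inj hp hr hodd h2 (Subtype.ext hN))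

open Classical in
/-- the fixed root of a vector -/
noncomputable def ix (D : ChevalleyDatum) (J : Fin m → List (Fin l)) (lg : ℕ → Bool) (z : Fin m → ℤ) : ℕ :=
  if hz : ∃ r, r < D.nroots ∧ lg r = true ∧ V D J r = z then hz.choose else 0

include hp₀ in
theorem FT.V_inj (F : FT D l D₀ m J e ρ ε lg lg₀ κ) {r s : ℕ} (hr : r < D.nroots) (hs : s < D.nroots)
    (hV : V D J s = V D J r) : κ s = κ r := by
  apply vec_inj hp₀ (F.kap s hs).1 (F.kap r hr).1
  funext i
  rw [(F.kap s hs).2, (F.kap r hr).2, hV]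

include hp₀ in
theorem FT.ix_V (F : FT D l D₀ m J e ρ ε lg lg₀ κ) {r : ℕ} (hr : r < D.nroots) (hl : lg r = true) :
    ix D J lg (V D J r) = r := by
  have hz : ∃ s, s < D.nroots ∧ lg s = true ∧ V D J s = V D J r := ⟨r, hr, hl, rfl⟩
  unfold ix
  rw [dif_pos hz]
  exact F.one r hr hl _ hz.choose_spec.1 (F.V_inj hp₀ hr hz.choose_spec.1 hz.choose_spec.2.2)

open Classical in
/-- the root elements of the long relative roots -/
noncomputable def ee (hp : IsType D l M') (J : Fin m → List (Fin l)) (lg : ℕ → Bool) (φ : K →+* K)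
    (G : Subgroup (GL D.Idx K)) (z : Fin m → ℤ) (a : ↥(FF φ)) : ↥G :=
  if hm : xG hp.inList (ix D J lg z) (a : K) ∈ G then ⟨_, hm⟩ else 1

open Classical in
/-- the homomorphisms of the long relative roots -/
noncomputable def pp (hp : IsType D l M') (J : Fin m → List (Fin l)) (lg : ℕ → Bool) (φ : K →+* K)
    (G : Subgroup (GL D.Idx K)) (z : Fin m → ℤ) : SL2 ↥(FF φ) →* ↥G :=
  if hr : ix D J lg z < D.nroots then
    (if hm : ∀ N, psi hp φ (ix D J lg z) hr N ∈ G then (psi hp φ (ix D J lg z) hr).codRestrict G hm else 1) else 1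

section Main

variable (F : FT D l D₀ m J e ρ ε lg lg₀ κ) (FD : FoldData D M A J L) (FG : FoldGrp hp K J L σ ρ ρ' f G)
  (hsig : ∀ r < D.nroots, ∀ t : K, σ (xG hp.inList r t) = xG hp.inList (ρ r) (((ε r : ℤ) : K) * φ t))

include F hsig in
theorem x_mem_R {r : ℕ} (hr : r < D.nroots) (hl : lg r = true) {a : K} (ha : φ a = a) :
    xG hp.inList r a ∈ R D hp K J σ (V D J r) := by
  refine ⟨mem_rspan (xG (F := K) hp.inList) (S := {k | k < D.nroots ∧ V D J k = V D J r}) ⟨hr, rfl⟩ a, ?_⟩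
  show σ (xG hp.inList r a) = xG hp.inList r a
  obtain ⟨h1, h2⟩ := F.fx r hr hl
  rw [hsig r hr, h1, h2, Int.cast_one, one_mul, ha]

include hp FD in
theorem root_V {r : ℕ} (hr : r < D.nroots) : IsRoot cs h (V D J r) :=
  (FD.isRoot_iff (cs := cs) (h := h) hp.checked (fun i _ hr => wp_lt hp (J i) hr) _).2 ⟨r, hr, rfl⟩

include F hsig cs h FD FG in
theorem x_mem_G [Finite K] {r : ℕ} (hr : r < D.nroots) (hl : lg r = true) {a : K} (ha : φ a = a) :
    xG hp.inList r a ∈ G := by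
  obtain ⟨p, hchar⟩ := CharP.exists K
  have : Fact p.Prime := ⟨CharP.char_is_prime K p⟩
  exact R_le cs h FD FG p (root_V hp cs h FD hr) (x_mem_R hp F hsig hr hl ha)

include F hsig cs h FD FG in
theorem psi_mem [Finite K] {r : ℕ} (hr : r < D.nroots) (hl : lg r = true) (N : SL2 ↥(FF φ)) :
    psi hp φ r hr N ∈ G := by
  have h1 : (⊤ : Subgroup (SL2 ↥(FF φ))) ≤ G.comap (psi hp φ r hr) := by
    rw [← closure_up_lo, Subgroup.closure_le]
    rintro _ (⟨c, rfl⟩ | ⟨c, rfl⟩)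
    · show psi hp φ r hr (up c) ∈ G
      rw [psi_up]
      exact x_mem_G hp cs h F FD FG hsig hr hl c.2
    · show psi hp φ r hr (lo c) ∈ G
      rw [psi_lo]
      exact x_mem_G hp cs h F FD FG hsig (neg_lt hp.inList hr) (F.neg r hr hl) c.2
  exact h1 (Subgroup.mem_top N)

include F hp₀ hsig cs h FD FG in
theorem coe_ee [Finite K] {r : ℕ} (hr : r < D.nroots) (hl : lg r = true) (a : ↥(FF φ)) :
    ((ee hp J lg φ G (V D J r) a : ↥G) : GL D.Idx K) = xG hp.inList r (a : K) := by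
  have e1 := F.ix_V hp₀ hr hl
  have hm : xG hp.inList (ix D J lg (V D J r)) (a : K) ∈ G := by
    rw [e1]; exact x_mem_G hp cs h F FD FG hsig hr hl a.2
  unfold ee
  rw [dif_pos hm]
  show xG hp.inList (ix D J lg (V D J r)) (a : K) = _
  rw [e1]

include F hp₀ hsig cs h FD FG in
theorem coe_pp [Finite K] {r : ℕ} (hr : r < D.nroots) (hl : lg r = true) (N : SL2 ↥(FF φ)) :
    ((pp hp J lg φ G (V D J r) N : ↥G) : GL D.Idx K) = psi hp φ r hr N := by
  have e1 := F.ix_V hp₀ hr hl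
  have key : ∀ s, s = r → ∀ hs : s < D.nroots, psi hp φ s hs N = psi hp φ r hr N := by
    rintro s rfl hs; rfl
  have hr' : ix D J lg (V D J r) < D.nroots := by rw [e1]; exact hr
  have hm : ∀ N, psi hp φ (ix D J lg (V D J r)) hr' N ∈ G := by
    intro N
    have hl' : lg (ix D J lg (V D J r)) = true := by rw [e1]; exact hl
    exact psi_mem hp cs h F FD FG hsig hr' hl' N
  unfold pp
  rw [dif_pos hr', dif_pos hm]
  exact key _ e1 hr'

/-! ### the action on the classes -/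

theorem class_fix {Γ ι : Type*} [Group Γ] {x : ι → K → Γ} {S : Set ι} {z : Γ}
    (hz : ∀ k ∈ S, ∀ t, z * x k t * z⁻¹ = x k t) {u : Γ} (hu : u ∈ rspan x S) : z * u * z⁻¹ = u := by
  have h1 : rspan x S ≤ Subgroup.centralizer {z} := by
    refine rspan_le x fun k hk t => ?_
    rw [Subgroup.mem_centralizer_singleton_iff]
    have := hz k hk t
    rw [mul_inv_eq_iff_eq_mul] at this
    exact this.symm
  have h2 := h1 hu
  rw [Subgroup.mem_centralizer_singleton_iff] at h2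
  rw [← h2, mul_inv_cancel_right]

theorem class_comm {Γ ι : Type*} [Group Γ] {x : ι → K → Γ} {S : Set ι}
    (hc : ∀ k ∈ S, ∀ k' ∈ S, ∀ t t', x k t * x k' t' = x k' t' * x k t) {u v : Γ} (hu : u ∈ rspan x S)
    (hv : v ∈ rspan x S) : u * v = v * u := by
  have h1 : ∀ k ∈ S, ∀ t, ∀ v ∈ rspan x S, x k t * v = v * x k t := by
    intro k hk t v hv
    have h2 : rspan x S ≤ Subgroup.centralizer {x k t} := by
      refine rspan_le x fun k' hk' t' => ?_
      rw [Subgroup.mem_centralizer_singleton_iff]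
      exact hc k' hk' k hk t' t
    have h3 := h2 hv
    rw [Subgroup.mem_centralizer_singleton_iff] at h3
    exact h3.symm
  have h2 : rspan x S ≤ Subgroup.centralizer {v} := by
    refine rspan_le x fun k hk t => ?_
    rw [Subgroup.mem_centralizer_singleton_iff]
    exact h1 k hk t v hv
  have h3 := h2 hu
  rwa [Subgroup.mem_centralizer_singleton_iff] at h3

theorem class_inv {Γ ι : Type*} [Group Γ] {x : ι → K → Γ} {S : Set ι} {z : Γ}
    (hc : ∀ k ∈ S, ∀ k' ∈ S, ∀ t t', x k t * x k' t' = x k' t' * x k t)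
    (hz : ∀ k ∈ S, ∀ t, z * x k t * z⁻¹ = (x k t)⁻¹) {u : Γ} (hu : u ∈ rspan x S) : z * u * z⁻¹ = u⁻¹ := by
  have hu' : u ∈ Subgroup.closure {g | ∃ r ∈ S, ∃ t, g = x r t} := hu
  induction hu' using Subgroup.closure_induction with
  | mem y hy =>
    obtain ⟨k, hk, t, rfl⟩ := hy
    exact hz k hk t
  | one => rw [mul_one, mul_inv_cancel, inv_one]
  | mul a b ha hb iha ihb =>
    have h1 : z * (a * b) * z⁻¹ = (z * a * z⁻¹) * (z * b * z⁻¹) := by group
    rw [h1, iha ha, ihb hb, ← mul_inv_rev, class_comm hc hb ha]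
  | inv a ha iha =>
    have h1 : z * a⁻¹ * z⁻¹ = (z * a * z⁻¹)⁻¹ := by group
    rw [h1, iha ha]

include F hp hp₀ in
theorem cls_comm {y : Fin m → ℤ} : ∀ k ∈ {k | k < D.nroots ∧ V D J k = y}, ∀ k' ∈ {k | k < D.nroots ∧ V D J k = y},
    ∀ t t' : K, xG hp.inList k t * xG hp.inList k' t' = xG hp.inList k' t' * xG hp.inList k t := by
  rintro k ⟨hk, hky⟩ k' ⟨hk', hky'⟩ t t'
  have h1 : κ k = κ k' := F.V_inj hp₀ hk' hk (by rw [hky, hky'])
  rcases F.cls k hk k' hk' h1 with rfl | ⟨h2, h3⟩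
  · rw [xG_add, xG_add, add_comm]
  · by_cases he : k = k'
    · subst he
      rw [xG_add, xG_add, add_comm]
    · exact (commute_of_nil hp hk hk' (Ne.symm he) h2 h3 t t').eq

/-! ### the involutions -/

include FG in
theorem G_le_group [Finite K] : G ≤ D.group K := by
  refine FG.gen.trans (iSup_le fun i => sup_le ?_ ?_) <;>
  · refine inf_le_left.trans (rspan_le _ fun k _ t => xG_mem_group hp.inList k t)

/-- the parity of the Cartan integers, through `D₀` -/
noncomputable def zeta (hp₀ : IsType D₀ m M₀) {W : Type*} [Group W] (cs₀ : CoxeterSystem M₀ W) (e : Fin m ≃ Fin m)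
    (x y : Fin m → ℤ) : ZMod 2 := zet cs₀ hp₀ (x ∘ e) (y ∘ e)

include F in
theorem zeta_V (cs₀ : CoxeterSystem M₀ W) {r s : ℕ} (hr : r < D.nroots) (hl : lg r = true) (hs : s < D.nroots) :
    zeta hp₀ cs₀ e (V D J r) (V D J s) = ((car D r s : ℤ) : ZMod 2) := by
  have e1 : V D J r ∘ e = vec D₀ m (κ r) := funext fun i => ((F.kap r hr).2 i).symm
  have e2 : V D J s ∘ e = vec D₀ m (κ s) := funext fun i => ((F.kap s hs).2 i).symm
  unfold zeta
  rw [e1, e2, zet_vec hp₀ cs₀ (F.kap r hr).1 (F.kap s hs).1, F.crt r hr hl s hs]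

include F hp hp₀ in
theorem act_class {g : GL D.Idx K} {δ : ZMod 2} {y : Fin m → ℤ}
    (hg : ∀ k < D.nroots, V D J k = y → ∀ t : K, g * xG hp.inList k t * g⁻¹ = if δ = 0 then xG hp.inList k t
      else (xG hp.inList k t)⁻¹) {u : GL D.Idx K} (hu : u ∈ R D hp K J σ y) :
    g * u * g⁻¹ = if δ = 0 then u else u⁻¹ := by
  have hu1 : u ∈ rspan (xG (F := K) hp.inList) {k | k < D.nroots ∧ V D J k = y} := hu.1
  by_cases hδ : δ = 0
  · rw [if_pos hδ]
    refine class_fix (fun k hk t => ?_) hu1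
    rw [hg k hk.1 hk.2 t, if_pos hδ]
  · rw [if_neg hδ]
    refine class_inv (cls_comm hp hp₀ F) (fun k hk t => ?_) hu1
    rw [hg k hk.1 hk.2 t, if_neg hδ]

include F hp₀ hsig cs h FD FG in
theorem zz_ee [Finite K] {r : ℕ} (hr : r < D.nroots) (hl : lg r = true) :
    ((zz (ee hp J lg φ G) (V D J r) : ↥G) : GL D.Idx K) =
      ((phiV hp K (vec D l r) neg1 : ↥(D.group K)) : GL D.Idx K) := by
  have hn := neg_lt hp.inList hr
  have e1 : -V D J r = V D J (D.neg r) := (V_neg hp.checked hr).symm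
  rw [← zz_eq hp hr]
  unfold zz
  rw [e1, ← vec_neg hp hr]
  simp only [Subgroup.coe_mul, coe_ee hp hp₀ cs h F FD FG hsig hr hl,
    coe_ee hp hp₀ cs h F FD FG hsig hn (F.neg r hr hl), coe_xc hp hr, coe_xc hp hn]
  simp

theorem coe_inv_if {H : Subgroup (GL D.Idx K)} (u : ↥H) (δ : ZMod 2) :
    ((if δ = 0 then u else u⁻¹ : ↥H) : GL D.Idx K) = if δ = 0 then (u : GL D.Idx K) else (u : GL D.Idx K)⁻¹ := by
  by_cases h : δ = 0
  · rw [if_pos h, if_pos h]
  · rw [if_neg h, if_neg h]; rfl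

include F hp₀ hsig cs h FD FG in
theorem zact [Finite K] (cs₀ : CoxeterSystem M₀ W) {r : ℕ} (hr : r < D.nroots) (hl : lg r = true) {y : Fin m → ℤ}
    (hy : IsRoot cs h y) {u : ↥G} (hu : (u : GL D.Idx K) ∈ R D hp K J σ y) :
    zz (ee hp J lg φ G) (V D J r) * u * (zz (ee hp J lg φ G) (V D J r))⁻¹ =
      if zeta hp₀ cs₀ e (V D J r) y = 0 then u else u⁻¹ := by
  apply Subtype.ext
  rw [coe_inv_if, Subgroup.coe_mul, Subgroup.coe_mul, Subgroup.coe_inv, zz_ee hp hp₀ cs h F FD FG hsig hr hl]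
  refine act_class hp hp₀ F (fun k hk hky t => ?_) hu
  subst hky
  rw [zeta_V hp₀ F cs₀ hr hl hk]
  have h1 := neg1_conj' hp (K := K) hr hk (y := xc hp (vec D l k) t) ((mem_XX hp hk _).2 ⟨t, rfl⟩)
  have h2 := congrArg (fun g : ↥(D.group K) => (g : GL D.Idx K)) h1
  simp only [coe_inv_if] at h2
  rw [Subgroup.coe_mul, Subgroup.coe_mul, Subgroup.coe_inv, coe_xc hp hk] at h2
  exact h2

include F hp₀ hsig cs h FD FG in
theorem sgn_fold [Finite K] (h2 : (2 : K) ≠ 0) {t : ↥G} (ht : (t : GL D.Idx K) ∈ D.diagonalSubgroup K)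
    (htt : t * t = 1) : ∃ η : (Fin l → ℤ) →+ ZMod 2, ∃ ε' : (Fin m → ℤ) →+ ZMod 2,
      (∀ k < D.nroots, ∀ b : K, (t : GL D.Idx K) * xG hp.inList k b * (t : GL D.Idx K)⁻¹ =
        if η (vec D l k) = 0 then xG hp.inList k b else (xG hp.inList k b)⁻¹) ∧
      (∀ k < D.nroots, ε' (V D J k) = η (vec D l k)) := by
  classical
  have htG : (t : GL D.Idx K) ∈ D.group K := G_le_group hp FG t.2
  have htσ : σ (t : GL D.Idx K) = t := FG.G_le t.2
  have htt' : (t : GL D.Idx K) * (t : GL D.Idx K) = 1 := congrArg (Subtype.val : ↥G → GL D.Idx K) htt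
  obtain ⟨η, hη⟩ := sgn hp h2 (t := ⟨(t : GL D.Idx K), htG⟩) (Subgroup.mem_subgroupOf.2 ht) (Subtype.ext htt')
  have key : ∀ k < D.nroots, ∀ b : K, (t : GL D.Idx K) * xG hp.inList k b * (t : GL D.Idx K)⁻¹ =
        if η (vec D l k) = 0 then xG hp.inList k b else (xG hp.inList k b)⁻¹ := by
    intro k hk b
    have h1 := hη k hk (xc hp (vec D l k) b) ((mem_XX hp hk _).2 ⟨b, rfl⟩)
    have h3 := congrArg (fun g : ↥(D.group K) => (g : GL D.Idx K)) h1
    simp only [coe_inv_if] at h3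
    rw [Subgroup.coe_mul, Subgroup.coe_mul, Subgroup.coe_inv, coe_xc hp hk] at h3
    exact h3
  have key' : ∀ k < D.nroots, ∀ b : K, (t : GL D.Idx K) * xG hp.inList k b * (t : GL D.Idx K)⁻¹ =
        xG hp.inList k ((if η (vec D l k) = 0 then 1 else -1) * b) := by
    intro k hk b
    rw [key k hk b]
    by_cases h3 : η (vec D l k) = 0
    · rw [if_pos h3, if_pos h3, one_mul]
    · rw [if_neg h3, if_neg h3, neg_one_mul, xG_inv]
  have hne : (1 : K) ≠ -1 := by
    intro h1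
    apply h2
    rw [← one_add_one_eq_two]
    nth_rw 1 [h1]
    rw [neg_add_cancel]
  have hsq : ∀ x y : ZMod 2, ((if x = 0 then (1 : K) else -1) = if y = 0 then 1 else -1) → x = y := by
    intro x y hxy
    have h01 : ∀ z : ZMod 2, z = 0 ∨ z = 1 := by decide
    rcases h01 x with rfl | rfl <;> rcases h01 y with rfl | rfl
    · rfl
    · rw [if_pos rfl, if_neg one_ne_zero] at hxy
      exact absurd hxy hne
    · rw [if_pos rfl, if_neg one_ne_zero] at hxy
      exact absurd hxy.symm hne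
    · rfl
  -- the character is `ρ`-invariant
  have hρ : ∀ k < D.nroots, η (vec D l (ρ k)) = η (vec D l k) := by
    intro k hk
    obtain ⟨hρk, hε⟩ := F.rlt k hk
    have h3 := congrArg σ (key' k hk 1)
    rw [map_mul, map_mul, map_inv, htσ, hsig k hk, hsig k hk, mul_one, key' (ρ k) hρk] at h3
    have h4 := xG_injective hp.inList hρk h3
    apply hsq
    have hφ : φ (if η (vec D l k) = 0 then (1 : K) else -1) = if η (vec D l k) = 0 then (1 : K) else -1 := by
      by_cases h5 : η (vec D l k) = 0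
      · rw [if_pos h5, map_one]
      · rw [if_neg h5, map_neg, map_one]
    rw [hφ, map_one, mul_one] at h4
    rcases hε with h5 | h5
    · rw [h5, Int.cast_one, mul_one, one_mul] at h4
      exact h4
    · rw [h5, Int.cast_neg, Int.cast_one, mul_neg_one, neg_one_mul, neg_inj] at h4
      exact h4
  have hρn : ∀ n, ∀ k < D.nroots, ρ^[n] k < D.nroots ∧ η (vec D l (ρ^[n] k)) = η (vec D l k) := by
    intro n
    induction n with
    | zero => intro k hk; exact ⟨hk, rfl⟩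
    | succ n ih =>
      intro k hk
      rw [Function.iterate_succ_apply']
      obtain ⟨h3, h4⟩ := ih k hk
      exact ⟨(F.rlt _ h3).1, (hρ _ h3).trans h4⟩
  have horb : ∀ i, ∀ j ∈ J i, ∀ j' ∈ J i, η (sr j') = η (sr j) := by
    intro i j hj j' hj'
    obtain ⟨n, -, hn⟩ := F.orb i j hj j' hj'
    have h3 := (hρn n _ (simple_lt hp.inList (lt_rank hp j))).2
    rw [hn, vec_simple hp, vec_simple hp] at h3
    exact h3
  let g : Fin m → ZMod 2 := fun i => if hJ : ∃ j, j ∈ J i then η (sr hJ.choose) else 0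
  have hg : ∀ i, ∀ j ∈ J i, η (sr j) = g i := by
    intro i j hj
    have hJ : ∃ j, j ∈ J i := ⟨j, hj⟩
    show _ = if hJ : ∃ j, j ∈ J i then η (sr hJ.choose) else 0
    rw [dif_pos hJ]
    exact horb i _ hJ.choose_spec j hj
  refine ⟨η, { toFun := fun v => ∑ i, ((v i : ℤ) : ZMod 2) * g i
               map_zero' := by simp
               map_add' := fun v w => by
                rw [← Finset.sum_add_distrib]
                refine Finset.sum_congr rfl fun i _ => ?_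
                rw [Pi.add_apply, Int.cast_add, add_mul] }, key, fun k hk => ?_⟩
  show ∑ i, ((V D J k i : ℤ) : ZMod 2) * g i = η (vec D l k)
  rw [CenTab.hom_eq η, F.part]
  refine Finset.sum_congr rfl fun i _ => ?_
  rw [V_apply]
  have h3 : ∀ o : List (Fin l), (∀ j ∈ o, η (sr j) = g i) →
      (((o.map fun j : Fin l => RootVec.rt D k (j : ℕ)).sum : ℤ) : ZMod 2) * g i =
        (o.map fun j => ((vec D l k j : ℤ) : ZMod 2) * η (sr j)).sum := by
    intro o
    induction o with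
    | nil => intro _; simp
    | cons j o ih =>
      intro ho
      rw [List.map_cons, List.sum_cons, List.map_cons, List.sum_cons, Int.cast_add, add_mul,
        ih (fun j' hj' => ho j' (List.mem_cons_of_mem _ hj')), ho j List.mem_cons_self]
      rfl
  exact h3 (J i) (fun j hj => hg i j hj)

/-! ### the long root data -/

include hp F hsig in
/-- the reflections act on the fixed root elements by fixed scalars -/
theorem nn_fix {r r' : ℕ} (hr : r < D.nroots) (hl : lg r = true) (hr' : r' < D.nroots) (hl' : lg r' = true)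
    {g : GL D.Idx K} (hg : σ g = g) (hc : ∃ c : K, ∀ b : K, g * xG hp.inList r b * g⁻¹ = xG hp.inList r' (c * b)) :
    ∃ c : ↥(FF φ), ∀ b : ↥(FF φ), g * xG hp.inList r (b : K) * g⁻¹ = xG hp.inList r' ((c * b : ↥(FF φ)) : K) := by
  obtain ⟨c, hc⟩ := hc
  have h1 := congrArg σ (hc 1)
  obtain ⟨h2, h3⟩ := F.fx r hr hl
  obtain ⟨h4, h5⟩ := F.fx r' hr' hl'
  rw [map_mul, map_mul, map_inv, hg, hsig r hr, hsig r' hr', h2, h3, h4, h5, Int.cast_one, one_mul, one_mul,
    map_one, mul_one, hc 1, mul_one] at h1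
  have h6 := xG_injective hp.inList hr' h1
  exact ⟨⟨c, h6.symm⟩, fun b => hc b⟩

include F hp₀ hsig cs h FD FG in
theorem ee_conj [Finite K] {r r' : ℕ} (hr : r < D.nroots) (hl : lg r = true) (hr' : r' < D.nroots) (hl' : lg r' = true)
    {g : ↥G} (hc : ∃ c : K, ∀ b : K, (g : GL D.Idx K) * xG hp.inList r b * (g : GL D.Idx K)⁻¹ =
      xG hp.inList r' (c * b)) :
    ∃ c : ↥(FF φ), ∀ b : ↥(FF φ), g * ee hp J lg φ G (V D J r) b * g⁻¹ = ee hp J lg φ G (V D J r') (c * b) := by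
  obtain ⟨c, hc⟩ := nn_fix hp F hsig hr hl hr' hl' (FG.G_le g.2) hc
  refine ⟨c, fun b => Subtype.ext ?_⟩
  rw [Subgroup.coe_mul, Subgroup.coe_mul, Subgroup.coe_inv, coe_ee hp hp₀ cs h F FD FG hsig hr hl,
    coe_ee hp hp₀ cs h F FD FG hsig hr' hl']
  exact hc b

/-- the long relative roots -/
def LRf (D₀ : ChevalleyDatum) (e : Fin m ≃ Fin m) (lg₀ : ℕ → Bool) : Set (Fin m → ℤ) :=
  {x | x ∘ e ∈ LR D₀ m lg₀}

include F hp₀ in
theorem mem_LRf (x : Fin m → ℤ) : x ∈ LRf D₀ e lg₀ ↔ ∃ r, r < D.nroots ∧ lg r = true ∧ V D J r = x := by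
  constructor
  · rintro ⟨k, hk, hlk, hx⟩
    obtain ⟨r, hr, hlr, rfl⟩ := F.lg1 k hk hlk
    refine ⟨r, hr, hlr, ?_⟩
    funext i
    have h1 := (F.kap r hr).2 (e.symm i)
    have h2 := congrFun hx (e.symm i)
    rw [e.apply_symm_apply] at h1
    rw [Function.comp_apply, e.apply_symm_apply] at h2
    rw [← h1, h2]
  · rintro ⟨r, hr, hlr, rfl⟩
    refine ⟨κ r, (F.kap r hr).1, F.lg0 r hr hlr, ?_⟩
    funext i
    exact (F.kap r hr).2 i

include F hp₀ hsig h FD FG in
/-- **The long root data of the twisted group.** -/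
theorem long_fold [Finite K] (cs₀ : CoxeterSystem M₀ W) (h2 : (2 : K) ≠ 0) :
    Long cs h ((D.diagonalSubgroup K ⊓ G).subgroupOf G) (fun i => (⟨nI hp K (J i), FG.nG i⟩ : ↥G))
      (fun z => (R D hp K J σ z).subgroupOf G) (LRf D₀ e lg₀) (ee hp J lg φ G) (pp hp J lg φ G)
      (zeta hp₀ cs₀ e) where
  root x hx := by
    obtain ⟨r, hr, -, rfl⟩ := (mem_LRf hp₀ F x).1 hx
    exact root_V hp cs h FD hr
  act w x hx := by
    obtain ⟨r, hr, hl, rfl⟩ := (mem_LRf hp₀ F x).1 hx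
    obtain ⟨ω, rfl⟩ := cs.wordProd_surjective w
    induction ω with
    | nil =>
      rw [wordProd_nil, map_one, Module.End.one_apply]
      exact hx
    | cons i ω ih =>
      obtain ⟨s, hs, hls, e1⟩ := (mem_LRf hp₀ F _).1 ih
      rw [wordProd_cons, rep_mul_apply, ← e1, rep_refl, ← FD.wp_V s hs]
      exact (mem_LRf hp₀ F _).2 ⟨_, wp_lt hp (J i) hs, F.inv i s hs hls, rfl⟩
  neg x hx := by
    obtain ⟨r, hr, hl, rfl⟩ := (mem_LRf hp₀ F x).1 hx
    exact (mem_LRf hp₀ F _).2 ⟨D.neg r, neg_lt hp.inList hr, F.neg r hr hl, V_neg hp.checked hr⟩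
  inj x hx := by
    obtain ⟨r, hr, hl, rfl⟩ := (mem_LRf hp₀ F x).1 hx
    intro N N' hN
    have h1 := congrArg (fun g : ↥G => (g : GL D.Idx K)) hN
    simp only [coe_pp hp hp₀ cs h F FD FG hsig hr hl] at h1
    exact psi_inj hp hr (F.odd' r hr hl) h2 h1
  up x hx c := by
    obtain ⟨r, hr, hl, rfl⟩ := (mem_LRf hp₀ F x).1 hx
    apply Subtype.ext
    rw [coe_pp hp hp₀ cs h F FD FG hsig hr hl, coe_ee hp hp₀ cs h F FD FG hsig hr hl, psi_up]
  lo x hx c := by
    obtain ⟨r, hr, hl, rfl⟩ := (mem_LRf hp₀ F x).1 hx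
    apply Subtype.ext
    rw [coe_pp hp hp₀ cs h F FD FG hsig hr hl, ← V_neg hp.checked hr,
      coe_ee hp hp₀ cs h F FD FG hsig (neg_lt hp.inList hr) (F.neg r hr hl), psi_lo]
  tor x hx t ht := by
    obtain ⟨r, hr, hl, rfl⟩ := (mem_LRf hp₀ F x).1 hx
    refine ee_conj hp hp₀ cs h F FD FG hsig hr hl hr hl ?_
    obtain ⟨c, -, hc⟩ := BNChev.diagonal_conj hp.inList (F := K) (h := t) (Subgroup.mem_subgroupOf.1 ht).1 hr
    exact ⟨c, hc⟩
  nn i x hx := by
    obtain ⟨r, hr, hl, rfl⟩ := (mem_LRf hp₀ F x).1 hx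
    rw [rep_refl, ← FD.wp_V r hr]
    refine ee_conj hp hp₀ cs h F FD FG hsig hr hl (wp_lt hp (J i) hr) (F.inv i r hr hl) ?_
    have key : ∀ o : List (Fin l), ∃ c : K, ∀ b : K, nI hp K o * xG hp.inList r b * (nI hp K o)⁻¹ =
        xG hp.inList (wp D o r) (c * b) := by
      intro o
      induction o with
      | nil => exact ⟨1, fun b => by rw [one_mul]; show 1 * _ * 1⁻¹ = _; rw [one_mul, inv_one, mul_one]; rfl⟩
      | cons j o ih =>
        obtain ⟨c, hc⟩ := ih
        obtain ⟨c', -, hc'⟩ := nact hp (K := K) (i := j) (wp_lt hp o hr)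
        refine ⟨c' * c, fun b => ?_⟩
        have h3 := congrArg (fun g : ↥(D.group K) => (g : GL D.Idx K)) (hc' (c * b))
        simp only [Subgroup.coe_mul, Subgroup.coe_inv] at h3
        rw [coe_xc hp (wp_lt hp o hr), coe_xc hp (reflectRoot_lt hp.inList (lt_rank hp j) (wp_lt hp o hr))] at h3
        have h4 : nI hp K (j :: o) * xG hp.inList r b * (nI hp K (j :: o))⁻¹ =
            nn hp K j * (nI hp K o * xG hp.inList r b * (nI hp K o)⁻¹) * (nn hp K j)⁻¹ := by
          rw [nI_cons]; group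
        rw [h4, hc, mul_assoc c']
        exact h3
    exact key (J i)
  memX x hx b := by
    obtain ⟨r, hr, hl, rfl⟩ := (mem_LRf hp₀ F x).1 hx
    rw [Subgroup.mem_subgroupOf, coe_ee hp hp₀ cs h F FD FG hsig hr hl]
    exact x_mem_R hp F hsig hr hl b.2
  zT x hx := by
    obtain ⟨r, hr, hl, rfl⟩ := (mem_LRf hp₀ F x).1 hx
    rw [Subgroup.mem_subgroupOf]
    refine ⟨?_, (zz (ee hp J lg φ G) (V D J r)).2⟩
    rw [zz_ee hp hp₀ cs h F FD FG hsig hr hl]
    exact Subgroup.mem_subgroupOf.1 (neg1_mem hp hr)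
  zact x hx y hy u hu := by
    obtain ⟨r, hr, hl, rfl⟩ := (mem_LRf hp₀ F x).1 hx
    exact zact hp hp₀ cs h F FD FG hsig cs₀ hr hl hy (Subgroup.mem_subgroupOf.1 hu)
  sgn c hc hcc := by
    obtain ⟨η, ε', h3, h4⟩ := sgn_fold hp hp₀ cs h F FD FG hsig h2 (Subgroup.mem_subgroupOf.1 hc).1 hcc
    refine ⟨ε', fun y hy u hu => ?_⟩
    apply Subtype.ext
    rw [coe_inv_if, Subgroup.coe_mul, Subgroup.coe_mul, Subgroup.coe_inv]
    refine act_class hp hp₀ F (fun k hk hky t => ?_) (Subgroup.mem_subgroupOf.1 hu)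
    subst hky
    rw [h4 k hk]
    exact h3 k hk t
  cen c hc hcc hfix := by
    obtain ⟨η, ε', h3, h4⟩ := sgn_fold hp hp₀ cs h F FD FG hsig h2 (Subgroup.mem_subgroupOf.1 hc).1 hcc
    obtain ⟨p, hchar⟩ := CharP.exists K
    have hpp : Fact p.Prime := ⟨CharP.char_is_prime K p⟩
    have hp2 : p ≠ 2 := by
      rintro rfl
      exact h2 (by exact_mod_cast CharP.cast_eq_zero K 2)
    have hW : Finite W := RGDFold.finite_W (hp := hp) cs h FD
    have R := RGDFold.rgd cs h FD FG p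
    -- the character is trivial
    have hη : ∀ k < D.nroots, η (vec D l k) = 0 := by
      intro k hk
      by_contra hne
      have hy := root_V hp cs h FD hk
      obtain ⟨u, hu, hu1⟩ := exists_X R hy
      apply hu1
      apply odd_inv R hp2 hy hu
      have h5 := hfix _ hy u hu
      have h6 : c * u * c⁻¹ = u⁻¹ := by
        apply Subtype.ext
        rw [Subgroup.coe_mul, Subgroup.coe_mul, Subgroup.coe_inv, Subgroup.coe_inv]
        have h7 := act_class hp hp₀ F (g := (c : GL D.Idx K)) (δ := η (vec D l k)) (y := V D J k) (σ := σ)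
          (fun k' hk' hky t => by
            rw [h3 k' hk' t, ← h4 k' hk', hky, h4 k hk]) (Subgroup.mem_subgroupOf.1 hu)
        rw [if_neg hne] at h7
        exact h7
      rw [h5] at h6
      exact h6
    have hcG : (c : GL D.Idx K) ∈ D.group K := G_le_group hp FG c.2
    have hcen : (⟨(c : GL D.Idx K), hcG⟩ : ↥(D.group K)) ∈ Subgroup.center ↥(D.group K) := by
      rw [Subgroup.mem_center_iff]
      rintro ⟨g, hg⟩
      have h5 : D.group K ≤ Subgroup.centralizer {(c : GL D.Idx K)} := by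
        rw [group_le_iff hp.inList]
        intro k hk b
        rw [Subgroup.mem_centralizer_singleton_iff]
        have h6 := h3 k hk b
        rw [if_pos (hη k hk), mul_inv_eq_iff_eq_mul] at h6
        exact h6.symm
      have h6 := h5 hg
      rw [Subgroup.mem_centralizer_singleton_iff] at h6
      exact Subtype.ext h6
    rw [S1077.center_group_eq_bot (K := K) hp.inList, Subgroup.mem_bot] at hcen
    exact Subtype.ext (congrArg (Subtype.val : ↥(D.group K) → GL D.Idx K) hcen)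
  tcomm s hs t ht := by
    have h3 := tt_comm hp (K := K) (s := ⟨(s : GL D.Idx K), G_le_group hp FG s.2⟩)
      (t := ⟨(t : GL D.Idx K), G_le_group hp FG t.2⟩)
      (Subgroup.mem_subgroupOf.2 (Subgroup.mem_subgroupOf.1 hs).1)
      (Subgroup.mem_subgroupOf.2 (Subgroup.mem_subgroupOf.1 ht).1)
    exact Subtype.ext (congrArg (Subtype.val : ↥(D.group K) → GL D.Idx K) h3)

include F hp₀ hsig h FD FG in
/-- **(ZS) for a twisted group.** -/
theorem exists_E_fold [Finite K] (cs₀ : CoxeterSystem M₀ W) (h2 : (2 : K) ≠ 0)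
    (hcs : ∀ i, cs.simple (e i) = cs₀.simple i) (hA : ∀ i j, cartanOf D₀ m i j = A (e i) (e j))
    {ι : Type*} [Nonempty ι] {w₀ : W} {β : ι → ℕ}
    (hβ : ∀ j, β j < D₀.nroots) (C : Comb cs₀ hp₀.isCartan (LR D₀ m lg₀) (zet cs₀ hp₀) w₀ (fun j => vec D₀ m (β j)))
    (hc : ∀ j k, j ≠ k → ∀ r < D.nroots, ∀ s < D.nroots, lg r = true → lg s = true → κ r = β j → κ s = β k →
      r ≠ s ∧ r ≠ D.neg s ∧ D.commTerms s r = [] ∧ D.commTerms s (D.neg r) = [] ∧ D.commTerms (D.neg s) r = [] ∧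
        D.commTerms (D.neg s) (D.neg r) = []) :
    ∃ E : Subgroup ↥G, IsPGroup 2 E ∧ CenExp.OneInv E := by
  obtain ⟨p, hchar⟩ := CharP.exists K
  have hpp : Fact p.Prime := ⟨CharP.char_is_prime K p⟩
  have hp2 : p ≠ 2 := by
    rintro rfl
    exact h2 (by exact_mod_cast CharP.cast_eq_zero K 2)
  have hW : Finite W := RGDFold.finite_W (hp := hp) cs h FD
  have R := RGDFold.rgd cs h FD FG p
  have L' := long_fold hp hp₀ cs h F FD FG hsig cs₀ h2
  have C' := C.reindex (h' := h) hA hcs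
  have hG : Bruhat.GG cs h ((D.diagonalSubgroup K ⊓ G).subgroupOf G) (fun z => (RGDFold.R D hp K J σ z).subgroupOf G) = ⊤ := by
    rw [eq_top_iff, ← RGDFold.G1_eq_top cs h FD FG p]
    exact le_sup_right
  have h2' : (2 : ↥(FF φ)) ≠ 0 := by
    intro h0
    apply h2
    have := congrArg (Subtype.val : ↥(FF φ) → K) h0
    exact this
  refine exists_E R L' C' hp2 h2' hG ?_
  intro j k hjk N N'
  obtain ⟨r, hr, hlr, hrj⟩ := (mem_LRf (e := e) hp₀ F _).1 (C'.mem j)
  obtain ⟨s, hs, hls, hsk⟩ := (mem_LRf (e := e) hp₀ F _).1 (C'.mem k)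
  have e1 : ∀ (t : ℕ) (ht : t < D.nroots) (i : ι), V D J t = vec D₀ m (β i) ∘ e.symm → κ t = β i := by
    intro t ht i hti
    apply vec_inj hp₀ (F.kap t ht).1 (hβ i)
    funext x
    rw [(F.kap t ht).2, hti, Function.comp_apply, e.symm_apply_apply]
  obtain ⟨h3, h4, h5, h6, h7, h8⟩ := hc j k hjk r hr s hs hlr hls (e1 r hr j hrj) (e1 s hs k hsk)
  apply Subtype.ext
  rw [← hrj, ← hsk, Subgroup.coe_mul, Subgroup.coe_mul, coe_pp hp hp₀ cs h F FD FG hsig hr hlr,
    coe_pp hp hp₀ cs h F FD FG hsig hs hls, psi_eq, psi_eq]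
  have h9 := phi_comm hp (K := K) hs hr h3 h4 h5 h6 h7 h8 (Matrix.SpecialLinearGroup.map (FF φ).subtype N)
    (Matrix.SpecialLinearGroup.map (FF φ).subtype N')
  exact congrArg (Subtype.val : ↥(D.group K) → GL D.Idx K) h9

end Main

end

end Cfsg.Agent.Omega.Lie.CenFold
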