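import Cfsg.Agent.Omega.Lie.CenTwo

/-!
# The K-fact (ZS) from the centraliser of a 2-subgroup (helper676)

* `NoCenMove.of_cent`: `E` is a 2-subgroup of `X` and no automorphism of odd order moves an involution of `C(E)` to a
  different involution of `C(E)`;
* `NoCenMove.of_inv`: the same with an invariant `inv : X → α` which separates the involutions of `C(E)`.
-/

set_option autoImplicit false

namespace Cfsg.Agent.Omega.Lie.CenInv

open Subgroup Cfsg.Agent.Omega.Lie.CenTwo

variable {X : Type*} [Group X]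

/-- **Criterion.** -/
theorem of_cent [Finite X] {E : Subgroup X} (hE : IsPGroup 2 E)
    (h : ∀ u v : X, (∀ x ∈ E, x * u = u * x) → (∀ x ∈ E, x * v = v * x) → u * u = 1 → v * v = 1 →
      u ≠ 1 → v ≠ 1 → ∀ α : MulAut X, Odd (orderOf α) → α u = v → u = v) : NoCenMove X := by
  obtain ⟨S, hS⟩ := hE.exists_le_sylow
  refine NoCenMove.of_classes (S := S) fun u _ hu huu v _ hv hvv α hα hαu => ?_
  by_cases hu1 : u = 1
  · rw [hu1, map_one] at hαu
    rw [hu1, hαu]
  · exact h u v (fun x hx => hu x (hS hx)) (fun x hx => hv x (hS hx)) huu hvv hu1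
      (fun hv1 => hu1 (α.injective (by rw [hαu, hv1, map_one]))) α hα hαu

/-- **Criterion**, with an invariant. -/
theorem of_inv [Finite X] {E : Subgroup X} (hE : IsPGroup 2 E) {A : Type*} (inv : X → A)
    (hinv : ∀ α : MulAut X, Odd (orderOf α) → ∀ u, inv (α u) = inv u)
    (h : ∀ u v : X, (∀ x ∈ E, x * u = u * x) → (∀ x ∈ E, x * v = v * x) → u * u = 1 → v * v = 1 →
      u ≠ 1 → v ≠ 1 → inv u = inv v → u = v) : NoCenMove X :=
  of_cent hE fun u v h1 h2 h3 h4 h5 h6 α hα he => h u v h1 h2 h3 h4 h5 h6 (by rw [← he, hinv α hα])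

/-- exactly one involution in `C(E)` -/
theorem of_one_involution [Finite X] {E : Subgroup X} (hE : IsPGroup 2 E) (z : X)
    (h : ∀ u : X, (∀ x ∈ E, x * u = u * x) → u * u = 1 → u ≠ 1 → u = z) : NoCenMove X :=
  of_cent hE fun u v h1 h2 h3 h4 h5 h6 _ _ _ => (h u h1 h3 h5).trans (h v h2 h4 h6).symm

end Cfsg.Agent.Omega.Lie.CenInv
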