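import Cfsg.Agent.Omega.Lie.CenTwo
import Cfsg.Agent.Co2Type.Quad

/-!
# `CenTwo` from the centraliser of a 2-subgroup (helper484)
-/

set_option autoImplicit false
set_option linter.dupNamespace false

namespace Cfsg.Agent.Omega.Lie.CenTwo

open Subgroup Cfsg.Agent.Co2Type.Quad

variable {X Y : Type*} [Group X] [Group Y]

/-- `E` is a 2-subgroup and `C(E)` contains at most one involution -/
theorem cenTwo_of_centralizer [Finite X] {E : Subgroup X} (hE : IsPGroup 2 E) {z : X}
    (h : ∀ u : X, (∀ e ∈ E, e * u = u * e) → u * u = 1 → u = 1 ∨ u = z) : CenTwo X := by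
  obtain ⟨S, hS⟩ := hE.exists_le_sylow
  exact ⟨S, z, fun u _ hc huu => h u (fun e he => hc e (hS he)) huu⟩

theorem isPGroup_of_large {Q : Subgroup X} {z : X} (h : Large Q z) : IsPGroup 2 Q := by
  intro x
  refine ⟨2, Subtype.ext ?_⟩
  show (x : X) ^ (2 ^ 2) = 1
  have e : (x : X) ^ (2 ^ 2) = (x * x : X) * (x * x) := by
    rw [show (2 : ℕ) ^ 2 = 4 by norm_num, pow_succ, pow_succ, pow_succ, pow_one]; group
  rw [e]
  rcases h.sq x x.2 with h1 | h1
  · rw [h1, one_mul]
  · rw [h1, h.z_sq]

/-- a large extraspecial subgroup -/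
theorem cenTwo_of_large [Finite X] {Q : Subgroup X} {z : X} (h : Large Q z) : CenTwo X := by
  refine cenTwo_of_centralizer (isPGroup_of_large h) (z := z) ?_
  intro u hc _
  have huz : u * z = z * u := (hc z h.z_mem).symm
  have hu : ∀ x ∈ Q, u * x = x * u := fun x hx => (hc x hx).symm
  exact h.cent u (h.self u huz hu) hu

/-- a subgroup of odd index isomorphic to a group with `CenTwo` -/
theorem cenTwo_of_odd_iso [Finite X] [Finite Y] {C : Subgroup X} (hodd : ¬ 2 ∣ C.index) (e : Y ≃* C)
    (h : CenTwo Y) : CenTwo X :=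
  cenTwo_of_subgroup hodd (h.map e)

/-- transport of the rows -/
theorem noCenMove_of_iso [Finite Y] (h : CenTwo Y) (e : Nonempty (X ≃* Y)) : NoCenMove X := by
  obtain ⟨e⟩ := e
  have : Finite X := Finite.of_equiv Y e.symm.toEquiv
  exact h.noCenMove.map e.symm

/-- from a Sylow 2-subgroup isomorphic to a model -/
theorem cenTwo_of_sylow_equiv {S : Sylow 2 X} {T : Type*} [Group T] (e : (S : Subgroup X) ≃* T) {z : T}
    (h : ∀ u : T, (∀ x : T, x * u = u * x) → u * u = 1 → u = 1 ∨ u = z) : CenTwo X := by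
  refine ⟨S, e.symm z, ?_⟩
  intro u hu hc huu
  rcases h (e ⟨u, hu⟩) (by
    intro x
    obtain ⟨y, rfl⟩ := e.surjective x
    rw [← map_mul, ← map_mul]
    exact congrArg e (Subtype.ext (hc y y.2))) (by
    rw [← map_mul, ← map_one e]
    exact congrArg e (Subtype.ext huu)) with h1 | h1
  · left
    have h2 := e.injective (h1.trans (map_one e).symm)
    exact congrArg Subtype.val h2
  · right
    rw [← h1]
    simp

end Cfsg.Agent.Omega.Lie.CenTwo
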