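import Mathlib

/-!
# A 2-group of permutations with few invariant sets (helper676; K-fact (ZS), orthogonal rows)

Points `Pt e = Σ k, (Fin (e k) → ZMod 2)`: the blocks have `2 ^ (e k)` points.  `near` : the permutations which agree
with a translation up to the fixed involution `tr (dd e)`; it has exponent 4.
`const_on_blocks` : a function invariant under the even elements of `near` with a fixed point is constant on the blocks.
-/

set_option autoImplicit false

namespace Cfsg.Agent.Omega.Lie.CenPerm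

open Equiv Equiv.Perm

section near

variable {ι : Type*}

/-- the permutations which agree with an element of `T` up to `σ` at each point -/
def near (σ : Perm ι) (T : Subgroup (Perm ι)) (hσ : ∀ x, σ (σ x) = x)
    (hT : ∀ τ ∈ T, ∀ x, τ (σ x) = σ (τ x)) : Subgroup (Perm ι) where
  carrier := {π | ∃ τ ∈ T, ∀ x, π x = τ x ∨ π x = σ (τ x)}
  mul_mem' := by
    rintro π π' ⟨τ, hτ, h⟩ ⟨τ', hτ', h'⟩
    refine ⟨τ * τ', mul_mem hτ hτ', fun x => ?_⟩
    rw [Perm.mul_apply, Perm.mul_apply]
    rcases h' x with e' | e' <;> rcases h (π' x) with e | e <;> rw [e, e']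
    · left; rfl
    · right; rfl
    · right; rw [hT τ hτ]
    · left; rw [hT τ hτ, hσ]
  one_mem' := ⟨1, one_mem _, fun x => Or.inl rfl⟩
  inv_mem' := by
    rintro π ⟨τ, hτ, h⟩
    refine ⟨τ⁻¹, inv_mem hτ, fun y => ?_⟩
    obtain ⟨x, rfl⟩ := π.surjective y
    have h1 : π⁻¹ (π x) = x := π.symm_apply_apply x
    have h2 : ∀ z, τ⁻¹ (τ z) = z := τ.symm_apply_apply
    rw [h1]
    rcases h x with e | e
    · left; rw [e, h2]
    · right
      rw [e, ← hT τ hτ, h2, hσ]

theorem mem_near {σ : Perm ι} {T : Subgroup (Perm ι)} {hσ : ∀ x, σ (σ x) = x}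
    {hT : ∀ τ ∈ T, ∀ x, τ (σ x) = σ (τ x)} {π : Perm ι} :
    π ∈ near σ T hσ hT ↔ ∃ τ ∈ T, ∀ x, π x = τ x ∨ π x = σ (τ x) := Iff.rfl

theorem near_four {σ : Perm ι} {T : Subgroup (Perm ι)} {hσ : ∀ x, σ (σ x) = x}
    {hT : ∀ τ ∈ T, ∀ x, τ (σ x) = σ (τ x)} (h2 : ∀ τ ∈ T, ∀ x, τ (τ x) = x) {π : Perm ι}
    (hπ : π ∈ near σ T hσ hT) (x : ι) : π (π (π (π x))) = x := by
  obtain ⟨τ, hτ, h⟩ := hπ
  have h1 : ∀ x, π (π x) = x ∨ π (π x) = σ x := by
    intro x
    rcases h x with e | e <;> rcases h (π x) with e' | e' <;> rw [e', e]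
    · left; exact h2 τ hτ x
    · right; rw [h2 τ hτ x]
    · right; rw [hT τ hτ, h2 τ hτ x]
    · left; rw [hT τ hτ, hσ, h2 τ hτ x]
  rcases h1 x with e | e
  · rw [e, e]
  · by_cases hx : σ x = x
    · rw [e, hx, e, hx]
    · rcases h1 (σ x) with e' | e'
      · exfalso
        apply hx
        have := π.injective (π.injective (e'.trans e.symm))
        exact this
      · rw [e, e', hσ]

end near

section blocks

variable {κ : Type} (e : κ → ℕ)

/-- the points -/
abbrev Pt := Σ k, (Fin (e k) → ZMod 2)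

variable {e}

/-- translations -/
def tr (t : ∀ k, Fin (e k) → ZMod 2) : Perm (Pt e) := Equiv.sigmaCongrRight fun k => Equiv.addRight (t k)

theorem tr_apply (t : ∀ k, Fin (e k) → ZMod 2) (k : κ) (v : Fin (e k) → ZMod 2) :
    tr t ⟨k, v⟩ = ⟨k, v + t k⟩ := rfl

theorem add_self' {k : κ} (v : Fin (e k) → ZMod 2) : v + v = 0 := by
  funext j
  exact CharTwo.add_self_eq_zero _

theorem tr_tr (t : ∀ k, Fin (e k) → ZMod 2) (x : Pt e) : tr t (tr t x) = x := by
  obtain ⟨k, v⟩ := x
  rw [tr_apply, tr_apply, add_assoc, add_self', add_zero]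

theorem tr_comm (t t' : ∀ k, Fin (e k) → ZMod 2) (x : Pt e) : tr t (tr t' x) = tr t' (tr t x) := by
  obtain ⟨k, v⟩ := x
  rw [tr_apply, tr_apply, tr_apply, tr_apply, add_right_comm]

variable (e)

/-- the group of translations -/
def TT : Subgroup (Perm (Pt e)) where
  carrier := Set.range tr
  mul_mem' := by
    rintro _ _ ⟨t, rfl⟩ ⟨t', rfl⟩
    refine ⟨t + t', ?_⟩
    ext x : 1
    obtain ⟨k, v⟩ := x
    rw [Perm.mul_apply, tr_apply, tr_apply, tr_apply, Pi.add_apply, add_right_comm, add_assoc]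
  one_mem' := ⟨0, by
    ext x : 1
    obtain ⟨k, v⟩ := x
    rw [tr_apply, Pi.zero_apply, add_zero]
    rfl⟩
  inv_mem' := by
    rintro _ ⟨t, rfl⟩
    refine ⟨t, ?_⟩
    rw [eq_inv_iff_mul_eq_one]
    ext x : 1
    exact tr_tr t x

/-- the fixed translation -/
def dd (k : κ) : Fin (e k) → ZMod 2 := fun j => if (j : ℕ) = 0 then 1 else 0

/-- the 2-group of permutations -/
def PP : Subgroup (Perm (Pt e)) := near (tr (dd e)) (TT e) (tr_tr _) (by
  rintro _ ⟨t, rfl⟩ x
  exact tr_comm _ _ _)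

variable {e}

theorem PP_four {π : Perm (Pt e)} (hπ : π ∈ PP e) (x : Pt e) : π (π (π (π x))) = x :=
  near_four (by
    rintro _ ⟨t, rfl⟩ x
    exact tr_tr t x) hπ x

theorem tr_mem_PP (t : ∀ k, Fin (e k) → ZMod 2) : tr t ∈ PP e := ⟨tr t, ⟨t, rfl⟩, fun _ => Or.inl rfl⟩

variable [DecidableEq κ]

theorem swap_mem_PP (x : Pt e) : swap x (tr (dd e) x) ∈ PP e := by
  refine ⟨1, one_mem _, fun y => ?_⟩
  rw [Perm.one_apply]
  by_cases h1 : y = x
  · right; rw [h1, swap_apply_left]
  · by_cases h2 : y = tr (dd e) x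
    · right; rw [h2, swap_apply_right, tr_tr]
    · left; rw [swap_apply_of_ne_of_ne h1 h2]

theorem sign_tr_single [Fintype κ] (k : κ) (hk : 2 ≤ e k) (t : Fin (e k) → ZMod 2) :
    Perm.sign (tr (e := e) (Pi.single k t)) = 1 := by
  by_cases ht : t = 0
  · have : tr (e := e) (Pi.single k t) = 1 := by
      rw [ht, Pi.single_zero]
      ext x : 1
      obtain ⟨k, v⟩ := x
      rw [tr_apply, Pi.zero_apply, add_zero]
      rfl
    rw [this, map_one]
  rw [Equiv.Perm.sign_of_pow_two_eq_one (by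
    ext x : 1
    rw [pow_two]
    exact tr_tr _ x)]
  have h1 : Fintype.card (Pt e) - Fintype.card (Function.fixedPoints (tr (e := e) (Pi.single k t))) =
      2 ^ e k := by
    rw [← Fintype.card_compl_set]
    have h2 : Fintype.card (Fin (e k) → ZMod 2) = 2 ^ e k := by
      rw [Fintype.card_fun, ZMod.card, Fintype.card_fin]
    rw [← h2]
    refine Fintype.card_congr
      { toFun := fun x => if h : x.1.1 = k then h ▸ x.1.2 else 0
        invFun := fun v => ⟨⟨k, v⟩, ?_⟩
        left_inv := ?_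
        right_inv := ?_ }
    · rw [Set.mem_compl_iff, Function.mem_fixedPoints, Function.IsFixedPt, tr_apply, Pi.single_eq_same]
      intro h
      have h3 := eq_of_heq (Sigma.mk.inj_iff.1 h).2
      exact ht (by simpa using h3)
    · rintro ⟨⟨l, v⟩, hx⟩
      have hl : l = k := by
        by_contra hl
        apply hx
        rw [Function.mem_fixedPoints, Function.IsFixedPt, tr_apply, Pi.single_eq_of_ne hl, add_zero]
      subst hl
      simp
    · intro v
      simp
  rw [h1]
  have h3 : 2 ^ e k / 2 = 2 * 2 ^ (e k - 2) := by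
    obtain ⟨m, hm⟩ := Nat.exists_eq_add_of_le hk
    rw [hm, pow_add]
    simp
    omega
  rw [h3, pow_mul]
  simp

/-- a function which is invariant under the even elements of `PP e` with a fixed point (`b`: all even elements) is
constant on the blocks -/
theorem const_on_blocks [Fintype κ] {M : Type*} {s : Pt e → M} {b : Prop}
    (hs : ∀ π ∈ PP e, Perm.sign π = 1 → (b ∨ ∃ x, π x = x) → ∀ x, s (π x) = s x)
    (hbig : ∃ l, 2 ≤ e l) (hfix : b ∨ ∀ k : κ, ∃ l : κ, l ≠ k) (k : κ) (v w : Fin (e k) → ZMod 2) :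
    s ⟨k, v⟩ = s ⟨k, w⟩ := by
  by_cases hvw : v = w
  · rw [hvw]
  rcases Nat.lt_or_ge (e k) 2 with h2 | h2
  · have h1 : e k = 1 := by
      rcases Nat.eq_zero_or_pos (e k) with h0 | h0
      · exfalso
        apply hvw
        have : IsEmpty (Fin (e k)) := by rw [h0]; infer_instance
        exact Subsingleton.elim _ _
      · omega
    obtain ⟨l, hl⟩ := hbig
    have hlk : l ≠ k := by rintro rfl; omega
    have hw : tr (dd e) ⟨k, v⟩ = (⟨k, w⟩ : Pt e) := by
      rw [tr_apply]
      congr 1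
      funext j
      have hj : (j : ℕ) = 0 := by have := j.2; omega
      have h3 : v j ≠ w j := by
        intro h
        apply hvw
        funext i
        have : i = j := by apply Fin.ext; have := i.2; omega
        rw [this, h]
      rw [Pi.add_apply, dd, if_pos hj]
      generalize v j = a at h3 ⊢
      generalize w j = c at h3 ⊢
      revert h3
      revert a c
      decide
    set x₀ : Pt e := ⟨l, 0⟩ with hx₀
    set x₁ : Pt e := tr (dd e) x₀ with hx₁
    have hdd : dd e l ≠ 0 := by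
      intro h
      have := congrFun h ⟨0, by omega⟩
      simp [dd] at this
    have h01 : x₀ ≠ x₁ := by
      intro h
      rw [hx₁, hx₀, tr_apply, zero_add] at h
      exact hdd (eq_of_heq (Sigma.mk.inj_iff.1 h).2).symm
    have hkl : ∀ (v : Fin (e k) → ZMod 2) (u : Fin (e l) → ZMod 2), (⟨k, v⟩ : Pt e) ≠ ⟨l, u⟩ := by
      intro v u h
      exact hlk (congrArg Sigma.fst h).symm
    have hm : swap (⟨k, v⟩ : Pt e) ⟨k, w⟩ * swap x₀ x₁ ∈ PP e := by
      rw [← hw]
      exact mul_mem (swap_mem_PP _) (swap_mem_PP _)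
    have hsg : Perm.sign (swap (⟨k, v⟩ : Pt e) ⟨k, w⟩ * swap x₀ x₁) = 1 := by
      rw [map_mul, Perm.sign_swap, Perm.sign_swap h01]
      · rfl
      · intro h
        exact hvw (eq_of_heq (Sigma.mk.inj_iff.1 h).2)
    have h4 := hs _ hm hsg (Or.inr ⟨⟨l, fun j => if (j : ℕ) = 1 then 1 else 0⟩, by
      have ha : (⟨l, fun j => if (j : ℕ) = 1 then 1 else 0⟩ : Pt e) ≠ x₀ := by
        intro h
        have := congrFun (eq_of_heq (Sigma.mk.inj_iff.1 h).2) ⟨1, by omega⟩
        simp at this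
      have hb : (⟨l, fun j => if (j : ℕ) = 1 then 1 else 0⟩ : Pt e) ≠ x₁ := by
        intro h
        rw [hx₁, hx₀, tr_apply, zero_add] at h
        have := congrFun (eq_of_heq (Sigma.mk.inj_iff.1 h).2) ⟨1, by omega⟩
        simp [dd] at this
      rw [Perm.mul_apply, swap_apply_of_ne_of_ne ha hb,
        swap_apply_of_ne_of_ne (hkl _ _).symm (hkl _ _).symm]⟩) ⟨k, v⟩
    rw [Perm.mul_apply, swap_apply_of_ne_of_ne (hkl _ _) (by
      rw [hx₁, hx₀, tr_apply]; exact hkl _ _), swap_apply_left] at h4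
    exact h4.symm
  · have h4 := hs (tr (Pi.single k (v + w))) (tr_mem_PP _) (sign_tr_single k h2 _) (by
      rcases hfix with h | h
      · exact Or.inl h
      · obtain ⟨l, hl⟩ := h k
        refine Or.inr ⟨⟨l, 0⟩, ?_⟩
        rw [tr_apply, Pi.single_eq_of_ne hl, add_zero]) ⟨k, v⟩
    rw [tr_apply, Pi.single_eq_same, ← add_assoc, add_self', zero_add] at h4
    exact h4.symm

/-- the number of points in a union of blocks -/
theorem card_union [Fintype κ] (P : Finset κ) :
    (Finset.univ.filter fun x : Pt e => x.1 ∈ P).card = ∑ k ∈ P, 2 ^ e k := by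
  have h1 : (Finset.univ.filter fun x : Pt e => x.1 ∈ P) = P.sigma fun k => Finset.univ := by
    ext x
    simp
  rw [h1, Finset.card_sigma]
  refine Finset.sum_congr rfl fun k _ => ?_
  rw [Finset.card_univ, Fintype.card_fun, ZMod.card, Fintype.card_fin]

theorem card_Pt [Fintype κ] : Fintype.card (Pt e) = ∑ k, 2 ^ e k := by
  rw [← card_union (e := e) Finset.univ, ← Finset.card_univ]
  congr 1
  ext x
  simp

omit [DecidableEq κ] in
theorem eq_of_sum [Fintype κ] (he : Function.Injective e) {P P' : Finset κ}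
    (h : ∑ k ∈ P, 2 ^ e k = ∑ k ∈ P', 2 ^ e k) : P = P' := by
  have h1 : ∀ P : Finset κ, ∑ i ∈ P.image e, 2 ^ i = ∑ k ∈ P, 2 ^ e k := fun P =>
    Finset.sum_image fun a _ b _ hab => he hab
  rw [← h1, ← h1] at h
  have h2 := Finset.geomSum_injective le_rfl h
  exact Finset.image_injective he h2

end blocks

end Cfsg.Agent.Omega.Lie.CenPerm
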