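import Cfsg.Agent.Omega.Lie.CenInv
import Cfsg.Agent.Omega.Lie.CenPerm
import Cfsg.Agent.AutOrth.Final
import Cfsg.Agent.ClassicalGeometry.OmegaIndex

/-!
# The K-fact (ZS) for the orthogonal groups in odd characteristic, I (helper676)

`Frame`: an orthogonal basis indexed by `ι ⊕ ν` with the value `c` on `ι` and the value `c'` on `ν`.
The monomial 2-group `mono` of `E Q`, and its centraliser modulo scalars: sign vectors.
-/

set_option autoImplicit false

namespace Cfsg.Agent.Omega.Lie.CenOrthA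

open QuadraticMap Cfsg.Agent.LieClassical.OrthCore Cfsg.Agent.LieClassical.OrthTrans

variable {F V : Type*} [Field F] [AddCommGroup V] [Module F V] {Q : QuadraticForm F V}

/-- an orthogonal basis with the value `c` on `ι` and the value `c'` on `ν` -/
structure Frame (Q : QuadraticForm F V) (ι ν : Type) where
  b : Module.Basis (ι ⊕ ν) F V
  c : F
  c' : F
  hc : c ≠ 0
  hc' : c' ≠ 0
  val : ∀ i, Q (b (.inl i)) = c
  val' : ∀ u, Q (b (.inr u)) = c'
  ortho : ∀ i j, i ≠ j → polar Q (b i) (b j) = 0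

variable {ι ν : Type} (A : Frame Q ι ν)

namespace Frame

theorem ne (i : ι ⊕ ν) : Q (A.b i) ≠ 0 := by
  rcases i with i | u
  · rw [A.val]; exact A.hc
  · rw [A.val']; exact A.hc'

/-- an isometry from its values on the basis -/
theorem mem_O_of_basis (h2 : (2 : F) ≠ 0) {f : V ≃ₗ[F] V} (h1 : ∀ i, Q (f (A.b i)) = Q (A.b i))
    (h3 : ∀ i j, i ≠ j → polar Q (f (A.b i)) (f (A.b j)) = 0) : f ∈ O Q := by
  have h4 : (polarBilin Q).compl₁₂ f.toLinearMap f.toLinearMap = polarBilin Q := by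
    apply A.b.ext
    intro i
    apply A.b.ext
    intro j
    rw [LinearMap.compl₁₂_apply, polarBilin_apply_apply, polarBilin_apply_apply]
    show polar Q (f (A.b i)) (f (A.b j)) = _
    by_cases hij : i = j
    · subst hij
      rw [polar_self', polar_self', h1]
    · rw [h3 i j hij, A.ortho i j hij]
  intro v
  have h5 := LinearMap.congr_fun (LinearMap.congr_fun h4 v) v
  rw [LinearMap.compl₁₂_apply, polarBilin_apply_apply, polarBilin_apply_apply] at h5
  change polar Q (f v) (f v) = polar Q v v at h5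
  rw [polar_self', polar_self'] at h5
  exact mul_left_cancel₀ h2 h5

theorem refl_same (i : ι ⊕ ν) : refl Q (A.b i) (A.ne i) (A.b i) = -A.b i := by
  rw [refl_apply, polar_self', mul_comm (2 : F), ← mul_assoc, inv_mul_cancel₀ (A.ne i), one_mul,
    two_smul]
  abel

theorem refl_other {i j : ι ⊕ ν} (h : i ≠ j) : refl Q (A.b i) (A.ne i) (A.b j) = A.b j := by
  rw [refl_apply, A.ortho i j h, mul_zero, zero_smul, sub_zero]

/-- the sign change on two coordinates -/
noncomputable def sg (i j : ι) : V ≃ₗ[F] V :=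
  refl Q (A.b (.inl i)) (A.ne _) * refl Q (A.b (.inl j)) (A.ne _)

theorem sg_mem (hG : Good Q) (i j : ι) : A.sg i j ∈ E Q :=
  hG.refl_mul_refl_mem (A.ne _) (A.ne _) (by rw [A.val, A.val])

theorem sg_left {i j : ι} (h : i ≠ j) : A.sg i j (A.b (.inl i)) = -A.b (.inl i) := by
  show refl Q (A.b (.inl i)) (A.ne _) (refl Q (A.b (.inl j)) (A.ne _) _) = _
  rw [A.refl_other (by simpa using h.symm), A.refl_same]

theorem sg_right {i j : ι} (h : i ≠ j) : A.sg i j (A.b (.inl j)) = -A.b (.inl j) := by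
  show refl Q (A.b (.inl i)) (A.ne _) (refl Q (A.b (.inl j)) (A.ne _) _) = _
  rw [A.refl_same, map_neg, A.refl_other (by simpa using h)]

theorem sg_other {i j : ι} {k : ι ⊕ ν} (hi : k ≠ .inl i) (hj : k ≠ .inl j) :
    A.sg i j (A.b k) = A.b k := by
  show refl Q (A.b (.inl i)) (A.ne _) (refl Q (A.b (.inl j)) (A.ne _) _) = _
  rw [A.refl_other hj.symm, A.refl_other hi.symm]

/-- a permutation of the coordinates -/
noncomputable def pm (π : Equiv.Perm ι) : V ≃ₗ[F] V :=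
  A.b.equiv A.b (Equiv.sumCongr π (Equiv.refl ν))

theorem pm_inl (π : Equiv.Perm ι) (i : ι) : A.pm π (A.b (.inl i)) = A.b (.inl (π i)) := by
  rw [pm, Module.Basis.equiv_apply]; rfl

theorem pm_inr (π : Equiv.Perm ι) (u : ν) : A.pm π (A.b (.inr u)) = A.b (.inr u) := by
  rw [pm, Module.Basis.equiv_apply]; rfl

theorem pm_mul (π π' : Equiv.Perm ι) : A.pm (π * π') = A.pm π * A.pm π' := by
  apply LinearEquiv.toLinearMap_injective
  apply A.b.ext
  rintro (i | u)
  · show A.pm (π * π') _ = A.pm π (A.pm π' _)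
    rw [pm_inl, pm_inl, pm_inl]
    rfl
  · show A.pm (π * π') _ = A.pm π (A.pm π' _)
    rw [pm_inr, pm_inr, pm_inr]

theorem pm_one : A.pm 1 = 1 := by
  apply LinearEquiv.toLinearMap_injective
  apply A.b.ext
  rintro (i | u)
  · show A.pm 1 _ = _
    rw [pm_inl]; rfl
  · show A.pm 1 _ = _
    rw [pm_inr]; rfl

theorem val_sub {i j : ι} (h : i ≠ j) : Q (A.b (.inl i) - A.b (.inl j)) = 2 * A.c := by
  rw [sub_eq_add_neg, Q_add, QuadraticMap.map_neg, polar_neg_right, A.ortho _ _ (by simpa using h), A.val,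
    A.val]
  ring

theorem sub_ne (h2 : (2 : F) ≠ 0) {i j : ι} (h : i ≠ j) : Q (A.b (.inl i) - A.b (.inl j)) ≠ 0 := by
  rw [A.val_sub h]
  exact mul_ne_zero h2 A.hc

theorem polar_self_b (i : ι) : polar Q (A.b (.inl i)) (A.b (.inl i)) = 2 * A.c := by
  rw [polar_self', A.val]

theorem pm_swap [DecidableEq ι] (h2 : (2 : F) ≠ 0) {i j : ι} (h : i ≠ j) :
    A.pm (Equiv.swap i j) = refl Q (A.b (.inl i) - A.b (.inl j)) (A.sub_ne h2 h) := by
  have h2c : (2 : F) * A.c ≠ 0 := mul_ne_zero h2 A.hc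
  apply LinearEquiv.toLinearMap_injective
  apply A.b.ext
  rintro (k | u)
  · show A.pm _ _ = refl Q _ _ _
    rw [pm_inl, refl_apply, polar_sub_left, A.val_sub h]
    by_cases hi : k = i
    · subst hi
      rw [Equiv.swap_apply_left, A.polar_self_b, A.ortho _ _ (by simpa using h.symm), sub_zero,
        inv_mul_cancel₀ h2c, one_smul]
      abel
    · by_cases hj : k = j
      · subst hj
        rw [Equiv.swap_apply_right, A.polar_self_b, A.ortho _ _ (by simpa using h), zero_sub, mul_neg,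
          inv_mul_cancel₀ h2c, neg_smul, one_smul]
        abel
      · rw [Equiv.swap_apply_of_ne_of_ne hi hj, A.ortho _ _ (by simpa using Ne.symm hi),
          A.ortho _ _ (by simpa using Ne.symm hj), sub_zero, mul_zero, zero_smul, sub_zero]
  · show A.pm _ _ = refl Q _ _ _
    rw [pm_inr, refl_apply, polar_sub_left, A.ortho _ _ (by simp), A.ortho _ _ (by simp), sub_zero, mul_zero,
      zero_smul, sub_zero]

/-- even permutations of the coordinates lie in `E Q` -/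
theorem pm_mem [Fintype ι] [DecidableEq ι] (hG : Good Q) (h2 : (2 : F) ≠ 0) {i₀ j₀ : ι} (h₀ : i₀ ≠ j₀)
    {π : Equiv.Perm ι} (hπ : Equiv.Perm.sign π = 1) : A.pm π ∈ E Q := by
  have key : ∀ {i j : ι} (h : i ≠ j) {k l : ι} (h' : k ≠ l),
      refl Q _ (A.sub_ne h2 h) * refl Q _ (A.sub_ne h2 h') ∈ E Q := fun h _ _ h' =>
    hG.refl_mul_refl_mem _ _ (by rw [A.val_sub h, A.val_sub h'])
  have main : ∀ π : Equiv.Perm ι, (Equiv.Perm.sign π = 1 → A.pm π ∈ E Q) ∧
      (Equiv.Perm.sign π = -1 → refl Q _ (A.sub_ne h2 h₀) * A.pm π ∈ E Q) := by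
    intro π
    induction π using Equiv.Perm.swap_induction_on with
    | one =>
      rw [pm_one]
      refine ⟨fun _ => one_mem _, fun h => ?_⟩
      rw [map_one] at h
      exact absurd h (by decide)
    | swap_mul π i j hij ih =>
      rw [pm_mul, A.pm_swap h2 hij, map_mul, Equiv.Perm.sign_swap hij]
      constructor
      · intro h
        have h3 : Equiv.Perm.sign π = -1 := by
          rw [neg_one_mul, neg_eq_iff_eq_neg] at h
          exact h
        have h4 := mul_mem (key hij h₀) (ih.2 h3)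
        have e : refl Q _ (A.sub_ne h2 hij) * refl Q _ (A.sub_ne h2 h₀) *
            (refl Q _ (A.sub_ne h2 h₀) * A.pm π) = refl Q _ (A.sub_ne h2 hij) * A.pm π := by
          rw [mul_assoc, ← mul_assoc (refl Q _ (A.sub_ne h2 h₀)), refl_mul_self, one_mul]
        rwa [e] at h4
      · intro h
        have h3 : Equiv.Perm.sign π = 1 := by
          rw [neg_one_mul] at h
          exact neg_injective h
        rw [← mul_assoc]
        exact mul_mem (key h₀ hij) (ih.1 h3)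
  exact (main π).1 hπ

/-! ### The monomial group -/

/-- the monomial elements of `E Q` with permutation in `P` -/
noncomputable def mono (P : Subgroup (Equiv.Perm ι)) : Subgroup ↥(E Q) where
  carrier := {g | ∃ π ∈ P, (∀ i, (g : V ≃ₗ[F] V) (A.b (.inl i)) = A.b (.inl (π i)) ∨
    (g : V ≃ₗ[F] V) (A.b (.inl i)) = -A.b (.inl (π i))) ∧
    ∀ u, (g : V ≃ₗ[F] V) (A.b (.inr u)) = A.b (.inr u) ∨ (g : V ≃ₗ[F] V) (A.b (.inr u)) = -A.b (.inr u)}
  mul_mem' := by
    rintro g h ⟨π, hπ, h1, h2⟩ ⟨π', hπ', h1', h2'⟩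
    refine ⟨π * π', mul_mem hπ hπ', fun i => ?_, fun u => ?_⟩
    · show (g : V ≃ₗ[F] V) ((h : V ≃ₗ[F] V) _) = _ ∨ (g : V ≃ₗ[F] V) ((h : V ≃ₗ[F] V) _) = _
      rcases h1' i with e | e <;> rcases h1 (π' i) with e' | e' <;> simp [e, e']
    · show (g : V ≃ₗ[F] V) ((h : V ≃ₗ[F] V) _) = _ ∨ (g : V ≃ₗ[F] V) ((h : V ≃ₗ[F] V) _) = _
      rcases h2' u with e | e <;> rcases h2 u with e' | e' <;> simp [e, e']
  one_mem' := ⟨1, one_mem _, fun i => Or.inl rfl, fun u => Or.inl rfl⟩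
  inv_mem' := by
    rintro g ⟨π, hπ, h1, h2⟩
    have hinv : ∀ v w : V, (g : V ≃ₗ[F] V) v = w → ((g⁻¹ : ↥(E Q)) : V ≃ₗ[F] V) w = v := by
      rintro v w rfl
      exact LinearEquiv.symm_apply_apply _ _
    refine ⟨π⁻¹, inv_mem hπ, fun i => ?_, fun u => ?_⟩
    · obtain ⟨j, rfl⟩ := π.surjective i
      have hj : π⁻¹ (π j) = j := π.symm_apply_apply j
      rw [hj]
      rcases h1 j with e | e
      · exact Or.inl (hinv _ _ e)
      · right
        have := hinv _ _ e
        rw [map_neg] at this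
        exact neg_eq_iff_eq_neg.1 this
    · rcases h2 u with e | e
      · exact Or.inl (hinv _ _ e)
      · right
        have := hinv _ _ e
        rw [map_neg] at this
        exact neg_eq_iff_eq_neg.1 this

theorem mem_mono {P : Subgroup (Equiv.Perm ι)} {g : ↥(E Q)} : g ∈ A.mono P ↔
    ∃ π ∈ P, (∀ i, (g : V ≃ₗ[F] V) (A.b (.inl i)) = A.b (.inl (π i)) ∨
    (g : V ≃ₗ[F] V) (A.b (.inl i)) = -A.b (.inl (π i))) ∧
    ∀ u, (g : V ≃ₗ[F] V) (A.b (.inr u)) = A.b (.inr u) ∨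
      (g : V ≃ₗ[F] V) (A.b (.inr u)) = -A.b (.inr u) := Iff.rfl

theorem isPGroup_mono {P : Subgroup (Equiv.Perm ι)} (hP : ∀ π ∈ P, ∀ x, π (π (π (π x))) = x) :
    IsPGroup 2 (A.mono P) := by
  rintro ⟨g, π, hπ, h1, h2⟩
  refine ⟨3, ?_⟩
  apply Subtype.ext
  apply Subtype.ext
  show ((g ^ 8 : ↥(E Q)) : V ≃ₗ[F] V) = 1
  apply LinearEquiv.toLinearMap_injective
  apply A.b.ext
  have h8 : ∀ v, ((g ^ 8 : ↥(E Q)) : V ≃ₗ[F] V) v = (g : V ≃ₗ[F] V) ((g : V ≃ₗ[F] V) ((g : V ≃ₗ[F] V)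
      ((g : V ≃ₗ[F] V) ((g : V ≃ₗ[F] V) ((g : V ≃ₗ[F] V) ((g : V ≃ₗ[F] V)
      ((g : V ≃ₗ[F] V) v))))))) := fun v => rfl
  rintro (i | u)
  · show ((g ^ 8 : ↥(E Q)) : V ≃ₗ[F] V) _ = _
    rw [h8]
    have h4 : ∀ i, (g : V ≃ₗ[F] V) ((g : V ≃ₗ[F] V) ((g : V ≃ₗ[F] V) ((g : V ≃ₗ[F] V) (A.b (.inl i))))) =
        A.b (.inl i) ∨ (g : V ≃ₗ[F] V) ((g : V ≃ₗ[F] V) ((g : V ≃ₗ[F] V)
        ((g : V ≃ₗ[F] V) (A.b (.inl i))))) = -A.b (.inl i) := by
      intro i
      have h5 := hP π hπ i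
      rcases h1 i with e | e <;> rcases h1 (π i) with e' | e' <;> rcases h1 (π (π i)) with e'' | e'' <;>
        rcases h1 (π (π (π i))) with e''' | e''' <;> simp [e, e', e'', e''', h5]
    rcases h4 i with e | e <;> rw [e]
    · rw [e]; rfl
    · rw [map_neg, map_neg, map_neg, map_neg, e, neg_neg]; rfl
  · show ((g ^ 8 : ↥(E Q)) : V ≃ₗ[F] V) _ = _
    rw [h8]
    rcases h2 u with e | e <;> simp [e]

theorem sg_mem_mono (hG : Good Q) (P : Subgroup (Equiv.Perm ι)) {i j : ι} (h : i ≠ j) :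
    (⟨A.sg i j, A.sg_mem hG i j⟩ : ↥(E Q)) ∈ A.mono P := by
  refine ⟨1, one_mem _, fun k => ?_, fun u => Or.inl (A.sg_other (by simp) (by simp))⟩
  by_cases hi : k = i
  · subst hi; exact Or.inr (A.sg_left h)
  · by_cases hj : k = j
    · subst hj; exact Or.inr (A.sg_right h)
    · exact Or.inl (A.sg_other (by simpa using hi) (by simpa using hj))

theorem pm_mem_mono {P : Subgroup (Equiv.Perm ι)} {π : Equiv.Perm ι} (hπ : π ∈ P)
    (hE : A.pm π ∈ E Q) : (⟨A.pm π, hE⟩ : ↥(E Q)) ∈ A.mono P :=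
  ⟨π, hπ, fun i => Or.inl (A.pm_inl π i), fun u => Or.inl (A.pm_inr π u)⟩

end Frame

end Cfsg.Agent.Omega.Lie.CenOrthA
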