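import Cfsg.Agent.Omega.Lie.CenOrthA

/-!
# The K-fact (ZS) for the orthogonal groups in odd characteristic, II (helper676)

The centraliser of the monomial 2-group modulo scalars: sign vectors, constant on the blocks.
-/

set_option autoImplicit false

namespace Cfsg.Agent.Omega.Lie.CenOrthA

open QuadraticMap Cfsg.Agent.LieClassical.OrthCore Cfsg.Agent.LieClassical.OrthTrans
  Cfsg.Agent.Omega.Lie.CenPerm

variable {F V : Type*} [Field F] [AddCommGroup V] [Module F V] {Q : QuadraticForm F V}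

/-- `g` and `x` commute up to a scalar -/
def Sc (g x : V ≃ₗ[F] V) : Prop := ∃ c : F, ∀ v, g (x v) = c • x (g v)

theorem sc_of_comm (hG : Good Q) {g x : ↥(E Q)}
    (h : (QuotientGroup.mk x : ↥(E Q) ⧸ Subgroup.center ↥(E Q)) * QuotientGroup.mk g =
      QuotientGroup.mk g * QuotientGroup.mk x) : Sc (g : V ≃ₗ[F] V) (x : V ≃ₗ[F] V) := by
  have h1 : (QuotientGroup.mk (x * g) : ↥(E Q) ⧸ Subgroup.center ↥(E Q)) = QuotientGroup.mk (g * x) := h
  rw [QuotientGroup.eq] at h1
  obtain ⟨c, hc⟩ := Cfsg.Agent.AutOrth.Gen.scalar_of_center hG h1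
  refine ⟨c, fun v => ?_⟩
  have h2 : ((x * g : ↥(E Q)) : V ≃ₗ[F] V) ((((x * g)⁻¹ * (g * x) : ↥(E Q)) : V ≃ₗ[F] V) v) =
      ((g * x : ↥(E Q)) : V ≃ₗ[F] V) v := by
    change (((x * g : ↥(E Q)) * ((x * g)⁻¹ * (g * x)) : ↥(E Q)) : V ≃ₗ[F] V) v = _
    rw [mul_inv_cancel_left]
  rw [hc, map_smul] at h2
  exact h2.symm

variable {ι ν : Type} (A : Frame Q ι ν)

namespace Frame

/-- coordinates of a sign change -/
theorem coord_sg {i j : ι} {k : ι ⊕ ν} (hij : i ≠ j) (hi : k ≠ .inl i) (hj : k ≠ .inl j) (y : V) :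
    A.b.repr (A.sg i j y) k = A.b.repr y k := by
  have h : (A.b.coord k) ∘ₗ (A.sg i j).toLinearMap = A.b.coord k := by
    apply A.b.ext
    intro l
    show A.b.repr (A.sg i j (A.b l)) k = A.b.repr (A.b l) k
    by_cases hli : l = .inl i
    · subst hli
      rw [A.sg_left hij, map_neg, Finsupp.neg_apply, A.b.repr_self, Finsupp.single_eq_of_ne hi, neg_zero]
    by_cases hlj : l = .inl j
    · subst hlj
      rw [A.sg_right hij, map_neg, Finsupp.neg_apply, A.b.repr_self, Finsupp.single_eq_of_ne hj, neg_zero]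
    · rw [A.sg_other hli hlj]
  exact LinearMap.congr_fun h y

theorem coord_sg_left {i j : ι} (hij : i ≠ j) (y : V) :
    A.b.repr (A.sg i j y) (.inl i) = -A.b.repr y (.inl i) := by
  have h : (A.b.coord (.inl i)) ∘ₗ (A.sg i j).toLinearMap = -A.b.coord (.inl i) := by
    apply A.b.ext
    intro l
    show A.b.repr (A.sg i j (A.b l)) (.inl i) = -A.b.repr (A.b l) (.inl i)
    by_cases hli : l = .inl i
    · subst hli
      rw [A.sg_left hij, map_neg, Finsupp.neg_apply]
    by_cases hlj : l = .inl j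
    · subst hlj
      rw [A.sg_right hij, map_neg, Finsupp.neg_apply]
    · rw [A.sg_other hli hlj, A.b.repr_self, Finsupp.single_eq_of_ne (Ne.symm hli), neg_zero]
  exact LinearMap.congr_fun h y

theorem zero_of_self_neg (h2 : (2 : F) ≠ 0) {x : F} (h : x = -x) : x = 0 := by
  have : (2 : F) * x = 0 := by linear_combination h
  exact (mul_eq_zero.1 this).resolve_left h2

/-- the scalar of a sign change is one -/
theorem comm_sg (h2 : (2 : F) ≠ 0) [Fintype ι] [Fintype ν] (h5 : 5 ≤ Fintype.card (ι ⊕ ν)) {g : V ≃ₗ[F] V}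
    {i j : ι} (hij : i ≠ j) (h : Sc g (A.sg i j)) (v : V) : g (A.sg i j v) = A.sg i j (g v) := by
  classical
  obtain ⟨c, hc⟩ := h
  by_cases hc1 : c = 1
  · rw [hc, hc1, one_smul]
  exfalso
  have hss : ∀ v, A.sg i j (A.sg i j v) = v := by
    have : (A.sg i j).toLinearMap ∘ₗ (A.sg i j).toLinearMap = LinearMap.id := by
      apply A.b.ext
      intro l
      show A.sg i j (A.sg i j (A.b l)) = A.b l
      by_cases hli : l = .inl i
      · subst hli
        rw [A.sg_left hij, map_neg, A.sg_left hij, neg_neg]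
      by_cases hlj : l = .inl j
      · subst hlj
        rw [A.sg_right hij, map_neg, A.sg_right hij, neg_neg]
      · rw [A.sg_other hli hlj, A.sg_other hli hlj]
    exact fun v => LinearMap.congr_fun this v
  have hcc : c * c = 1 := by
    have h1 := hc (A.sg i j (A.b (.inl i)))
    rw [hss, hc, map_smul, hss, smul_smul] at h1
    have h3 : g (A.b (.inl i)) ≠ 0 := by
      intro h
      exact A.b.ne_zero _ ((LinearEquiv.map_eq_zero_iff g).1 h)
    have h4 : (c * c - 1) • g (A.b (.inl i)) = 0 := by rw [sub_smul, one_smul, ← h1, sub_self]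
    exact sub_eq_zero.1 ((smul_eq_zero.1 h4).resolve_right h3)
  have hcm : c = -1 := by
    rcases mul_self_eq_one_iff.1 hcc with h | h
    · exact absurd h hc1
    · exact h
  -- the images of the other basis vectors
  set W : Submodule F V := Submodule.span F (A.b '' {.inl i, .inl j}) with hW
  have h6 : ∀ l : ι ⊕ ν, l ≠ .inl i → l ≠ .inl j → g (A.b l) ∈ W := by
    intro l hli hlj
    rw [hW, Module.Basis.mem_span_image]
    have h7 : A.sg i j (g (A.b l)) = -g (A.b l) := by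
      have := hc (A.b l)
      rw [A.sg_other hli hlj, hcm, neg_one_smul] at this
      exact (neg_eq_iff_eq_neg.2 this).symm
    intro k hk
    by_contra hcon
    rw [Set.mem_insert_iff, Set.mem_singleton_iff, not_or] at hcon
    have h8 := A.coord_sg hij hcon.1 hcon.2 (g (A.b l))
    rw [h7, map_neg, Finsupp.neg_apply] at h8
    have h9 : A.b.repr (g (A.b l)) k = 0 := zero_of_self_neg h2 h8.symm
    exact (Finsupp.mem_support_iff.1 hk) h9
  have hli : LinearIndependent F (fun l : {l : ι ⊕ ν // l ≠ .inl i ∧ l ≠ .inl j} =>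
      (⟨g (A.b l), h6 l l.2.1 l.2.2⟩ : W)) := by
    have h7 : LinearIndependent F (fun l : {l : ι ⊕ ν // l ≠ .inl i ∧ l ≠ .inl j} => g (A.b l)) :=
      (A.b.linearIndependent.map' g.toLinearMap g.ker).comp Subtype.val Subtype.val_injective
    exact LinearIndependent.of_comp W.subtype h7
  have : Module.Finite F W := Module.Finite.span_of_finite F (Set.toFinite _)
  have h8 := hli.fintype_card_le_finrank
  have h9 : Module.finrank F W ≤ 2 := by
    refine (finrank_span_le_card _).trans ?_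
    rw [Set.toFinset_card]
    refine (Fintype.card_le_of_surjective (Set.imageFactorization A.b {.inl i, .inl j})
      Set.imageFactorization_surjective).trans ?_
    rw [← Set.toFinset_card, Set.toFinset_insert, Set.toFinset_singleton]
    exact Finset.card_le_two
  have h10 : Fintype.card {l : ι ⊕ ν // l ≠ .inl i ∧ l ≠ .inl j} = Fintype.card (ι ⊕ ν) - 2 := by
    rw [Fintype.card_subtype]
    have : (Finset.univ.filter fun l : ι ⊕ ν => l ≠ .inl i ∧ l ≠ .inl j) =
        ({.inl i, .inl j} : Finset (ι ⊕ ν))ᶜ := by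
      ext l
      simp
    rw [this, Finset.card_compl, Finset.card_pair (by simpa using hij)]
  omega

/-- an element which commutes with the sign changes is diagonal -/
theorem diag_of_comm (h2 : (2 : F) ≠ 0) [Subsingleton ν] (h3 : ∀ i j : ι, ∃ k, k ≠ i ∧ k ≠ j) {g : V ≃ₗ[F] V}
    (hg : ∀ i j : ι, i ≠ j → ∀ v, g (A.sg i j v) = A.sg i j (g v)) (k : ι ⊕ ν) :
    ∃ a : F, g (A.b k) = a • A.b k := by
  have key : ∀ l : ι ⊕ ν, l ≠ k → A.b.repr (g (A.b k)) l = 0 := by
    intro l hl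
    rcases l with i | u
    · -- choose `j ≠ i` with `inl j ≠ k`
      obtain ⟨j, hji, hjk⟩ : ∃ j : ι, j ≠ i ∧ k ≠ .inl j := by
        rcases k with k | u
        · obtain ⟨j, h4, h5⟩ := h3 i k
          exact ⟨j, h4, by simpa using h5.symm⟩
        · obtain ⟨j, h4, _⟩ := h3 i i
          exact ⟨j, h4, by simp⟩
      have h6 := A.coord_sg_left hji.symm (g (A.b k))
      rw [← hg i j hji.symm, A.sg_other hl.symm hjk] at h6
      exact zero_of_self_neg h2 h6
    · rcases k with i | w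
      · obtain ⟨j, hj, -⟩ := h3 i i
        have h6 := A.coord_sg (i := i) (j := j) (k := .inr u) hj.symm (by simp) (by simp) (g (A.b (.inl i)))
        rw [← hg i j hj.symm, A.sg_left hj.symm, map_neg, map_neg, Finsupp.neg_apply] at h6
        exact zero_of_self_neg h2 h6.symm
      · exact absurd (congrArg _ (Subsingleton.elim u w)) hl
  refine ⟨A.b.repr (g (A.b k)) k, ?_⟩
  apply A.b.repr.injective
  ext l
  rw [map_smul, Finsupp.smul_apply, A.b.repr_self, smul_eq_mul]
  by_cases hl : l = k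
  · rw [hl, Finsupp.single_eq_same, mul_one]
  · rw [key l hl, Finsupp.single_eq_of_ne hl, mul_zero]

theorem sq_of_diag {g : V ≃ₗ[F] V} (hg : g ∈ O Q) {k : ι ⊕ ν} {a : F} (h : g (A.b k) = a • A.b k) :
    a * a = 1 := by
  have h1 := mem_O.1 hg (A.b k)
  rw [h, QuadraticMap.map_smul] at h1
  have h4 : (a * a - 1) * Q (A.b k) = 0 := by
    rw [sub_mul, one_mul, sub_eq_zero]
    exact h1
  exact sub_eq_zero.1 ((mul_eq_zero.1 h4).resolve_right (A.ne k))

end Frame

/-! ### Blocks -/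

variable {κ : Type} {e : κ → ℕ} {ν : Type} (A : Frame Q (Pt e) ν)

namespace Frame

/-- the data of a sign vector which is constant on the blocks -/
structure Sgn (g : V ≃ₗ[F] V) (a : κ → F) (a' : F) : Prop where
  sq : ∀ k, a k * a k = 1
  sq' : a' * a' = 1
  inl : ∀ x : Pt e, g (A.b (.inl x)) = a x.1 • A.b (.inl x)
  inr : ∀ u, g (A.b (.inr u)) = a' • A.b (.inr u)

/-- **The centraliser.** -/
theorem exists_sgn (hG : Good Q) (h2 : (2 : F) ≠ 0) [Subsingleton ν] [Fintype ν] [Fintype κ] [DecidableEq κ]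
    (h5 : 5 ≤ Fintype.card (Pt e ⊕ ν)) (h3 : ∀ i j : Pt e, ∃ k, k ≠ i ∧ k ≠ j) (hbig : ∃ l, 2 ≤ e l)
    (hfix : Nonempty ν ∨ ∀ k : κ, ∃ l : κ, l ≠ k) {g : ↥(E Q)}
    (hg : ∀ x ∈ A.mono (PP e), Sc (g : V ≃ₗ[F] V) (x : V ≃ₗ[F] V)) :
    ∃ (a : κ → F) (a' : F), A.Sgn (g : V ≃ₗ[F] V) a a' := by
  classical
  have hcomm : ∀ i j : Pt e, i ≠ j → ∀ v, (g : V ≃ₗ[F] V) (A.sg i j v) = A.sg i j ((g : V ≃ₗ[F] V) v) :=
    fun i j hij => A.comm_sg h2 h5 hij (hg _ (A.sg_mem_mono hG (PP e) hij))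
  choose a ha using fun k => A.diag_of_comm h2 h3 hcomm k
  have hsq : ∀ k, a k * a k = 1 := fun k => A.sq_of_diag (E_le_O g.2) (ha k)
  obtain ⟨l₀, hl₀⟩ := hbig
  have hne : (⟨l₀, 0⟩ : Pt e) ≠ tr (dd e) ⟨l₀, 0⟩ := by
    intro h
    rw [tr_apply, zero_add] at h
    have := congrFun (eq_of_heq (Sigma.mk.inj_iff.1 h).2) ⟨0, by omega⟩
    simp [dd] at this
  have hinv : ∀ π ∈ PP e, Equiv.Perm.sign π = 1 → (Nonempty ν ∨ ∃ x, π x = x) → ∀ x : Pt e,
      a (.inl (π x)) = a (.inl x) := by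
    intro π hπ hs hfx x
    have hE := A.pm_mem hG h2 hne hs
    obtain ⟨c, hc⟩ := hg _ (A.pm_mem_mono hπ hE)
    have h6 : ∀ y : Pt e, a (.inl (π y)) = c * a (.inl y) := by
      intro y
      have h7 := hc (A.b (.inl y))
      change (g : V ≃ₗ[F] V) (A.pm π _) = c • A.pm π _ at h7
      rw [A.pm_inl, ha, ha, map_smul, A.pm_inl, smul_smul] at h7
      have h8 : (a (.inl (π y)) - c * a (.inl y)) • A.b (.inl (π y)) = 0 := by rw [sub_smul, h7, sub_self]
      exact sub_eq_zero.1 ((smul_eq_zero.1 h8).resolve_right (A.b.ne_zero _))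
    have hnz : ∀ k, a k ≠ 0 := fun k h0 => by
      have := hsq k
      rw [h0, mul_zero] at this
      exact zero_ne_one this
    have hc1 : c = 1 := by
      rcases hfx with ⟨⟨u⟩⟩ | ⟨y, hy⟩
      · have h7 := hc (A.b (.inr u))
        change (g : V ≃ₗ[F] V) (A.pm π _) = c • A.pm π _ at h7
        rw [A.pm_inr, ha, map_smul, A.pm_inr, smul_smul] at h7
        have h8 : (a (.inr u) - c * a (.inr u)) • A.b (.inr u) = 0 := by rw [sub_smul, ← h7, sub_self]
        have h9 := sub_eq_zero.1 ((smul_eq_zero.1 h8).resolve_right (A.b.ne_zero _))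
        exact (mul_eq_right₀ (hnz _)).1 h9.symm
      · have h7 := h6 y
        rw [hy] at h7
        exact (mul_eq_right₀ (hnz _)).1 h7.symm
    rw [h6, hc1, one_mul]
  have hconst : ∀ (k : κ) (v w : Fin (e k) → ZMod 2), a (.inl ⟨k, v⟩) = a (.inl ⟨k, w⟩) :=
    fun k v w => const_on_blocks (s := fun x : Pt e => a (.inl x)) hinv ⟨l₀, hl₀⟩ hfix k v w
  by_cases hν : Nonempty ν
  · obtain ⟨u⟩ := hν
    refine ⟨fun k => a (.inl ⟨k, 0⟩), a (.inr u), fun k => hsq _, hsq _, fun x => ?_, fun w => ?_⟩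
    · rw [ha, hconst x.1 x.2 0]
    · rw [ha, Subsingleton.elim w u]
  · refine ⟨fun k => a (.inl ⟨k, 0⟩), 1, fun k => hsq _, one_mul 1, fun x => ?_, fun w => absurd ⟨w⟩ hν⟩
    rw [ha, hconst x.1 x.2 0]

end Frame

end Cfsg.Agent.Omega.Lie.CenOrthA
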