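import Cfsg.Agent.Omega.Lie.CenOrthB

/-!
# The K-fact (ZS) for the orthogonal groups in odd characteristic, III (helper676)

From a frame to `NoCenMove (E Q / Z)`.
-/

set_option autoImplicit false

namespace Cfsg.Agent.Omega.Lie.CenOrthA

open QuadraticMap Cfsg.Agent.LieClassical.OrthCore Cfsg.Agent.LieClassical.OrthTrans
  Cfsg.Agent.Omega.Lie.CenPerm Cfsg.Agent.Omega.Lie.CenTwo Cfsg.Agent.ClassicalGeometry.OrthSemi

variable {F V : Type*} [Field F] [AddCommGroup V] [Module F V] {Q : QuadraticForm F V}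

/-- the number of fixed vectors of a diagonal element -/
theorem card_fix {I : Type} [Fintype I] [Finite F] (b : Module.Basis I F V) (g : V ≃ₗ[F] V)
    (d : I → F) (hd : ∀ k, g (b k) = d k • b k) [Fintype {k // d k = 1}] :
    Nat.card {v : V // g v = v} = Nat.card F ^ Fintype.card {k // d k = 1} := by
  classical
  have : Module.Finite F V := Module.Finite.of_basis b
  set W : Submodule F V := Submodule.span F (Set.range fun k : {k // d k = 1} => b k) with hW
  have h1 : ∀ v, g v = v ↔ v ∈ W := by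
    intro v
    have h2 : ∀ k, b.repr (g v) k = d k * b.repr v k := by
      intro k
      have h3 : (b.coord k) ∘ₗ g.toLinearMap = d k • b.coord k := by
        apply b.ext
        intro l
        show b.repr (g (b l)) k = d k • b.repr (b l) k
        rw [hd, map_smul, Finsupp.smul_apply, b.repr_self]
        by_cases hl : k = l
        · rw [hl]
        · rw [Finsupp.single_eq_of_ne hl, smul_zero, smul_zero]
      exact LinearMap.congr_fun h3 v
    have h3 : (Set.range fun k : {k // d k = 1} => b k) = b '' {k | d k = 1} := by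
      rw [show (fun k : {k // d k = 1} => b k) = b ∘ Subtype.val from rfl, Set.range_comp,
        Subtype.range_coe_subtype]
    rw [hW, h3, Module.Basis.mem_span_image]
    constructor
    · intro h k hk
      have h4 := h2 k
      rw [h] at h4
      have h5 : (d k - 1) * b.repr v k = 0 := by rw [sub_mul, one_mul, ← h4, sub_self]
      exact sub_eq_zero.1 ((mul_eq_zero.1 h5).resolve_right (Finsupp.mem_support_iff.1 hk))
    · intro h
      apply b.repr.injective
      ext k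
      rw [h2]
      by_cases hk : b.repr v k = 0
      · rw [hk, mul_zero]
      · have : d k = 1 := h (Finsupp.mem_support_iff.2 hk)
        rw [this, one_mul]
  have h2 : Nat.card {v : V // g v = v} = Nat.card W := Nat.card_congr (Equiv.subtypeEquivRight h1)
  rw [h2, Module.natCard_eq_pow_finrank (K := F), hW]
  congr 1
  exact finrank_span_eq_card (b.linearIndependent.comp _ Subtype.val_injective)

variable {κ : Type} {e : κ → ℕ} {ν : Type} (A : Frame Q (Pt e) ν)

namespace Frame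

variable {A}

theorem Sgn.ext {g h : V ≃ₗ[F] V} {a b : κ → F} {a' b' : F} (hg : A.Sgn g a a') (hh : A.Sgn h b b')
    (hab : a = b) (hab' : Nonempty ν → a' = b') : g = h := by
  apply LinearEquiv.toLinearMap_injective
  apply A.b.ext
  rintro (x | u)
  · show g _ = h _
    rw [hg.inl, hh.inl, hab]
  · show g _ = h _
    rw [hg.inr, hh.inr, hab' ⟨u⟩]

theorem Sgn.card [Fintype κ] [DecidableEq κ] [Fintype ν] [Finite F] {g : V ≃ₗ[F] V} {a : κ → F} {a' : F}
    (hg : A.Sgn g a a') (h1 : Nonempty ν → a' = 1) (P : Finset κ) (hP : ∀ k, k ∈ P ↔ a k = 1) :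
    Nat.card {v : V // g v = v} = Nat.card F ^ (∑ k ∈ P, 2 ^ e k + Fintype.card ν) := by
  classical
  let d : Pt e ⊕ ν → F := Sum.elim (fun x => a x.1) fun _ => a'
  rw [card_fix A.b g d (by
    rintro (x | u)
    · exact hg.inl x
    · exact hg.inr u)]
  congr 1
  rw [Fintype.card_congr (Equiv.subtypeSum (p := fun k => d k = 1)), Fintype.card_sum]
  congr 1
  · rw [← card_union (e := e) P, Fintype.card_subtype]
    congr 1
    ext x
    simp only [Finset.mem_filter, Finset.mem_univ, true_and, hP]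
    rfl
  · rw [Fintype.card_subtype]
    congr 1
    ext u
    simp only [Finset.mem_filter, Finset.mem_univ, true_and, iff_true]
    exact h1 ⟨u⟩

theorem Sgn.eq_of_card [Fintype κ] [DecidableEq κ] [Fintype ν] [Finite F] (he : Function.Injective e)
    {g h : V ≃ₗ[F] V} {a b : κ → F} {a' b' : F} (hg : A.Sgn g a a') (hh : A.Sgn h b b')
    (h1 : Nonempty ν → a' = 1) (h2 : Nonempty ν → b' = 1)
    (hcard : Nat.card {v : V // g v = v} = Nat.card {v : V // h v = v}) : g = h := by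
  classical
  rw [hg.card h1 (Finset.univ.filter fun k => a k = 1) (by simp),
    hh.card h2 (Finset.univ.filter fun k => b k = 1) (by simp)] at hcard
  have h3 := Nat.pow_right_injective (Finite.one_lt_card (α := F)) hcard
  have h4 := eq_of_sum he (Nat.add_right_cancel h3)
  refine hg.ext hh ?_ fun h => by rw [h1 h, h2 h]
  funext k
  have h5 : a k = 1 ↔ b k = 1 := by
    have := Finset.ext_iff.1 h4 k
    simpa using this
  rcases mul_self_eq_one_iff.1 (hg.sq k) with h6 | h6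
  · rw [h6, h5.1 h6]
  · rcases mul_self_eq_one_iff.1 (hh.sq k) with h7 | h7
    · rw [h7, h5.2 h7]
    · rw [h6, h7]

variable (A)

/-- the image of the monomial group -/
noncomputable def EE (P : Subgroup (Equiv.Perm (Pt e))) : Subgroup (↥(E Q) ⧸ Subgroup.center ↥(E Q)) :=
  (A.mono P).map (QuotientGroup.mk' _)

theorem isPGroup_EE : IsPGroup 2 (A.EE (PP e)) := (A.isPGroup_mono fun _ hπ x => PP_four hπ x).map _

theorem sgn_of_cent (hG : Good Q) (h2 : (2 : F) ≠ 0) [Subsingleton ν] [Fintype ν] [Fintype κ] [DecidableEq κ]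
    (h5 : 5 ≤ Fintype.card (Pt e ⊕ ν)) (h3 : ∀ i j : Pt e, ∃ k, k ≠ i ∧ k ≠ j) (hbig : ∃ l, 2 ≤ e l)
    (hfix : Nonempty ν ∨ ∀ k : κ, ∃ l : κ, l ≠ k) {g : ↥(E Q)}
    (hg : ∀ x ∈ A.EE (PP e), x * QuotientGroup.mk g = QuotientGroup.mk g * x) :
    ∃ (a : κ → F) (a' : F), A.Sgn (g : V ≃ₗ[F] V) a a' :=
  A.exists_sgn hG h2 h5 h3 hbig hfix fun x hx =>
    sc_of_comm hG (hg (QuotientGroup.mk x) ⟨x, hx, rfl⟩)

/-- **From a frame to `NoCenMove`**: all automorphisms come from semisimilitudes. -/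
theorem noCenMove [Finite F] [Module.Finite F V] (hG : Good Q) (h2 : (2 : F) ≠ 0) [Subsingleton ν]
    [Fintype ν] [Fintype κ] [DecidableEq κ] (he : Function.Injective e)
    (h5 : 5 ≤ Fintype.card (Pt e ⊕ ν)) (h3 : ∀ i j : Pt e, ∃ k, k ≠ i ∧ k ≠ j) (hbig : ∃ l, 2 ≤ e l)
    (hfix : Nonempty ν ∨ ∀ k : κ, ∃ l : κ, l ≠ k)
    (hν : Nonempty ν → ∀ g ∈ E Q, ∀ a a', A.Sgn g a a' → a' = 1)
    (hs : Function.Surjective (Psi Q)) : NoCenMove (↥(E Q) ⧸ Subgroup.center ↥(E Q)) := by
  have : Finite V := Module.finite_of_finite F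
  have : Finite (V ≃ₗ[F] V) := Finite.of_injective (fun f : V ≃ₗ[F] V => (f : V → V)) DFunLike.coe_injective
  refine CenInv.of_cent A.isPGroup_EE fun u v hu hv _ _ _ _ α _ hα => ?_
  obtain ⟨g, rfl⟩ := QuotientGroup.mk_surjective u
  obtain ⟨M, rfl⟩ := hs α
  rw [Psi_mk] at hα
  subst hα
  obtain ⟨a, a', hg⟩ := A.sgn_of_cent hG h2 h5 h3 hbig hfix hu
  obtain ⟨b, b', hh⟩ := A.sgn_of_cent hG h2 h5 h3 hbig hfix hv
  congr 1
  apply Subtype.ext
  refine hg.eq_of_card he hh (fun h => hν h _ g.2 _ _ hg) (fun h => hν h _ (conjE Q M g).2 _ _ hh)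
    (Nat.card_congr (Equiv.subtypeEquiv M.1 fun v => ?_))
  rw [coe_conjE, conjLin_apply', M.1.injective.eq_iff]

include A in
/-- **From a frame to `NoCenMove`**: two blocks. -/
theorem noCenMove_two [Finite F] [Module.Finite F V] (hG : Good Q) (h2 : (2 : F) ≠ 0) [IsEmpty ν]
    [Fintype ν] [Fintype κ] [DecidableEq κ]
    (h5 : 5 ≤ Fintype.card (Pt e ⊕ ν)) (h3 : ∀ i j : Pt e, ∃ k, k ≠ i ∧ k ≠ j) (hbig : ∃ l, 2 ≤ e l)
    {k₀ k₁ : κ} (hk : k₀ ≠ k₁) (hκ : ∀ k, k = k₀ ∨ k = k₁) :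
    NoCenMove (↥(E Q) ⧸ Subgroup.center ↥(E Q)) := by
  have : Finite V := Module.finite_of_finite F
  have : Finite (V ≃ₗ[F] V) := Finite.of_injective (fun f : V ≃ₗ[F] V => (f : V → V)) DFunLike.coe_injective
  have hfix : Nonempty ν ∨ ∀ k : κ, ∃ l : κ, l ≠ k := Or.inr fun k => by
    by_cases h : k = k₀
    · exact ⟨k₁, fun h' => hk (by rw [← h, h'])⟩
    · exact ⟨k₀, Ne.symm h⟩
  refine CenInv.of_cent A.isPGroup_EE fun u v hu hv _ _ hu1 hv1 α _ _ => ?_
  obtain ⟨g, rfl⟩ := QuotientGroup.mk_surjective u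
  obtain ⟨h, rfl⟩ := QuotientGroup.mk_surjective v
  obtain ⟨a, a', hg⟩ := A.sgn_of_cent hG h2 h5 h3 hbig hfix hu
  obtain ⟨b, b', hh⟩ := A.sgn_of_cent hG h2 h5 h3 hbig hfix hv
  -- scalar elements are central
  have hcen : ∀ {g : ↥(E Q)} {c : F}, (∀ x : Pt e, (g : V ≃ₗ[F] V) (A.b (.inl x)) = c • A.b (.inl x)) →
      (QuotientGroup.mk g : ↥(E Q) ⧸ Subgroup.center ↥(E Q)) = 1 := by
    intro g c hgc
    rw [QuotientGroup.eq_one_iff, Subgroup.mem_center_iff]
    have h6 : ∀ v, (g : V ≃ₗ[F] V) v = c • v := by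
      have : (g : V ≃ₗ[F] V).toLinearMap = c • LinearMap.id := by
        apply A.b.ext
        rintro (x | u)
        · exact hgc x
        · exact isEmptyElim u
      exact fun v => LinearMap.congr_fun this v
    intro x
    apply Subtype.ext
    ext v
    show (x : V ≃ₗ[F] V) ((g : V ≃ₗ[F] V) v) = (g : V ≃ₗ[F] V) ((x : V ≃ₗ[F] V) v)
    rw [h6, h6, map_smul]
  have hne : ∀ {g : ↥(E Q)} {a : κ → F} {a' : F}, A.Sgn (g : V ≃ₗ[F] V) a a' →
      (QuotientGroup.mk g : ↥(E Q) ⧸ Subgroup.center ↥(E Q)) ≠ 1 → a k₀ ≠ a k₁ := by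
    intro g a a' hg h1 h
    apply h1
    refine hcen (c := a k₀) fun x => ?_
    rw [hg.inl]
    rcases hκ x.1 with e | e <;> rw [e]
    rw [h]
  have ha := hne hg hu1
  have hb := hne hh hv1
  rw [← inv_mul_eq_one]
  refine (hcen (g := g⁻¹ * h) (c := a k₀ * b k₀) fun x => ?_ : _)
  have h6 : (((g⁻¹ * h : ↥(E Q)) : V ≃ₗ[F] V)) (A.b (.inl x)) =
      (g : V ≃ₗ[F] V).symm ((h : V ≃ₗ[F] V) (A.b (.inl x))) := rfl
  rw [h6, LinearEquiv.symm_apply_eq, hh.inl, map_smul, hg.inl, smul_smul]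
  congr 1
  have pm : ∀ {c : F}, c * c = 1 → c = 1 ∨ c = -1 := fun h => mul_self_eq_one_iff.1 h
  rcases hκ x.1 with e | e <;> rw [e]
  · rw [mul_right_comm, hg.sq, one_mul]
  · rcases pm (hg.sq k₀) with h1 | h1 <;> rcases pm (hg.sq k₁) with h3 | h3 <;>
      rcases pm (hh.sq k₀) with h4 | h4 <;> rcases pm (hh.sq k₁) with h7 | h7 <;>
      rw [h1, h3] at ha <;> rw [h4, h7] at hb <;> first | exact absurd rfl ha | exact absurd rfl hb |
        (rw [h1, h3, h4, h7]; ring)

end Frame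

end Cfsg.Agent.Omega.Lie.CenOrthA
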