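import Cfsg.Agent.Omega.Lie.CenOrthC

/-!
# The K-fact (ZS) for the orthogonal groups in odd characteristic, IV (helper676)

The spinor norm of a diagonal element, and the existence of frames.
-/

set_option autoImplicit false

namespace Cfsg.Agent.Omega.Lie.CenOrthA

open QuadraticMap Cfsg.Agent.LieClassical.OrthCore Cfsg.Agent.LieClassical.OrthTrans
  Cfsg.Agent.Omega.Lie.CenPerm Cfsg.Agent.Omega.Lie.CenTwo Cfsg.Agent.ClassicalGeometry.OrthSemi

/-! ### The spinor norm -/

section spinor

variable {I : Type} [Fintype I] [DecidableEq I] {F : Type*} [Field F] [Finite F]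

/-- the spinor norm as a sign -/
noncomputable def theta (Q : QuadraticForm F (I → F)) (c : F) : ↥(O Q) →* ℤˣ :=
  (Cfsg.Agent.ClassicalGeometry.SpinorSign.spinorSign (⇑Q) c).comp
    (LieClassical.OrthFinite.isometryEquiv Q).symm.toMonoidHom

open Classical in
theorem theta_refl (h2 : (2 : F) ≠ 0) (Q : QuadraticForm F (I → F)) {c : F} (hc : c ≠ 0) (v : I → F)
    (hv : Q v ≠ 0) : theta Q c ⟨refl Q v hv, refl_mem_O hv⟩ = if IsSquare (c * Q v) then -1 else 1 := by
  rw [← Cfsg.Agent.ClassicalGeometry.SpinorSign.spinorSign_reflIso h2 Q hc v hv]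
  show Cfsg.Agent.ClassicalGeometry.SpinorSign.spinorSign (⇑Q) c
    ((LieClassical.OrthFinite.isometryEquiv Q).symm _) = _
  congr 1
  rw [MulEquiv.symm_apply_eq]
  apply Subtype.ext
  ext x : 1
  rw [LieClassical.OrthFinite.isometryEquiv_apply, Cfsg.Agent.ClassicalGeometry.Reflection.coe_reflIso,
    Cfsg.Agent.ClassicalGeometry.Reflection.reflectionMatrix_mulVec]
  exact refl_apply hv x

theorem theta_of_mem (Q : QuadraticForm F (I → F)) (hG : Good Q) (c : F) (g : ↥(O Q))
    (hg : (g : (I → F) ≃ₗ[F] (I → F)) ∈ E Q) : theta Q c g = 1 := by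
  rw [← hG.commutator_eq_E, ← Subgroup.map_subtype_commutator] at hg
  obtain ⟨x, hx, hxg⟩ := hg
  have h1 : x = g := Subtype.ext hxg
  rw [← h1]
  exact Abelianization.commutator_subset_ker (theta Q c) hx

variable {Q : QuadraticForm F (I → F)} {ι ν : Type} (A : Frame Q ι ν)

omit [Fintype I] [DecidableEq I] [Finite F] in
theorem exists_prod {θ : ↥(O Q) →* ℤˣ}
    (hθ : ∀ i : ι, θ ⟨refl Q (A.b (.inl i)) (A.ne _), refl_mem_O _⟩ = 1) (T : Finset ι) :
    ∃ x : ↥(O Q), θ x = 1 ∧ (∀ i ∈ T, (x : (I → F) ≃ₗ[F] (I → F)) (A.b (.inl i)) = -A.b (.inl i)) ∧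
      (∀ i ∉ T, (x : (I → F) ≃ₗ[F] (I → F)) (A.b (.inl i)) = A.b (.inl i)) ∧
      ∀ u, (x : (I → F) ≃ₗ[F] (I → F)) (A.b (.inr u)) = A.b (.inr u) := by
  classical
  induction T using Finset.induction_on with
  | empty =>
    exact ⟨1, map_one _, fun i hi => absurd hi (Finset.notMem_empty i), fun _ _ => rfl, fun _ => rfl⟩
  | insert j T hj ih =>
    obtain ⟨x, h1, h2, h3, h4⟩ := ih
    refine ⟨⟨refl Q (A.b (.inl j)) (A.ne _), refl_mem_O _⟩ * x, ?_, ?_, ?_, ?_⟩
    · rw [map_mul, hθ, h1, one_mul]
    · intro i hi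
      show refl Q (A.b (.inl j)) (A.ne _) ((x : (I → F) ≃ₗ[F] (I → F)) _) = _
      rcases Finset.mem_insert.1 hi with rfl | hi
      · rw [h3 _ hj, A.refl_same]
      · rw [h2 i hi, map_neg, A.refl_other (by
          intro h
          rw [Sum.inl.inj h] at hj
          exact hj hi)]
    · intro i hi
      show refl Q (A.b (.inl j)) (A.ne _) ((x : (I → F) ≃ₗ[F] (I → F)) _) = _
      rw [Finset.mem_insert, not_or] at hi
      rw [h3 i hi.2, A.refl_other (by
        intro h
        exact hi.1 (Sum.inl.inj h).symm)]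
    · intro u
      show refl Q (A.b (.inl j)) (A.ne _) ((x : (I → F) ≃ₗ[F] (I → F)) _) = _
      rw [h4 u, A.refl_other (by simp)]

theorem one_of_mem (h2 : (2 : F) ≠ 0) (hG : Good Q) [Subsingleton ν] [Finite ι]
    (hcc : ¬IsSquare (A.c' * A.c)) {g : (I → F) ≃ₗ[F] (I → F)} (hg : g ∈ E Q)
    (h1 : ∀ i, g (A.b (.inl i)) = A.b (.inl i) ∨ g (A.b (.inl i)) = -A.b (.inl i)) {a : F} (ha : a * a = 1)
    (u : ν) (hu : g (A.b (.inr u)) = a • A.b (.inr u)) : a = 1 := by
  classical
  have := Fintype.ofFinite ι
  rcases mul_self_eq_one_iff.1 ha with h | h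
  · exact h
  exfalso
  have hθ : ∀ i : ι, theta Q A.c' ⟨refl Q (A.b (.inl i)) (A.ne _), refl_mem_O _⟩ = 1 := by
    intro i
    rw [theta_refl h2 Q A.hc', A.val, if_neg hcc]
  have hθ' : theta Q A.c' ⟨refl Q (A.b (.inr u)) (A.ne _), refl_mem_O _⟩ = -1 := by
    rw [theta_refl h2 Q A.hc', A.val', if_pos ⟨A.c', rfl⟩]
  obtain ⟨x, hx1, hx2, hx3, hx4⟩ := exists_prod A hθ (Finset.univ.filter fun i =>
    g (A.b (.inl i)) = -A.b (.inl i))
  have h3 : (⟨g, E_le_O hg⟩ : ↥(O Q)) = ⟨refl Q (A.b (.inr u)) (A.ne _), refl_mem_O _⟩ * x := by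
    apply Subtype.ext
    apply LinearEquiv.toLinearMap_injective
    apply A.b.ext
    rintro (i | w)
    · show g _ = refl Q (A.b (.inr u)) (A.ne _) ((x : (I → F) ≃ₗ[F] (I → F)) _)
      by_cases hi : g (A.b (.inl i)) = -A.b (.inl i)
      · rw [hx2 i (by simpa using hi), map_neg, A.refl_other (by simp), hi]
      · rw [hx3 i (by simpa using hi), A.refl_other (by simp), (h1 i).resolve_right hi]
    · show g _ = refl Q (A.b (.inr u)) (A.ne _) ((x : (I → F) ≃ₗ[F] (I → F)) _)
      rw [Subsingleton.elim w u, hx4, A.refl_same, hu, h, neg_one_smul]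
  have h4 := theta_of_mem Q hG A.c' ⟨g, E_le_O hg⟩ hg
  rw [h3, map_mul, hx1, hθ', mul_one] at h4
  exact absurd h4 (by decide)

end spinor

/-! ### Orthogonal families -/

section families

variable {I : Type} [Fintype I] [DecidableEq I] {F : Type*} [Field F] [Finite F]

/-- orthogonal families with many values 1 -/
theorem exists_family (h2 : (2 : F) ≠ 0) (Q : QuadraticForm F (I → F)) (hQ : (polarBilin Q).Nondegenerate)
    (k : ℕ) (hk : k < Fintype.card I) : ∃ u : Fin (Fintype.card I) → (I → F), (∀ i, Q (u i) ≠ 0) ∧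
      (∀ i j, i ≠ j → polar Q (u i) (u j) = 0) ∧ ∀ i, i.val < k → Q (u i) = 1 := by
  induction k with
  | zero =>
    obtain ⟨b, hb1, hb2⟩ := ClassicalGeometry.CartanDieudonne.exists_orthogonal_basis h2 Q hQ
    have h : Module.finrank F (I → F) = Fintype.card I := Module.finrank_fintype_fun_eq_card F
    refine ⟨fun i => b (Fin.cast h.symm i), fun i => hb1 _, fun i j hij => hb2 _ _ ?_, fun i hi => ?_⟩
    · intro h'
      exact hij (Fin.cast_injective _ h')
    · exact absurd hi (Nat.not_lt_zero _)
  | succ k ih =>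
    obtain ⟨u, h1, h3, h4⟩ := ih (by omega)
    set p : Fin (Fintype.card I) := ⟨k, by omega⟩ with hp
    set p' : Fin (Fintype.card I) := ⟨k + 1, hk⟩ with hp'
    have hpp : p ≠ p' := by
      intro h
      have := congrArg Fin.val h
      simp [hp, hp'] at this
    obtain ⟨x, y, hxy⟩ := ClassicalGeometry.Universal.exists_sq_add_sq h2 (h1 p) (h1 p') 1
    set s : I → F := x • u p + y • u p' with hs
    set t : I → F := (-(Q (u p') * y)) • u p + (Q (u p) * x) • u p' with ht
    have hQs : Q s = 1 := by
      rw [hs, Q_add, QuadraticMap.map_smul, QuadraticMap.map_smul, polar_smul_left, polar_smul_right,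
        h3 p p' hpp, smul_zero, smul_zero, add_zero, smul_eq_mul, smul_eq_mul, ← hxy]
      ring
    have hQt : Q t = Q (u p) * Q (u p') := by
      rw [ht, Q_add, QuadraticMap.map_smul, QuadraticMap.map_smul, polar_smul_left, polar_smul_right,
        h3 p p' hpp, smul_zero, smul_zero, add_zero, smul_eq_mul, smul_eq_mul]
      linear_combination (Q (u p) * Q (u p')) * hxy
    have hst : polar Q s t = 0 := by
      have h5 := polar_comm (⇑Q) (u p') (u p)
      rw [h3 p p' hpp] at h5
      rw [hs, ht, polar_add_left, polar_add_right, polar_add_right, polar_smul_left, polar_smul_left,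
        polar_smul_left, polar_smul_left, polar_smul_right, polar_smul_right, polar_smul_right,
        polar_smul_right, h3 p p' hpp, h5, polar_self', polar_self']
      simp only [smul_eq_mul]
      ring
    have hperp : ∀ i, i ≠ p → i ≠ p' → polar Q (u i) s = 0 ∧ polar Q (u i) t = 0 := by
      intro i hi hi'
      rw [hs, ht, polar_add_right, polar_add_right, polar_smul_right, polar_smul_right, polar_smul_right,
        polar_smul_right, h3 i p hi, h3 i p' hi']
      simp
    refine ⟨Function.update (Function.update u p s) p' t, fun i => ?_, ?_, fun i hi => ?_⟩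
    · by_cases hi' : i = p'
      · rw [hi', Function.update_self, hQt]
        exact mul_ne_zero (h1 _) (h1 _)
      · rw [Function.update_of_ne hi']
        by_cases hi : i = p
        · rw [hi, Function.update_self, hQs]
          exact one_ne_zero
        · rw [Function.update_of_ne hi]
          exact h1 i
    · -- orthogonality
      have hval : ∀ i, Function.update (Function.update u p s) p' t i =
          if i = p' then t else if i = p then s else u i := by
        intro i
        by_cases hi' : i = p'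
        · rw [if_pos hi', hi', Function.update_self]
        · rw [Function.update_of_ne hi', if_neg hi']
          by_cases hi : i = p
          · rw [hi, Function.update_self, if_pos rfl]
          · rw [Function.update_of_ne hi, if_neg hi]
      intro i j hij
      rw [hval, hval]
      by_cases hi' : i = p'
      · have hj' : j ≠ p' := fun h => hij (by rw [hi', h])
        rw [if_pos hi', if_neg hj']
        by_cases hj : j = p
        · rw [if_pos hj, polar_comm, hst]
        · rw [if_neg hj, polar_comm]
          exact (hperp j hj hj').2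
      · rw [if_neg hi']
        by_cases hi : i = p
        · rw [if_pos hi]
          by_cases hj' : j = p'
          · rw [if_pos hj', hst]
          · have hj : j ≠ p := fun h => hij (by rw [hi, h])
            rw [if_neg hj', if_neg hj, polar_comm]
            exact (hperp j hj hj').1
        · rw [if_neg hi]
          by_cases hj' : j = p'
          · rw [if_pos hj']
            exact (hperp i hi hi').2
          · rw [if_neg hj']
            by_cases hj : j = p
            · rw [if_pos hj]
              exact (hperp i hi hi').1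
            · rw [if_neg hj]
              exact h3 i j hij
    · have hi' : i ≠ p' := by
        intro h
        rw [h] at hi
        simp [hp'] at hi
      rw [Function.update_of_ne hi']
      by_cases hip : i = p
      · rw [hip, Function.update_self, hQs]
      · rw [Function.update_of_ne hip]
        apply h4
        have : i.val ≠ k := fun h => hip (Fin.ext h)
        omega

omit [DecidableEq I] [Finite F] in
/-- a frame from an orthogonal family -/
theorem exists_frame {Q : QuadraticForm F (I → F)} {ι ν : Type} [Fintype ι] [Fintype ν] [Nonempty ι]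
    (h2 : (2 : F) ≠ 0) (w : ι ⊕ ν → (I → F)) (c c' : F) (hc : c ≠ 0) (hc' : c' ≠ 0)
    (hcard : Fintype.card (ι ⊕ ν) = Fintype.card I) (hv : ∀ i, Q (w (.inl i)) = c)
    (hv' : ∀ u, Q (w (.inr u)) = c') (ho : ∀ i j, i ≠ j → polar Q (w i) (w j) = 0) :
    ∃ A : Frame Q ι ν, A.c = c ∧ A.c' = c' := by
  classical
  have hn : ∀ i, Q (w i) ≠ 0 := by
    rintro (i | u)
    · rw [hv]; exact hc
    · rw [hv']; exact hc'
  have hli : LinearIndependent F w := by
    refine LinearMap.linearIndependent_of_isOrthoᵢ (B := polarBilin Q) ?_ ?_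
    · intro i j hij
      exact ho i j hij
    · intro i h
      have h' : polar Q (w i) (w i) = 0 := h
      rw [polar_self'] at h'
      exact hn i ((mul_eq_zero.1 h').resolve_left h2)
  let b := basisOfLinearIndependentOfCardEqFinrank hli (by
    rw [hcard, Module.finrank_fintype_fun_eq_card])
  have hb : ∀ i, b i = w i := fun i => by
    rw [show b = _ from rfl, coe_basisOfLinearIndependentOfCardEqFinrank]
  have e1 : ∀ i, Q (b (.inl i)) = c := fun i => by rw [hb, hv]
  have e2 : ∀ u, Q (b (.inr u)) = c' := fun u => by rw [hb, hv']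
  have e3 : ∀ i j, i ≠ j → polar Q (b i) (b j) = 0 := fun i j hij => by rw [hb, hb, ho i j hij]
  exact ⟨⟨b, c, c', hc, hc', e1, e2, e3⟩, rfl, rfl⟩

end families

/-! ### Blocks from the binary digits -/

section digits

/-- the index type of the blocks: the binary digits of `N` -/
abbrev Dig (N : ℕ) := {i : ℕ // i ∈ N.bitIndices.toFinset}

/-- the exponents -/
abbrev de (N : ℕ) : Dig N → ℕ := Subtype.val

theorem card_Pt_de (N : ℕ) : Fintype.card (Pt (de N)) = N := by
  rw [card_Pt]
  rw [Finset.sum_coe_sort N.bitIndices.toFinset fun i => 2 ^ i]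
  exact Finset.sum_toFinset_bitIndices_two_pow N

theorem exists_big {N : ℕ} (hN : 4 ≤ N) : ∃ l : Dig N, 2 ≤ de N l := by
  by_contra h
  push Not at h
  have h1 := Finset.sum_toFinset_bitIndices_two_pow N
  have h2 : ∑ i ∈ N.bitIndices.toFinset, 2 ^ i ≤ ∑ i ∈ Finset.range 2, 2 ^ i := by
    apply Finset.sum_le_sum_of_subset
    intro i hi
    exact Finset.mem_range.2 (h ⟨i, hi⟩)
  rw [h1] at h2
  simp [Finset.sum_range_succ] at h2
  omega

theorem exists_other {N : ℕ} (hN : ∀ i, N ≠ 2 ^ i) (k : Dig N) : ∃ l : Dig N, l ≠ k := by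
  by_contra h
  push Not at h
  apply hN k.1
  have h1 := Finset.sum_toFinset_bitIndices_two_pow N
  rw [← Finset.sum_coe_sort N.bitIndices.toFinset fun i => 2 ^ i,
    Finset.sum_eq_single k (fun b _ hb => absurd (h b) hb) (fun h => absurd (Finset.mem_univ _) h)] at h1
  exact h1.symm

end digits

end Cfsg.Agent.Omega.Lie.CenOrthA
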