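import Mathlib

/-!
# (ZS) rows: conjugation of `SL₂(F)` by elements acting on the root elements by scalars

* `up`, `lo`, `closure_up_lo`;
* `dl a` : conjugation by `diag(a, 1)`, `sw a` : conjugation by the antidiagonal matrix;
* `scal`, `scal_sw` : the conjugation by an element of an overgroup which acts on the root elements by scalars;
* `fix`, `fix_sw` : the fixed points commute;
* `exists_pair` : `F` of odd order: a noncommutative 2-subgroup `⟨x, y⟩` of `SL₂(F)`.
-/

set_option autoImplicit false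

namespace Cfsg.Agent.Omega.Lie.CenSL

variable {F : Type*} [Field F]

/-- `SL₂(F)` -/
abbrev SL2 (F : Type*) [Field F] := Matrix.SpecialLinearGroup (Fin 2) F

/-- upper unitriangular -/
def up (t : F) : SL2 F := ⟨!![1, t; 0, 1], by simp⟩

/-- lower unitriangular -/
def lo (t : F) : SL2 F := ⟨!![1, 0; t, 1], by simp⟩

theorem closure_up_lo : Subgroup.closure (Set.range (up (F := F)) ∪ Set.range (lo (F := F))) = ⊤ := by
  rw [eq_top_iff]
  rintro g -
  have hu : ∀ t : F, up t ∈ Subgroup.closure (Set.range (up (F := F)) ∪ Set.range (lo (F := F))) :=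
    fun t => Subgroup.subset_closure (Or.inl ⟨t, rfl⟩)
  have hl : ∀ t : F, lo t ∈ Subgroup.closure (Set.range (up (F := F)) ∪ Set.range (lo (F := F))) :=
    fun t => Subgroup.subset_closure (Or.inr ⟨t, rfl⟩)
  have key : ∀ g : SL2 F, g.1 1 0 ≠ 0 →
      g ∈ Subgroup.closure (Set.range (up (F := F)) ∪ Set.range (lo (F := F))) := by
    intro g hc
    have hdet : g.1 0 0 * g.1 1 1 - g.1 0 1 * g.1 1 0 = 1 := by
      rw [← Matrix.det_fin_two]; exact g.2
    have : g = up ((g.1 0 0 - 1) / g.1 1 0) * lo (g.1 1 0) * up ((g.1 1 1 - 1) / g.1 1 0) := by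
      apply Subtype.ext
      show g.1 = (up ((g.1 0 0 - 1) / g.1 1 0)).1 * (lo (g.1 1 0)).1 *
        (up ((g.1 1 1 - 1) / g.1 1 0)).1
      ext i j
      fin_cases i <;> fin_cases j
      · simp [up, lo, Matrix.mul_apply, Fin.sum_univ_two, hc]
      · simp [up, lo, Matrix.mul_apply, Fin.sum_univ_two]
        field_simp
        linear_combination -hdet
      · simp [up, lo, Matrix.mul_apply, Fin.sum_univ_two]
      · simp [up, lo, Matrix.mul_apply, Fin.sum_univ_two]
        field_simp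
        ring
    rw [this]
    exact mul_mem (mul_mem (hu _) (hl _)) (hu _)
  by_cases hc : g.1 1 0 = 0
  · have hdet : g.1 0 0 * g.1 1 1 - g.1 0 1 * g.1 1 0 = 1 := by
      rw [← Matrix.det_fin_two]; exact g.2
    have h1 : g * lo 1 ∈ Subgroup.closure (Set.range (up (F := F)) ∪ Set.range (lo (F := F))) := by
      apply key
      have : (g * lo 1).1 1 0 = g.1 1 0 + g.1 1 1 := by
        change ((g.1 * (lo 1).1 : Matrix (Fin 2) (Fin 2) F)) 1 0 = _
        simp [lo, Matrix.mul_apply, Fin.sum_univ_two]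
      rw [this, hc, zero_add]
      intro h
      rw [hc, h] at hdet
      simp at hdet
    have h2 := mul_mem h1 (inv_mem (hl 1))
    rwa [mul_inv_cancel_right] at h2
  · exact key g hc

/-- two homomorphisms which agree on the root elements -/
theorem hom_ext {Y : Type*} [Group Y] {φ ψ : SL2 F →* Y} (hu : ∀ c, φ (up c) = ψ (up c))
    (hl : ∀ c, φ (lo c) = ψ (lo c)) : φ = ψ := by
  apply MonoidHom.eq_of_eqOn_dense closure_up_lo
  rintro _ (⟨c, rfl⟩ | ⟨c, rfl⟩)
  · exact hu c
  · exact hl c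

theorem ext2 {g k : SL2 F} (h00 : g.1 0 0 = k.1 0 0) (h01 : g.1 0 1 = k.1 0 1) (h10 : g.1 1 0 = k.1 1 0)
    (h11 : g.1 1 1 = k.1 1 1) : g = k := by
  apply Subtype.ext
  ext i j
  fin_cases i <;> fin_cases j
  · exact h00
  · exact h01
  · exact h10
  · exact h11

theorem mul_ent (g k : SL2 F) (i j : Fin 2) : (g * k).1 i j = g.1 i 0 * k.1 0 j + g.1 i 1 * k.1 1 j := by
  show (g.1 * k.1) i j = _
  rw [Matrix.mul_apply, Fin.sum_univ_two]

theorem det_ent (g : SL2 F) : g.1 0 0 * g.1 1 1 - g.1 0 1 * g.1 1 0 = 1 := by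
  rw [← Matrix.det_fin_two]; exact g.2

/-- the matrix with given entries -/
def mk (p q r s : F) (h : p * s - q * r = 1) : SL2 F := ⟨!![p, q; r, s], by rw [Matrix.det_fin_two]; exact h⟩

@[simp] theorem mk00 (p q r s : F) (h) : (mk p q r s h).1 0 0 = p := rfl
@[simp] theorem mk01 (p q r s : F) (h) : (mk p q r s h).1 0 1 = q := rfl
@[simp] theorem mk10 (p q r s : F) (h) : (mk p q r s h).1 1 0 = r := rfl
@[simp] theorem mk11 (p q r s : F) (h) : (mk p q r s h).1 1 1 = s := rfl
@[simp] theorem up00 (c : F) : (up c).1 0 0 = 1 := rfl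
@[simp] theorem up01 (c : F) : (up c).1 0 1 = c := rfl
@[simp] theorem up10 (c : F) : (up c).1 1 0 = 0 := rfl
@[simp] theorem up11 (c : F) : (up c).1 1 1 = 1 := rfl
@[simp] theorem lo00 (c : F) : (lo c).1 0 0 = 1 := rfl
@[simp] theorem lo01 (c : F) : (lo c).1 0 1 = 0 := rfl
@[simp] theorem lo10 (c : F) : (lo c).1 1 0 = c := rfl
@[simp] theorem lo11 (c : F) : (lo c).1 1 1 = 1 := rfl
@[simp] theorem one00 : (1 : SL2 F).1 0 0 = 1 := rfl
@[simp] theorem one01 : (1 : SL2 F).1 0 1 = 0 := rfl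
@[simp] theorem one10 : (1 : SL2 F).1 1 0 = 0 := rfl
@[simp] theorem one11 : (1 : SL2 F).1 1 1 = 1 := rfl

/-- conjugation by `diag(a, 1)` -/
def dl (a : F) (ha : a ≠ 0) : SL2 F →* SL2 F where
  toFun g := mk (g.1 0 0) (a * g.1 0 1) (a⁻¹ * g.1 1 0) (g.1 1 1) (by
    have hdet := det_ent g
    field_simp
    linear_combination hdet)
  map_one' := by
    apply ext2 <;> simp
  map_mul' g k := by
    apply ext2 <;> simp only [mk00, mk01, mk10, mk11, mul_ent]
    · field_simp
    · field_simp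
    · field_simp
    · field_simp

/-- conjugation by the antidiagonal matrix -/
def sw (a : F) (ha : a ≠ 0) : SL2 F →* SL2 F where
  toFun g := mk (g.1 1 1) (a⁻¹ * g.1 1 0) (a * g.1 0 1) (g.1 0 0) (by
    have hdet := det_ent g
    field_simp
    linear_combination hdet)
  map_one' := by
    apply ext2 <;> simp
  map_mul' g k := by
    apply ext2 <;> simp only [mk00, mk01, mk10, mk11, mul_ent]
    · field_simp; ring
    · field_simp; ring
    · field_simp; ring
    · field_simp; ring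

theorem dl_apply (a : F) (ha : a ≠ 0) (g : SL2 F) : (dl a ha g).1 0 0 = g.1 0 0 ∧ (dl a ha g).1 0 1 = a * g.1 0 1 ∧
    (dl a ha g).1 1 0 = a⁻¹ * g.1 1 0 ∧ (dl a ha g).1 1 1 = g.1 1 1 := ⟨rfl, rfl, rfl, rfl⟩

theorem sw_apply (a : F) (ha : a ≠ 0) (g : SL2 F) : (sw a ha g).1 0 0 = g.1 1 1 ∧ (sw a ha g).1 0 1 = a⁻¹ * g.1 1 0 ∧
    (sw a ha g).1 1 0 = a * g.1 0 1 ∧ (sw a ha g).1 1 1 = g.1 0 0 := ⟨rfl, rfl, rfl, rfl⟩

theorem dl_up (a : F) (ha : a ≠ 0) (c : F) : dl a ha (up c) = up (a * c) := by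
  obtain ⟨h1, h2, h3, h4⟩ := dl_apply a ha (up c)
  apply ext2
  · rw [h1]; simp
  · rw [h2]; simp
  · rw [h3]; simp
  · rw [h4]; simp

theorem dl_lo (a : F) (ha : a ≠ 0) (c : F) : dl a ha (lo c) = lo (a⁻¹ * c) := by
  obtain ⟨h1, h2, h3, h4⟩ := dl_apply a ha (lo c)
  apply ext2
  · rw [h1]; simp
  · rw [h2]; simp
  · rw [h3]; simp
  · rw [h4]; simp

theorem sw_up (a : F) (ha : a ≠ 0) (c : F) : sw a ha (up c) = lo (a * c) := by
  obtain ⟨h1, h2, h3, h4⟩ := sw_apply a ha (up c)
  apply ext2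
  · rw [h1]; simp
  · rw [h2]; simp
  · rw [h3]; simp
  · rw [h4]; simp

theorem sw_lo (a : F) (ha : a ≠ 0) (c : F) : sw a ha (lo c) = up (a⁻¹ * c) := by
  obtain ⟨h1, h2, h3, h4⟩ := sw_apply a ha (lo c)
  apply ext2
  · rw [h1]; simp
  · rw [h2]; simp
  · rw [h3]; simp
  · rw [h4]; simp

/-- the relation between the root elements -/
theorem rel_one : up (1 : F) * lo (-1) * up 1 = lo (-1) * up 1 * lo (-1) := by
  apply ext2 <;> simp [mul_ent]

theorem rel_eq {a b : F} (ha : a ≠ 0) (h : up a * lo (-b) * up a = lo (-b) * up a * lo (-b)) : a * b = 1 := by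
  have h1 := congrArg (fun g : SL2 F => g.1 0 1) h
  simp [mul_ent] at h1
  have h3 := h1.resolve_right ha
  linear_combination -h3

theorem rel_eq' {a b : F} (ha : a ≠ 0) (h : lo a * up (-b) * lo a = up (-b) * lo a * up (-b)) : a * b = 1 := by
  have h1 := congrArg (fun g : SL2 F => g.1 1 0) h
  simp [mul_ent] at h1
  have h3 := h1.resolve_right ha
  linear_combination -h3

theorem up_ne {c : F} (hc : c ≠ 0) : up c ≠ 1 := fun h => hc (by
  have := congrArg (fun g : SL2 F => g.1 0 1) h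
  simpa using this)

variable {Y : Type*} [Group Y]

/-- conjugation by an element acting on the root elements by scalars -/
theorem scal {φ ψ : SL2 F →* Y} (hφ : Function.Injective φ) (hψ : Function.Injective ψ) {g : Y} {a b : F}
    (hu : ∀ c, g * φ (up c) * g⁻¹ = ψ (up (a * c))) (hl : ∀ c, g * φ (lo c) * g⁻¹ = ψ (lo (b * c))) :
    ∃ ha : a ≠ 0, b = a⁻¹ ∧ ∀ M, g * φ M * g⁻¹ = ψ (dl a ha M) := by
  have ha : a ≠ 0 := by
    rintro rfl
    have h1 := hu 1
    rw [zero_mul] at h1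
    have h2 : up (0 : F) = 1 := by apply ext2 <;> simp
    rw [h2, map_one, mul_inv_eq_one, mul_eq_left] at h1
    exact up_ne one_ne_zero (hφ (by rw [h1, map_one]))
  have hab : a * b = 1 := by
    apply rel_eq ha
    apply hψ
    have h1 := congrArg (fun M => g * φ M * g⁻¹) (rel_one (F := F))
    have e1 : g * φ (up 1 * lo (-1) * up 1) * g⁻¹ =
        (g * φ (up 1) * g⁻¹) * (g * φ (lo (-1)) * g⁻¹) * (g * φ (up 1) * g⁻¹) := by
      rw [map_mul, map_mul]; group
    have e2 : g * φ (lo (-1) * up 1 * lo (-1)) * g⁻¹ =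
        (g * φ (lo (-1)) * g⁻¹) * (g * φ (up 1) * g⁻¹) * (g * φ (lo (-1)) * g⁻¹) := by
      rw [map_mul, map_mul]; group
    simp only [e1, e2, hu, hl] at h1
    simpa only [map_mul, mul_one, mul_neg] using h1
  have hb : b = a⁻¹ := eq_inv_of_mul_eq_one_right hab
  refine ⟨ha, hb, fun M => ?_⟩
  have h1 : (MulAut.conj g).toMonoidHom.comp φ = ψ.comp (dl a ha) := by
    apply hom_ext
    · intro c
      show g * φ (up c) * g⁻¹ = ψ (dl a ha (up c))
      rw [dl_up, hu]
    · intro c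
      show g * φ (lo c) * g⁻¹ = ψ (dl a ha (lo c))
      rw [dl_lo, hl, hb]
  exact DFunLike.congr_fun h1 M

/-- the same for an element exchanging the root groups -/
theorem scal_sw {φ ψ : SL2 F →* Y} (hφ : Function.Injective φ) (hψ : Function.Injective ψ) {g : Y} {a b : F}
    (hu : ∀ c, g * φ (up c) * g⁻¹ = ψ (lo (a * c))) (hl : ∀ c, g * φ (lo c) * g⁻¹ = ψ (up (b * c))) :
    ∃ ha : a ≠ 0, b = a⁻¹ ∧ ∀ M, g * φ M * g⁻¹ = ψ (sw a ha M) := by
  have ha : a ≠ 0 := by
    rintro rfl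
    have h1 := hu 1
    rw [zero_mul] at h1
    have h2 : lo (0 : F) = 1 := by apply ext2 <;> simp
    rw [h2, map_one, mul_inv_eq_one, mul_eq_left] at h1
    exact up_ne one_ne_zero (hφ (by rw [h1, map_one]))
  have hab : a * b = 1 := by
    apply rel_eq' ha
    apply hψ
    have h1 := congrArg (fun M => g * φ M * g⁻¹) (rel_one (F := F))
    have e1 : g * φ (up 1 * lo (-1) * up 1) * g⁻¹ =
        (g * φ (up 1) * g⁻¹) * (g * φ (lo (-1)) * g⁻¹) * (g * φ (up 1) * g⁻¹) := by
      rw [map_mul, map_mul]; group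
    have e2 : g * φ (lo (-1) * up 1 * lo (-1)) * g⁻¹ =
        (g * φ (lo (-1)) * g⁻¹) * (g * φ (up 1) * g⁻¹) * (g * φ (lo (-1)) * g⁻¹) := by
      rw [map_mul, map_mul]; group
    simp only [e1, e2, hu, hl] at h1
    simpa only [map_mul, mul_one, mul_neg] using h1
  have hb : b = a⁻¹ := eq_inv_of_mul_eq_one_right hab
  refine ⟨ha, hb, fun M => ?_⟩
  have h1 : (MulAut.conj g).toMonoidHom.comp φ = ψ.comp (sw a ha) := by
    apply hom_ext
    · intro c
      show g * φ (up c) * g⁻¹ = ψ (sw a ha (up c))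
      rw [sw_up, hu]
    · intro c
      show g * φ (lo c) * g⁻¹ = ψ (sw a ha (lo c))
      rw [sw_lo, hl, hb]
  exact DFunLike.congr_fun h1 M

/-- the fixed points of `dl a`, `a ≠ 1`, commute -/
theorem fix {a : F} {ha : a ≠ 0} {x y : SL2 F} (hx : dl a ha x = x) (hy : dl a ha y = y) (hxy : x * y ≠ y * x) :
    a = 1 := by
  by_contra h1
  have key : ∀ z : SL2 F, dl a ha z = z → z.1 0 1 = 0 ∧ z.1 1 0 = 0 := by
    intro z hz
    obtain ⟨-, h2, h3, -⟩ := dl_apply a ha z
    rw [hz] at h2 h3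
    constructor
    · have h4 : (a - 1) * z.1 0 1 = 0 := by linear_combination -h2
      exact (mul_eq_zero.1 h4).resolve_left (sub_ne_zero.2 h1)
    · have h4 : (a - 1) * z.1 1 0 = 0 := by
        have h5 : a * z.1 1 0 = z.1 1 0 := by
          conv_lhs => rw [h3]
          rw [mul_inv_cancel_left₀ ha]
        linear_combination h5
      exact (mul_eq_zero.1 h4).resolve_left (sub_ne_zero.2 h1)
  obtain ⟨hx1, hx2⟩ := key x hx
  obtain ⟨hy1, hy2⟩ := key y hy
  apply hxy
  apply ext2 <;> simp only [mul_ent, hx1, hx2, hy1, hy2] <;> ring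

/-- the fixed points of `sw a` commute -/
theorem fix_sw {a : F} {ha : a ≠ 0} {x y : SL2 F} (hx : sw a ha x = x) (hy : sw a ha y = y) : x * y = y * x := by
  obtain ⟨h1, h2, h3, -⟩ := sw_apply a ha x
  obtain ⟨k1, k2, k3, -⟩ := sw_apply a ha y
  rw [hx] at h1 h2 h3
  rw [hy] at k1 k2 k3
  apply ext2 <;> simp only [mul_ent, h1, h3, k1, k3] <;> ring

/-- a noncommutative 2-subgroup of `SL₂(F)` -/
theorem exists_pair [Finite F] (h2 : (2 : F) ≠ 0) :
    ∃ x y : SL2 F, x * y ≠ y * x ∧ IsPGroup 2 (Subgroup.closure {x, y}) := by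
  classical
  have := Fintype.ofFinite F
  have hodd : Fintype.card F % 2 = 1 := by
    apply FiniteField.odd_card_of_char_ne_two
    intro h3
    apply h2
    have := CharP.cast_eq_zero F (ringChar F)
    rw [h3] at this
    exact_mod_cast this
  obtain ⟨a, b, hab⟩ : ∃ a b : F, a ^ 2 + b ^ 2 = -1 := by
    obtain ⟨a, b, hab⟩ := FiniteField.exists_root_sum_quadratic (R := F) (f := Polynomial.X ^ 2)
      (g := Polynomial.X ^ 2 + 1) (Polynomial.degree_X_pow 2) (by
        have := Polynomial.degree_X_pow_add_C (R := F) (n := 2) (by norm_num) 1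
        simpa using this) hodd
    refine ⟨a, b, ?_⟩
    simp only [Polynomial.eval_pow, Polynomial.eval_X, Polynomial.eval_add, Polynomial.eval_one] at hab
    linear_combination hab
  let x : SL2 F := mk 0 1 (-1) 0 (by ring)
  let y : SL2 F := mk a b b (-a) (by linear_combination -hab)
  have hxx : x * x = y * y := by
    apply ext2 <;> simp only [mul_ent, x, y, mk00, mk01, mk10, mk11]
    · linear_combination -hab
    · ring
    · ring
    · linear_combination -hab
  have hx4 : x ^ 4 = 1 := by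
    have h3 : x ^ 4 = (x * x) * (x * x) := by rw [← pow_two, ← pow_two, ← pow_mul]
    rw [h3]
    apply ext2 <;> simp only [mul_ent, x, mk00, mk01, mk10, mk11, one00, one01, one10, one11] <;> ring
  have hy4 : y ^ 4 = 1 := by
    have h3 : y ^ 4 = (y * y) * (y * y) := by rw [← pow_two, ← pow_two, ← pow_mul]
    rw [h3, ← hxx]
    have h4 : x ^ 4 = (x * x) * (x * x) := by rw [← pow_two, ← pow_two, ← pow_mul]
    rw [← h4, hx4]
  have hyx : y * x * y⁻¹ = x⁻¹ := by
    rw [mul_inv_eq_iff_eq_mul, eq_comm, inv_mul_eq_iff_eq_mul]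
    apply ext2 <;> simp only [mul_ent, x, y, mk00, mk01, mk10, mk11] <;> ring
  refine ⟨x, y, ?_, ?_⟩
  · intro h3
    have h4 := congrArg (fun g : SL2 F => g.1 0 0) h3
    have h5 := congrArg (fun g : SL2 F => g.1 0 1) h3
    simp only [mul_ent, x, y, mk00, mk01, mk10, mk11] at h4 h5
    have h6 : (2 : F) * b = 0 := by linear_combination h4
    have h7 : (2 : F) * a = 0 := by linear_combination -h5
    have hb := (mul_eq_zero.1 h6).resolve_left h2
    have ha := (mul_eq_zero.1 h7).resolve_left h2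
    rw [ha, hb] at hab
    have h8 : (1 : F) = 0 := by linear_combination hab
    exact one_ne_zero h8
  · have e : Subgroup.closure {x, y} = Subgroup.zpowers x ⊔ Subgroup.zpowers y := by
      rw [Subgroup.zpowers_eq_closure, Subgroup.zpowers_eq_closure, ← Subgroup.closure_union]
      rfl
    have hp : ∀ z : SL2 F, z ^ 4 = 1 → IsPGroup 2 (Subgroup.zpowers z) := by
      intro z hz
      rw [IsPGroup]
      rintro ⟨g, k, rfl⟩
      refine ⟨2, Subtype.ext ?_⟩
      show (z ^ k) ^ (2 ^ 2) = 1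
      rw [← zpow_natCast, ← zpow_mul, mul_comm, zpow_mul]
      have : z ^ (((2 ^ 2 : ℕ)) : ℤ) = 1 := by
        rw [zpow_natCast]; exact hz
      rw [this, one_zpow]
    rw [e]
    refine IsPGroup.to_sup_of_normal_left' (hp x hx4) (hp y hy4) ?_
    rw [Subgroup.zpowers_le, Subgroup.mem_normalizer_iff]
    have h3 : ∀ k : ℤ, y * x ^ k * y⁻¹ = (x ^ k)⁻¹ := by
      intro k
      rw [← conj_zpow, hyx, inv_zpow]
    intro z
    constructor
    · rintro ⟨k, rfl⟩
      rw [h3]
      exact inv_mem (Subgroup.zpow_mem_zpowers x k)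
    · rintro ⟨k, hk⟩
      have h4 : z = y⁻¹ * (x ^ k) * y := by
        simp only at hk
        rw [hk]; group
      have h5 : y⁻¹ * x ^ k * y = (x ^ k)⁻¹ := by
        have h6 := h3 (-k)
        rw [zpow_neg, inv_inv] at h6
        have h7 : y⁻¹ * (y * (x ^ k)⁻¹ * y⁻¹) * y = (x ^ k)⁻¹ := by group
        rw [h6] at h7
        exact h7
      rw [h4, h5]
      exact inv_mem (Subgroup.zpow_mem_zpowers x k)

end Cfsg.Agent.Omega.Lie.CenSL
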