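import Cfsg.Agent.Nodes.NormalForm
import Cfsg.Agent.Omega.Lie.CenSL
import Cfsg.Agent.Omega.Lie.CenExp

/-!
# (ZS) rows: a 2-subgroup centralising only one involution, from a root group datum with long root data

`Long` : the long root groups are parametrised by a field `F`, `⟨X x, X (-x)⟩` is `SL₂(F)`.
`Comb` : pairwise orthogonal long roots `β j` and an element `w₀` of `W` of 2-power order.
`oneInv` : a 2-subgroup `E` of the group which centralises at most one involution.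
-/

set_option autoImplicit false
set_option linter.unusedSectionVars false

namespace Cfsg.Agent.Omega.Lie.CenRGD

open CoxeterSystem Cfsg.Agent.ChevalleyStructure.CoxeterGeom Cfsg.Agent.Tits.Roots Cfsg.Agent.Tits.Core
  Cfsg.Agent.Nodes.Reps Cfsg.Agent.Nodes.BNOf Cfsg.Agent.Nodes.Bruhat Cfsg.Agent.Nodes.NormalForm
  Cfsg.Agent.Omega.Lie.CenSL Cfsg.Agent.Omega.Lie.CenExp

variable {I W Y F ι : Type*} [Fintype I] [DecidableEq I] [Group W] [Group Y] [Field F] {M : CoxeterMatrix I}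

/-- `-1 ∈ SL₂(F)` in the root elements -/
def zz (e : (I → ℤ) → F → Y) (x : I → ℤ) : Y :=
  (e x 1 * e (-x) (-1) * e x 1) * (e x 1 * e (-x) (-1) * e x 1)

/-- long root data -/
structure Long (cs : CoxeterSystem M W) {A : I → I → ℤ} (h : IsCartan M A) (T : Subgroup Y) (n : I → Y)
    (X : (I → ℤ) → Subgroup Y) (LR : Set (I → ℤ)) (e : (I → ℤ) → F → Y) (φ : (I → ℤ) → SL2 F →* Y)
    (ζ : (I → ℤ) → (I → ℤ) → ZMod 2) : Prop where
  root : ∀ x ∈ LR, IsRoot cs h x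
  act : ∀ (w : W), ∀ x ∈ LR, rep cs h w x ∈ LR
  neg : ∀ x ∈ LR, -x ∈ LR
  inj : ∀ x ∈ LR, Function.Injective (φ x)
  up : ∀ x ∈ LR, ∀ c, φ x (up c) = e x c
  lo : ∀ x ∈ LR, ∀ c, φ x (lo c) = e (-x) c
  tor : ∀ x ∈ LR, ∀ t ∈ T, ∃ a, ∀ b, t * e x b * t⁻¹ = e x (a * b)
  nn : ∀ i, ∀ x ∈ LR, ∃ a, ∀ b, n i * e x b * (n i)⁻¹ = e (rep cs h (cs.simple i) x) (a * b)
  memX : ∀ x ∈ LR, ∀ b, e x b ∈ X x
  zT : ∀ x ∈ LR, zz e x ∈ T
  zact : ∀ x ∈ LR, ∀ y, IsRoot cs h y → ∀ u ∈ X y, zz e x * u * (zz e x)⁻¹ = if ζ x y = 0 then u else u⁻¹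
  sgn : ∀ c ∈ T, c * c = 1 → ∃ ε : (I → ℤ) →+ ZMod 2, ∀ y, IsRoot cs h y → ∀ u ∈ X y,
    c * u * c⁻¹ = if ε y = 0 then u else u⁻¹
  cen : ∀ c ∈ T, c * c = 1 → (∀ y, IsRoot cs h y → ∀ u ∈ X y, c * u * c⁻¹ = u) → c = 1
  tcomm : ∀ s ∈ T, ∀ t ∈ T, s * t = t * s

/-- orthogonal long roots and an element of the Weyl group -/
structure Comb (cs : CoxeterSystem M W) {A : I → I → ℤ} (h : IsCartan M A) (LR : Set (I → ℤ))
    (ζ : (I → ℤ) → (I → ℤ) → ZMod 2) (w₀ : W) (β : ι → (I → ℤ)) : Prop where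
  mem : ∀ j, β j ∈ LR
  perm : ∀ j, ∃ k, rep cs h w₀ (β j) = β k ∨ rep cs h w₀ (β j) = -β k
  pow : ∃ s : ℕ, w₀ ^ 2 ^ s = 1
  one : ∃ ε₀ : (I → ℤ) →+ ZMod 2, ∀ ε : (I → ℤ) →+ ZMod 2, (∀ j, ε (β j) = 0) →
    (∀ y, IsRoot cs h y → ε (rep cs h w₀ y) = ε y) →
      (∀ y, IsRoot cs h y → ε y = 0) ∨ ∀ y, IsRoot cs h y → ε y = ε₀ y
  par : ∀ w : W, (∀ x ∈ LR, ∀ y, IsRoot cs h y → ζ (rep cs h w x) y = ζ x y) →
    w = 1 ∨ ∀ x ∈ LR, rep cs h w x = -x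
  odd : ∀ y, IsRoot cs h y → ∃ x ∈ LR, ζ x y ≠ 0

variable {cs : CoxeterSystem M W} {A : I → I → ℤ} {h : IsCartan M A} {p : ℕ} {T : Subgroup Y} {n : I → Y}
  {X : (I → ℤ) → Subgroup Y} {LR : Set (I → ℤ)} {e : (I → ℤ) → F → Y} {φ : (I → ℤ) → SL2 F →* Y}
  {ζ : (I → ℤ) → (I → ℤ) → ZMod 2} {w₀ : W} {β : ι → (I → ℤ)}

theorem zmod_eq : ∀ a b : ZMod 2, (a = 0 ↔ b = 0) → a = b := by decide

/-- `-1` -/
def neg1 : SL2 F := (up 1 * lo (-1) * up 1) * (up 1 * lo (-1) * up 1)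

theorem neg1_ent : (neg1 : SL2 F).1 0 0 = -1 ∧ (neg1 : SL2 F).1 0 1 = 0 ∧ (neg1 : SL2 F).1 1 0 = 0 ∧
    (neg1 : SL2 F).1 1 1 = -1 := by
  unfold neg1
  refine ⟨?_, ?_, ?_, ?_⟩ <;> simp [mul_ent]

theorem dl_neg1 (a : F) (ha : a ≠ 0) : dl a ha neg1 = neg1 := by
  obtain ⟨h1, h2, h3, h4⟩ := dl_apply a ha neg1
  obtain ⟨k1, k2, k3, k4⟩ := neg1_ent (F := F)
  apply ext2
  · exact h1
  · rw [h2, k2, mul_zero]
  · rw [h3, k3, mul_zero]
  · exact h4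

theorem neg1_sq : (neg1 : SL2 F) * neg1 = 1 := by
  obtain ⟨k1, k2, k3, k4⟩ := neg1_ent (F := F)
  apply ext2 <;> simp [mul_ent, k1, k2, k3, k4]

section Conj

variable (R : RGD cs h p T n X) (L : Long cs h T n X LR e φ ζ)

include L in
theorem phi_neg1 {x : I → ℤ} (hx : x ∈ LR) : φ x neg1 = zz e x := by
  unfold neg1 zz
  simp only [map_mul, L.up x hx, L.lo x hx]

include L in
theorem zz_sq {x : I → ℤ} (hx : x ∈ LR) : zz e x * zz e x = 1 := by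
  rw [← phi_neg1 L hx, ← map_mul, neg1_sq, map_one]

include R L

theorem conj_e {w : W} {g : Y} (hg : Rp cs R.nsys w g) {x : I → ℤ} (hx : x ∈ LR) :
    ∃ a, ∀ b, g * e x b * g⁻¹ = e (rep cs h w x) (a * b) := by
  have key : ∀ ω : List I, ∃ k, Rp cs R.nsys (cs.wordProd ω) k ∧
      ∃ a, ∀ b, k * e x b * k⁻¹ = e (rep cs h (cs.wordProd ω) x) (a * b) := by
    intro ω
    induction ω with
    | nil =>
      refine ⟨1, by rw [wordProd_nil]; exact rp_one, 1, fun b => ?_⟩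
      rw [wordProd_nil, map_one, Module.End.one_apply, one_mul, one_mul, inv_one, mul_one]
    | cons i ω ih =>
      obtain ⟨k, hk, a, ha⟩ := ih
      obtain ⟨a', ha'⟩ := L.nn i _ (L.act (cs.wordProd ω) x hx)
      refine ⟨n i * k, ?_, a' * a, fun b => ?_⟩
      · rw [wordProd_cons]; exact (rp_simple cs R.nsys i).mul hk
      · have h1 : n i * k * e x b * (n i * k)⁻¹ = n i * (k * e x b * k⁻¹) * (n i)⁻¹ := by group
        rw [h1, ha, ha', ← rep_mul_apply, wordProd_cons, mul_assoc]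
  obtain ⟨ω, rfl⟩ := cs.wordProd_surjective w
  obtain ⟨k, hk, a, ha⟩ := key ω
  obtain ⟨a', ha'⟩ := L.tor x hx _ (hk.unique hg)
  refine ⟨a * a', fun b => ?_⟩
  have h1 : g * e x b * g⁻¹ = k * ((k⁻¹ * g) * e x b * (k⁻¹ * g)⁻¹) * k⁻¹ := by group
  rw [h1, ha', ha, mul_assoc]

theorem conj_phi {w : W} {g : Y} (hg : Rp cs R.nsys w g) {x : I → ℤ} (hx : x ∈ LR) :
    ∃ (a : F) (ha : a ≠ 0), ∀ N, g * φ x N * g⁻¹ = φ (rep cs h w x) (dl a ha N) := by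
  obtain ⟨a, ha⟩ := conj_e R L hg hx
  obtain ⟨b, hb⟩ := conj_e R L hg (L.neg x hx)
  obtain ⟨ha0, -, h1⟩ := scal (L.inj x hx) (L.inj _ (L.act w x hx)) (g := g) (a := a) (b := b)
    (fun c => by rw [L.up x hx, L.up _ (L.act w x hx), ha])
    (fun c => by rw [L.lo x hx, L.lo _ (L.act w x hx), hb, map_neg])
  exact ⟨a, ha0, h1⟩

theorem conj_zz {w : W} {g : Y} (hg : Rp cs R.nsys w g) {x : I → ℤ} (hx : x ∈ LR) :
    g * zz e x * g⁻¹ = zz e (rep cs h w x) := by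
  obtain ⟨a, ha, h1⟩ := conj_phi R L hg hx
  rw [← phi_neg1 L hx, h1, dl_neg1, phi_neg1 L (L.act w x hx)]

omit L in
theorem odd_X [Finite W] [Fact p.Prime] (hp2 : p ≠ 2) {y : I → ℤ} (hy : IsRoot cs h y) {u : Y} (hu : u ∈ X y)
    (h2 : u * u = 1) : u = 1 := by
  obtain ⟨k, hk⟩ := R.pgrp' hy ⟨u, hu⟩
  have hk' : u ^ p ^ k = 1 := congrArg Subtype.val hk
  have h1 : orderOf u ∣ p ^ k := orderOf_dvd_of_pow_eq_one hk'
  have h3 : orderOf u ∣ 2 := orderOf_dvd_of_pow_eq_one (by rw [pow_two, h2])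
  have hp : p.Prime := Fact.out
  have h4 : Nat.Coprime (p ^ k) 2 := Nat.Coprime.pow_left k ((Nat.coprime_primes hp Nat.prime_two).2 hp2)
  have h5 : orderOf u ∣ 1 := by
    have := Nat.dvd_gcd h1 h3
    rwa [h4] at this
  exact orderOf_eq_one_iff.1 (Nat.dvd_one.1 h5)

omit L in
theorem odd_inv [Finite W] [Fact p.Prime] (hp2 : p ≠ 2) {y : I → ℤ} (hy : IsRoot cs h y) {u : Y} (hu : u ∈ X y)
    (h2 : u = u⁻¹) : u = 1 :=
  odd_X R hp2 hy hu (by rw [eq_inv_iff_mul_eq_one] at h2; exact h2)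

omit L in
theorem exists_X [Finite W] {y : I → ℤ} (hy : IsRoot cs h y) : ∃ u ∈ X y, u ≠ 1 := by
  by_contra hcon
  push Not at hcon
  exact X_ne_bot R hy ((Subgroup.eq_bot_iff_forall _).2 hcon)

omit R in
theorem S_sub : zz e '' LR ⊆ (T : Set Y) := by
  rintro _ ⟨x, hx, rfl⟩
  exact L.zT x hx

theorem cent_X [Finite W] [Fact p.Prime] (hp2 : p ≠ 2) (C : Comb cs h LR ζ w₀ β) {y : I → ℤ} (hy : IsRoot cs h y) :
    X y ⊓ Subgroup.centralizer (zz e '' LR) = ⊥ := by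
  rw [Subgroup.eq_bot_iff_forall]
  rintro u ⟨hu, hc⟩
  obtain ⟨x, hx, hxy⟩ := C.odd y hy
  have h1 := L.zact x hx y hy u hu
  rw [if_neg hxy] at h1
  have h2 : zz e x * u = u * zz e x := Subgroup.mem_centralizer_iff.1 hc _ ⟨x, hx, rfl⟩
  rw [h2, mul_inv_cancel_right] at h1
  exact odd_inv R hp2 hy hu h1

theorem mem_cent [Finite W] [Fact p.Prime] (hp2 : p ≠ 2) (C : Comb cs h LR ζ w₀ β) (hG : GG cs h T X = ⊤) {g : Y}
    (hc : g ∈ Subgroup.centralizer (zz e '' LR)) :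
    ∃ w, Rp cs R.nsys w g ∧ (w = 1 ∨ ∀ x ∈ LR, rep cs h w x = -x) := by
  have hb : RGD.Sup (fun x => X x ⊓ Subgroup.centralizer (zz e '' LR)) (RGD.Pos cs h) = ⊥ := by
    rw [eq_bot_iff]
    refine RGD.Sup_le fun x hx => ?_
    show X x ⊓ Subgroup.centralizer (zz e '' LR) ≤ ⊥
    rw [cent_X R L hp2 C hx.1]
  obtain ⟨u, hu, w, k, hk, hkc, v, hv, rfl⟩ := mem_centralizer R (S_sub L) (g := g) (by rw [hG]; exact Subgroup.mem_top _) hc
  rw [hb, Subgroup.mem_bot] at hu hv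
  subst hu hv
  rw [one_mul, mul_one]
  refine ⟨w, hk, C.par w fun x hx y hy => ?_⟩
  have h1 : zz e (rep cs h w x) = zz e x := by
    rw [← conj_zz R L hk hx]
    have := Subgroup.mem_centralizer_iff.1 hkc _ ⟨x, hx, rfl⟩
    rw [← this, mul_inv_cancel_right]
  obtain ⟨a, ha, ha1⟩ := exists_X R hy
  have h2 := L.zact x hx y hy a ha
  have h3 := L.zact _ (L.act w x hx) y hy a ha
  rw [h1, h2] at h3
  apply zmod_eq
  constructor
  · intro h4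
    by_contra h5
    rw [if_pos h4, if_neg h5] at h3
    exact ha1 (odd_inv R hp2 hy ha h3.symm)
  · intro h4
    by_contra h5
    rw [if_pos h4, if_neg h5] at h3
    exact ha1 (odd_inv R hp2 hy ha h3)

end Conj

section Main

variable (R : RGD cs h p T n X) (L : Long cs h T n X LR e φ ζ) (C : Comb cs h LR ζ w₀ β)

include R L in
theorem swap_case {w : W} {g : Y} (hg : Rp cs R.nsys w g) {x : I → ℤ} (hx : x ∈ LR) (hw : rep cs h w x = -x)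
    {x₁ y₁ : SL2 F} (h1 : φ x x₁ * g = g * φ x x₁) (h2 : φ x y₁ * g = g * φ x y₁) : x₁ * y₁ = y₁ * x₁ := by
  obtain ⟨a, ha⟩ := conj_e R L hg hx
  obtain ⟨b, hb⟩ := conj_e R L hg (L.neg x hx)
  obtain ⟨ha0, -, h3⟩ := scal_sw (L.inj x hx) (L.inj x hx) (g := g) (a := a) (b := b)
    (fun c => by rw [L.up x hx, L.lo x hx, ha, hw])
    (fun c => by rw [L.lo x hx, L.up x hx, hb, map_neg, hw, neg_neg])
  have h4 : ∀ z : SL2 F, φ x z * g = g * φ x z → sw a ha0 z = z := by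
    intro z hz
    apply L.inj x hx
    rw [← h3, ← hz, mul_inv_cancel_right]
  exact fix_sw (h4 _ h1) (h4 _ h2)

include R L in
theorem torus_case {g : Y} (hg : g ∈ T) {x : I → ℤ} (hx : x ∈ LR) {x₁ y₁ : SL2 F} (hxy : x₁ * y₁ ≠ y₁ * x₁)
    (h1 : φ x x₁ * g = g * φ x x₁) (h2 : φ x y₁ * g = g * φ x y₁) (b : F) : g * e x b * g⁻¹ = e x b := by
  have hg1 : Rp cs R.nsys 1 g := rp_of_mem hg
  obtain ⟨a, ha, h3⟩ := conj_phi R L hg1 hx
  rw [map_one, Module.End.one_apply] at h3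
  have h4 : ∀ z : SL2 F, φ x z * g = g * φ x z → dl a ha z = z := by
    intro z hz
    apply L.inj x hx
    rw [← h3, ← hz, mul_inv_cancel_right]
  have h5 := fix (h4 _ h1) (h4 _ h2) hxy
  subst h5
  have h6 := h3 (up b)
  rw [dl_up, one_mul, L.up x hx] at h6
  exact h6

include L in
theorem e_one_sq (h2 : (2 : F) ≠ 0) {x : I → ℤ} (hx : x ∈ LR) : e x 1 ≠ (e x 1)⁻¹ := by
  intro h3
  rw [eq_inv_iff_mul_eq_one, ← L.up x hx, ← map_mul] at h3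
  have h4 : up (1 : F) * up 1 = 1 := L.inj x hx (by rw [h3, map_one])
  have h5 := congrArg (fun g : SL2 F => g.1 0 1) h4
  simp [mul_ent] at h5
  apply h2
  rw [← h5]; norm_num

include R L C in
theorem sign_of [Finite W] [Fact p.Prime] (hp2 : p ≠ 2) (h2 : (2 : F) ≠ 0) {u : Y} (huT : u ∈ T) (hu2 : u * u = 1)
    (hQ : ∀ j, ∃ x₁ y₁ : SL2 F, x₁ * y₁ ≠ y₁ * x₁ ∧ φ (β j) x₁ * u = u * φ (β j) x₁ ∧
      φ (β j) y₁ * u = u * φ (β j) y₁)
    {n' : Y} (hn' : Rp cs R.nsys w₀ n') (hun : n' * u = u * n') :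
    ∃ ε : (I → ℤ) →+ ZMod 2, (∀ j, ε (β j) = 0) ∧ (∀ y, IsRoot cs h y → ε (rep cs h w₀ y) = ε y) ∧
      ∀ y, IsRoot cs h y → ∀ a ∈ X y, u * a * u⁻¹ = if ε y = 0 then a else a⁻¹ := by
  obtain ⟨ε, hε⟩ := L.sgn u huT hu2
  refine ⟨ε, fun j => ?_, fun y hy => ?_, hε⟩
  · by_contra hne
    obtain ⟨x₁, y₁, hxy, h3, h4⟩ := hQ j
    have h5 := torus_case R L huT (C.mem j) hxy h3 h4 1
    rw [hε _ (L.root _ (C.mem j)) _ (L.memX _ (C.mem j) 1), if_neg hne] at h5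
    exact e_one_sq L h2 (C.mem j) h5.symm
  · obtain ⟨a, ha, ha1⟩ := exists_X R hy
    have hb := R.conj_mem hn' hy ha
    have hy' : IsRoot cs h (rep cs h w₀ y) := hy.act w₀
    have h3 := hε y hy a ha
    have h4 := hε _ hy' _ hb
    have h5 : u * (n' * a * n'⁻¹) * u⁻¹ = n' * (u * a * u⁻¹) * n'⁻¹ := by
      have h6 : u * (n' * a * n'⁻¹) * u⁻¹ = (u * n') * a * (u * n')⁻¹ := by group
      rw [h6, ← hun]; group
    rw [h5, h3] at h4
    apply zmod_eq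
    constructor
    · intro h6
      by_contra h7
      rw [if_neg h7, if_pos h6] at h4
      apply ha1
      apply odd_inv R hp2 hy ha
      have h8 : a⁻¹ = n'⁻¹ * (n' * a⁻¹ * n'⁻¹) * n' := by group
      rw [h8, h4]; group
    · intro h6
      by_contra h7
      rw [if_pos h6, if_neg h7] at h4
      apply ha1
      apply odd_inv R hp2 hy ha
      have h8 : a = n'⁻¹ * (n' * a * n'⁻¹) * n' := by group
      conv_lhs => rw [h8, h4]
      group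

include R L C in
/-- the criterion -/
theorem oneInv_of [Finite W] [Fact p.Prime] [Nonempty ι] (hp2 : p ≠ 2) (h2 : (2 : F) ≠ 0) (hG : GG cs h T X = ⊤)
    {E : Subgroup Y} (hS : ∀ x ∈ LR, zz e x ∈ E) (hn : ∃ n' ∈ E, Rp cs R.nsys w₀ n')
    (hQ : ∀ j, ∃ x₁ y₁ : SL2 F, x₁ * y₁ ≠ y₁ * x₁ ∧ φ (β j) x₁ ∈ E ∧ φ (β j) y₁ ∈ E) : OneInv E := by
  obtain ⟨n', hn'E, hn'⟩ := hn
  obtain ⟨ε₀, hε₀⟩ := C.one
  have key : ∀ u : Y, u * u = 1 → u ≠ 1 → (∀ x ∈ E, x * u = u * x) →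
      u ∈ T ∧ ∀ y, IsRoot cs h y → ∀ a ∈ X y, u * a * u⁻¹ = if ε₀ y = 0 then a else a⁻¹ := by
    intro u hu2 hu1 hc
    have hcS : u ∈ Subgroup.centralizer (zz e '' LR) := by
      rw [Subgroup.mem_centralizer_iff]
      rintro _ ⟨x, hx, rfl⟩
      exact hc _ (hS x hx)
    obtain ⟨w, hw, hw'⟩ := mem_cent R L hp2 C hG hcS
    rcases hw' with rfl | hw'
    · have huT : u ∈ T := hw.mem_of_one
      refine ⟨huT, ?_⟩
      obtain ⟨ε, h3, h4, h5⟩ := sign_of R L C hp2 h2 huT hu2 (fun j => by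
        obtain ⟨x₁, y₁, hxy, hx, hy⟩ := hQ j
        exact ⟨x₁, y₁, hxy, hc _ hx, hc _ hy⟩) hn' (hc _ hn'E)
      rcases hε₀ ε h3 h4 with h6 | h6
      · exfalso
        apply hu1
        refine L.cen u huT hu2 fun y hy a ha => ?_
        rw [h5 y hy a ha, if_pos (h6 y hy)]
      · intro y hy a ha
        rw [h5 y hy a ha, h6 y hy]
    · exfalso
      obtain ⟨j⟩ := ‹Nonempty ι›
      obtain ⟨x₁, y₁, hxy, hx, hy⟩ := hQ j
      exact hxy (swap_case R L hw (C.mem j) (hw' _ (C.mem j)) (hc _ hx) (hc _ hy))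
  intro u v hu2 hv2 hu1 hv1 huc hvc
  obtain ⟨huT, hu⟩ := key u hu2 hu1 huc
  obtain ⟨hvT, hv⟩ := key v hv2 hv1 hvc
  have huv : u * v * (u * v) = 1 := by
    calc u * v * (u * v) = u * (v * u) * v := by group
      _ = u * (u * v) * v := by rw [L.tcomm v hvT u huT]
      _ = (u * u) * (v * v) := by group
      _ = 1 := by rw [hu2, hv2, one_mul]
  have h3 : u * v = 1 := by
    refine L.cen _ (mul_mem huT hvT) huv fun y hy a ha => ?_
    have h4 : u * v * a * (u * v)⁻¹ = u * (v * a * v⁻¹) * u⁻¹ := by group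
    rw [h4, hv y hy a ha]
    by_cases h5 : ε₀ y = 0
    · rw [if_pos h5, hu y hy a ha, if_pos h5]
    · rw [if_neg h5]
      have h6 : u * a⁻¹ * u⁻¹ = (u * a * u⁻¹)⁻¹ := by group
      rw [h6, hu y hy a ha, if_neg h5, inv_inv]
  have h4 : v⁻¹ = v := inv_eq_of_mul_eq_one_left hv2
  rw [← h4]
  exact eq_inv_of_mul_eq_one_left h3

end Main

end Cfsg.Agent.Omega.Lie.CenRGD
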