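import Cfsg.Agent.Omega.Lie.CenTwo

/-!
# Invariants of central involutions, and Sylow 2-subgroups of symmetric groups

* `noCenMove_of_inv`: a 2-subgroup `E` of `X` and a function on `X`, invariant under all automorphisms, which is
  injective on the involutions of `C_X(E)`, give `NoCenMove X`;
* `two_dvd_index`: an element of `N(K) - K` with square in `K` makes the index of `K` even;
* `eq_or_eq_compl`: `P` a Sylow 2-subgroup of `Sym(ι)`, `A`, `B` subsets of the same size which every element of `P`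
  fixes or maps to the complement: `A = B` or `A = Bᶜ`.
-/

set_option autoImplicit false

namespace Cfsg.Agent.Omega.Lie.CenSwap

open Subgroup Cfsg.Agent.Omega.Lie.CenTwo
open scoped Pointwise

/-! ### The invariant -/

theorem noCenMove_of_inv {X : Type*} [Group X] [Finite X] {α : Type*} (inv : X → α)
    (hinv : ∀ (τ : MulAut X) (u : X), u * u = 1 → inv (τ u) = inv u) (E : Subgroup X) (hE : IsPGroup 2 ↥E)
    (hinj : ∀ u v : X, (∀ x ∈ E, x * u = u * x) → (∀ x ∈ E, x * v = v * x) → u * u = 1 → v * v = 1 →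
      inv u = inv v → u ≠ 1 → v ≠ 1 → u = v) : NoCenMove X := by
  have : Fact (Nat.Prime 2) := ⟨Nat.prime_two⟩
  obtain ⟨S, hS⟩ := hE.exists_le_sylow
  refine NoCenMove.of_one (S := S) fun τ _ hτS u hu hc huu => ?_
  by_cases hu1 : u = 1
  · rw [hu1, map_one]
  refine hinj _ _ ?_ ?_ ?_ huu (hinv τ u huu) ?_ hu1
  · intro x hx
    obtain ⟨y, hy, rfl⟩ := exists_preimage (S := (S : Subgroup X)) hτS (hS hx)
    rw [← map_mul, hc y hy, map_mul]
  · intro x hx
    exact hc x (hS hx)
  · rw [← map_mul, huu, map_one]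
  · intro h1
    apply hu1
    apply τ.injective
    rw [h1, map_one]

/-! ### Even index -/

theorem two_dvd_index {X : Type*} [Group X] [Finite X] {K : Subgroup X} {t : X}
    (hn : ∀ x ∈ K, t * x * t⁻¹ ∈ K) (ht : t ∉ K) (htt : t * t ∈ K) : 2 ∣ K.index := by
  have hnt : t ∈ normalizer (K : Set X) := by
    rw [Subgroup.mem_normalizer_iff]
    intro x
    refine ⟨fun hx => hn x hx, fun hx => ?_⟩
    have h1 := hn _ hx
    have e : t * (t * x * t⁻¹) * t⁻¹ = (t * t) * x * (t * t)⁻¹ := by group
    rw [e] at h1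
    have h2 := K.mul_mem (K.mul_mem (K.inv_mem htt) h1) htt
    have e2 : (t * t)⁻¹ * (t * t * x * (t * t)⁻¹) * (t * t) = x := by group
    rwa [e2] at h2
  set N : Subgroup X := normalizer (K : Set X) with hN
  have hKN : K ≤ N := Subgroup.le_normalizer
  have h1 : (K.subgroupOf N).index ∣ K.index := Subgroup.relIndex_dvd_index_of_le hKN
  refine Dvd.dvd.trans ?_ h1
  have hnorm : (K.subgroupOf N).Normal := Subgroup.normal_in_normalizer
  have h2 : orderOf ((⟨t, hnt⟩ : N) : N ⧸ K.subgroupOf N) = 2 := by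
    rw [orderOf_eq_prime_iff (hp := ⟨Nat.prime_two⟩)]
    constructor
    · rw [pow_two, ← QuotientGroup.mk_mul, QuotientGroup.eq_one_iff, Subgroup.mem_subgroupOf]
      exact htt
    · intro h
      rw [QuotientGroup.eq_one_iff, Subgroup.mem_subgroupOf] at h
      exact ht h
  rw [Subgroup.index_eq_card, ← h2]
  exact orderOf_dvd_natCard _

/-! ### Symmetric groups -/

section Perm

variable {ι : Type*} [Fintype ι] [DecidableEq ι]

/-- Two subsets of the same size are interchanged by a permutation of order at most two. -/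
theorem exists_swap {A B : Finset ι} (h : A.card = B.card) :
    ∃ t : Equiv.Perm ι, t * t = 1 ∧ A.map t.toEmbedding = B ∧ B.map t.toEmbedding = A := by
  have h1 : (A \ B).card = (B \ A).card := by
    have e1 := Finset.card_sdiff_add_card_inter A B
    have e2 := Finset.card_sdiff_add_card_inter B A
    rw [Finset.inter_comm B A] at e2
    omega
  have e : {x // x ∈ A \ B} ≃ {x // x ∈ B \ A} := Finset.equivOfCardEq h1
  let f : ι → ι := fun x => if hx : x ∈ A \ B then (e ⟨x, hx⟩ : ι) else
    if hx : x ∈ B \ A then (e.symm ⟨x, hx⟩ : ι) else x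
  have hf1 : ∀ x (hx : x ∈ A \ B), f x = e ⟨x, hx⟩ := fun x hx => dif_pos hx
  have hdis : ∀ x, x ∈ B \ A → x ∉ A \ B := by
    intro x hx hx'
    rw [Finset.mem_sdiff] at hx hx'
    exact hx.2 hx'.1
  have hf2 : ∀ x (hx : x ∈ B \ A), f x = e.symm ⟨x, hx⟩ := fun x hx => by
    have := hdis x hx
    simp only [f]
    rw [dif_neg this, dif_pos hx]
  have hf3 : ∀ x, x ∉ A \ B → x ∉ B \ A → f x = x := fun x h1 h2 => by
    simp only [f]
    rw [dif_neg h1, dif_neg h2]
  have hinv : Function.Involutive f := by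
    intro x
    by_cases hx : x ∈ A \ B
    · rw [hf1 x hx, hf2 _ (e ⟨x, hx⟩).2]
      simp
    · by_cases hx' : x ∈ B \ A
      · rw [hf2 x hx', hf1 _ (e.symm ⟨x, hx'⟩).2]
        simp
      · rw [hf3 x hx hx', hf3 x hx hx']
  have hAB : ∀ x ∈ A, f x ∈ B := by
    intro x hx
    by_cases hxB : x ∈ B
    · rw [hf3 x (by simp [hxB]) (by simp [hx])]
      exact hxB
    · have hx1 : x ∈ A \ B := Finset.mem_sdiff.2 ⟨hx, hxB⟩
      rw [hf1 x hx1]
      exact (Finset.mem_sdiff.1 (e ⟨x, hx1⟩).2).1
  have hBA : ∀ x ∈ B, f x ∈ A := by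
    intro x hx
    by_cases hxA : x ∈ A
    · rw [hf3 x (by simp [hx]) (by simp [hxA])]
      exact hxA
    · have hx1 : x ∈ B \ A := Finset.mem_sdiff.2 ⟨hx, hxA⟩
      rw [hf2 x hx1]
      exact (Finset.mem_sdiff.1 (e.symm ⟨x, hx1⟩).2).1
  refine ⟨hinv.toPerm, ?_, ?_, ?_⟩
  · ext1 x
    exact hinv x
  · apply Finset.eq_of_subset_of_card_le
    · intro y hy
      rw [Finset.mem_map] at hy
      obtain ⟨x, hx, rfl⟩ := hy
      exact hAB x hx
    · rw [Finset.card_map, h]
  · apply Finset.eq_of_subset_of_card_le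
    · intro y hy
      rw [Finset.mem_map] at hy
      obtain ⟨x, hx, rfl⟩ := hy
      exact hBA x hx
    · rw [Finset.card_map, h]

/-- `g` maps `A` to `A` or to its complement -/
def Semi (g : Equiv.Perm ι) (A : Finset ι) : Prop :=
  A.map g.toEmbedding = A ∨ A.map g.toEmbedding = Aᶜ

theorem map_compl (g : Equiv.Perm ι) (A : Finset ι) :
    (Aᶜ).map g.toEmbedding = (A.map g.toEmbedding)ᶜ := by
  ext x
  simp only [Finset.mem_map_equiv, Finset.mem_compl]

theorem map_mul (g h : Equiv.Perm ι) (A : Finset ι) :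
    A.map (g * h).toEmbedding = (A.map h.toEmbedding).map g.toEmbedding := by
  rw [Finset.map_map]
  rfl

theorem map_one (A : Finset ι) : A.map (1 : Equiv.Perm ι).toEmbedding = A := by
  ext x
  simp only [Finset.mem_map_equiv]
  rfl

theorem Semi.mul {g h : Equiv.Perm ι} {A : Finset ι} (hg : Semi g A) (hh : Semi h A) : Semi (g * h) A := by
  unfold Semi at *
  rw [map_mul]
  rcases hh with h1 | h1 <;> rw [h1]
  · exact hg
  · rw [map_compl]
    rcases hg with h2 | h2 <;> rw [h2]
    · right; rfl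
    · left; rw [compl_compl]

theorem semi_one (A : Finset ι) : Semi 1 A := Or.inl (map_one A)

/-- the stabiliser of the partition `{A, Aᶜ}` -/
def stab (A : Finset ι) : Subgroup (Equiv.Perm ι) where
  carrier := {g | Semi g A}
  mul_mem' := fun hg hh => hg.mul hh
  one_mem' := semi_one A
  inv_mem' := by
    intro g hg
    have h1 : (A.map g.toEmbedding).map g⁻¹.toEmbedding = A := by
      rw [← map_mul, inv_mul_cancel, map_one]
    rcases hg with h | h
    · left
      rw [h] at h1
      exact h1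
    · right
      rw [h, map_compl] at h1
      rw [← h1, compl_compl]
      rw [h1]

theorem mem_stab {A : Finset ι} {g : Equiv.Perm ι} : g ∈ stab A ↔ Semi g A := Iff.rfl

/-- **Sylow 2-subgroups of symmetric groups.** -/
theorem eq_or_eq_compl (P : Sylow 2 (Equiv.Perm ι)) {A B : Finset ι} (hA : ∀ g ∈ P, Semi g A)
    (hB : ∀ g ∈ P, Semi g B) (hcard : A.card = B.card) : A = B ∨ A = Bᶜ := by
  by_contra hcon
  push Not at hcon
  obtain ⟨h1, h2⟩ := hcon
  obtain ⟨t, htt, htA, htB⟩ := exists_swap hcard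
  have hti : t⁻¹ = t := inv_eq_of_mul_eq_one_left htt
  have hP : (P : Subgroup (Equiv.Perm ι)) ≤ stab A ⊓ stab B := fun g hg =>
    ⟨hA g hg, hB g hg⟩
  have key : ∀ {C D : Finset ι}, C.map t.toEmbedding = D → ∀ x : Equiv.Perm ι, Semi x C →
      Semi (t * x * t⁻¹) D := by
    intro C D hCD x hx
    have hDC : D.map t.toEmbedding = C := by
      rw [← hCD, ← map_mul, htt, map_one]
    unfold Semi
    rw [map_mul, hti, hDC, map_mul]
    rcases hx with h | h
    · left; rw [h, hCD]
    · right; rw [h, map_compl, hCD]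
  have h3 : 2 ∣ (stab A ⊓ stab B).index := by
    apply two_dvd_index (t := t)
    · rintro x ⟨hx1, hx2⟩
      exact ⟨key htB x hx2, key htA x hx1⟩
    · rintro ⟨h, -⟩
      rcases h with h | h
      · rw [htA] at h
        exact h1 h.symm
      · rw [htA] at h
        apply h2
        rw [h, compl_compl]
    · rw [htt]
      exact one_mem _
  have : Fact (Nat.Prime 2) := ⟨Nat.prime_two⟩
  exact P.not_dvd_index (h3.trans (Subgroup.index_dvd_of_le hP))

end Perm

end Cfsg.Agent.Omega.Lie.CenSwap
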