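import Cfsg.Agent.Omega.Lie.CenChev

/-!
# (ZS) rows: the combinatorial data `CenRGD.Comb` from kernel checks on the tables of a Chevalley datum
-/

set_option autoImplicit false
set_option linter.unusedSectionVars false

namespace Cfsg.Agent.Omega.Lie.CenTab

open CoxeterSystem Cfsg.Agent.ChevalleyStructure.CoxeterGeom Cfsg.Agent.Tits.Roots Cfsg.Agent.Tits.Core
  Cfsg.Agent.Nodes Cfsg.Agent.Nodes.Reps Cfsg.Agent.Nodes.BNOf Cfsg.Agent.Nodes.Coroot
  Cfsg.Agent.Nodes.RGDChev Cfsg.Agent.KFacts.RgdChevCoord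
  Cfsg.Agent.Omega.Lie.CenSL Cfsg.Agent.Omega.Lie.CenRGD Cfsg.Agent.Omega.Lie.CenChev
open Cfsg.Lie Cfsg.Agent.ChevalleyStructure Cfsg.Agent.ChevalleyStructure.RootCombGood
  Cfsg.Agent.ChevalleyStructure.NPerm

/-- the action of a word on the numbers of the roots -/
def actD (D : ChevalleyDatum) {l : ℕ} (ω : List (Fin l)) (r : ℕ) : ℕ := ω.foldr (fun i s => D.reflectRoot i s) r

/-- connectedness of a list of roots, in the given order -/
def conn (nz : ℕ → ℕ → Bool) : List ℕ → List ℕ → Bool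
  | _, [] => true
  | seen, b :: rest => seen.any (fun c => nz c b) && conn nz (b :: seen) rest

/-- The combinatorial data of a Chevalley datum: a set of long roots, a word, orthogonal long roots `β`, a connected
generating set `bs` of long roots. -/
structure CD (D : ChevalleyDatum) (l : ℕ) (lg : ℕ → Bool) (ω : List (Fin l)) (β bs : List ℕ) (b₀ : ℕ)
    (f₀ : Fin l → ZMod 2) (s : ℕ) : Prop where
  inv : ∀ i < D.rank, ∀ r < D.nroots, lg r = true → lg (D.reflectRoot i r) = true
  neg : ∀ r < D.nroots, lg r = true → lg (D.neg r) = true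
  mem : ∀ r ∈ β, r < D.nroots ∧ lg r = true
  memb : ∀ r ∈ b₀ :: bs, r < D.nroots ∧ lg r = true
  perm : ∀ r ∈ β, ∃ k ∈ β, actD D ω r = k ∨ actD D ω r = D.neg k
  pow : ∀ i : Fin l, (actD D ω)^[2 ^ s] (D.simple i) = D.simple i
  odd : ∀ s < D.nroots, ∃ r < D.nroots, lg r = true ∧ ((car D r s : ℤ) : ZMod 2) ≠ 0
  odd' : ∀ r < D.nroots, lg r = true → ∃ s < D.nroots, ((car D r s : ℤ) : ZMod 2) ≠ 0
  uniq : ∀ b ∈ b₀ :: bs, ∀ r < D.nroots, lg r = true →
    (∀ j : Fin l, ((car D r (D.simple j) : ℤ) : ZMod 2) = ((car D b (D.simple j) : ℤ) : ZMod 2)) →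
      r = b ∨ r = D.neg b
  con : conn (fun r s => decide (car D r s ≠ 0)) [b₀] bs = true
  span : ∀ i : Fin l, ∃ r s : ℕ, ∃ m : ℤ, (r ∈ b₀ :: bs ∨ ∃ r' ∈ b₀ :: bs, r = D.neg r') ∧
    (s ∈ b₀ :: bs ∨ ∃ s' ∈ b₀ :: bs, s = D.neg s') ∧ m ≠ 0 ∧ vec D l r + vec D l s = m • sr i
  one : ∀ f : Fin l → ZMod 2, (∀ r ∈ β, ∑ i, ((vec D l r i : ℤ) : ZMod 2) * f i = 0) →
    (∀ i : Fin l, ∑ k, ((vec D l (actD D ω (D.simple i)) k : ℤ) : ZMod 2) * f k = f i) → f = 0 ∨ f = f₀

section

variable {D : ChevalleyDatum} {l : ℕ} {M : CoxeterMatrix (Fin l)} (hp : IsType D l M)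
  {W : Type*} [Group W] (cs : CoxeterSystem M W)

theorem actD_lt (hp : IsType D l M) (ω : List (Fin l)) {r : ℕ} (hr : r < D.nroots) : actD D ω r < D.nroots := by
  induction ω with
  | nil => exact hr
  | cons i ω ih => exact reflectRoot_lt hp.inList (lt_rank hp i) ih

theorem rep_word (ω : List (Fin l)) {r : ℕ} (hr : r < D.nroots) :
    rep cs hp.isCartan (cs.wordProd ω) (vec D l r) = vec D l (actD D ω r) := by
  induction ω with
  | nil => rw [wordProd_nil, map_one, Module.End.one_apply]; rfl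
  | cons i ω ih =>
    rw [wordProd_cons, rep_mul_apply, ih, rep_vec hp cs i (actD_lt hp ω hr)]
    rfl

theorem rep_word_pow (ω : List (Fin l)) (k : ℕ) {r : ℕ} (hr : r < D.nroots) :
    (actD D ω)^[k] r < D.nroots ∧ rep cs hp.isCartan (cs.wordProd ω ^ k) (vec D l r) = vec D l ((actD D ω)^[k] r) := by
  induction k with
  | zero =>
    refine ⟨hr, ?_⟩
    rw [pow_zero, map_one, Module.End.one_apply]
    rfl
  | succ k ih =>
    rw [Function.iterate_succ_apply']
    refine ⟨actD_lt hp ω ih.1, ?_⟩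
    rw [pow_succ', rep_mul_apply, ih.2, rep_word hp cs ω ih.1]

theorem hom_eq (ε : (Fin l → ℤ) →+ ZMod 2) (v : Fin l → ℤ) : ε v = ∑ i, ((v i : ℤ) : ZMod 2) * ε (sr i) := by
  have h1 : v = ∑ i, v i • (sr i : Fin l → ℤ) := by
    funext j
    rw [Finset.sum_apply, Finset.sum_eq_single j]
    · rw [Pi.smul_apply, sr_self, smul_eq_mul, mul_one]
    · intro i _ hij
      rw [Pi.smul_apply, sr_ne hij.symm, smul_zero]
    · intro h
      exact absurd (Finset.mem_univ _) h
  conv_lhs => rw [h1]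
  rw [map_sum]
  refine Finset.sum_congr rfl fun i _ => ?_
  rw [map_zsmul, zsmul_eq_mul]

theorem smul_cancel {m : ℤ} (hm : m ≠ 0) {x y : Fin l → ℤ} (h : m • x = m • y) : x = y := by
  funext i
  have h1 := congrFun h i
  rw [Pi.smul_apply, Pi.smul_apply, smul_eq_mul, smul_eq_mul] at h1
  exact mul_left_cancel₀ hm h1

variable {lg : ℕ → Bool} {ω : List (Fin l)} {β bs : List ℕ} {b₀ : ℕ} {f₀ : Fin l → ZMod 2} {s : ℕ}

/-- signs along a connected list -/
theorem conn_sign {nz : ℕ → ℕ → Bool} {P : ℕ → Prop} {L : List ℕ} (hstep : ∀ c, ∀ b ∈ L, nz c b = true → P c → P b) :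
    ∀ (rest seen : List ℕ), (∀ b ∈ rest, b ∈ L) → conn nz seen rest = true → (∀ c ∈ seen, P c) →
      ∀ b ∈ rest, P b := by
  intro rest
  induction rest with
  | nil => intro seen _ _ _ b hb; cases hb
  | cons a rest ih =>
    intro seen hL h hs b hb
    have h' : (seen.any (fun c => nz c a) && conn nz (a :: seen) rest) = true := h
    rw [Bool.and_eq_true, List.any_eq_true] at h'
    obtain ⟨⟨c, hc, hca⟩, h2⟩ := h'
    have ha : P a := hstep c a (hL a List.mem_cons_self) hca (hs c hc)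
    have hs' : ∀ c ∈ a :: seen, P c := by
      intro c hc
      rcases List.mem_cons.1 hc with rfl | hc
      · exact ha
      · exact hs c hc
    rcases List.mem_cons.1 hb with rfl | hb
    · exact ha
    · exact ih (a :: seen) (fun b hb => hL b (List.mem_cons_of_mem _ hb)) h2 hs' b hb

theorem par (C : CD D l lg ω β bs b₀ f₀ s) (w : W)
    (hw : ∀ x ∈ LR D l lg, ∀ y, IsRoot cs hp.isCartan y → zet cs hp (rep cs hp.isCartan w x) y = zet cs hp x y) :
    w = 1 ∨ ∀ x ∈ LR D l lg, rep cs hp.isCartan w x = -x := by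
  classical
  have : Finite W := finite_W hp cs
  -- the members of `bs`
  have h1 : ∀ b ∈ b₀ :: bs, rep cs hp.isCartan w (vec D l b) = vec D l b ∨
      rep cs hp.isCartan w (vec D l b) = -vec D l b := by
    intro b hb
    obtain ⟨hbn, hbl⟩ := C.memb b hb
    have hroot : IsRoot cs hp.isCartan (rep cs hp.isCartan w (vec D l b)) := (isRoot_vec hp cs hbn).act w
    -- the image is a long root
    have himg : rep cs hp.isCartan w (vec D l b) ∈ LR D l lg := by
      obtain ⟨ω', rfl⟩ := cs.wordProd_surjective w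
      clear hw hroot
      induction ω' with
      | nil =>
        rw [wordProd_nil, map_one, Module.End.one_apply]
        exact ⟨b, hbn, hbl, rfl⟩
      | cons i ω' ih =>
        obtain ⟨t, ht, hlt, e⟩ := ih
        rw [wordProd_cons, rep_mul_apply, ← e, rep_vec hp cs i ht]
        exact ⟨_, reflectRoot_lt hp.inList (lt_rank hp i) ht, C.inv _ (lt_rank hp i) _ ht hlt, rfl⟩
    obtain ⟨r, hr, hlr, e⟩ := himg
    rcases C.uniq b hb r hr hlr (fun j => by
      have hj := simple_lt hp.inList (lt_rank hp j)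
      have h2 := hw _ ⟨b, hbn, hbl, rfl⟩ (vec D l (D.simple j)) (isRoot_vec hp cs hj)
      rw [← e, zet_vec hp cs hr hj, zet_vec hp cs hbn hj] at h2
      exact h2) with h3 | h3
    · left; rw [← e, h3]
    · right; rw [← e, h3, vec_neg hp hbn]
  -- one sign for all
  have h2 : ∃ ε : ℤ, (ε = 1 ∨ ε = -1) ∧ ∀ b ∈ b₀ :: bs, rep cs hp.isCartan w (vec D l b) = ε • vec D l b := by
    have key : ∀ ε : ℤ, (ε = 1 ∨ ε = -1) → rep cs hp.isCartan w (vec D l b₀) = ε • vec D l b₀ →
        ∀ b ∈ b₀ :: bs, rep cs hp.isCartan w (vec D l b) = ε • vec D l b := by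
      intro ε hε h0
      have h3 := C.con
      have h4 := conn_sign (P := fun c => c ∈ b₀ :: bs ∧ rep cs hp.isCartan w (vec D l c) = ε • vec D l c)
        (L := bs) (fun c b hb hcb hP => by
          obtain ⟨hc, hP⟩ := hP
          have hb' : b ∈ b₀ :: bs := List.mem_cons_of_mem _ hb
          refine ⟨hb', ?_⟩
          have hcar : car D c b ≠ 0 := of_decide_eq_true hcb
          obtain ⟨hcn, -⟩ := C.memb c hc
          obtain ⟨hbn, -⟩ := C.memb b hb'
          have e1 := cpr_rep cs hp.isCartan w (vec D l b) (isRoot_vec hp cs hcn)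
          rw [KFacts.ChevTwoInst.cpr_vec hp cs hcn b hbn, hP] at e1
          rcases hε with rfl | rfl
          · rcases h1 b hb' with h5 | h5
            · rw [h5, one_smul]
            · exfalso
              rw [h5, one_smul, cpr_neg _ _ _ (isRoot_vec hp cs hcn),
                KFacts.ChevTwoInst.cpr_vec hp cs hcn b hbn] at e1
              omega
          · rcases h1 b hb' with h5 | h5
            · exfalso
              rw [h5, neg_smul, one_smul, cpr_neg_right _ _ _ (isRoot_vec hp cs hcn),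
                KFacts.ChevTwoInst.cpr_vec hp cs hcn b hbn] at e1
              omega
            · rw [h5, neg_smul, one_smul]) bs [b₀] (fun b hb => hb) h3 (fun c hc => by
          rw [List.mem_singleton] at hc
          subst hc
          exact ⟨List.mem_cons_self, h0⟩)
      intro b hb
      rcases List.mem_cons.1 hb with rfl | hb
      · exact h0
      · exact (h4 b hb).2
    rcases h1 b₀ List.mem_cons_self with h0 | h0
    · exact ⟨1, Or.inl rfl, key 1 (Or.inl rfl) (by rw [h0, one_smul])⟩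
    · exact ⟨-1, Or.inr rfl, key (-1) (Or.inr rfl) (by rw [h0, neg_smul, one_smul])⟩
  obtain ⟨ε, hε, h3⟩ := h2
  have h4 : ∀ r, (r ∈ b₀ :: bs ∨ ∃ r' ∈ b₀ :: bs, r = D.neg r') →
      rep cs hp.isCartan w (vec D l r) = ε • vec D l r := by
    rintro r (hr | ⟨r', hr', rfl⟩)
    · exact h3 r hr
    · rw [vec_neg hp (C.memb r' hr').1, map_neg, h3 r' hr', smul_neg]
  have h5 : ∀ i : Fin l, rep cs hp.isCartan w (sr i) = ε • (sr i : Fin l → ℤ) := by
    intro i
    obtain ⟨r, s, m, hr, hs, hm, e⟩ := C.span i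
    apply smul_cancel hm
    rw [← map_zsmul, ← e, map_add, h4 r hr, h4 s hs, ← smul_add, e, smul_comm]
  rcases hε with rfl | rfl
  · left
    exact eq_one_of_fix cs hp.isCartan w fun i => (h5 i).trans (one_smul _ _)
  · right
    rintro x -
    have h6 : rep cs hp.isCartan w = -LinearMap.id := by
      apply LinearMap.pi_ext'
      intro i
      apply LinearMap.ext_ring
      show rep cs hp.isCartan w (Pi.single i 1) = -(Pi.single i 1)
      have h7 := h5 i
      rw [neg_smul, one_smul] at h7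
      exact h7
    rw [h6]
    rfl

/-- **The combinatorial data.** -/
theorem comb (C : CD D l lg ω β bs b₀ f₀ s) :
    Comb cs hp.isCartan (LR D l lg) (zet cs hp) (cs.wordProd ω) (fun j : {r : ℕ // r ∈ β} => vec D l j.1) where
  mem j := ⟨j.1, (C.mem j.1 j.2).1, (C.mem j.1 j.2).2, rfl⟩
  perm j := by
    obtain ⟨hr, -⟩ := C.mem j.1 j.2
    obtain ⟨k, hk, h1⟩ := C.perm j.1 j.2
    refine ⟨⟨k, hk⟩, ?_⟩
    rw [rep_word hp cs ω hr]
    rcases h1 with h1 | h1
    · left; rw [h1]
    · right; rw [h1, vec_neg hp (C.mem k hk).1]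
  pow := by
    refine ⟨s, eq_one_of_fix cs hp.isCartan _ fun i => ?_⟩
    have hi := simple_lt hp.inList (lt_rank hp i)
    show rep cs hp.isCartan (cs.wordProd ω ^ 2 ^ s) (sr i) = sr i
    rw [← vec_simple hp i, (rep_word_pow hp cs ω (2 ^ s) hi).2, C.pow i]
  one := by
    let ε₀ : (Fin l → ℤ) →+ ZMod 2 :=
      { toFun := fun v => ∑ i, ((v i : ℤ) : ZMod 2) * f₀ i
        map_zero' := by simp
        map_add' := fun v w => by
          rw [← Finset.sum_add_distrib]
          refine Finset.sum_congr rfl fun i _ => ?_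
          rw [Pi.add_apply, Int.cast_add, add_mul] }
    refine ⟨ε₀, fun ε h1 h2 => ?_⟩
    have h3 := C.one (fun i => ε (sr i)) (fun r hr => by
      rw [← hom_eq]
      exact h1 ⟨r, hr⟩) (fun i => by
      have hi := simple_lt hp.inList (lt_rank hp i)
      rw [← hom_eq, ← rep_word hp cs ω hi, vec_simple hp i]
      exact h2 _ (isRoot_sr cs hp.isCartan i))
    rcases h3 with h3 | h3
    · left
      intro y _
      rw [hom_eq]
      refine Finset.sum_eq_zero fun i _ => ?_
      rw [show ε (sr i) = 0 from congrFun h3 i, mul_zero]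
    · right
      intro y _
      rw [hom_eq]
      show _ = ∑ i, ((y i : ℤ) : ZMod 2) * f₀ i
      refine Finset.sum_congr rfl fun i _ => ?_
      rw [show ε (sr i) = f₀ i from congrFun h3 i]
  par := par hp cs C
  odd y hy := by
    obtain ⟨t, ht, rfl⟩ := (isRoot_iff hp cs y).1 hy
    obtain ⟨r, hr, hlr, h1⟩ := C.odd t ht
    refine ⟨_, ⟨r, hr, hlr, rfl⟩, ?_⟩
    rw [zet_vec hp cs hr ht]
    exact h1

end

end Cfsg.Agent.Omega.Lie.CenTab
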