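import Mathlib.GroupTheory.Index
import Mathlib.GroupTheory.SpecificGroups.Cyclic
import Mathlib.GroupTheory.PGroup
import Mathlib.Tactic

/-!
# The torus normalises every component (bb OMEGA #11575 (ii))

`T` is commutative and acts regularly on `A - 1`, `A` elementary abelian of order at least `8`.  `K` is a subgroup such
that `K^t = K` or `[K, K^t] = 1` for `t ∈ T`, and `x ∈ K - Z(K)` with `x⁻¹ x^t ∈ A` for all `t ∈ T`.
Then `T` normalises `K`.
-/

set_option autoImplicit false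

namespace Cfsg.Agent.Omega.Lie.CompPerm

variable {G : Type*} [Group G]

/-- Order of a group acting regularly on `A - 1`. -/
theorem card_regular [Finite G] {A T : Subgroup G} (hTA : ∀ t ∈ T, ∀ a ∈ A, t * a * t⁻¹ ∈ A)
    (htrans : ∀ a ∈ A, a ≠ 1 → ∀ b ∈ A, b ≠ 1 → ∃ t ∈ T, t * a * t⁻¹ = b)
    (hreg : ∀ a ∈ A, a ≠ 1 → ∀ t ∈ T, t * a * t⁻¹ = a → t = 1) {a : G} (ha : a ∈ A) (ha1 : a ≠ 1) :
    Nat.card T + 1 = Nat.card A := by
  classical
  have h1 : Nat.card T = Nat.card {b : A // b ≠ 1} := by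
    refine Nat.card_congr (Equiv.ofBijective (fun t : T => ⟨⟨t * a * (t : G)⁻¹, hTA t t.2 a ha⟩, ?_⟩) ⟨?_, ?_⟩)
    · intro h
      have h' : (t : G) * a * (t : G)⁻¹ = 1 := congrArg Subtype.val h
      exact ha1 (by simpa using h')
    · intro s t hst
      have h' : (s : G) * a * (s : G)⁻¹ = t * a * (t : G)⁻¹ := congrArg (fun z => ((z : {b : A // b ≠ 1}) : A).1) hst
      have h2 : (t : G)⁻¹ * s = 1 := by
        refine hreg a ha ha1 _ (T.mul_mem (T.inv_mem t.2) s.2) ?_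
        calc (t : G)⁻¹ * s * a * ((t : G)⁻¹ * s)⁻¹ = (t : G)⁻¹ * (s * a * (s : G)⁻¹) * t := by group
          _ = (t : G)⁻¹ * (t * a * (t : G)⁻¹) * t := by rw [h']
          _ = a := by group
      exact Subtype.ext (by rw [inv_mul_eq_one] at h2; exact h2.symm)
    · rintro ⟨⟨b, hb⟩, hb1⟩
      obtain ⟨t, ht, e⟩ := htrans a ha ha1 b hb (fun h => hb1 (Subtype.ext h))
      exact ⟨⟨t, ht⟩, Subtype.ext (Subtype.ext e)⟩
  rw [h1]
  have h2 : Nat.card A = Nat.card {b : A // b = 1} + Nat.card {b : A // b ≠ 1} := by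
    rw [← Nat.card_sum]
    exact (Nat.card_congr (Equiv.sumCompl (fun b : A => b = 1))).symm
  rw [h2]
  have h3 : Nat.card {b : A // b = 1} = 1 := by
    rw [Nat.card_eq_one_iff_unique]
    exact ⟨⟨fun x y => Subtype.ext (x.2.trans y.2.symm)⟩, ⟨⟨1, rfl⟩⟩⟩
  omega

/-- `2^n + 2 = 3 * 2^b` forces `n ≤ 2`. -/
theorem arith {n b : ℕ} (hn : 3 ≤ n) (h : 2 ^ n + 2 = 3 * 2 ^ b) : False := by
  obtain ⟨k, rfl⟩ := Nat.exists_eq_add_of_le hn
  rcases b with _ | _ | b
  · norm_num [pow_add] at h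
    omega
  · norm_num [pow_add] at h
    have : 0 < 2 ^ k := by positivity
    omega
  · rw [pow_add, pow_succ, pow_succ] at h
    omega

variable {A T K : Subgroup G} {x : G}

/-- **`T` normalises `K`.** -/
theorem normalizes [Finite G] (hTc : ∀ s ∈ T, ∀ t ∈ T, s * t = t * s) (hA2 : ∀ a ∈ A, a * a = 1)
    (hTA : ∀ t ∈ T, ∀ a ∈ A, t * a * t⁻¹ ∈ A)
    (htrans : ∀ a ∈ A, a ≠ 1 → ∀ b ∈ A, b ≠ 1 → ∃ t ∈ T, t * a * t⁻¹ = b)
    (hreg : ∀ a ∈ A, a ≠ 1 → ∀ t ∈ T, t * a * t⁻¹ = a → t = 1) (hq : 8 ≤ Nat.card A)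
    (hK : ∀ t ∈ T, (∀ y, t * y * t⁻¹ ∈ K ↔ y ∈ K) ∨ ∀ y ∈ K, ∀ z ∈ K, y * (t * z * t⁻¹) = t * z * t⁻¹ * y)
    (hxK : x ∈ K) (hxz : ∃ y ∈ K, x * y ≠ y * x) (hxA : ∀ t ∈ T, x⁻¹ * (t * x * t⁻¹) ∈ A) :
    ∀ t ∈ T, ∀ y, t * y * t⁻¹ ∈ K ↔ y ∈ K := by
  classical
  by_contra hcon
  push Not at hcon
  obtain ⟨s, hs, y0, hy0⟩ := hcon
  -- the stabiliser
  let T1 : Subgroup G := {
    carrier := {t | t ∈ T ∧ ∀ y, t * y * t⁻¹ ∈ K ↔ y ∈ K}
    one_mem' := ⟨T.one_mem, fun y => by simp⟩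
    mul_mem' := by
      rintro u v ⟨hu, hu'⟩ ⟨hv, hv'⟩
      refine ⟨T.mul_mem hu hv, fun y => ?_⟩
      have e : u * v * y * (u * v)⁻¹ = u * (v * y * v⁻¹) * u⁻¹ := by group
      rw [e, hu', hv']
    inv_mem' := by
      rintro u ⟨hu, hu'⟩
      refine ⟨T.inv_mem hu, fun y => ?_⟩
      rw [← hu' (u⁻¹ * y * u⁻¹⁻¹)]
      have e : u * (u⁻¹ * y * u⁻¹⁻¹) * u⁻¹ = y := by group
      rw [e] }
  have hT1 : ∀ t, t ∈ T1 ↔ t ∈ T ∧ ∀ y, t * y * t⁻¹ ∈ K ↔ y ∈ K := fun t => Iff.rfl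
  have hT1T : T1 ≤ T := fun t ht => ht.1
  have hs1 : s ∉ T1 := fun h => by
    rcases hy0 with ⟨h1, h2⟩ | ⟨h1, h2⟩
    · exact h2 ((h.2 y0).1 h1)
    · exact h1 ((h.2 y0).2 h2)
  -- the elements of `T` outside `T1` move `K` to a commuting conjugate
  have hcomm : ∀ t ∈ T, t ∉ T1 → ∀ y ∈ K, ∀ z ∈ K, y * (t * z * t⁻¹) = t * z * t⁻¹ * y := by
    intro t ht ht1
    rcases hK t ht with h | h
    · exact absurd ⟨ht, h⟩ ht1
    · exact h
  -- the conjugate of `x` by `t` moves `K^u` iff `t⁻¹ u ∈ T1`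
  have hmove : ∀ t ∈ T, ∀ u ∈ T, t⁻¹ * u ∈ T1 → ∃ y ∈ K, t * x * t⁻¹ * (u * y * u⁻¹) ≠ u * y * u⁻¹ * (t * x * t⁻¹) := by
    intro t ht u hu h
    obtain ⟨y, hy, hxy⟩ := hxz
    have h1 := (T1.inv_mem h).2 y
    refine ⟨u⁻¹ * t * y * (u⁻¹ * t)⁻¹, ?_, ?_⟩
    · have e : u⁻¹ * t * y * (u⁻¹ * t)⁻¹ = (t⁻¹ * u)⁻¹ * y * (t⁻¹ * u)⁻¹⁻¹ := by group
      rw [e, h1]
      exact hy
    · intro h2
      apply hxy
      have e1 : u * (u⁻¹ * t * y * (u⁻¹ * t)⁻¹) * u⁻¹ = t * y * t⁻¹ := by group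
      rw [e1] at h2
      calc x * y = t⁻¹ * (t * x * t⁻¹ * (t * y * t⁻¹)) * t := by group
        _ = t⁻¹ * (t * y * t⁻¹ * (t * x * t⁻¹)) * t := by rw [h2]
        _ = y * x := by group
  have hfix : ∀ t ∈ T, ∀ u ∈ T, t⁻¹ * u ∉ T1 → ∀ y ∈ K,
      t * x * t⁻¹ * (u * y * u⁻¹) = u * y * u⁻¹ * (t * x * t⁻¹) := by
    intro t ht u hu h y hy
    have h1 := hcomm _ (T.mul_mem (T.inv_mem ht) hu) h x hxK y hy
    calc t * x * t⁻¹ * (u * y * u⁻¹) = t * (x * (t⁻¹ * u * y * (t⁻¹ * u)⁻¹)) * t⁻¹ := by group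
      _ = t * (t⁻¹ * u * y * (t⁻¹ * u)⁻¹ * x) * t⁻¹ := by rw [h1]
      _ = _ := by group
  have hfix' : ∀ t ∈ T, ∀ u ∈ T, t⁻¹ * u ∉ T1 → ∀ y ∈ K,
      t * x⁻¹ * t⁻¹ * (u * y * u⁻¹) = u * y * u⁻¹ * (t * x⁻¹ * t⁻¹) := by
    intro t ht u hu h y hy
    have h1 : Commute (t * x * t⁻¹) (u * y * u⁻¹) := hfix t ht u hu h y hy
    have h2 := h1.inv_left
    have e : (t * x * t⁻¹)⁻¹ = t * x⁻¹ * t⁻¹ := by group
    rw [e] at h2
    exact h2
  -- the conjugates of `a`
  have hconj : ∀ w, w * (x⁻¹ * (s * x * s⁻¹)) * w⁻¹ = w * x⁻¹ * w⁻¹ * (w * s * x * (w * s)⁻¹) := by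
    intro w; group
  set a : G := x⁻¹ * (s * x * s⁻¹) with ha
  have haA : a ∈ A := hxA s hs
  -- outside the two cosets the conjugate `a^w` centralises `K^u`
  have hDa : ∀ w ∈ T, ∀ u ∈ T, w⁻¹ * u ∉ T1 → (w * s)⁻¹ * u ∉ T1 → ∀ y ∈ K,
      w * a * w⁻¹ * (u * y * u⁻¹) = u * y * u⁻¹ * (w * a * w⁻¹) := by
    intro w hw u hu h1 h2 y hy
    rw [hconj]
    have c1 : Commute (w * x⁻¹ * w⁻¹) (u * y * u⁻¹) := hfix' w hw u hu h1 y hy
    have c2 : Commute (w * s * x * (w * s)⁻¹) (u * y * u⁻¹) := hfix _ (T.mul_mem hw hs) u hu h2 y hy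
    exact (c1.mul_left c2)
  -- `T / T1` has no involution
  have hcard := card_regular hTA htrans hreg haA
  have ha1 : a ≠ 1 := by
    intro h
    obtain ⟨y, hy, hne⟩ := hmove 1 T.one_mem 1 T.one_mem (by simp)
    apply hne
    have h1 : x = s * x * s⁻¹ := by
      rw [ha] at h
      exact inv_mul_eq_one.1 h
    have h2 := hfix s hs 1 T.one_mem (by
      rw [mul_one]
      exact fun h => hs1 (by simpa using T1.inv_mem h)) y hy
    rw [← h1] at h2
    simpa using h2
  have hcard' := hcard ha1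
  have hodd : Odd (Nat.card T) := by
    have h2 : IsPGroup 2 A := by
      intro ⟨g, hg⟩
      exact ⟨1, Subtype.ext (by simpa [pow_succ] using hA2 g hg)⟩
    obtain ⟨n, hn⟩ := (IsPGroup.iff_card (p := 2)).1 h2
    have h3 : n ≠ 0 := by
      rintro rfl
      rw [hn] at hq
      norm_num at hq
    obtain ⟨m, rfl⟩ := Nat.exists_eq_succ_of_ne_zero h3
    rw [hn, pow_succ] at hcard'
    exact ⟨2 ^ m - 1, by have : 0 < 2 ^ m := by positivity
                         omega⟩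
  have hsq : ∀ u ∈ T, u * u ∈ T1 → u ∈ T1 := by
    intro u hu huu
    have h1 : orderOf u ∣ Nat.card T := Subgroup.orderOf_dvd_natCard T hu
    have h2 : Odd (orderOf u) := Odd.of_dvd_nat hodd h1
    obtain ⟨k, hk⟩ := h2
    have h3 : u = (u * u) ^ (k + 1) := by
      have h4 : u ^ (2 * k + 1) = 1 := by rw [← hk]; exact pow_orderOf_eq_one u
      calc u = u ^ (2 * k + 1) * u := by rw [h4, one_mul]
        _ = (u * u) ^ (k + 1) := by rw [← pow_two, ← pow_mul, ← pow_succ]; congr 1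
    rw [h3]
    exact T1.pow_mem huu _
  -- (1) every element of `T` lies in one of the three cosets
  have hthree : ∀ u ∈ T, u ∈ T1 ∨ s⁻¹ * u ∈ T1 ∨ s * u ∈ T1 := by
    intro u hu
    by_contra hc
    push Not at hc
    obtain ⟨c1, c2, c3⟩ := hc
    have hne : u * a * u⁻¹ ≠ a := fun h => c1 (by rw [hreg a haA ha1 u hu h]; exact T1.one_mem)
    have hmem : a * (u * a * u⁻¹) ∈ A := A.mul_mem haA (hTA u hu a haA)
    have hne1 : a * (u * a * u⁻¹) ≠ 1 := by
      intro h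
      apply hne
      have h1 := hA2 a haA
      exact mul_left_cancel (h.trans h1.symm)
    obtain ⟨w, hw, hwa⟩ := htrans a haA ha1 _ hmem hne1
    -- the conjugates `1, s, u` are moved
    have hkey : ∀ v ∈ T, (∃ y ∈ K, a * (u * a * u⁻¹) * (v * y * v⁻¹) ≠ v * y * v⁻¹ * (a * (u * a * u⁻¹))) →
        w⁻¹ * v ∈ T1 ∨ (w * s)⁻¹ * v ∈ T1 := by
      rintro v hv ⟨y, hy, hne⟩
      by_contra hc
      push Not at hc
      rw [← hwa] at hne
      exact hne (hDa w hw v hv hc.1 hc.2 y hy)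
    have hwT := T.inv_mem hw
    have m1 : ∃ y ∈ K, a * (u * a * u⁻¹) * (1 * y * 1⁻¹) ≠ 1 * y * 1⁻¹ * (a * (u * a * u⁻¹)) := by
      obtain ⟨y, hy, hne⟩ := hmove 1 T.one_mem 1 T.one_mem (by simp)
      refine ⟨y, hy, fun h => hne ?_⟩
      have d1 : Commute (u * a * u⁻¹) (1 * y * 1⁻¹) := by
        refine hDa u hu 1 T.one_mem ?_ ?_ y hy
        · rw [mul_one]; exact fun h => c1 (by simpa using T1.inv_mem h)
        · rw [mul_one, hTc u hu s hs]; exact fun h => c3 (by simpa using T1.inv_mem h)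
      have d2 : Commute (s * x * s⁻¹) (1 * y * 1⁻¹) := hfix s hs 1 T.one_mem (by
        rw [mul_one]
        exact fun h => hs1 (by simpa using T1.inv_mem h)) y hy
      have d3 : Commute (a * (u * a * u⁻¹)) (1 * y * 1⁻¹) := h
      have d4 : Commute a (1 * y * 1⁻¹) := by
        have := d3.mul_left d1.inv_left
        simpa [mul_assoc] using this
      have d5 : Commute x⁻¹ (1 * y * 1⁻¹) := by
        have := d4.mul_left d2.inv_left
        simpa [ha, mul_assoc] using this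
      have d6 := d5.inv_left
      rw [inv_inv] at d6
      simpa using d6.eq
    have m2 : ∃ y ∈ K, a * (u * a * u⁻¹) * (s * y * s⁻¹) ≠ s * y * s⁻¹ * (a * (u * a * u⁻¹)) := by
      obtain ⟨y, hy, hne⟩ := hmove s hs s hs (by simp)
      refine ⟨y, hy, fun h => hne ?_⟩
      have d1 : Commute (u * a * u⁻¹) (s * y * s⁻¹) := by
        refine hDa u hu s hs ?_ ?_ y hy
        · exact fun h => c2 (by simpa using T1.inv_mem h)
        · intro h
          have e : (u * s)⁻¹ * s = u⁻¹ := by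
            rw [hTc u hu s hs]; group
          rw [e] at h
          exact c1 (by simpa using T1.inv_mem h)
      have d2 : Commute (1 * x⁻¹ * 1⁻¹) (s * y * s⁻¹) := hfix' 1 T.one_mem s hs (by simpa using hs1) y hy
      have d3 : Commute (a * (u * a * u⁻¹)) (s * y * s⁻¹) := h
      have d4 : Commute a (s * y * s⁻¹) := by
        have := d3.mul_left d1.inv_left
        simpa [mul_assoc] using this
      have d5 : Commute (s * x * s⁻¹) (s * y * s⁻¹) := by
        have d2' : Commute x (s * y * s⁻¹) := by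
          have := d2.inv_left
          simpa using this
        have := d2'.mul_left d4
        simpa [ha, mul_assoc] using this
      exact d5.eq
    have m3 : ∃ y ∈ K, a * (u * a * u⁻¹) * (u * y * u⁻¹) ≠ u * y * u⁻¹ * (a * (u * a * u⁻¹)) := by
      obtain ⟨y, hy, hne⟩ := hmove u hu u hu (by simp)
      refine ⟨y, hy, fun h => hne ?_⟩
      have d1 : Commute a (u * y * u⁻¹) := by
        have := hDa 1 T.one_mem u hu (by simpa using c1) (by simpa using c2) y hy
        rw [one_mul, inv_one, mul_one] at this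
        exact this
      have d3 : Commute (a * (u * a * u⁻¹)) (u * y * u⁻¹) := h
      have d4 : Commute (u * a * u⁻¹) (u * y * u⁻¹) := by
        have := d1.inv_left.mul_left d3
        simpa [mul_assoc] using this
      have d2 : Commute (u * s * x * (u * s)⁻¹) (u * y * u⁻¹) := by
        refine hfix _ (T.mul_mem hu hs) u hu ?_ y hy
        intro h
        have e : (u * s)⁻¹ * u = s⁻¹ := by group
        rw [e] at h
        exact hs1 (by simpa using T1.inv_mem h)
      rw [hconj] at d4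
      have d5 : Commute (u * x⁻¹ * u⁻¹) (u * y * u⁻¹) := by
        have := d4.mul_left d2.inv_left
        simpa [mul_assoc] using this
      have d6 := d5.inv_left
      have e : (u * x⁻¹ * u⁻¹)⁻¹ = u * x * u⁻¹ := by group
      rw [e] at d6
      exact d6.eq
    have k1 := hkey 1 T.one_mem m1
    have k2 := hkey s hs m2
    have k3 := hkey u hu m3
    -- differences
    have dif : ∀ {g v v' : G}, g⁻¹ * v ∈ T1 → g⁻¹ * v' ∈ T1 → v⁻¹ * v' ∈ T1 := by
      intro g v v' h h'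
      have := T1.mul_mem (T1.inv_mem h) h'
      have e : (g⁻¹ * v)⁻¹ * (g⁻¹ * v') = v⁻¹ * v' := by group
      rwa [e] at this
    have n1 : (1 : G)⁻¹ * s ∉ T1 := by simpa using hs1
    have n2 : (1 : G)⁻¹ * u ∉ T1 := by simpa using c1
    have n3 : s⁻¹ * u ∉ T1 := c2
    rcases k1 with k1 | k1 <;> rcases k2 with k2 | k2 <;> rcases k3 with k3 | k3
    · exact n1 (dif k1 k2)
    · exact n1 (dif k1 k2)
    · exact n2 (dif k1 k3)
    · exact n3 (dif k2 k3)
    · exact n3 (dif k2 k3)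
    · exact n2 (dif k1 k3)
    · exact n1 (dif k1 k2)
    · exact n1 (dif k1 k2)
  -- (2) the subgroup `{a^u : u ∈ T1} ∪ {1}`
  have hw1 : ∀ u ∈ T1, u ≠ 1 → ∃ w ∈ T1, w * a * w⁻¹ = a * (u * a * u⁻¹) := by
    intro u hu hu1
    have huT := hT1T hu
    have hne : u * a * u⁻¹ ≠ a := fun h => hu1 (hreg a haA ha1 u huT h)
    have hmem : a * (u * a * u⁻¹) ∈ A := A.mul_mem haA (hTA u huT a haA)
    have hne1 : a * (u * a * u⁻¹) ≠ 1 := by
      intro h
      apply hne
      have h1 := hA2 a haA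
      exact mul_left_cancel (h.trans h1.symm)
    obtain ⟨w, hw, hwa⟩ := htrans a haA ha1 _ hmem hne1
    refine ⟨w, ?_, hwa⟩
    -- `s⁻¹` is not moved by the product
    by_contra hwn
    -- `w` lies in `s T1` or `s⁻¹ T1`
    have hss : s * s ∉ T1 := fun h => hs1 (hsq s hs h)
    have hv : ∃ v ∈ T, v ∉ T1 ∧ s⁻¹ * v ∉ T1 ∧
        ∃ y ∈ K, w * a * w⁻¹ * (v * y * v⁻¹) ≠ v * y * v⁻¹ * (w * a * w⁻¹) := by
      rcases hthree w hw with h | h | h
      · exact absurd h hwn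
      · -- `w ∈ s T1` : take `v = s s`
        refine ⟨s * s, T.mul_mem hs hs, hss, ?_, ?_⟩
        · simpa using hs1
        · obtain ⟨y, hy, hne⟩ := hmove (w * s) (T.mul_mem hw hs) (s * s) (T.mul_mem hs hs) (by
            have e : (w * s)⁻¹ * (s * s) = (s⁻¹ * w)⁻¹ := by
              rw [hTc w hw s hs]; group
            rw [e]
            exact T1.inv_mem h)
          refine ⟨y, hy, fun hh => hne ?_⟩
          rw [hconj] at hh
          have d1 : Commute (w * x⁻¹ * w⁻¹) (s * s * y * (s * s)⁻¹) := by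
            refine hfix' w hw _ (T.mul_mem hs hs) ?_ y hy
            intro h'
            have := T1.mul_mem h h'
            have e : s⁻¹ * w * (w⁻¹ * (s * s)) = s := by group
            rw [e] at this
            exact hs1 this
          have d2 : Commute (w * x⁻¹ * w⁻¹ * (w * s * x * (w * s)⁻¹)) (s * s * y * (s * s)⁻¹) := hh
          have := d1.inv_left.mul_left d2
          have d3 : Commute (w * s * x * (w * s)⁻¹) (s * s * y * (s * s)⁻¹) := by
            simpa [mul_assoc] using this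
          exact d3.eq
      · -- `w ∈ s⁻¹ T1` : take `v = w`
        have hsw : s⁻¹ * w ∉ T1 := by
          intro h'
          have h1 := T1.mul_mem h (T1.inv_mem h')
          have e : s * w * (s⁻¹ * w)⁻¹ = s * s := by group
          rw [e] at h1
          exact hss h1
        refine ⟨w, hw, hwn, hsw, ?_⟩
        obtain ⟨y, hy, hne⟩ := hmove w hw w hw (by simp)
        refine ⟨y, hy, fun hh => hne ?_⟩
        rw [hconj] at hh
        have d1 : Commute (w * s * x * (w * s)⁻¹) (w * y * w⁻¹) := by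
          refine hfix _ (T.mul_mem hw hs) w hw ?_ y hy
          intro h'
          have e : (w * s)⁻¹ * w = s⁻¹ := by group
          rw [e] at h'
          exact hs1 (by simpa using T1.inv_mem h')
        have d2 : Commute (w * x⁻¹ * w⁻¹ * (w * s * x * (w * s)⁻¹)) (w * y * w⁻¹) := hh
        have d3 : Commute (w * x⁻¹ * w⁻¹) (w * y * w⁻¹) := by
          have := d2.mul_left d1.inv_left
          simpa [mul_assoc] using this
        have d6 := d3.inv_left
        have e : (w * x⁻¹ * w⁻¹)⁻¹ = w * x * w⁻¹ := by group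
        rw [e] at d6
        exact d6.eq
    obtain ⟨v, hv, hv1, hv2, y, hy, hne⟩ := hv
    apply hne
    rw [hwa]
    have d1 : Commute a (v * y * v⁻¹) := by
      have := hDa 1 T.one_mem v hv (by simpa using hv1) (by simpa using hv2) y hy
      rw [one_mul, inv_one, mul_one] at this
      exact this
    have d2 : Commute (u * a * u⁻¹) (v * y * v⁻¹) := by
      refine hDa u huT v hv ?_ ?_ y hy
      · intro h
        have := T1.mul_mem hu h
        have e : u * (u⁻¹ * v) = v := by group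
        rw [e] at this
        exact hv1 this
      · intro h
        have := T1.mul_mem hu h
        have e : u * ((u * s)⁻¹ * v) = s⁻¹ * v := by
          rw [hTc u huT s hs]
          rw [mul_inv_rev, hTc u⁻¹ (T.inv_mem huT) s⁻¹ (T.inv_mem hs)]
          have c : u * s⁻¹ = s⁻¹ * u := hTc u huT s⁻¹ (T.inv_mem hs)
          rw [← mul_assoc, ← mul_assoc, c]
          group
        rw [e] at this
        exact hv2 this
    exact (d1.mul_left d2).eq
  let B : Subgroup G := {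
    carrier := {b | b = 1 ∨ ∃ u ∈ T1, b = u * a * u⁻¹}
    one_mem' := Or.inl rfl
    mul_mem' := by
      rintro b c (rfl | ⟨u, hu, rfl⟩) (rfl | ⟨v, hv, rfl⟩)
      · exact Or.inl (one_mul 1)
      · exact Or.inr ⟨v, hv, one_mul _⟩
      · exact Or.inr ⟨u, hu, mul_one _⟩
      · by_cases huv : u⁻¹ * v = 1
        · left
          have e : u = v := inv_mul_eq_one.1 huv
          subst e
          have := hA2 _ (hTA u (hT1T hu) a haA)
          exact this
        · right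
          obtain ⟨w, hw, hwa⟩ := hw1 _ (T1.mul_mem (T1.inv_mem hu) hv) huv
          refine ⟨u * w, T1.mul_mem hu hw, ?_⟩
          calc u * a * u⁻¹ * (v * a * v⁻¹) = u * (a * (u⁻¹ * v * a * (u⁻¹ * v)⁻¹)) * u⁻¹ := by group
            _ = u * (w * a * w⁻¹) * u⁻¹ := by rw [hwa]
            _ = _ := by group
    inv_mem' := by
      rintro b (rfl | ⟨u, hu, rfl⟩)
      · exact Or.inl inv_one
      · right
        refine ⟨u, hu, ?_⟩
        have := hA2 _ (hTA u (hT1T hu) a haA)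
        exact inv_eq_of_mul_eq_one_left this }
  have hBA : B ≤ A := by
    rintro b (rfl | ⟨u, hu, rfl⟩)
    · exact A.one_mem
    · exact hTA u (hT1T hu) a haA
  have hBc : Nat.card T1 + 1 = Nat.card B := by
    refine card_regular (A := B) (T := T1) ?_ ?_ ?_ (a := a) (Or.inr ⟨1, T1.one_mem, by group⟩) ha1
    · rintro t ht b (rfl | ⟨u, hu, rfl⟩)
      · exact Or.inl (by group)
      · exact Or.inr ⟨t * u, T1.mul_mem ht hu, by group⟩
    · rintro b (rfl | ⟨u, hu, rfl⟩) hb1 c (rfl | ⟨v, hv, rfl⟩) hc1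
      · exact absurd rfl hb1
      · exact absurd rfl hb1
      · exact absurd rfl hc1
      · exact ⟨v * u⁻¹, T1.mul_mem hv (T1.inv_mem hu), by group⟩
    · intro b hb hb1 t ht
      exact hreg b (hBA hb) hb1 t (hT1T ht)
  -- the index of `T1` is `3`
  have hidx : Nat.card T = 3 * Nat.card T1 := by
    let f : Fin 3 × T1 → T := fun p =>
      if p.1 = 0 then ⟨p.2, hT1T p.2.2⟩
      else if p.1 = 1 then ⟨s * p.2, T.mul_mem hs (hT1T p.2.2)⟩
      else ⟨s⁻¹ * p.2, T.mul_mem (T.inv_mem hs) (hT1T p.2.2)⟩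
    have hss : s * s ∉ T1 := fun h => hs1 (hsq s hs h)
    have hf : Function.Bijective f := by
      constructor
      · rintro ⟨i, ⟨u, hu⟩⟩ ⟨j, ⟨v, hv⟩⟩ h
        have h' : ((f (i, ⟨u, hu⟩) : T) : G) = (f (j, ⟨v, hv⟩) : T) := congrArg Subtype.val h
        fin_cases i <;> fin_cases j <;> simp [f] at h' ⊢
        · exact h'
        · exact hs1 (by
            have e : s = u * v⁻¹ := by rw [h']; group
            rw [e]; exact T1.mul_mem hu (T1.inv_mem hv))
        · exact hs1 (by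
            have e : s = v * u⁻¹ := by rw [h']; group
            rw [e]; exact T1.mul_mem hv (T1.inv_mem hu))
        · exact hs1 (by
            have e : s = v * u⁻¹ := by rw [← h']; group
            rw [e]; exact T1.mul_mem hv (T1.inv_mem hu))
        · exact h'
        · exact hss (by
            have e : s * s = v * u⁻¹ := by
              have : v = s * (s * u) := by rw [h']; group
              rw [this]; group
            rw [e]; exact T1.mul_mem hv (T1.inv_mem hu))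
        · exact hs1 (by
            have e : s = u * v⁻¹ := by rw [← h']; group
            rw [e]; exact T1.mul_mem hu (T1.inv_mem hv))
        · exact hss (by
            have e : s * s = u * v⁻¹ := by
              have : u = s * (s * v) := by rw [← h']; group
              rw [this]; group
            rw [e]; exact T1.mul_mem hu (T1.inv_mem hv))
        · exact h'
      · rintro ⟨u, hu⟩
        rcases hthree u hu with h | h | h
        · exact ⟨(0, ⟨u, h⟩), by simp [f]⟩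
        · exact ⟨(1, ⟨s⁻¹ * u, h⟩), Subtype.ext (by simp [f])⟩
        · exact ⟨(2, ⟨s * u, h⟩), Subtype.ext (by simp [f])⟩
    have := Nat.card_congr (Equiv.ofBijective f hf)
    rw [Nat.card_prod, Nat.card_eq_fintype_card (α := Fin 3), Fintype.card_fin] at this
    exact this.symm
  -- powers of two
  have h2A : IsPGroup 2 A := by
    intro ⟨g, hg⟩
    exact ⟨1, Subtype.ext (by simpa [pow_succ] using hA2 g hg)⟩
  have h2B : IsPGroup 2 B := by
    intro ⟨g, hg⟩
    exact ⟨1, Subtype.ext (by simpa [pow_succ] using hA2 g (hBA hg))⟩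
  obtain ⟨n, hn⟩ := (IsPGroup.iff_card (p := 2)).1 h2A
  obtain ⟨b, hb⟩ := (IsPGroup.iff_card (p := 2)).1 h2B
  have hn3 : 3 ≤ n := by
    by_contra hlt
    have : n ≤ 2 := by omega
    have h4 : 2 ^ n ≤ 2 ^ 2 := Nat.pow_le_pow_right (by norm_num) this
    rw [hn] at hq
    omega
  refine arith (n := n) (b := b) hn3 ?_
  omega

/-- **`T ≤ N(K)`.** -/
theorem le_normalizer [Finite G] (hTc : ∀ s ∈ T, ∀ t ∈ T, s * t = t * s) (hA2 : ∀ a ∈ A, a * a = 1)
    (hTA : ∀ t ∈ T, ∀ a ∈ A, t * a * t⁻¹ ∈ A)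
    (htrans : ∀ a ∈ A, a ≠ 1 → ∀ b ∈ A, b ≠ 1 → ∃ t ∈ T, t * a * t⁻¹ = b)
    (hreg : ∀ a ∈ A, a ≠ 1 → ∀ t ∈ T, t * a * t⁻¹ = a → t = 1) (hq : 8 ≤ Nat.card A)
    (hK : ∀ t ∈ T, (∀ y, t * y * t⁻¹ ∈ K ↔ y ∈ K) ∨ ∀ y ∈ K, ∀ z ∈ K, y * (t * z * t⁻¹) = t * z * t⁻¹ * y)
    (hxK : x ∈ K) (hxz : ∃ y ∈ K, x * y ≠ y * x) (hxA : ∀ t ∈ T, x⁻¹ * (t * x * t⁻¹) ∈ A) :
    T ≤ Subgroup.normalizer (K : Set G) := fun t ht =>
  Subgroup.mem_normalizer_iff.2 fun y => (normalizes hTc hA2 hTA htrans hreg hq hK hxK hxz hxA t ht y).symm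

end Cfsg.Agent.Omega.Lie.CompPerm
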