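import Cfsg.Agent.Omega.Lie.NOneA

/-!
# NODE LIE: (N0), (N1) of TEXT LIE-1/2 (#12098, #12707), element level
-/

set_option autoImplicit false

namespace Cfsg.Agent.Omega.Lie.LemN

open Subgroup Cfsg.Agent.Omega.BTwo

universe u v w

variable {G : Type u} [Group G] {ι : Type w} {F : Type v} [Field F]
  {V : Subgroup G} {R : ι → Subgroup G} {i j : ι} {vv : F → F → G} {w1 w2 : F → G}

section

variable {M B : Type u} [AddCommGroup M] [AddCommGroup B]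
  [DistribMulAction (NR R i) M] [DistribMulAction (NR R i) B] {p : G → M} {r : G → B}
  {f : M →+ M →+ B}

/-- `p [[w, u], u'] = [p w, u, u']` -/
theorem p_cm2 (m : ModFr V R i M B p r f) (b : BT V R) {h h' : NR R i} {w : G} (hw : w ∈ WW V (R i))
    (hh : (h : G) ∈ UU V R j) :
    p ((w * h * w⁻¹ * (h : G)⁻¹) * h' * (w * h * w⁻¹ * (h : G)⁻¹)⁻¹ * (h' : G)⁻¹) = br h' (br h (p w)) := by
  rw [p_cm m b (UU_le_WW i (b.WU' hw hh)), p_cm m b hw]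

end

/-- `[[w, u], u'] ∈ W i` -/
theorem cm2_mem (b : BT V R) {w u u' : G} (hw : w ∈ WW V (R i)) (hu : u ∈ UU V R j) (hu' : u' ∈ UU V R j) :
    (w * u * w⁻¹ * u⁻¹) * u' * (w * u * w⁻¹ * u⁻¹)⁻¹ * u'⁻¹ ∈ WW V (R i) :=
  UU_le_WW i (b.WU' (UU_le_WW i (b.WU' hw hu)) hu')

/-- **(N1)**, element level: `[M, u, u'] ≠ 0 ⟹ e ≤ [M, u, u']` -/
theorem n1_el [CharP F 2] (b : BTC V R) (c : Coord V R i j vv w1 w2) {u u' : G} (hu : u ∈ UU V R j)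
    (hu' : u' ∈ UU V R j)
    (hne : ∃ w ∈ WW V (R i), (w * u * w⁻¹ * u⁻¹) * u' * (w * u * w⁻¹ * u⁻¹)⁻¹ * u'⁻¹ ∉ R i)
    {x : G} (hx : x ∈ V) : ∃ w ∈ WW V (R i),
      (w * u * w⁻¹ * u⁻¹) * u' * (w * u * w⁻¹ * u⁻¹)⁻¹ * u'⁻¹ * x⁻¹ ∈ R i := by
  obtain ⟨M, B, _, _, _, _, p, r, f, m⟩ := b.toBT.exists_mod i
  have hxW := V_le_WW V (R i) hx
  obtain ⟨w₀, hw₀, h0⟩ := hne
  obtain ⟨a, ha⟩ := n1 m b c (h := el b.toBT i hu) (h' := el b.toBT i hu') hu hu'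
    ⟨p w₀, fun h1 => h0 ((m.p_ker _ (cm2_mem b.toBT hw₀ hu hu')).1
      ((p_cm2 m b.toBT (h := el b.toBT i hu) (h' := el b.toBT i hu') hw₀ hu).trans h1))⟩
    (m.p_mem hxW hx)
  obtain ⟨w, hw, rfl⟩ := m.p_surj a
  refine ⟨w, hw, ?_⟩
  rw [← m.p_eq_iff (cm2_mem b.toBT hw hu hu') hxW]
  exact (p_cm2 m b.toBT (h := el b.toBT i hu) (h' := el b.toBT i hu') hw hu).trans ha

/-- `t u' t⁻¹`, as a `Line` -/
theorem line_of (b : BT V R) {u t : G} (hu : u ∈ UU V R j) (ht : t ∈ XX V R) (hti : cj t (R i) = R i)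
    (htj : cj t (R j) = R j) (hut : t * u * t⁻¹ ∈ UU V R j) :
    Line V R i j (el b i hu) (el b i hut) ⟨t, cj_eq_self_iff.1 hti⟩ where
  hU := hu
  hU' := hut
  tX := ht
  tj := htj
  eq := by
    have e : (((⟨t, cj_eq_self_iff.1 hti⟩ : NR R i) * el b i hu * (⟨t, cj_eq_self_iff.1 hti⟩ : NR R i)⁻¹ *
        (el b i hut)⁻¹ : NR R i) : G) = 1 := by
      change t * u * t⁻¹ * (t * u * t⁻¹)⁻¹ = 1
      rw [mul_inv_cancel]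
    rw [e]
    exact one_mem _

theorem conj_mem_U (b : BT V R) {u t : G} (hu : u ∈ UU V R j) (ht : t ∈ XX V R)
    (htj : cj t (R j) = R j) : t * u * t⁻¹ ∈ UU V R j := by
  have := conj_mem_cj (g := t) hu
  rwa [b.cj_UU (b.X_le_NV ht) htj] at this

/-- element level: `[M, a, b] ≠ 0 ⟹ [M, a, b^t] ≤ [M, a, b]` -/
theorem same_el [Finite F] [CharP F 2] (b : BTC V R) (c : Coord V R i j vv w1 w2) {u u' t : G}
    (hu : u ∈ UU V R j) (hu' : u' ∈ UU V R j) (ht : t ∈ XX V R) (hti : cj t (R i) = R i)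
    (htj : cj t (R j) = R j)
    (hne : ∃ w ∈ WW V (R i), (w * u * w⁻¹ * u⁻¹) * u' * (w * u * w⁻¹ * u⁻¹)⁻¹ * u'⁻¹ ∉ R i)
    {w : G} (hw : w ∈ WW V (R i)) : ∃ w' ∈ WW V (R i),
      (w * u * w⁻¹ * u⁻¹) * (t * u' * t⁻¹) * (w * u * w⁻¹ * u⁻¹)⁻¹ * (t * u' * t⁻¹)⁻¹ *
      ((w' * u * w'⁻¹ * u⁻¹) * u' * (w' * u * w'⁻¹ * u⁻¹)⁻¹ * u'⁻¹)⁻¹ ∈ R i := by
  obtain ⟨M, B, _, _, _, _, p, r, f, m⟩ := b.toBT.exists_mod i
  have hut := conj_mem_U b.toBT hu' ht htj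
  obtain ⟨w₀, hw₀, h0⟩ := hne
  obtain ⟨a, ha⟩ := c2 m b c (h := el b.toBT i hu) hu (line_of b.toBT hu' ht hti htj hut)
    ⟨p w₀, fun h1 => h0 ((m.p_ker _ (cm2_mem b.toBT hw₀ hu hu')).1
      ((p_cm2 m b.toBT (h := el b.toBT i hu) (h' := el b.toBT i hu') hw₀ hu).trans h1))⟩ (p w)
  obtain ⟨w', hw', rfl⟩ := m.p_surj a
  refine ⟨w', hw', ?_⟩
  rw [← m.p_eq_iff (cm2_mem b.toBT hw hu hut) (cm2_mem b.toBT hw' hu hu')]
  exact ((p_cm2 m b.toBT (h := el b.toBT i hu) (h' := el b.toBT i hut) hw hu).trans ha).trans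
    (p_cm2 m b.toBT (h := el b.toBT i hu) (h' := el b.toBT i hu') hw' hu).symm

/-- element level: `[M, a, b, b^t] = 0` -/
theorem line1_el (b : BTC V R) {u u' t : G}
    (hu : u ∈ UU V R j) (hu' : u' ∈ UU V R j) (ht : t ∈ XX V R) (hti : cj t (R i) = R i)
    (htj : cj t (R j) = R j) {w : G} (hw : w ∈ WW V (R i)) :
    ((w * u * w⁻¹ * u⁻¹) * u' * (w * u * w⁻¹ * u⁻¹)⁻¹ * u'⁻¹) * (t * u' * t⁻¹) *
      ((w * u * w⁻¹ * u⁻¹) * u' * (w * u * w⁻¹ * u⁻¹)⁻¹ * u'⁻¹)⁻¹ * (t * u' * t⁻¹)⁻¹ ∈ R i := by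
  obtain ⟨M, B, _, _, _, _, p, r, f, m⟩ := b.toBT.exists_mod i
  have hut := conj_mem_U b.toBT hu' ht htj
  have h3 := c3 m b (h := el b.toBT i hu) hu (line_of b.toBT hu' ht hti htj hut) (p w)
  have hW := cm2_mem b.toBT hw hu hu'
  have h4 := p_cm m b.toBT (h := el b.toBT i hut) hW
  have h5 := p_cm2 m b.toBT (h := el b.toBT i hu) (h' := el b.toBT i hu') hw hu
  have h6 : p ((w * u * w⁻¹ * u⁻¹) * u' * (w * u * w⁻¹ * u⁻¹)⁻¹ * u'⁻¹) =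
      br (el b.toBT i hu') (br (el b.toBT i hu) (p w)) := h5
  rw [h6, h3] at h4
  refine (m.p_ker _ ?_).1 h4
  exact UU_le_WW i (b.WU' hW hut)

/-- element level: `[M, a, a^t] ≤ e` (restatement of `N0_T`) -/
theorem line0_el (b : BTC V R) {u t : G} (hu : u ∈ UU V R j) (ht : t ∈ XX V R) (hti : cj t (R i) = R i)
    (htj : cj t (R j) = R j) {w : G} (hw : w ∈ WW V (R i)) :
    (w * u * w⁻¹ * u⁻¹) * (t * u * t⁻¹) * (w * u * w⁻¹ * u⁻¹)⁻¹ * (t * u * t⁻¹)⁻¹ ∈ V :=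
  N0_T b hw hu ht hti htj

/-- `[Z(W i), U j] ≤ R i` -/
theorem Z_U (b : BTC V R) (hij : i ≠ j) {z u : G} (hz : z ∈ ZZ V R i) (hu : u ∈ UU V R j) :
    z * u * z⁻¹ * u⁻¹ ∈ R i := b.cen_W_U hij hz.2 hu

/-- LEMMA N with coordinates only, `4 ≤ |F|` -/
theorem lemN' [Finite G] [Finite F] [CharP F 2] (b : BTC V R) (c : Coord V R i j vv w1 w2)
    (hq : 4 ≤ Nat.card F) {u : G} (hu : u ∈ UU V R j) (hD : u ∉ DD V R) {x : G} (hx : x ∈ V) :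
    ∃ w ∈ WW V (R i), ∃ ζ ∈ ZZ V R i, x = (w * u * w⁻¹ * u⁻¹) * ζ := by
  obtain ⟨t, τ⟩ := coord_exists_torD b.toBT c (b.cen_W_isPGroup i)
  exact lemN b (exists_ne hq) c τ hu hD hx

end Cfsg.Agent.Omega.Lie.LemN
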