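import Cfsg.Agent.Omega.Lie.LQThm
import Cfsg.Agent.Omega.Lie.Quot
import Cfsg.Agent.Omega.Lie.NOneEl

/-!
# NODE LIE, TEXT LIE-2 (#12707): the cubic module `M = W i / R i` of `H = N(R i)/O₂(N(R i))`

* `MM b i = W i / R i`, `cls`, `rho b i : HQ (R i) →* MulAut (MM b i)`, `eV b i = V / R i`;
* `cub` : the structure `LQ.Cub (rho b i) (AA V R i j) (TT τ) (eV b i)`.
-/

set_option autoImplicit false

namespace Cfsg.Agent.Omega.Lie.CubQ

open Subgroup Cfsg.Agent.Omega.BTwo Cfsg.Agent.Omega.Lie Cfsg.Agent.Omega.Lie.Quot Cfsg.Agent.Omega.Lie.LQ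
open Cfsg.Agent.Omega.Lie.LemN (ZZ ZZ_le_W ZZ_le_U cj_ZZ hallWitt N0_T n1_el same_el lemN)

universe u v w

variable {G : Type u} [Group G] {ι : Type w} {V : Subgroup G} {R : ι → Subgroup G}

theorem normal_R (b : BT V R) (i : ι) : ((R i).subgroupOf (WW V (R i))).Normal :=
  ⟨fun n hn g => conj_mem_of_normalizer (g := (g : G)) (x := (n : G)) (b.W_le_N i g.2) hn⟩

/-- `M = W i / R i` -/
def MM (_ : BT V R) (i : ι) : Type u := ↥(WW V (R i)) ⧸ (R i).subgroupOf (WW V (R i))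

noncomputable instance instGroupMM (b : BT V R) (i : ι) : Group (MM b i) :=
  letI := normal_R b i
  inferInstanceAs (Group (↥(WW V (R i)) ⧸ (R i).subgroupOf (WW V (R i))))

/-- the projection `W i → M` -/
noncomputable def mk (b : BT V R) (i : ι) : WW V (R i) →* MM b i :=
  letI := normal_R b i
  QuotientGroup.mk' _

/-- the class of `x ∈ W i` -/
noncomputable def cls (b : BT V R) (i : ι) (x : G) (hx : x ∈ WW V (R i)) : MM b i := mk b i ⟨x, hx⟩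

theorem exists_cls (b : BT V R) (i : ι) (m : MM b i) : ∃ (x : G) (hx : x ∈ WW V (R i)), cls b i x hx = m := by
  have := normal_R b i
  obtain ⟨x, rfl⟩ := QuotientGroup.mk'_surjective ((R i).subgroupOf (WW V (R i))) m
  exact ⟨x, x.2, rfl⟩

theorem cls_eq_one {b : BT V R} {i : ι} {x : G} {hx : x ∈ WW V (R i)} : cls b i x hx = 1 ↔ x ∈ R i := by
  have := normal_R b i
  exact QuotientGroup.eq_one_iff (N := (R i).subgroupOf (WW V (R i))) (⟨x, hx⟩ : WW V (R i))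

theorem cls_mul {b : BT V R} {i : ι} {x y : G} (hx : x ∈ WW V (R i)) (hy : y ∈ WW V (R i)) :
    cls b i x hx * cls b i y hy = cls b i (x * y) (mul_mem hx hy) :=
  ((mk b i).map_mul ⟨x, hx⟩ ⟨y, hy⟩).symm

theorem cls_inv {b : BT V R} {i : ι} {x : G} (hx : x ∈ WW V (R i)) :
    (cls b i x hx)⁻¹ = cls b i x⁻¹ (inv_mem hx) :=
  ((mk b i).map_inv ⟨x, hx⟩).symm

theorem cls_eq {b : BT V R} {i : ι} {x y : G} {hx : x ∈ WW V (R i)} {hy : y ∈ WW V (R i)} :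
    cls b i x hx = cls b i y hy ↔ x⁻¹ * y ∈ R i := by
  rw [← inv_mul_eq_one, cls_inv, cls_mul, cls_eq_one]

noncomputable instance instCommGroupMM (b : BT V R) (i : ι) : CommGroup (MM b i) :=
  { instGroupMM b i with
    mul_comm := by
      intro m n
      obtain ⟨x, hx, rfl⟩ := exists_cls b i m
      obtain ⟨y, hy, rfl⟩ := exists_cls b i n
      change cls b i x hx * cls b i y hy = cls b i y hy * cls b i x hx
      rw [cls_mul, cls_mul, cls_eq]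
      have h := b.WW_comm i (inv_mem hy) (inv_mem hx)
      have e : (x * y)⁻¹ * (y * x) = y⁻¹ * x⁻¹ * y⁻¹⁻¹ * x⁻¹⁻¹ := by group
      rwa [e] }

theorem sq2 (b : BT V R) (i : ι) (m : MM b i) : m * m = 1 := by
  obtain ⟨x, hx, rfl⟩ := exists_cls b i m
  exact (cls_mul hx hx).trans (cls_eq_one.2 (b.W_sq i hx))

instance instFiniteMM [Finite G] (b : BT V R) (i : ι) : Finite (MM b i) :=
  inferInstanceAs (Finite (↥(WW V (R i)) ⧸ (R i).subgroupOf (WW V (R i))))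

/-! ### the action -/

theorem conj_W {i : ι} {g x : G} (hg : g ∈ normalizer (R i : Set G)) (hx : x ∈ WW V (R i)) :
    g * x * g⁻¹ ∈ WW V (R i) := conj_mem_of_normalizer (normalizer_le_WW V (R i) hg) hx

/-- conjugation with `g ∈ N(R i)` on `M` -/
noncomputable def actHom (b : BT V R) (i : ι) (g : ↥(normalizer (R i : Set G))) : MM b i →* MM b i :=
  letI := normal_R b i
  QuotientGroup.lift ((R i).subgroupOf (WW V (R i)))
    { toFun := fun x => cls b i (g * x * (g : G)⁻¹) (conj_W g.2 x.2)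
      map_one' := by
        rw [cls_eq_one]
        have : (g : G) * ((1 : WW V (R i)) : G) * (g : G)⁻¹ = 1 := by simp
        rw [this]
        exact one_mem _
      map_mul' := fun x y => by
        rw [cls_mul, cls_eq]
        have : ((g : G) * ((x * y : WW V (R i)) : G) * (g : G)⁻¹)⁻¹ *
            (g * x * (g : G)⁻¹ * (g * y * (g : G)⁻¹)) = 1 := by
          rw [Subgroup.coe_mul]; group
        rw [this]
        exact one_mem _ }
    (fun x hx => cls_eq_one.2 (conj_mem_of_normalizer g.2 hx))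

theorem actHom_cls (b : BT V R) (i : ι) (g : ↥(normalizer (R i : Set G))) {x : G} (hx : x ∈ WW V (R i)) :
    actHom b i g (cls b i x hx) = cls b i (g * x * (g : G)⁻¹) (conj_W g.2 hx) := rfl

theorem cls_congr {b : BT V R} {i : ι} {x y : G} {hx : x ∈ WW V (R i)} (h : x = y) :
    cls b i x hx = cls b i y (h ▸ hx) := by subst h; rfl

theorem actHom_comp (b : BT V R) (i : ι) (g h : ↥(normalizer (R i : Set G))) (m : MM b i) :
    actHom b i g (actHom b i h m) = actHom b i (g * h) m := by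
  obtain ⟨x, hx, rfl⟩ := exists_cls b i m
  rw [actHom_cls, actHom_cls, actHom_cls]
  refine cls_congr ?_
  rw [Subgroup.coe_mul]; group

theorem actHom_one (b : BT V R) (i : ι) (m : MM b i) : actHom b i 1 m = m := by
  obtain ⟨x, hx, rfl⟩ := exists_cls b i m
  rw [actHom_cls]
  refine cls_congr ?_
  simp

/-- the action of `N(R i)` on `M` -/
noncomputable def act (b : BT V R) (i : ι) : ↥(normalizer (R i : Set G)) →* MulAut (MM b i) where
  toFun g :=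
    { toFun := actHom b i g
      invFun := actHom b i g⁻¹
      left_inv := fun m => by rw [actHom_comp, inv_mul_cancel, actHom_one]
      right_inv := fun m => by rw [actHom_comp, mul_inv_cancel, actHom_one]
      map_mul' := (actHom b i g).map_mul }
  map_one' := MulEquiv.ext fun m => actHom_one b i m
  map_mul' g h := MulEquiv.ext fun m => (actHom_comp b i g h m).symm

theorem act_cls (b : BT V R) (i : ι) (g : ↥(normalizer (R i : Set G))) {x : G} (hx : x ∈ WW V (R i)) :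
    act b i g (cls b i x hx) = cls b i (g * x * (g : G)⁻¹) (conj_W g.2 hx) := rfl

theorem pCore_le_ker (b : BT V R) (i : ι) : pCore 2 ↥(normalizer (R i : Set G)) ≤ (act b i).ker := by
  intro g hg
  rw [MonoidHom.mem_ker]
  refine MulEquiv.ext fun m => ?_
  obtain ⟨x, hx, rfl⟩ := exists_cls b i m
  rw [act_cls, MulAut.one_apply, cls_eq]
  have hgQ : (g : G)⁻¹ ∈ QQ (R i) := inv_mem ⟨g, hg, rfl⟩
  have h1 := b.WQ i (inv_mem hgQ) (inv_mem hx)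
  rw [inv_inv] at h1
  have e : (g * x * (g : G)⁻¹)⁻¹ * x = g * x⁻¹ * (g : G)⁻¹ * x⁻¹⁻¹ := by group
  rwa [e]

/-- the action of `H = N(R i)/O₂(N(R i))` on `M = W i / R i` -/
noncomputable def rho (b : BT V R) (i : ι) : HQ (R i) →* MulAut (MM b i) :=
  QuotientGroup.lift _ (act b i) (pCore_le_ker b i)

theorem rho_cls (b : BT V R) {i : ι} {g : G} (hg : g ∈ normalizer (R i : Set G)) {x : G}
    (hx : x ∈ WW V (R i)) : rho b i (pr (R i) ⟨g, hg⟩) (cls b i x hx) = cls b i (g * x * g⁻¹) (conj_W hg hx) := rfl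

theorem cm_W {i : ι} {g x : G} (hg : g ∈ normalizer (R i : Set G)) (hx : x ∈ WW V (R i)) :
    x * g * x⁻¹ * g⁻¹ ∈ WW V (R i) := by
  have e : x * g * x⁻¹ * g⁻¹ = x * (g * x⁻¹ * g⁻¹) := by group
  rw [e]
  exact mul_mem hx (conj_W hg (inv_mem hx))

/-- `[m, g]` is the class of the commutator -/
theorem br_cls (b : BT V R) {i : ι} {g : G} (hg : g ∈ normalizer (R i : Set G)) {x : G} (hx : x ∈ WW V (R i)) :
    br (rho b i (pr (R i) ⟨g, hg⟩)) (cls b i x hx) = cls b i (x * g * x⁻¹ * g⁻¹) (cm_W hg hx) := by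
  rw [br_apply, rho_cls]
  have e : cls b i (x * g * x⁻¹ * g⁻¹) (cm_W hg hx) = cls b i x hx * (cls b i (g * x * g⁻¹) (conj_W hg hx))⁻¹ := by
    rw [cls_inv, cls_mul]
    exact cls_congr (by group)
  rw [e, inv_eq_of_mul_eq_one_left (sq2 b i (cls b i (g * x * g⁻¹) (conj_W hg hx)))]
  exact mul_comm _ _

/-- `e = V / R i` -/
noncomputable def eV (b : BT V R) (i : ι) : Subgroup (MM b i) := (V.subgroupOf (WW V (R i))).map (mk b i)

theorem mem_eV {b : BT V R} {i : ι} {m : MM b i} :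
    m ∈ eV b i ↔ ∃ (x : G) (hx : x ∈ V), cls b i x (V_le_WW V (R i) hx) = m := by
  unfold eV
  rw [mem_map]
  constructor
  · rintro ⟨x, hx, rfl⟩; exact ⟨x, mem_subgroupOf.1 hx, rfl⟩
  · rintro ⟨x, hx, rfl⟩; exact ⟨⟨x, V_le_WW V (R i) hx⟩, mem_subgroupOf.2 hx, rfl⟩

/-! ### the fields -/

section fields

variable {i j : ι} {F : Type v} [Field F] {vv : F → F → G} {t : F → G} {w1 w2 : F → G}

theorem Ae (b : BT V R) {a : HQ (R i)} (ha : a ∈ AA V R i j) {m : MM b i} (hm : m ∈ eV b i) :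
    rho b i a m = m := by
  obtain ⟨u, hu, rfl⟩ := (mem_AA b).1 ha
  obtain ⟨x, hx, rfl⟩ := mem_eV.1 hm
  rw [rho_cls]
  refine cls_congr ?_
  rw [← mem_centralizer_iff.1 (UU_le_cen j hu) x hx, mul_inv_cancel_right]

/-- `t a t⁻¹` -/
theorem pr_conj {R : Subgroup G} {g h : G} (hg : g ∈ normalizer (R : Set G)) (hh : h ∈ normalizer (R : Set G)) :
    pr R ⟨g, hg⟩ * pr R ⟨h, hh⟩ * (pr R ⟨g, hg⟩)⁻¹ =
      pr R ⟨g * h * g⁻¹, mul_mem (mul_mem hg hh) (inv_mem hg)⟩ := rfl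

theorem line0 (b : BTC V R) (τ : TorD V R i j vv t) {a : HQ (R i)} (ha : a ∈ AA V R i j) {x : HQ (R i)}
    (hx : x ∈ TT τ) (m : MM b.toBT i) :
    br (rho b.toBT i (x * a * x⁻¹)) (br (rho b.toBT i a) m) ∈ eV b.toBT i := by
  obtain ⟨u, hu, rfl⟩ := (mem_AA b.toBT).1 ha
  obtain ⟨c, hc, rfl⟩ := (mem_TT τ).1 hx
  obtain ⟨w, hw, rfl⟩ := exists_cls b.toBT i m
  rw [pr_conj, br_cls, br_cls]
  refine mem_eV.2 ⟨_, N0_T b hw hu (τ.memX c hc) (cj_eq_self_iff.2 (τ.normR hc))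
    (cj_eq_self_iff.2 (τ.normR' hc)), rfl⟩

/-- `T` is alternating: `[[y, u], u] = 1` for `y ∈ U i`, `u ∈ U j` -/
theorem alt (b : BT V R) {i j : ι} {y u : G} (hy : y ∈ UU V R i) (hu : u ∈ UU V R j) :
    u * (y * u * y⁻¹ * u⁻¹) * u⁻¹ = y * u * y⁻¹ * u⁻¹ := by
  have h1 := b.Y_comm (UU_le_YY i hy) (UU_le_YY j hu)
  have h2 := b.D_sq h1
  have h3 : y * (u * u) * y⁻¹ = u * u := by
    rw [← mem_centralizer_iff.1 (UU_le_cen i hy) _ (b.R_le j (b.W_sq j (UU_le_WW j hu))), mul_inv_cancel_right]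
  have h4 : (y * u * y⁻¹ * u⁻¹) * (u * (y * u * y⁻¹ * u⁻¹) * u⁻¹) = 1 := by
    calc (y * u * y⁻¹ * u⁻¹) * (u * (y * u * y⁻¹ * u⁻¹) * u⁻¹) = (y * (u * u) * y⁻¹) * (u * u)⁻¹ := by group
      _ = 1 := by rw [h3, mul_inv_cancel]
  exact mul_left_cancel (h4.trans h2.symm)

/-- `[[y, u], t u t⁻¹] = 1` for `y ∈ U i`, `u ∈ U j`, `t ∈ X` fixing `R i`, `R j` -/
theorem alt_T (b : BT V R) {i j : ι} {y u t : G} (hy : y ∈ UU V R i) (hu : u ∈ UU V R j) (ht : t ∈ XX V R)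
    (hti : cj t (R i) = R i) (htj : cj t (R j) = R j) :
    (y * u * y⁻¹ * u⁻¹) * (t * u * t⁻¹) = (t * u * t⁻¹) * (y * u * y⁻¹ * u⁻¹) := by
  have htN := b.X_le_NV ht
  have hu' : t * u * t⁻¹ ∈ UU V R j := by
    have := conj_mem_cj (g := t) hu
    rwa [b.cj_UU htN htj] at this
  have hti' : cj t⁻¹ (R i) = R i := by rw [← cj_eq_iff.1 hti]
  have hy' : t⁻¹ * y * t ∈ UU V R i := by
    have := conj_mem_cj (g := t⁻¹) hy
    rwa [b.cj_UU (inv_mem htN) hti', inv_inv] at this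
  -- symmetry
  have hc : (t * u * t⁻¹) * u * (t * u * t⁻¹)⁻¹ * u⁻¹ ∈ V :=
    b.R_le j (b.WW_comm j (UU_le_WW j hu') (UU_le_WW j hu))
  have h1 := hallWitt b (UU_le_YY j hu') (UU_le_YY j hu) (UU_le_YY i hy) hc
  -- `[t u t⁻¹, y] = t [u, y'] t⁻¹`
  have h2 := alt b hy' hu
  have hd := b.Y_comm (UU_le_YY i hy') (UU_le_YY j hu)
  set d := (t⁻¹ * y * t) * u * (t⁻¹ * y * t)⁻¹ * u⁻¹ with hd'
  have e1 : (t * u * t⁻¹) * y * (t * u * t⁻¹)⁻¹ * y⁻¹ = t * d⁻¹ * t⁻¹ := by rw [hd']; group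
  have h3 : t * d⁻¹ * t⁻¹ * d⁻¹⁻¹ ∈ V := b.XD ht (inv_mem hd)
  have h4 : u * (t * d⁻¹ * t⁻¹) * u⁻¹ = t * d⁻¹ * t⁻¹ := by
    have h5 := mem_centralizer_iff.1 (UU_le_cen j hu) _ h3
    have h6 : u * d⁻¹ * u⁻¹ = d⁻¹ := by
      calc u * d⁻¹ * u⁻¹ = (u * d * u⁻¹)⁻¹ := by group
        _ = d⁻¹ := by rw [h2]
    calc u * (t * d⁻¹ * t⁻¹) * u⁻¹ = (u * (t * d⁻¹ * t⁻¹ * d⁻¹⁻¹)) * d⁻¹ * u⁻¹ := by group
      _ = (t * d⁻¹ * t⁻¹ * d⁻¹⁻¹) * (u * d⁻¹ * u⁻¹) := by rw [← h5]; group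
      _ = t * d⁻¹ * t⁻¹ := by rw [h6]; group
  rw [e1] at h1
  have h7 : u * (t * d⁻¹ * t⁻¹) * u⁻¹ * (t * d⁻¹ * t⁻¹)⁻¹ = 1 := by rw [h4]; group
  rw [h7, mul_inv_eq_one] at h1
  -- `[u, y]⁻¹ = [y, u]`
  have e2 : y * u * y⁻¹ * u⁻¹ = (u * y * u⁻¹ * y⁻¹)⁻¹ := by group
  have hcomm : Commute (t * u * t⁻¹) (u * y * u⁻¹ * y⁻¹) := by
    rw [mul_inv_eq_iff_eq_mul] at h1
    exact h1
  rw [e2]
  exact hcomm.inv_right.eq.symm

theorem line1 (b : BT V R) (τ : TorD V R i j vv t) {a a' : HQ (R i)} (ha : a ∈ AA V R i j)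
    (ha' : a' ∈ AA V R i j) {x : HQ (R i)} (hx : x ∈ TT τ) (m : MM b i) :
    rho b i (x * a' * x⁻¹) (br (rho b i a') (br (rho b i a) m)) = br (rho b i a') (br (rho b i a) m) := by
  obtain ⟨u, hu, rfl⟩ := (mem_AA b).1 ha
  obtain ⟨u', hu', rfl⟩ := (mem_AA b).1 ha'
  obtain ⟨c, hc, rfl⟩ := (mem_TT τ).1 hx
  obtain ⟨w, hw, rfl⟩ := exists_cls b i m
  rw [pr_conj, br_cls, br_cls, rho_cls]
  refine cls_congr ?_
  have h := alt_T b (b.WU' hw hu) hu' (τ.memX c hc) (cj_eq_self_iff.2 (τ.normR hc))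
    (cj_eq_self_iff.2 (τ.normR' hc))
  rw [← h, mul_inv_cancel_right]

/-- `g ∈ N(R i)` normalises `Z(W i)` -/
theorem conj_ZZ (b : BT V R) {g ζ : G} (hg : g ∈ normalizer (R i : Set G)) (hζ : ζ ∈ ZZ V R i) :
    g * ζ * g⁻¹ ∈ ZZ V R i := by
  have h1 : g ∈ normalizer (ZZ V R i : Set G) := by
    rw [← cj_eq_self_iff]; exact cj_ZZ b (cj_eq_self_iff.2 hg)
  exact conj_mem_of_normalizer h1 hζ

/-- the subgroup of `H` centralising `rad = Z(W i) / R i` -/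
noncomputable def cenRad (b : BT V R) (i : ι) : Subgroup (HQ (R i)) where
  carrier := {h | ∀ (ζ : G) (hζ : ζ ∈ ZZ V R i), rho b i h (cls b i ζ (ZZ_le_W i hζ)) = cls b i ζ (ZZ_le_W i hζ)}
  one_mem' := fun ζ hζ => by rw [map_one, MulAut.one_apply]
  mul_mem' := fun {h k} hh hk ζ hζ => by rw [map_mul, MulAut.mul_apply, hk ζ hζ, hh ζ hζ]
  inv_mem' := fun {h} hh ζ hζ => by
    have h1 := congrArg (fun z => (rho b i h)⁻¹ z) (hh ζ hζ)
    have h2 : (rho b i h)⁻¹ (rho b i h (cls b i ζ (ZZ_le_W i hζ))) = cls b i ζ (ZZ_le_W i hζ) := by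
      rw [← MulAut.mul_apply, inv_mul_cancel, MulAut.one_apply]
    rw [map_inv]
    exact (h2.symm.trans h1).symm

theorem cenRad_normal (b : BT V R) (i : ι) : (cenRad b i).Normal := by
  constructor
  intro n hn g ζ hζ
  obtain ⟨x, hx, rfl⟩ := exists_pr g
  have hζ' : x⁻¹ * ζ * x ∈ ZZ V R i := by
    have := conj_ZZ b (inv_mem hx) hζ
    rwa [inv_inv] at this
  have e1 : rho b i (pr (R i) ⟨x, hx⟩)⁻¹ (cls b i ζ (ZZ_le_W i hζ)) = cls b i (x⁻¹ * ζ * x) (ZZ_le_W i hζ') := by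
    have h1 := rho_cls b (inv_mem hx) (ZZ_le_W i hζ)
    have h2 : (pr (R i) ⟨x, hx⟩)⁻¹ = pr (R i) ⟨x⁻¹, inv_mem hx⟩ := rfl
    rw [h2, h1]
    exact cls_congr (by rw [inv_inv])
  rw [map_mul, map_mul, MulAut.mul_apply, MulAut.mul_apply, e1, hn _ hζ', rho_cls b hx (ZZ_le_W i hζ')]
  exact cls_congr (by group)

theorem A_le_cenRad (b : BTC V R) (hij : i ≠ j) : AA V R i j ≤ cenRad b.toBT i := by
  intro a ha ζ hζ
  obtain ⟨u, hu, rfl⟩ := (mem_AA b.toBT).1 ha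
  rw [rho_cls, cls_eq]
  have h1 := b.cen_W_U hij (inv_mem (mem_inf.1 hζ).2) hu
  have e : (u * ζ * u⁻¹)⁻¹ * ζ = u * (ζ⁻¹ * u⁻¹ * ζ⁻¹⁻¹ * u⁻¹⁻¹) * u⁻¹ := by group
  have h2 := b.cen_W_U hij (inv_mem (mem_inf.1 hζ).2) (inv_mem hu)
  rw [e]
  exact conj_mem_of_normalizer (U_le_N b.toBT i j hu) h2

theorem lemN_rho [Finite G] [CharP F 2] (b : BTC V R) (hF : ∃ a : F, a ≠ 0 ∧ a ≠ 1) (c : Coord V R i j vv w1 w2)
    (τ : TorD V R i j vv t) {a : HQ (R i)} (ha : a ∈ AA V R i j) (ha1 : a ≠ 1) {h : HQ (R i)}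
    (hh : h ∈ normalClosure (AA V R i j : Set (HQ (R i))))
    (hc : ∀ m, rho b.toBT i h (br (rho b.toBT i a) m) = br (rho b.toBT i a) m) {m : MM b.toBT i}
    (hm : m ∈ eV b.toBT i) : rho b.toBT i h m = m := by
  have hN := cenRad_normal b.toBT i
  have hr : h ∈ cenRad b.toBT i := normalClosure_le_normal (A_le_cenRad b c.ne) hh
  obtain ⟨u, hu, rfl⟩ := (mem_AA b.toBT).1 ha
  obtain ⟨x, hx, rfl⟩ := mem_eV.1 hm
  have huD : u ∉ DD V R := by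
    intro h1
    apply ha1
    rw [pr_eq_one]
    exact (U_inf_Q b.toBT c.ne hu).2 h1
  obtain ⟨w, hw, ζ, hζ, e⟩ := lemN b hF c τ hu huD hx
  have hcW := cm_W (U_le_N b.toBT i j hu) hw
  have e1 : cls b.toBT i x (V_le_WW V (R i) hx) =
      br (rho b.toBT i (pr (R i) ⟨u, U_le_N b.toBT i j hu⟩)) (cls b.toBT i w hw) * cls b.toBT i ζ (ZZ_le_W i hζ) := by
    rw [br_cls, cls_mul]
    exact cls_congr e
  rw [e1, map_mul, hc, hr ζ hζ]

/-- `A` is normal in the centraliser of `e` -/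
theorem nrm (b : BT V R) (hij : i ≠ j) {h : HQ (R i)} (hh : ∀ m ∈ eV b i, rho b i h m = m) {a : HQ (R i)}
    (ha : a ∈ AA V R i j) : h * a * h⁻¹ ∈ AA V R i j := by
  obtain ⟨g, hg, rfl⟩ := exists_pr h
  obtain ⟨u, hu, rfl⟩ := (mem_AA b).1 ha
  have key : ∀ x ∈ V, g * x * g⁻¹ ∈ V := by
    intro x hx
    have h1 := hh _ (mem_eV.2 ⟨x, hx, rfl⟩)
    rw [rho_cls, cls_eq] at h1
    have h2 := mul_mem hx (inv_mem (b.R_le i h1))
    have e : x * ((g * x * g⁻¹)⁻¹ * x)⁻¹ = g * x * g⁻¹ := by group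
    rwa [e] at h2
  have key' : ∀ x ∈ V, g⁻¹ * x * g ∈ V := by
    intro x hx
    have h1 := hh _ (mem_eV.2 ⟨x, hx, rfl⟩)
    rw [rho_cls, cls_eq] at h1
    have h3 := conj_inv_mem_of_normalizer hg h1
    have h2 := mul_mem hx (b.R_le i h3)
    have e : g⁻¹ * ((g * x * g⁻¹)⁻¹ * x) * g = x⁻¹ * (g⁻¹ * x * g) := by group
    rw [e, mul_inv_cancel_left] at h2
    exact h2
  have hgV : g ∈ normalizer (V : Set G) := by
    rw [mem_normalizer_iff]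
    intro x
    refine ⟨key x, fun hx => ?_⟩
    have h1 := key' _ hx
    have e : g⁻¹ * (g * x * g⁻¹) * g = x := by group
    rwa [e] at h1
  have hy : g * u * g⁻¹ ∈ YY V R := conj_mem_of_normalizer (b.NV_le_NY hgV) (UU_le_YY j hu)
  rw [b.Y_eq hij] at hy
  have h1 : im (R i) (UU V R i ⊔ UU V R j) = AA V R i j := by
    rw [im_sup (U_le_N b i i) (U_le_N b i j), im_eq_bot ((UU_le_WW i).trans (b.W_le_Q i)), bot_sup_eq]
    rfl
  rw [pr_conj, ← h1]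
  exact pr_mem_im _ hy

/-! ### the order of `M` -/

/-- bound for an index -/
theorem relIndex_le {H K : Subgroup G} {X : Type*} [Finite X] (f : K → X)
    (hf : ∀ x y : K, f x = f y → (x : G)⁻¹ * y ∈ H) : H.relIndex K ≤ Nat.card X := by
  rw [relIndex, index]
  refine Nat.card_le_card_of_injective (fun q : K ⧸ H.subgroupOf K => f q.out) ?_
  intro q q' h
  have h1 := hf _ _ h
  rw [← QuotientGroup.out_eq' q, ← QuotientGroup.out_eq' q', QuotientGroup.eq]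
  exact h1

theorem card_M (b : BT V R) (i : ι) : Nat.card (MM b i) = (R i).relIndex (WW V (R i)) := rfl

/-- if `A` is one line then `|M| ≤ q ^ 4` -/
theorem card_le [Finite G] [Finite F] (b : BTC V R) (c : Coord V R i j vv w1 w2)
    (τ : TorD V R i j vv t) (h : ∃ a ∈ AA V R i j, ∀ a' ∈ AA V R i j, a' ≠ 1 → ∃ x ∈ TT τ, a' = x * a * x⁻¹) :
    Nat.card (MM b.toBT i) ≤ (Nat.card (TT τ) + 1) ^ 4 := by
  have hij := c.ne
  obtain ⟨a, ha, hline⟩ := h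
  obtain ⟨u0, hu0, rfl⟩ := (mem_AA b.toBT).1 ha
  set q := Nat.card (TT τ) + 1 with hq
  have hqF : q = Nat.card F := card_T b.toBT τ
  -- `|A| ≤ q`
  have hA : Nat.card (AA V R i j) ≤ q := by
    have h1 := Nat.card_le_card_of_surjective (fun x : Option (TT τ) => (match x with
      | none => 1
      | some x => ⟨(x : HQ (R i)) * pr (R i) ⟨u0, U_le_N b.toBT i j hu0⟩ * (x : HQ (R i))⁻¹,
          TA_mem b.toBT τ x.2 ha⟩ : AA V R i j)) (by
        rintro ⟨y, hy⟩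
        by_cases hy1 : y = 1
        · exact ⟨none, Subtype.ext hy1.symm⟩
        · obtain ⟨x, hx, e⟩ := hline y hy hy1
          exact ⟨some ⟨x, hx⟩, Subtype.ext e.symm⟩)
    rwa [Finite.card_option] at h1
  have hRV : (R i).relIndex V ≤ q := by
    rw [hqF]
    have h1 : ∀ x : V, ∃ β : F, ∃ p, vv p β = (x : G) := fun x => by
      obtain ⟨p, β, e⟩ := (c.mem_V x).1 x.2
      exact ⟨β, p, e⟩
    choose f hf using h1
    refine relIndex_le f ?_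
    intro x y hxy
    obtain ⟨p, hp⟩ := hf x
    obtain ⟨p', hp'⟩ := hf y
    rw [← hp, ← hp', hxy]
    rw [c.mem_R1]
    refine ⟨p' - p, ?_⟩
    have e := c.v_add p (f y) (p' - p) 0
    rw [add_zero, add_sub_cancel] at e
    rw [e]; group
  have hVD : V.relIndex (DD V R) ≤ q := by
    have hRj : Nat.card (R j) ≤ q := by
      rw [hqF]
      refine Nat.card_le_card_of_surjective (fun x : F => (⟨vv 0 x, (c.mem_R2 _).2 ⟨x, rfl⟩⟩ : R j)) ?_
      rintro ⟨y, hy⟩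
      obtain ⟨x, hx⟩ := (c.mem_R2 y).1 hy
      exact ⟨x, Subtype.ext hx⟩
    refine (relIndex_le (X := R j) (fun d : DD V R => ⟨(d : G) * u0 * (d : G)⁻¹ * u0⁻¹, b.DU d.2 hu0⟩) ?_).trans hRj
    rintro ⟨d, hd⟩ ⟨d', hd'⟩ hdd
    have e0 : d * u0 * d⁻¹ * u0⁻¹ = d' * u0 * d'⁻¹ * u0⁻¹ := congrArg Subtype.val hdd
    change d⁻¹ * d' ∈ V
    have hdm : d⁻¹ * d' ∈ DD V R := mul_mem (inv_mem hd) hd'
    have h1 : (d⁻¹ * d') * u0 = u0 * (d⁻¹ * d') := by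
      have e1 : d * u0 * d⁻¹ = d' * u0 * d'⁻¹ := mul_right_cancel e0
      calc (d⁻¹ * d') * u0 = d⁻¹ * (d' * u0 * d'⁻¹) * d' := by group
        _ = d⁻¹ * (d * u0 * d⁻¹) * d' := by rw [e1]
        _ = u0 * (d⁻¹ * d') := by group
    refine b.cen_DU (i := j) hdm fun h hh => ?_
    -- `h` is in `D` or in `(t u0 t⁻¹) D`
    have hpA : pr (R i) ⟨h, U_le_N b.toBT i j hh⟩ ∈ AA V R i j := (mem_AA b.toBT).2 ⟨h, hh, rfl⟩
    by_cases hp1 : pr (R i) ⟨h, U_le_N b.toBT i j hh⟩ = 1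
    · have := (U_inf_Q b.toBT hij hh).1 ((pr_eq_one _).1 hp1)
      exact b.D_comm hdm this
    · obtain ⟨x, hx, e⟩ := hline _ hpA hp1
      obtain ⟨s, hs, rfl⟩ := (mem_TT τ).1 hx
      rw [pr_conj] at e
      have e2 := (pr_eq_pr _ _).1 e.symm
      have hsu : t s * u0 * (t s)⁻¹ ∈ UU V R j := t_norm_U b.toBT τ hs hu0
      have hq' := (U_inf_Q b.toBT hij (mul_mem (inv_mem hsu) hh)).1 e2
      -- `d⁻¹ d'` commutes with `t u0 t⁻¹`
      have h2 : Commute (d⁻¹ * d') (t s * u0 * (t s)⁻¹) := by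
        have hv := b.XD (inv_mem (τ.memX s hs)) hdm
        rw [inv_inv] at hv
        have hvu := mem_centralizer_iff.1 (UU_le_cen j hu0) _ hv
        have c1 : Commute ((t s)⁻¹ * (d⁻¹ * d') * t s) u0 := by
          have e3 : (t s)⁻¹ * (d⁻¹ * d') * t s = ((t s)⁻¹ * (d⁻¹ * d') * t s * (d⁻¹ * d')⁻¹) * (d⁻¹ * d') := by
            group
          rw [e3]
          exact Commute.mul_left hvu h1
        have e4 : (t s)⁻¹ * (d⁻¹ * d') * t s * u0 = u0 * ((t s)⁻¹ * (d⁻¹ * d') * t s) := c1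
        calc (d⁻¹ * d') * (t s * u0 * (t s)⁻¹) = t s * ((t s)⁻¹ * (d⁻¹ * d') * t s * u0) * (t s)⁻¹ := by group
          _ = t s * (u0 * ((t s)⁻¹ * (d⁻¹ * d') * t s)) * (t s)⁻¹ := by rw [e4]
          _ = (t s * u0 * (t s)⁻¹) * (d⁻¹ * d') := by group
      have h3 : Commute (d⁻¹ * d') ((t s * u0 * (t s)⁻¹)⁻¹ * h) := b.D_comm hdm hq'
      have e5 : h = (t s * u0 * (t s)⁻¹) * ((t s * u0 * (t s)⁻¹)⁻¹ * h) := by group
      rw [e5]
      exact h2.mul_right h3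
  have hDU : (DD V R).relIndex (UU V R i) ≤ q := by
    rw [b.card_U i j]
    refine (relIndex_le (X := AA V R i j) (fun u : UU V R j =>
      ⟨pr (R i) ⟨u, U_le_N b.toBT i j u.2⟩, (mem_AA b.toBT).2 ⟨u, u.2, rfl⟩⟩) ?_).trans hA
    rintro ⟨u, hu⟩ ⟨u', hu'⟩ huu
    exact (U_inf_Q b.toBT hij (mul_mem (inv_mem hu) hu')).1 ((pr_eq_pr _ _).1 (congrArg Subtype.val huu))
  have hUW : (UU V R i).relIndex (WW V (R i)) ≤ q := by
    rw [hqF]
    have h1 : ∀ x : WW V (R i), ∃ s : F, ∀ β γ, (x : G) * vv β γ * (x : G)⁻¹ = vv (β + s * γ) γ :=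
      fun x => c.W1_act x x.2
    choose f hf using h1
    refine relIndex_le f ?_
    intro x y hxy
    refine mem_inf.2 ⟨mul_mem (inv_mem x.2) y.2, ?_⟩
    rw [mem_centralizer_iff]
    intro v hv
    obtain ⟨β, γ, rfl⟩ := (c.mem_V v).1 hv
    have h2 := hf x β γ
    have h3 := hf y β γ
    rw [← hxy, ← h2] at h3
    calc vv β γ * ((x : G)⁻¹ * y) = (x : G)⁻¹ * (x * vv β γ * (x : G)⁻¹) * y := by group
      _ = (x : G)⁻¹ * (y * vv β γ * (y : G)⁻¹) * y := by rw [h3]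
      _ = (x : G)⁻¹ * y * vv β γ := by group
  rw [card_M, ← relIndex_mul_relIndex _ _ _ (b.R_le_U i) (UU_le_WW i),
    ← relIndex_mul_relIndex _ _ _ ((b.R_le i).trans (V_le_D V R)) (b.D_le_U i),
    ← relIndex_mul_relIndex _ _ _ (b.R_le i) (V_le_D V R)]
  calc (R i).relIndex V * V.relIndex (DD V R) * (DD V R).relIndex (UU V R i) * (UU V R i).relIndex (WW V (R i))
      ≤ q * q * q * q := by gcongr
    _ = q ^ 4 := by ring

/-- `|e| = q` -/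
theorem card_eV [Finite F] (b : BT V R) (c : Coord V R i j vv w1 w2) (τ : TorD V R i j vv t) :
    Nat.card (eV b i) ≤ Nat.card (TT τ) + 1 := by
  rw [card_T b τ]
  refine Nat.card_le_card_of_surjective
    (fun β : F => (⟨cls b i (vv 0 β) (V_le_WW V (R i) (c.v_mem 0 β)), mem_eV.2 ⟨_, c.v_mem 0 β, rfl⟩⟩ : eV b i)) ?_
  rintro ⟨m, hm⟩
  obtain ⟨x, hx, rfl⟩ := mem_eV.1 hm
  obtain ⟨p, β, rfl⟩ := (c.mem_V x).1 hx
  refine ⟨β, Subtype.ext ?_⟩
  rw [cls_eq]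
  have e := c.v_add 0 β p 0
  rw [zero_add, add_zero] at e
  rw [e, inv_mul_cancel_left, c.mem_R1]
  exact ⟨p, rfl⟩

/-- the class of the double commutator -/
theorem br_br_cls (b : BT V R) {u u' : G} (hu : u ∈ UU V R j) (hu' : u' ∈ UU V R j) {x : G}
    (hx : x ∈ WW V (R i)) :
    br (rho b i (pr (R i) ⟨u', U_le_N b i j hu'⟩)) (br (rho b i (pr (R i) ⟨u, U_le_N b i j hu⟩)) (cls b i x hx)) =
      cls b i ((x * u * x⁻¹ * u⁻¹) * u' * (x * u * x⁻¹ * u⁻¹)⁻¹ * u'⁻¹)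
        (cm_W (U_le_N b i j hu') (cm_W (U_le_N b i j hu) hx)) := by
  rw [br_cls, br_cls]

theorem full (b : BTC V R) [CharP F 2] (c : Coord V R i j vv w1 w2) {a a' : HQ (R i)} (ha : a ∈ AA V R i j)
    (ha' : a' ∈ AA V R i j) (h : ∃ m, br (rho b.toBT i a') (br (rho b.toBT i a) m) ≠ 1)
    {y : MM b.toBT i} (hy : y ∈ eV b.toBT i) : ∃ m, y = br (rho b.toBT i a') (br (rho b.toBT i a) m) := by
  obtain ⟨u, hu, rfl⟩ := (mem_AA b.toBT).1 ha
  obtain ⟨u', hu', rfl⟩ := (mem_AA b.toBT).1 ha'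
  obtain ⟨m, hm⟩ := h
  obtain ⟨w, hw, rfl⟩ := exists_cls b.toBT i m
  rw [br_br_cls b.toBT hu hu' hw, ne_eq, cls_eq_one] at hm
  obtain ⟨x, hx, rfl⟩ := mem_eV.1 hy
  obtain ⟨w', hw', h'⟩ := n1_el b c hu hu' ⟨w, hw, hm⟩ hx
  refine ⟨cls b.toBT i w' hw', ?_⟩
  rw [br_br_cls b.toBT hu hu' hw', cls_eq]
  have h2 := conj_inv_mem_of_normalizer (b.W_le_N i (V_le_WW V (R i) hx)) h'
  set d := (w' * u * w'⁻¹ * u⁻¹) * u' * (w' * u * w'⁻¹ * u⁻¹)⁻¹ * u'⁻¹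
  have e : x⁻¹ * d = x⁻¹ * (d * x⁻¹) * x := by group
  rwa [e]

theorem same (b : BTC V R) [Finite F] [CharP F 2] (c : Coord V R i j vv w1 w2) (τ : TorD V R i j vv t)
    {a a' : HQ (R i)} (ha : a ∈ AA V R i j) (ha' : a' ∈ AA V R i j) {x : HQ (R i)} (hx : x ∈ TT τ)
    (h : ∃ m, br (rho b.toBT i (x * a' * x⁻¹)) (br (rho b.toBT i a) m) ≠ 1) (m : MM b.toBT i) :
    ∃ m', br (rho b.toBT i a') (br (rho b.toBT i a) m) = br (rho b.toBT i (x * a' * x⁻¹)) (br (rho b.toBT i a) m') := by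
  obtain ⟨u, hu, rfl⟩ := (mem_AA b.toBT).1 ha
  obtain ⟨u', hu', rfl⟩ := (mem_AA b.toBT).1 ha'
  obtain ⟨s, hs, rfl⟩ := (mem_TT τ).1 hx
  have hut : t s * u' * (t s)⁻¹ ∈ UU V R j := t_norm_U b.toBT τ hs hu'
  obtain ⟨m0, hm0⟩ := h
  obtain ⟨w0, hw0, rfl⟩ := exists_cls b.toBT i m0
  obtain ⟨w, hw, rfl⟩ := exists_cls b.toBT i m
  have e0 : pr (R i) ⟨t s, τ.normR hs⟩ * pr (R i) ⟨u', U_le_N b.toBT i j hu'⟩ * (pr (R i) ⟨t s, τ.normR hs⟩)⁻¹ =
      pr (R i) ⟨t s * u' * (t s)⁻¹, U_le_N b.toBT i j hut⟩ := rfl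
  rw [e0] at hm0 ⊢
  rw [br_br_cls b.toBT hu hut hw0, ne_eq, cls_eq_one] at hm0
  have hti : cj (t s)⁻¹ (R i) = R i := cj_eq_self_iff.2 (inv_mem (τ.normR hs))
  have htj : cj (t s)⁻¹ (R j) = R j := cj_eq_self_iff.2 (inv_mem (τ.normR' hs))
  obtain ⟨w', hw', h'⟩ := same_el b c hu hut (inv_mem (τ.memX s hs)) hti htj ⟨w0, hw0, hm0⟩ hw
  refine ⟨cls b.toBT i w' hw', ?_⟩
  rw [br_br_cls b.toBT hu hu' hw, br_br_cls b.toBT hu hut hw', cls_eq]
  have e1 : (t s)⁻¹ * (t s * u' * (t s)⁻¹) * (t s)⁻¹⁻¹ = u' := by group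
  rw [e1] at h'
  have hdN : (w' * u * w'⁻¹ * u⁻¹) * (t s * u' * (t s)⁻¹) * (w' * u * w'⁻¹ * u⁻¹)⁻¹ * (t s * u' * (t s)⁻¹)⁻¹ ∈
      normalizer (R i : Set G) := b.W_le_N i (cm_W (U_le_N b.toBT i j hut) (cm_W (U_le_N b.toBT i j hu) hw'))
  set d' := (w' * u * w'⁻¹ * u⁻¹) * (t s * u' * (t s)⁻¹) * (w' * u * w'⁻¹ * u⁻¹)⁻¹ * (t s * u' * (t s)⁻¹)⁻¹
  set d := (w * u * w⁻¹ * u⁻¹) * u' * (w * u * w⁻¹ * u⁻¹)⁻¹ * u'⁻¹
  have e2 : d⁻¹ * d' = d'⁻¹ * (d * d'⁻¹)⁻¹ * d' := by group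
  rw [e2]
  exact conj_inv_mem_of_normalizer hdN (inv_mem h')

theorem exists_ne' [Finite F] (hq : 4 ≤ Nat.card F) : ∃ a : F, a ≠ 0 ∧ a ≠ 1 := by
  by_contra hcon
  push Not at hcon
  have h1 := Nat.card_le_card_of_surjective (fun x : Bool => if x then (1 : F) else 0) (by
    intro y
    by_cases hy : y = 0
    · exact ⟨false, by simp [hy]⟩
    · exact ⟨true, by simp [hcon y hy]⟩)
  rw [Nat.card_eq_fintype_card (α := Bool), Fintype.card_bool] at h1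
  omega

/-- **The cubic module of `H = N(R i)/O₂(N(R i))`.** -/
theorem cub [Finite G] [Finite F] [CharP F 2] (b : BTC V R) (hq : 4 ≤ Nat.card F) (c : Coord V R i j vv w1 w2)
    (τ : TorD V R i j vv t) : Cub (rho b.toBT i) (AA V R i j) (TT τ) (eV b.toBT i) where
  sq2 := sq2 b.toBT i
  Ae _ ha _ hm := Ae b.toBT ha hm
  line0 _ ha _ hx m := line0 b τ ha hx m
  line1 _ ha _ ha' _ hx m := line1 b.toBT τ ha ha' hx m
  full _ ha _ ha' h _ hy := full b c ha ha' h hy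
  same _ ha _ ha' _ hx _ h m := same b c τ ha ha' hx h m
  lemN _ ha ha1 _ hh hc _ hm := lemN_rho b (exists_ne' hq) c τ ha ha1 hh hc hm
  nrm _ hh _ ha := nrm b.toBT c.ne hh ha
  card h := card_le b c τ h

end fields

end Cfsg.Agent.Omega.Lie.CubQ
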