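import Cfsg.Agent.Omega.Lie.LQS

/-!
# (h1), SPLIT: `CubS` from an `F`-bilinear symplectic form, abstract

`FDat L A T D f e ω`: `M` an `F`-space with a nondegenerate symmetric form `f`, the line `e`, `ω = f(·, e)`, `L = H⁰` acts
linearly and preserves `f`, `[D, A] ≤ e`, `[e^⊥, A] ≤ D`, `T` trivial on `D / e`.  `FDat.cubS`: then `CubS` holds: (N1) is
free.
-/

set_option autoImplicit false
set_option linter.unusedSectionVars false

namespace Cfsg.Agent.Omega.Lie.LQS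

open Subgroup Cfsg.Agent.Omega.Lie.CompT Cfsg.Agent.Omega.Lie.LQ

universe u v w

variable {H : Type u} {M : Type v} [Group H] [AddCommGroup M] [DistribMulAction H M]

/-- `H` acts on `Multiplicative M` -/
def mrho (H : Type u) (M : Type v) [Group H] [AddCommGroup M] [DistribMulAction H M] :
    H →* MulAut (Multiplicative M) where
  toFun h :=
    { toFun := fun m => Multiplicative.ofAdd (h • m.toAdd)
      invFun := fun m => Multiplicative.ofAdd (h⁻¹ • m.toAdd)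
      left_inv := fun m => congrArg Multiplicative.ofAdd (inv_smul_smul h m.toAdd)
      right_inv := fun m => congrArg Multiplicative.ofAdd (smul_inv_smul h m.toAdd)
      map_mul' := fun m n => by rw [toAdd_mul, smul_add, ofAdd_add] }
  map_one' := MulEquiv.ext fun m => by
    change Multiplicative.ofAdd ((1 : H) • m.toAdd) = m
    rw [one_smul, ofAdd_toAdd]
  map_mul' g h := MulEquiv.ext fun m => by
    change Multiplicative.ofAdd ((g * h) • m.toAdd) = Multiplicative.ofAdd (g • (h • m.toAdd))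
    rw [mul_smul]

theorem mrho_apply (h : H) (m : Multiplicative M) : mrho H M h m = Multiplicative.ofAdd (h • m.toAdd) := rfl

/-- `[x, a] = a x + x` -/
def bra (a : H) (x : M) : M := a • x + x

theorem br_mrho (h : H) (m : Multiplicative M) : br (mrho H M h) m = Multiplicative.ofAdd (bra h m.toAdd) := rfl

variable {F : Type w} [Field F] [Module F M]

structure FDat (L A T : Subgroup H) (D : AddSubgroup M) (f : M →ₗ[F] M →ₗ[F] F) (e : F →ₗ[F] M)
    (ω : M →ₗ[F] F) : Prop where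
  two : ∀ x : M, x + x = 0
  fe : ∀ x γ, f x (e γ) = ω x * γ
  symm : ∀ x y, f x y = f y x
  nd : ∀ x, (∀ y, f x y = 0) → x = 0
  ω1 : ∃ m, ω m = 1
  AL : A ≤ L
  lin : ∀ h ∈ L, ∀ (a : F) (x : M), h • (a • x) = a • (h • x)
  act : ∀ h ∈ L, ∀ x y, f (h • x) (h • y) = f x y
  sq : ∀ a ∈ A, a * a = 1
  TA : ∀ t ∈ T, ∀ a ∈ A, t * a * t⁻¹ ∈ A
  Ae : ∀ a ∈ A, ∀ γ, a • e γ = e γ
  eD : ∀ γ, e γ ∈ D
  DP : ∀ x ∈ D, ω x = 0
  AD : ∀ a ∈ A, ∀ x ∈ D, ∃ γ, bra a x = e γ
  AP : ∀ a ∈ A, ∀ x, ω x = 0 → bra a x ∈ D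
  Te : ∀ t ∈ T, ∃ c : F, c ≠ 0 ∧ ∀ γ, t • e γ = e (c * γ)
  TD : ∀ t ∈ T, ∀ x ∈ D, ∃ γ, bra t x = e γ
  l0 : ∀ a ∈ A, ∀ t ∈ T, ∀ x, ∃ γ, bra (t * a * t⁻¹) (bra a x) = e γ
  sub : ∀ a ∈ A, a ≠ 1 → ∀ γ, ∃ x, e γ = bra a x
  gen : ∀ m, ω m ≠ 0 → ∀ x, ω x = 0 → ∃ a ∈ A, x + bra a m ∈ D
  ker0 : ∀ x ∈ D, (∀ a ∈ A, a • x = x) → ∃ γ, x = e γ

namespace FDat

variable {L A T : Subgroup H} {D : AddSubgroup M} {f : M →ₗ[F] M →ₗ[F] F} {e : F →ₗ[F] M} {ω : M →ₗ[F] F}
  (d : FDat L A T D f e ω)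
include d

theorem bra_add (a : H) (x y : M) : bra a (x + y) = bra a x + bra a y := by
  unfold bra; rw [smul_add]; abel

theorem bra_zero (a : H) : bra a (0 : M) = 0 := by
  unfold bra; rw [smul_zero, add_zero]

theorem eq_of_add {x y : M} (h : x + y = 0) : x = y := by
  have h1 := d.two y
  exact add_right_cancel (h.trans h1.symm)

theorem bra_eq_zero {a : H} {x : M} : bra a x = 0 ↔ a • x = x :=
  ⟨fun h => d.eq_of_add h, fun h => by unfold bra; rw [h, d.two]⟩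

theorem bra_smul {h : H} (hh : h ∈ L) (a : F) (x : M) : bra h (a • x) = a • bra h x := by
  unfold bra; rw [d.lin h hh, smul_add]

theorem comm {a b : H} (ha : a ∈ A) (hb : b ∈ A) : a * b = b * a := by
  have i1 : a⁻¹ = a := inv_eq_of_mul_eq_one_left (d.sq a ha)
  have i2 : b⁻¹ = b := inv_eq_of_mul_eq_one_left (d.sq b hb)
  have i3 : (a * b)⁻¹ = a * b := inv_eq_of_mul_eq_one_left (d.sq _ (A.mul_mem ha hb))
  rw [mul_inv_rev, i1, i2] at i3
  exact i3.symm

theorem bra_comm {a b : H} (ha : a ∈ A) (hb : b ∈ A) (x : M) : bra a (bra b x) = bra b (bra a x) := by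
  unfold bra
  rw [smul_add, smul_add, smul_smul, smul_smul, d.comm ha hb]
  abel

theorem adj {a : H} (ha : a ∈ A) (x y : M) : f (bra a x) y = f x (bra a y) := by
  unfold bra
  rw [map_add, LinearMap.add_apply, map_add]
  have h1 := d.act a (d.AL ha) x (a • y)
  rw [smul_smul, d.sq a ha, one_smul] at h1
  rw [h1]

theorem smul_bra {a : H} (ha : a ∈ A) (x : M) : a • bra a x = bra a x := by
  unfold bra
  rw [smul_add, smul_smul, d.sq a ha, one_smul, add_comm]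

theorem ω_bra {a : H} (ha : a ∈ A) (x : M) : ω (bra a x) = 0 := by
  have h1 := d.adj ha x (e 1)
  rw [d.fe, mul_one] at h1
  rw [h1, (d.bra_eq_zero).2 (d.Ae a ha 1), map_zero]

/-- `P^⊥ = e` -/
theorem perp_perp {z : M} (h : ∀ x, ω x = 0 → f z x = 0) : ∃ γ, z = e γ := by
  obtain ⟨m, hm⟩ := d.ω1
  refine ⟨f z m, ?_⟩
  rw [← sub_eq_zero]
  refine d.nd _ fun x => ?_
  have h1 := h (x - ω x • m) (by rw [map_sub, map_smul, hm, smul_eq_mul, mul_one, sub_self])
  rw [map_sub, map_smul, smul_eq_mul, sub_eq_zero] at h1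
  rw [map_sub, LinearMap.sub_apply, d.symm (e _) x, d.fe, h1, sub_self]

theorem e_inj {γ : F} (h : e γ = 0) : γ = 0 := by
  obtain ⟨m, hm⟩ := d.ω1
  have h1 := d.fe m γ
  rw [h, map_zero, hm, one_mul] at h1
  exact h1.symm

/-- `b^t = c b` on `D` -/
theorem bra_conj_D {b t : H} (hb : b ∈ A) (ht : t ∈ T) {c : F} (hc : ∀ γ, t • e γ = e (c * γ)) {x : M} (hx : x ∈ D) :
    bra (t * b * t⁻¹) x = c • bra b x := by
  obtain ⟨γ, hγ⟩ := d.TD _ (inv_mem ht) x hx
  obtain ⟨δ, hδ⟩ := d.AD b hb x hx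
  have h1 : t⁻¹ • x = e γ + x := by
    have : t⁻¹ • x + x = e γ := hγ
    calc t⁻¹ • x = t⁻¹ • x + (x + x) := by rw [d.two, add_zero]
      _ = e γ + x := by rw [← add_assoc, this]
  have h2 : b • x = e δ + x := by
    have : b • x + x = e δ := hδ
    calc b • x = b • x + (x + x) := by rw [d.two, add_zero]
      _ = e δ + x := by rw [← add_assoc, this]
  have h3 : t • x = t • e γ + x := by
    have h4 : x = t • (e γ + x) := by rw [← h1, smul_inv_smul]
    rw [smul_add] at h4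
    calc t • x = (t • e γ + t • e γ) + t • x := by rw [d.two, zero_add]
      _ = t • e γ + (t • e γ + t • x) := by rw [add_assoc]
      _ = _ := by rw [← h4]
  unfold bra
  rw [mul_smul, mul_smul, h1, smul_add, d.Ae b hb, h2, smul_add, smul_add, h3]
  calc t • e γ + (t • e δ + (t • e γ + x)) + x = (t • e γ + t • e γ) + (x + x) + t • e δ := by abel
    _ = t • e δ := by rw [d.two, d.two, add_zero, zero_add]
    _ = c • (e δ + x + x) := by rw [hc, add_assoc, d.two, add_zero, ← smul_eq_mul, map_smul]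

/-- (N1), the first part -/
theorem full {a b : H} (ha : a ∈ A) (hb : b ∈ A) (h : ∃ x : M, bra b (bra a x) ≠ 0) (γ : F) :
    ∃ x, e γ = bra b (bra a x) := by
  by_cases h1 : ∃ x, ω x = 0 ∧ bra b (bra a x) ≠ 0
  · obtain ⟨x, hx, hne⟩ := h1
    obtain ⟨δ, hδ⟩ := d.AD b hb _ (d.AP a ha x hx)
    have hδ0 : δ ≠ 0 := by rintro rfl; rw [map_zero] at hδ; exact hne hδ
    refine ⟨(γ / δ) • x, ?_⟩
    rw [d.bra_smul (d.AL ha), d.bra_smul (d.AL hb), hδ, ← map_smul, smul_eq_mul, div_mul_cancel₀ _ hδ0]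
  · push Not at h1
    obtain ⟨m, hm⟩ := h
    obtain ⟨δ, hδ⟩ := d.perp_perp (z := bra b (bra a m)) fun x hx => by
      rw [d.adj hb, d.adj ha, d.bra_comm ha hb, h1 x hx, map_zero]
    have hδ0 : δ ≠ 0 := by rintro rfl; rw [map_zero] at hδ; exact hm hδ
    refine ⟨(γ / δ) • m, ?_⟩
    rw [d.bra_smul (d.AL ha), d.bra_smul (d.AL hb), hδ, ← map_smul, smul_eq_mul, div_mul_cancel₀ _ hδ0]

/-- (N1), the second part -/
theorem same {a b t : H} (ha : a ∈ A) (hb : b ∈ A) (ht : t ∈ T) (h : ∃ x : M, bra (t * b * t⁻¹) (bra a x) ≠ 0)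
    (x : M) : ∃ y, bra b (bra a x) = bra (t * b * t⁻¹) (bra a y) := by
  obtain ⟨c, hc0, hc⟩ := d.Te t ht
  have hb' := d.TA t ht b hb
  have key : ∀ x, ∃ γ, bra (t * b * t⁻¹) (bra a x) + c • bra b (bra a x) = e γ := by
    intro x
    obtain ⟨δ, hδ⟩ := d.perp_perp (z := bra (t * b * t⁻¹) (bra a x) + c • bra b (bra a x)) fun y hy => by
      rw [map_add, LinearMap.add_apply, map_smul, LinearMap.smul_apply, d.adj hb', d.adj ha, d.adj hb, d.adj ha,
        d.bra_comm ha hb', d.bra_comm ha hb, d.bra_conj_D hb ht hc (d.AP a ha y hy), map_smul]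
      have h1 : ∀ z : F, z + z = 0 := by
        intro z
        obtain ⟨m, hm⟩ := d.ω1
        have h2 : ω (z • m) + ω (z • m) = 0 := by rw [← map_add, d.two, map_zero]
        rwa [map_smul, hm, smul_eq_mul, mul_one] at h2
      exact h1 _
    exact ⟨δ, hδ⟩
  obtain ⟨γ, hγ⟩ := key x
  obtain ⟨z, hz⟩ := d.full ha hb' h (c⁻¹ * γ)
  refine ⟨c⁻¹ • x + z, ?_⟩
  have h3 : e (c⁻¹ * γ) = c⁻¹ • e γ := by rw [← map_smul, smul_eq_mul]
  rw [d.bra_add, d.bra_add, d.bra_smul (d.AL ha), d.bra_smul (d.AL hb'), ← hz, h3, ← hγ,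
    smul_add, smul_smul, inv_mul_cancel₀ hc0, one_smul, ← add_assoc, d.two, zero_add]

/-- `[M, a, b, b^t] = 0` -/
theorem line1 {a b t : H} (ha : a ∈ A) (hb : b ∈ A) (ht : t ∈ T) (x : M) :
    (t * b * t⁻¹) • bra b (bra a x) = bra b (bra a x) := by
  obtain ⟨c, -, hc⟩ := d.Te t ht
  have hD := d.AP b hb _ (d.ω_bra ha x)
  rw [← d.bra_eq_zero, d.bra_conj_D hb ht hc hD, (d.bra_eq_zero).2 (d.smul_bra hb _), smul_zero]

theorem faith {a : H} (ha : a ∈ A) (h : ∀ x : M, a • x = x) : a = 1 := by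
  by_contra ha1
  obtain ⟨x, hx⟩ := d.sub a ha ha1 1
  rw [(d.bra_eq_zero).2 (h x)] at hx
  exact one_ne_zero (d.e_inj hx)

/-- the order of `M` if `A` is one line -/
theorem card_le [Finite H] [Finite F] (hT : Nat.card T + 1 = Nat.card F)
    (h : ∃ a ∈ A, ∀ b ∈ A, b ≠ 1 → ∃ t ∈ T, b = t * a * t⁻¹) : Nat.card M ≤ (Nat.card T + 1) ^ 4 := by
  classical
  obtain ⟨a₀, ha₀, hline⟩ := h
  obtain ⟨m₀, hm₀⟩ := d.ω1
  -- `|A| ≤ q`
  have hA : Nat.card A ≤ Nat.card F := by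
    rw [← hT]
    have h1 := Nat.card_le_card_of_surjective (fun x : Option T => (match x with
      | none => 1
      | some x => ⟨(x : H) * a₀ * (x : H)⁻¹, d.TA x x.2 a₀ ha₀⟩ : A)) (by
        rintro ⟨y, hy⟩
        by_cases hy1 : y = 1
        · exact ⟨none, Subtype.ext hy1.symm⟩
        · obtain ⟨x, hx, e⟩ := hline y hy hy1
          exact ⟨some ⟨x, hx⟩, Subtype.ext e.symm⟩)
    rwa [Finite.card_option] at h1
  -- representatives in `D`
  let r : F → M := fun γ => if h : ∃ x ∈ D, bra a₀ x = e γ then h.choose else 0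
  have hr : ∀ x ∈ D, ∀ γ, bra a₀ x = e γ → ∃ δ, x + r γ = e δ := by
    intro x hx γ hγ
    have hex : ∃ x ∈ D, bra a₀ x = e γ := ⟨x, hx, hγ⟩
    have h1 : r γ = hex.choose := dif_pos hex
    obtain ⟨h2, h3⟩ := hex.choose_spec
    rw [← h1] at h2 h3
    have h4 : bra a₀ (x + r γ) = 0 := by rw [d.bra_add, hγ, h3, d.two]
    refine d.ker0 _ (D.add_mem hx h2) fun a ha => ?_
    by_cases ha1 : a = 1
    · rw [ha1, one_smul]
    · obtain ⟨t, ht, rfl⟩ := hline a ha ha1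
      obtain ⟨c, -, hc⟩ := d.Te t ht
      rw [← d.bra_eq_zero, d.bra_conj_D ha₀ ht hc (D.add_mem hx h2), h4, smul_zero]
  have hsurj : Function.Surjective (fun q : F × A × F × F => q.1 • m₀ + bra (q.2.1 : H) m₀ + r q.2.2.1 + e q.2.2.2) := by
    intro x
    have h1 : ω (x + ω x • m₀) = 0 := by
      have h2 : ω (x + x) = 0 := by rw [d.two, map_zero]
      rw [map_add] at h2
      rw [map_add, map_smul, hm₀, smul_eq_mul, mul_one]
      exact h2
    obtain ⟨a, ha, h2⟩ := d.gen m₀ (by rw [hm₀]; exact one_ne_zero) _ h1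
    obtain ⟨γ, hγ⟩ := d.AD a₀ ha₀ _ h2
    obtain ⟨δ, hδ⟩ := hr _ h2 γ hγ
    refine ⟨(ω x, ⟨a, ha⟩, γ, δ), ?_⟩
    change ω x • m₀ + bra a m₀ + r γ + e δ = x
    rw [← hδ]
    calc ω x • m₀ + bra a m₀ + r γ + (x + ω x • m₀ + bra a m₀ + r γ) =
          x + (ω x • m₀ + ω x • m₀) + (bra a m₀ + bra a m₀) + (r γ + r γ) := by abel
      _ = x := by rw [d.two, d.two, d.two, add_zero, add_zero, add_zero]
  have h1 := Nat.card_le_card_of_surjective _ hsurj
  rw [Nat.card_prod, Nat.card_prod, Nat.card_prod] at h1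
  rw [hT]
  calc Nat.card M ≤ Nat.card F * (Nat.card A * (Nat.card F * Nat.card F)) := h1
    _ ≤ Nat.card F * (Nat.card F * (Nat.card F * Nat.card F)) := by gcongr
    _ = Nat.card F ^ 4 := by ring

/-- the subgroup `e` -/
def eS (_ : FDat L A T D f e ω) : Subgroup (Multiplicative M) where
  carrier := {m | ∃ γ, m.toAdd = e γ}
  one_mem' := ⟨0, by rw [map_zero]; rfl⟩
  mul_mem' := by
    rintro x y ⟨γ, hγ⟩ ⟨δ, hδ⟩
    exact ⟨γ + δ, by rw [toAdd_mul, hγ, hδ, map_add]⟩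
  inv_mem' := by
    rintro x ⟨γ, hγ⟩
    exact ⟨-γ, by rw [toAdd_inv, hγ, map_neg]⟩

/-- the subgroup `D` -/
def dS (_ : FDat L A T D f e ω) : Subgroup (Multiplicative M) where
  carrier := {m | m.toAdd ∈ D}
  one_mem' := D.zero_mem
  mul_mem' := fun hx hy => D.add_mem hx hy
  inv_mem' := fun hx => D.neg_mem hx

/-- the subgroup `P = e^⊥` -/
def pS (_ : FDat L A T D f e ω) : Subgroup (Multiplicative M) where
  carrier := {m | ω m.toAdd = 0}
  one_mem' := map_zero ω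
  mul_mem' := by
    intro x y hx hy
    change ω (x.toAdd + y.toAdd) = 0
    rw [map_add, (show ω x.toAdd = 0 from hx), (show ω y.toAdd = 0 from hy), add_zero]
  inv_mem' := by
    intro x hx
    change ω (-x.toAdd) = 0
    rw [map_neg, (show ω x.toAdd = 0 from hx), neg_zero]

theorem mem_eS {m : Multiplicative M} : m ∈ d.eS ↔ ∃ γ, m.toAdd = e γ := Iff.rfl

theorem mem_dS {m : Multiplicative M} : m ∈ d.dS ↔ m.toAdd ∈ D := Iff.rfl

theorem mem_pS {m : Multiplicative M} : m ∈ d.pS ↔ ω m.toAdd = 0 := Iff.rfl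

/-- **`CubS`** -/
theorem cubS [Finite H] [Finite F] (hT : Nat.card T + 1 = Nat.card F) : CubS (mrho H M) L A T d.eS d.dS d.pS where
  sq2 m := by
    change Multiplicative.ofAdd (m.toAdd + m.toAdd) = 1
    rw [d.two]; rfl
  Ae a ha m hm := by
    obtain ⟨γ, hγ⟩ := hm
    rw [mrho_apply, hγ, d.Ae a ha, ← hγ, ofAdd_toAdd]
  line0 a ha t ht m := by
    rw [br_mrho, br_mrho]
    exact d.l0 a ha t ht m.toAdd
  line1 a ha b hb t ht m := by
    rw [br_mrho, br_mrho, mrho_apply]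
    exact congrArg Multiplicative.ofAdd (d.line1 ha hb ht m.toAdd)
  full a ha b hb h y hy := by
    obtain ⟨γ, hγ⟩ := hy
    obtain ⟨m, hm⟩ := h
    obtain ⟨x, hx⟩ := d.full ha hb ⟨m.toAdd, fun h' => hm (congrArg Multiplicative.ofAdd h')⟩ γ
    exact ⟨Multiplicative.ofAdd x, by rw [← ofAdd_toAdd y, hγ, hx]; rfl⟩
  same a ha b hb t ht _ h m := by
    obtain ⟨m', hm'⟩ := h
    obtain ⟨x, hx⟩ := d.same ha hb ht ⟨m'.toAdd, fun h' => hm' (congrArg Multiplicative.ofAdd h')⟩ m.toAdd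
    exact ⟨Multiplicative.ofAdd x, congrArg Multiplicative.ofAdd hx⟩
  sub a ha ha1 x hx := by
    obtain ⟨γ, hγ⟩ := hx
    obtain ⟨y, hy⟩ := d.sub a ha ha1 γ
    exact ⟨Multiplicative.ofAdd y, by rw [← ofAdd_toAdd x, hγ, hy]; rfl⟩
  faith a ha h := d.faith ha fun x => by
    have := h (Multiplicative.ofAdd x)
    exact congrArg Multiplicative.toAdd this
  brP h hh hfix m := by
    have h1 : h • e 1 = e 1 := congrArg Multiplicative.toAdd (hfix (Multiplicative.ofAdd (e 1)) ⟨1, rfl⟩)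
    have h2 := d.act h hh m.toAdd (e 1)
    rw [h1, d.fe, d.fe, mul_one, mul_one] at h2
    change ω (h • m.toAdd + m.toAdd) = 0
    rw [map_add, h2, ← map_add, d.two, map_zero]
  bre h hh hfix m := by
    refine d.perp_perp fun x hx => ?_
    have h1 : h • x = x := congrArg Multiplicative.toAdd (hfix (Multiplicative.ofAdd x) hx)
    have h2 := d.act h hh m.toAdd x
    rw [h1] at h2
    change f (h • m.toAdd + m.toAdd) x = 0
    rw [map_add, LinearMap.add_apply, h2, ← LinearMap.add_apply, ← map_add, d.two, map_zero, LinearMap.zero_apply]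
  eP := by
    rintro x ⟨γ, hγ⟩
    rw [mem_pS, hγ]
    exact d.DP _ (d.eD γ)
  PD a ha x hx := d.AP a ha _ hx
  De a ha x hx := d.AD a ha _ hx
  Te t ht x hx := d.TD t ht _ hx
  gen m hm x hx := by
    obtain ⟨a, ha, h1⟩ := d.gen m.toAdd hm x.toAdd hx
    refine ⟨a, ha, Multiplicative.ofAdd (x.toAdd + bra a m.toAdd), h1, ?_⟩
    rw [br_mrho, ← ofAdd_add]
    apply Multiplicative.toAdd.injective
    rw [toAdd_ofAdd]
    calc x.toAdd = x.toAdd + (bra a m.toAdd + bra a m.toAdd) := by rw [d.two, add_zero]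
      _ = _ := by abel
  exP := by
    obtain ⟨m, hm⟩ := d.ω1
    exact ⟨Multiplicative.ofAdd m, fun h => one_ne_zero (hm.symm.trans h)⟩
  card h := by
    have h1 : Nat.card (Multiplicative M) = Nat.card M := rfl
    rw [h1]
    exact d.card_le hT h

/-- `|e| = q` -/
theorem card_eS [Finite F] (hT : Nat.card T + 1 = Nat.card F) : Nat.card d.eS ≤ Nat.card T + 1 := by
  rw [hT]
  refine Nat.card_le_card_of_surjective
    (fun γ : F => (⟨Multiplicative.ofAdd (e γ), ⟨γ, rfl⟩⟩ : d.eS)) ?_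
  rintro ⟨m, γ, hγ⟩
  exact ⟨γ, Subtype.ext (congrArg Multiplicative.ofAdd hγ.symm)⟩

end FDat

end Cfsg.Agent.Omega.Lie.LQS
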