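import Cfsg.Agent.Omega.HOne.ModZ
import Cfsg.Agent.Omega.Lie.ModQS
import Cfsg.Agent.Omega.Lie.LayerPerf
import Cfsg.Agent.Omega.Lie.FDat
import Cfsg.Agent.Omega.Lie.CubQ

/-!
# (h1), SPLIT: the cubic module `M' = W i / Z(W i)` of `H = N(R i)/O₂(N(R i))`, `b : BTS V R`, `q ≥ 4`

`fdat`: `FDat` for `H⁰`, `A`, `T` on helper811's module `MZ`, `Fq`; `exists_cubS`: the structure `LQS.CubS`.
-/

set_option autoImplicit false
set_option linter.unusedSectionVars false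

namespace Cfsg.Agent.Omega.Lie.CubSQ

open Subgroup Cfsg.Agent.Omega.BTwo Cfsg.Agent.Omega.Lie Cfsg.Agent.Omega.Lie.Quot Cfsg.Agent.Omega.Lie.LQS
open Cfsg.Agent.Omega.HOne.ModZ

universe u v w

variable {G : Type u} [Group G] {ι : Type w} {V : Subgroup G} {R : ι → Subgroup G} {i j : ι} {M : Type u}
  [AddCommGroup M] [DistribMulAction (HQ (R i)) M] {p : G → M} {F : Type v} [Field F] {vv : F → F → G}
  {w1 w2 : F → G} {t : F → G}

section mz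

variable (m : MZ V R i M p) (b : BT V R)
include m b

/-- `[p w, g] = p [w, g]` -/
theorem bra_p {g : G} (hg : g ∈ normalizer (R i : Set G)) {w : G} (hw : w ∈ WW V (R i)) :
    bra (pr (R i) ⟨g, hg⟩) (p w) = p (w * g * w⁻¹ * g⁻¹) := by
  have h1 := conj_mem_of_normalizer (normalizer_le_WW V (R i) hg) hw
  have e : w * g * w⁻¹ * g⁻¹ = w * (g * w * g⁻¹)⁻¹ := by group
  unfold bra
  rw [e, m.p_mul _ hw _ (inv_mem h1), m.p_inv h1, m.p_act g hg w hw, add_comm]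
  congr 1
  exact (neg_eq_of_add_eq_zero_left (m.two b _)).symm

theorem comm_W {g : G} (hg : g ∈ normalizer (R i : Set G)) {w : G} (hw : w ∈ WW V (R i)) :
    w * g * w⁻¹ * g⁻¹ ∈ WW V (R i) := by
  have h1 := conj_mem_of_normalizer (normalizer_le_WW V (R i) hg) hw
  have e : w * g * w⁻¹ * g⁻¹ = w * (g * w * g⁻¹)⁻¹ := by group
  rw [e]
  exact mul_mem hw (inv_mem h1)

end mz

variable [Module F M] {f : M →ₗ[F] M →ₗ[F] F} {e : F →ₗ[F] M} {ω : M →ₗ[F] F} {σ : HQ (R i) →* RingAut F}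
  {κ : HQ (R i) → F}

section fq

variable (d : Fq V R i vv M p f e ω σ κ) (c : Coord V R i j vv w1 w2)
include d c

/-- `H⁰` acts linearly -/
theorem H0_one {h : HQ (R i)} (hh : h ∈ H0 R i) : κ h = 1 ∧ ∀ a, σ h a = a := by
  obtain ⟨g, hg, hgC, rfl⟩ := mem_im.1 hh
  have key : ∀ β, κ (pr (R i) ⟨g, hg⟩) * σ (pr (R i) ⟨g, hg⟩) β = β := by
    intro β
    have h1 := d.R_act g hg β
    have h2 := mem_centralizer_iff.1 hgC _ ((c.mem_R1 _).2 ⟨β, rfl⟩)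
    rw [← h2, mul_inv_cancel_right] at h1
    exact (c.v_inj h1).1.symm
  have h1 : κ (pr (R i) ⟨g, hg⟩) = 1 := by
    have := key 1
    rwa [map_one, mul_one] at this
  refine ⟨h1, fun a => ?_⟩
  have := key a
  rwa [h1, one_mul] at this

theorem lin {h : HQ (R i)} (hh : h ∈ H0 R i) (a : F) (x : M) : h • (a • x) = a • (h • x) := by
  rw [d.semi, (H0_one d c hh).2]

theorem act {h : HQ (R i)} (hh : h ∈ H0 R i) (x y : M) : f (h • x) (h • y) = f x y := by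
  rw [d.act, (H0_one d c hh).1, (H0_one d c hh).2, one_mul]

theorem ω_U (b : BT V R) {w : G} (hw : w ∈ WW V (R i)) : ω (p w) = 0 ↔ w ∈ UU V R i := by
  have _ := b
  constructor
  · intro h
    refine mem_inf.2 ⟨hw, ?_⟩
    rw [mem_centralizer_iff]
    intro z hz
    obtain ⟨β, γ, rfl⟩ := (c.mem_V z).1 hz
    have h1 := d.ω_eq w hw β γ
    rw [h, zero_mul, add_zero, mul_inv_eq_iff_eq_mul] at h1
    exact h1.symm
  · intro h
    have h1 := d.ω_eq w hw 0 1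
    rw [← mem_centralizer_iff.1 (UU_le_cen i h) _ (c.v_mem 0 1), mul_inv_cancel_right] at h1
    have h2 := (c.v_inj h1).1
    rw [zero_add, mul_one] at h2
    exact h2.symm

theorem ω_w1 : ω (p (w1 1)) = 1 := by
  have h1 := d.ω_eq _ (c.w1_mem 1) 0 1
  rw [c.w1_act] at h1
  have h2 := (c.v_inj h1).1
  rw [zero_add, zero_add, mul_one, mul_one] at h2
  exact h2.symm

/-- elements of `V` -/
theorem p_V {x : G} (hx : x ∈ V) : ∃ γ, p x = e γ := by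
  obtain ⟨β, γ, rfl⟩ := (c.mem_V x).1 hx
  exact ⟨γ, d.e_eq β γ⟩

/-- elements of `W i` which are in `Z(W i)` modulo `V` -/
theorem p_VZ {x y : G} (hx : x ∈ V) (hyW : y ∈ WW V (R i)) (hy : x * y ∈ ZZ V R i) : ∃ γ, p y = e γ := by
  obtain ⟨γ, hγ⟩ := p_V d c (inv_mem hx)
  refine ⟨γ, ?_⟩
  rw [← hγ]
  have hxW := V_le_WW V (R i) hx
  have h1 := (d.p_ker _ (mul_mem hxW hyW)).2 hy
  rw [d.p_mul _ hxW _ hyW] at h1
  rw [d.p_inv hxW]
  exact (neg_eq_of_add_eq_zero_right h1).symm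

/-- **the data** -/
theorem fdat [Finite G] [CharP F 2] (b : BTS V R) (hF : ∃ a : F, a ≠ 0 ∧ a ≠ 1) (τ : TorD V R i j vv t)
    (hidx : Odd ((normalizer (V : Set G)).relIndex (normalizer (R i : Set G)))) :
    FDat (H0 R i) (AA V R i j) (TT τ) (d.toMZ.sb (DD V R)) f e ω where
  two := d.two b.toBT
  fe := d.fe
  symm := d.symm
  nd := d.nd
  ω1 := ⟨_, ω_w1 d c⟩
  AL := Layer.A_le_H0 b.toBT
  lin h hh a x := lin d c hh a x
  act h hh x y := act d c hh x y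
  sq a ha := A_sq b.toBT c.ne ha
  TA t ht a ha := TA_mem b.toBT τ ht ha
  Ae a ha γ := by
    obtain ⟨u, hu, rfl⟩ := (mem_AA b.toBT).1 ha
    rw [← d.e_eq 0 γ, d.p_act _ _ _ (V_le_WW V (R i) (c.v_mem 0 γ)),
      ← mem_centralizer_iff.1 (UU_le_cen j hu) _ (c.v_mem 0 γ), mul_inv_cancel_right]
  eD γ := by
    rw [← d.e_eq 0 γ]
    exact d.toMZ.p_mem (V_le_WW V (R i) (c.v_mem 0 γ)) (V_le_D V R (c.v_mem 0 γ))
  DP x hx := by
    obtain ⟨y, hy, hyW, rfl⟩ := hx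
    exact (ω_U d c b.toBT hyW).2 (b.D_le_U i hy)
  AD a ha x hx := by
    obtain ⟨u, hu, rfl⟩ := (mem_AA b.toBT).1 ha
    obtain ⟨y, hy, hyW, rfl⟩ := hx
    rw [bra_p d.toMZ b.toBT _ hyW]
    exact p_V d c (b.R_le j (b.DU hy hu))
  AP a ha x hx := by
    obtain ⟨u, hu, rfl⟩ := (mem_AA b.toBT).1 ha
    obtain ⟨y, hyW, rfl⟩ := d.p_surj x
    have hyU := (ω_U d c b.toBT hyW).1 hx
    rw [bra_p d.toMZ b.toBT _ hyW]
    have h1 := b.Y_comm (UU_le_YY i hyU) (UU_le_YY j hu)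
    exact d.toMZ.p_mem (D_le_W V R i h1) h1
  Te s hs := by
    obtain ⟨a, ha, rfl⟩ := (mem_TT τ).1 hs
    refine ⟨a⁻¹, inv_ne_zero ha, fun γ => ?_⟩
    rw [← d.e_eq 0 γ, d.p_act _ _ _ (V_le_WW V (R i) (c.v_mem 0 γ)), τ.act _ _ _ ha, d.e_eq]
  TD s hs x hx := by
    obtain ⟨a, ha, rfl⟩ := (mem_TT τ).1 hs
    obtain ⟨y, hy, hyW, rfl⟩ := hx
    rw [bra_p d.toMZ b.toBT _ hyW]
    have h1 := b.XD (τ.memX a ha) hy
    have e1 : y * t a * y⁻¹ * (t a)⁻¹ = (t a * y * (t a)⁻¹ * y⁻¹)⁻¹ := by group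
    rw [e1]
    exact p_V d c (inv_mem h1)
  l0 a ha s hs x := by
    obtain ⟨u, hu, rfl⟩ := (mem_AA b.toBT).1 ha
    obtain ⟨α, hα, rfl⟩ := (mem_TT τ).1 hs
    obtain ⟨w, hw, rfl⟩ := d.p_surj x
    have hN := U_le_N b.toBT i j hu
    have ht := τ.normR hα
    have hu' := t_norm_U b.toBT τ hα hu
    have hN' := U_le_N b.toBT i j hu'
    have e1 : pr (R i) ⟨t α, ht⟩ * pr (R i) ⟨u, hN⟩ * (pr (R i) ⟨t α, ht⟩)⁻¹ = pr (R i) ⟨_, hN'⟩ := rfl
    have hcW := comm_W d.toMZ b.toBT hN hw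
    rw [e1, bra_p d.toMZ b.toBT hN hw, bra_p d.toMZ b.toBT hN' hcW]
    obtain ⟨-, y, hy, h4⟩ := ModQS.N0_T b hw hu (τ.memX α hα) (cj_eq_self_iff.2 (τ.normR hα))
      (cj_eq_self_iff.2 (τ.normR' hα))
    exact p_VZ d c hy (comm_W d.toMZ b.toBT hN' hcW) (LemNS.F0_le_ZZ i h4)
  sub a ha ha1 γ := by
    obtain ⟨u, hu, rfl⟩ := (mem_AA b.toBT).1 ha
    have hD : u ∉ DD V R := fun hD => ha1 ((pr_eq_one _).2 ((U_inf_Q b.toBT c.ne hu).2 hD))
    obtain ⟨w, hw, ζ, hζ, h⟩ := LemNS.lemNS b hF c τ hidx hu hD (c.v_mem 0 γ)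
    refine ⟨p w, ?_⟩
    rw [bra_p d.toMZ b.toBT _ hw, ← d.e_eq 0 γ, h,
      d.p_mul _ (comm_W d.toMZ b.toBT (U_le_N b.toBT i j hu) hw) _ hζ.1, (d.p_ker _ hζ.1).2 hζ, add_zero]
  gen x hx y hy := by
    obtain ⟨w, hw, rfl⟩ := d.p_surj x
    obtain ⟨z, hz, rfl⟩ := d.p_surj y
    have hwU : w ∉ UU V R i := fun h => hx ((ω_U d c b.toBT hw).2 h)
    have hzU := (ω_U d c b.toBT hz).1 hy
    obtain ⟨u, hu, huD⟩ := b.surj (Ne.symm c.ne) hw hwU hzU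
    have huN := U_le_N b.toBT i j hu
    refine ⟨pr (R i) ⟨u, huN⟩, (mem_AA b.toBT).2 ⟨u, hu, rfl⟩, ?_⟩
    have hcW := comm_W d.toMZ b.toBT huN hw
    rw [bra_p d.toMZ b.toBT huN hw]
    have h1 : p z + p (w * u * w⁻¹ * u⁻¹) = p ((w * u * w⁻¹ * u⁻¹)⁻¹ * z) := by
      rw [d.p_mul _ (inv_mem hcW) _ hz, d.p_inv hcW, neg_eq_of_add_eq_zero_left (d.two b.toBT (p _)), add_comm]
    rw [h1]
    exact d.toMZ.p_mem (mul_mem (inv_mem hcW) hz) huD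
  ker0 x hx h := by
    obtain ⟨y, hy, hyW, rfl⟩ := hx
    obtain ⟨z, hz, h4⟩ := b.cen_DU (i := j) hy fun u hu => by
      have huN := U_le_N b.toBT i j hu
      have h1 := h _ ((mem_AA b.toBT).2 ⟨u, hu, rfl⟩)
      have h2 : bra (pr (R i) ⟨u, huN⟩) (p y) = 0 := by
        unfold bra; rw [h1, d.two b.toBT]
      rw [bra_p d.toMZ b.toBT huN hyW] at h2
      have h3 := b.DU hy hu
      obtain ⟨γ, hγ⟩ := (c.mem_R2 _).1 h3
      rw [← hγ, d.e_eq] at h2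
      have hγ0 : γ = 0 := by
        have h5 := d.fe (p (w1 1)) γ
        rw [h2, map_zero, ω_w1 d c, one_mul] at h5
        exact h5.symm
      rw [hγ0, c.v_zero] at hγ
      have h6 : y * u * y⁻¹ * u⁻¹ = 1 := hγ.symm
      rw [mul_inv_eq_one, mul_inv_eq_iff_eq_mul] at h6
      exact h6
    exact p_VZ d c hz hyW (LemNS.F0_le_ZZ i h4)

end fq

/-- **`CubS` for `H = N(R i) / O₂(N(R i))`, `b : BTS V R`** -/
theorem exists_cubS [Finite G] [Finite F] [CharP F 2] (b : BTS V R) (hq : 4 ≤ Nat.card F)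
    (c : Coord V R i j vv w1 w2) (τ : TorD V R i j vv t)
    (hidx : Odd ((normalizer (V : Set G)).relIndex (normalizer (R i : Set G)))) :
    ∃ (M : Type u) (_ : CommGroup M) (_ : Finite M) (ρ : HQ (R i) →* MulAut M) (e D P : Subgroup M),
      CubS ρ (H0 R i) (AA V R i j) (TT τ) e D P ∧ Nat.card e ≤ Nat.card (TT τ) + 1 := by
  have hF := CubQ.exists_ne' hq
  obtain ⟨M, _, _, p, m⟩ := exists_MZ b.toBT i
  obtain ⟨_, f, e, ω, σ, κ, d⟩ := m.exists_fq hF b.toBT c τ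
  have D := fdat d c b hF τ hidx
  have hT := card_T b.toBT τ
  have hfin := m.finite_M
  exact ⟨Multiplicative M, inferInstance, inferInstanceAs (Finite M), mrho _ M, D.eS, D.dS, D.pS, D.cubS hT,
    D.card_eS hT⟩

end Cfsg.Agent.Omega.Lie.CubSQ
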