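import Cfsg.Agent.Omega.Lie.CompB
import Cfsg.Agent.Omega.Lie.CenTwo
import Cfsg.Agent.Omega.ZAT
import Cfsg.Prelude.Def_Local

/-!
# NODE LIE: the centre trick and LEMMA Z(AT) together (bb OMEGA #11429, #11827, #11624)

`zat_quasi`: LEMMA Z(AT) for a quasisimple group `K` of even order with centre of odd order.

`Pre.fix`: `NoCenMove K` implies that `T` centralises `S ⊓ K` (`Pre S A T K` of `CompB.lean`; `T` of odd order and
fixed point free on `A`).  `Pre.centralises`: then `A` centralises `K`.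
-/

set_option autoImplicit false

namespace Cfsg.Agent.Omega.Lie.Exo

open Cfsg Subgroup Cfsg.Agent.Transfer.FusionBasic Cfsg.Agent.Omega.ZAT Cfsg.Agent.Omega.Lie.CompB
open Cfsg.Agent.Omega.Lie.CenTwo

variable {G : Type*} [Group G]

/-- a normal subgroup of odd order of a quasisimple group of even order, odd centre, is central -/
theorem le_center {K : Type*} [Group K] [Finite K] (hq : IsQuasisimple K) (hZ : Odd (Nat.card (center K)))
    (h2 : 2 ∣ Nat.card K) {N : Subgroup K} (hN : N.Normal) (hodd : Odd (Nat.card N)) : N ≤ center K := by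
  have hs : IsSimpleGroup (K ⧸ center K) := hq.2
  have hn : (N.map (QuotientGroup.mk' (center K))).Normal :=
    hN.map _ (QuotientGroup.mk'_surjective _)
  rcases hn.eq_bot_or_eq_top with h | h
  · intro x hx
    have h1 : QuotientGroup.mk' (center K) x ∈ N.map (QuotientGroup.mk' (center K)) := ⟨x, hx, rfl⟩
    rw [h, mem_bot] at h1
    exact (QuotientGroup.eq_one_iff x).1 h1
  · exfalso
    have h1 : Nat.card (K ⧸ center K) ∣ Nat.card N := by
      have h3 := Subgroup.card_map_dvd (H := N) (QuotientGroup.mk' (center K))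
      rwa [h, Subgroup.card_top] at h3
    have h3 := Subgroup.card_eq_card_quotient_mul_card_subgroup (center K)
    have h4 : Odd (Nat.card (K ⧸ center K)) := by
      rw [← Nat.not_even_iff_odd, even_iff_two_dvd] at hodd ⊢
      exact fun h5 => hodd (h5.trans h1)
    have h5 : Odd (Nat.card K) := by
      rw [h3]
      exact h4.mul hZ
    rw [← Nat.not_even_iff_odd, even_iff_two_dvd] at h5
    exact h5 h2

/-- **LEMMA Z(AT)** for quasisimple groups. -/
theorem zat_quasi [Finite G] {K S A T : Subgroup G} (hq : IsQuasisimple K) (hZ : Odd (Nat.card (center K)))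
    (h2K : 2 ∣ Nat.card K) (hAK : A ≤ normalizer (K : Set G)) (hTK : T ≤ normalizer (K : Set G))
    (hS : SylIn 2 S K)
    (hSA : ∀ a ∈ A, ∀ s ∈ S, a * s = s * a) (hST : ∀ t ∈ T, ∀ s ∈ S, t * s = s * t)
    (hab : ∀ a ∈ A, ∀ b ∈ A, a * b = b * a) (h2 : ∀ a ∈ A, a * a = 1)
    (hodd : Odd (Nat.card T)) (hTA : ∀ t ∈ T, ∀ a ∈ A, t * a * t⁻¹ ∈ A)
    (hfix : ∀ a ∈ A, (∀ t ∈ T, t * a = a * t) → a = 1) :
    ∀ a ∈ A, ∀ k ∈ K, a * k = k * a := by
  have h := frame hAK hTK hS hSA hST hab h2 hodd hTA hfix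
  intro a ha
  by_cases ha1 : a = 1
  · intro k _
    rw [ha1]; group
  set Y : Subgroup G := A ⊔ K with hY
  have haY : a ∈ Y := le_sup_left (a := A) (b := K) ha
  obtain ⟨Q, hQ⟩ := h.PY.exists_sylow
  have haQ : (⟨a, haY⟩ : Y) ∈ (Q : Subgroup Y) := by
    have h1 : a ∈ (Q : Subgroup Y).map Y.subtype := by rw [hQ]; exact h.AP ha
    obtain ⟨b, hb, he⟩ := h1
    have : b = ⟨a, haY⟩ := Subtype.ext he
    rwa [this] at hb
  have hu : orderOf (⟨a, haY⟩ : Y) = 2 := by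
    have h3 : (⟨a, haY⟩ : Y) ^ 2 = 1 := by
      apply Subtype.ext
      rw [Subgroup.coe_pow, Subgroup.coe_one, pow_two]
      exact h2 a ha
    refine orderOf_eq_prime h3 fun e => ha1 ?_
    have := congrArg Subtype.val e
    simpa using this
  have hiso : ∀ g : Y, g * (⟨a, haY⟩ : Y) * g⁻¹ ∈ Q → g * (⟨a, haY⟩ : Y) * g⁻¹ = ⟨a, haY⟩ := by
    intro g hg
    apply Subtype.ext
    have h1 : (g : G) * a * (g : G)⁻¹ ∈ A ⊔ S := by
      rw [← hQ]; exact ⟨_, hg, rfl⟩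
    exact h.iso g.2 ha h1
  obtain ⟨N, hN, hNodd, hNc⟩ := Cfsg.Agent.S0215.result Q (⟨a, haY⟩ : Y) hu haQ hiso
  have hNK : N.map Y.subtype ≤ K := by
    rintro _ ⟨n, hn, rfl⟩
    obtain ⟨c, hc, b, hb, e⟩ := h.cov n n.2
    have hn2 : (n : G) * n ∈ K := by
      have h3 : (n : G) * n = c * (b * c * b⁻¹) * (b * b) := by rw [e]; group
      rw [h3, h2 b hb, mul_one]
      exact mul_mem hc (mem_K_conj (hAK hb) hc)
    have h4 : (n : Y) ^ Nat.card N = 1 := by
      have := congrArg Subtype.val (pow_card_eq_one' (x := (⟨n, hn⟩ : N)))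
      rwa [Subgroup.coe_pow, Subgroup.coe_one] at this
    obtain ⟨m, hm⟩ := hNodd
    have h5 : (n : G) ^ Nat.card N = 1 := by
      have := congrArg Subtype.val h4
      rwa [Subgroup.coe_pow, Subgroup.coe_one] at this
    have h6 : (n : G) = (((n : G) * n) ^ m)⁻¹ := by
      rw [hm, pow_succ, pow_mul, pow_two] at h5
      exact eq_inv_of_mul_eq_one_right h5
    show (n : G) ∈ K
    rw [h6]
    exact inv_mem (pow_mem hn2 m)
  have hNn : ((N.map Y.subtype).subgroupOf K).Normal := by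
    refine ⟨fun x hx g => ?_⟩
    rw [mem_subgroupOf] at hx ⊢
    obtain ⟨n', hn', he⟩ := hx
    have hgY : (g : G) ∈ Y := le_sup_right (a := A) (b := K) g.2
    refine ⟨⟨g, hgY⟩ * n' * ⟨g, hgY⟩⁻¹, hN.conj_mem n' hn' _, ?_⟩
    show (g : G) * Y.subtype n' * (g : G)⁻¹ = _
    rw [he]
    rfl
  have hNo : Odd (Nat.card ((N.map Y.subtype).subgroupOf K)) := by
    rw [Nat.card_congr (subgroupOfEquivOfLe hNK).toEquiv,
      Nat.card_congr (N.equivMapOfInjective _ Y.subtype_injective).toEquiv.symm]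
    exact hNodd
  have hNz := le_center hq hZ h2K hNn hNo
  -- `[a, k]` is central in `K`
  have hc : ∀ k ∈ K, a * k * a⁻¹ * k⁻¹ ∈ K ∧ ∀ y ∈ K, a * k * a⁻¹ * k⁻¹ * y = y * (a * k * a⁻¹ * k⁻¹) := by
    intro k hk
    have hkY : k ∈ Y := le_sup_right (a := A) (b := K) hk
    have h1 : a * k * a⁻¹ * k⁻¹ ∈ N.map Y.subtype := ⟨_, hNc ⟨k, hkY⟩, rfl⟩
    refine ⟨hNK h1, fun y hy => ?_⟩
    have h3 : (⟨a * k * a⁻¹ * k⁻¹, hNK h1⟩ : K) ∈ center K := hNz (mem_subgroupOf.2 h1)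
    exact (congrArg Subtype.val (mem_center_iff.1 h3 ⟨y, hy⟩)).symm
  -- the centraliser of `a` in `K` contains the commutators
  have hperf : commutator K = ⊤ := hq.1.commutator_eq_top
  have hle : commutator K ≤ (centralizer ({a} : Set G)).subgroupOf K := by
    rw [commutator_def, Subgroup.commutator_le]
    intro x _ y _
    change x * y * x⁻¹ * y⁻¹ ∈ _
    rw [mem_subgroupOf, mem_centralizer_singleton_iff]
    obtain ⟨hx1, hx2⟩ := hc x x.2
    obtain ⟨hy1, hy2⟩ := hc y y.2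
    set cx := a * x * a⁻¹ * (x : G)⁻¹ with hcx
    set cy := a * y * a⁻¹ * (y : G)⁻¹ with hcy
    have ex : a * x * a⁻¹ = cx * x := by rw [hcx]; group
    have ey : a * y * a⁻¹ = cy * y := by rw [hcy]; group
    have h1 : a * ((x * y * x⁻¹ * y⁻¹ : K) : G) * a⁻¹ = ((x * y * x⁻¹ * y⁻¹ : K) : G) := by
      have e1 : ((x * y * x⁻¹ * y⁻¹ : K) : G) = (x : G) * y * (x : G)⁻¹ * (y : G)⁻¹ := rfl
      rw [e1]
      calc a * ((x : G) * y * (x : G)⁻¹ * (y : G)⁻¹) * a⁻¹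
          = (a * x * a⁻¹) * (a * y * a⁻¹) * (a * x * a⁻¹)⁻¹ * (a * y * a⁻¹)⁻¹ := by group
        _ = (cx * x) * (cy * y) * (cx * x)⁻¹ * (cy * y)⁻¹ := by rw [ex, ey]
        _ = cx * ((x : G) * cy) * y * (x : G)⁻¹ * cx⁻¹ * (y : G)⁻¹ * cy⁻¹ := by group
        _ = cx * (cy * x) * y * (x : G)⁻¹ * cx⁻¹ * (y : G)⁻¹ * cy⁻¹ := by rw [hy2 x x.2]
        _ = cx * (cy * ((x : G) * y * (x : G)⁻¹)) * cx⁻¹ * (y : G)⁻¹ * cy⁻¹ := by group
        _ = (cy * ((x : G) * y * (x : G)⁻¹)) * cx * cx⁻¹ * (y : G)⁻¹ * cy⁻¹ := by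
            rw [hx2 _ (mul_mem hy1 (mul_mem (mul_mem x.2 y.2) (inv_mem x.2)))]
        _ = cy * ((x : G) * y * (x : G)⁻¹ * (y : G)⁻¹) * cy⁻¹ := by group
        _ = ((x : G) * y * (x : G)⁻¹ * (y : G)⁻¹) * cy * cy⁻¹ := by
            rw [hy2 _ (mul_mem (mul_mem (mul_mem x.2 y.2) (inv_mem x.2)) (inv_mem y.2))]
        _ = _ := by group
    exact (mul_inv_eq_iff_eq_mul.1 h1).symm
  intro k hk
  have h1 : (⟨k, hk⟩ : K) ∈ commutator K := by rw [hperf]; exact mem_top _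
  have h3 := hle h1
  rw [mem_subgroupOf, mem_centralizer_singleton_iff] at h3
  exact h3.symm

/-! ### the centre trick -/

section pre

variable {S A T K : Subgroup G}

theorem _root_.Cfsg.Agent.Omega.Lie.CompB.Pre.T_le (h : Pre S A T K) : T ≤ normalizer (K : Set G) := by
  intro t ht
  rw [mem_normalizer_iff]
  exact fun x => (h.TK_iff ht).symm

theorem _root_.Cfsg.Agent.Omega.Lie.CompB.Pre.A_le (h : Pre S A T K) : A ≤ normalizer (K : Set G) := by
  intro a ha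
  rw [mem_normalizer_iff]
  intro x
  refine ⟨h.AK a ha x, fun hx => ?_⟩
  have h1 := h.AK a⁻¹ (inv_mem ha) _ hx
  have e : a⁻¹ * (a * x * a⁻¹) * a⁻¹⁻¹ = x := by group
  rwa [e] at h1

theorem _root_.Cfsg.Agent.Omega.Lie.CompB.Pre.sylIn (h : Pre S A T K) : SylIn 2 (S ⊓ K) K :=
  ⟨inf_le_right, h.S2.to_le inf_le_left, fun R hR hRK hR2 => le_antisymm (le_inf (h.syl R hRK hR2 hR) hRK) hR⟩

/-- **The centre trick**: `T` centralises `S ⊓ K`. -/
theorem _root_.Cfsg.Agent.Omega.Lie.CompB.Pre.fix [Finite G] (h : Pre S A T K) (hodd : Odd (Nat.card T))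
    (hfree : ∀ t ∈ T, t ≠ 1 → ∀ a ∈ A, t * a * t⁻¹ = a → a = 1) (hK : NoCenMove K) :
    ∀ t ∈ T, ∀ s ∈ S, s ∈ K → t * s * t⁻¹ = s := by
  intro t ht s hs hsK
  by_cases ht1 : t = 1
  · rw [ht1]; group
  obtain ⟨Q, hQ⟩ := h.sylIn.exists_sylow
  have memQ : ∀ x : K, x ∈ (Q : Subgroup K) ↔ (x : G) ∈ S := by
    intro x
    constructor
    · intro hx
      have h1 : (x : G) ∈ (Q : Subgroup K).map K.subtype := ⟨x, hx, rfl⟩
      rw [hQ] at h1
      exact h1.1
    · intro hx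
      have h1 : (x : G) ∈ (Q : Subgroup K).map K.subtype := by
        rw [hQ]; exact ⟨hx, x.2⟩
      obtain ⟨y, hy, he⟩ := h1
      have : y = x := Subtype.ext he
      rwa [this] at hy
  have htn : t ∈ normalizer (K : Set G) := h.T_le ht
  let τ : MulAut K := normalizerMonoidHom K ⟨t, htn⟩
  have hτ : ∀ x : K, ((τ x : K) : G) = t * x * t⁻¹ := fun x => rfl
  have hord : Odd (orderOf τ) := by
    have h1 : orderOf τ ∣ orderOf (⟨t, htn⟩ : normalizer (K : Set G)) := orderOf_map_dvd _ _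
    have h2 : orderOf (⟨t, htn⟩ : normalizer (K : Set G)) = orderOf t := Subgroup.orderOf_mk _ _
    have h3 : orderOf t ∣ Nat.card T := Subgroup.orderOf_dvd_natCard T ht
    exact Odd.of_dvd_nat hodd ((h2 ▸ h1).trans h3)
  have key := hK.fix' (S := Q) (τ := τ) hord
    (by
      intro x hx
      have h1 : (x : G) ∈ S := (memQ x).1 hx
      exact (memQ (τ x)).2 (by rw [hτ]; exact h.TS t ht x h1))
    (A := A.subgroupOf K)
    (by
      intro x hx
      rw [mem_subgroupOf]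
      exact h.ST t ht x ((memQ x).1 hx))
    (by
      intro u hu hfu
      rw [mem_subgroupOf] at hu
      have h1 := congrArg Subtype.val hfu
      rw [hτ] at h1
      exact Subtype.ext (hfree t ht ht1 u hu h1))
  have h1 := key ⟨s, hsK⟩ ((memQ _).2 hs)
  exact congrArg Subtype.val h1

/-- **NODE LIE, exotic components**: `NoCenMove K` implies that `A` centralises `K`. -/
theorem _root_.Cfsg.Agent.Omega.Lie.CompB.Pre.centralises [Finite G] (h : Pre S A T K) (hodd : Odd (Nat.card T)) (hT : ∃ t ∈ T, t ≠ 1)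
    (hfree : ∀ t ∈ T, t ≠ 1 → ∀ a ∈ A, t * a * t⁻¹ = a → a = 1)
    (hSA : ∀ s ∈ S, ∀ a ∈ A, s * a * s⁻¹ ∈ A) (hq : IsQuasisimple K) (h2K : 2 ∣ Nat.card K)
    (hK : NoCenMove K) : ∀ a ∈ A, ∀ k ∈ K, a * k = k * a := by
  have : Fact (Nat.Prime 2) := ⟨Nat.prime_two⟩
  have hfix := h.fix hodd hfree hK
  obtain ⟨t0, ht0, ht1⟩ := hT
  have hAK : ∀ a ∈ A, a ∈ K → a = 1 := fun a ha haK => hfree t0 ht0 ht1 a ha (hfix t0 ht0 a (h.AS ha) haK)
  have hZ : Odd (Nat.card (center K)) := by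
    rw [← Nat.not_even_iff_odd, even_iff_two_dvd]
    intro h2
    obtain ⟨z, hz⟩ := exists_prime_orderOf_dvd_card' 2 h2
    have h3 := h.zodd ((z : K) : G) (z : K).2 fun y hy =>
      (congrArg Subtype.val (mem_center_iff.1 z.2 ⟨y, hy⟩)).symm
    rw [orderOf_coe, orderOf_coe, hz] at h3
    exact absurd h3 (by decide)
  refine zat_quasi hq hZ h2K h.A_le h.T_le h.sylIn ?_ ?_ (fun a ha b hb => h.commA ha hb) h.A2 hodd h.TA ?_
  · rintro a ha s ⟨hs, hsK⟩
    have h1 : a * (s * a⁻¹ * s⁻¹) ∈ A := mul_mem ha (hSA s hs a⁻¹ (inv_mem ha))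
    have h2 : a * s * a⁻¹ * s⁻¹ ∈ K := mul_mem (h.AK a ha s hsK) (inv_mem hsK)
    have e : a * (s * a⁻¹ * s⁻¹) = a * s * a⁻¹ * s⁻¹ := by group
    rw [e] at h1
    have h3 := hAK _ h1 h2
    calc a * s = (a * s * a⁻¹ * s⁻¹) * (s * a) := by group
      _ = s * a := by rw [h3, one_mul]
  · rintro t ht s ⟨hs, hsK⟩
    exact mul_inv_eq_iff_eq_mul.1 (hfix t ht s hs hsK)
  · intro a ha hc
    exact hfree t0 ht0 ht1 a ha (mul_inv_eq_iff_eq_mul.2 (hc t0 ht0))

end pre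

end Cfsg.Agent.Omega.Lie.Exo
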