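import Cfsg.Agent.Omega.Lie.ExoRows
import Cfsg.Agent.Omega.Lie.Quot

/-!
# NODE LIE: `ExoComp.Sit` for the group `H = N(R)/O₂(N(R))` of `Quot.lean`
-/

set_option autoImplicit false
set_option linter.unusedSectionVars false

namespace Cfsg.Agent.Omega.Lie.ExoBT

open Cfsg Subgroup Cfsg.Agent.Omega.BTwo Cfsg.Agent.Omega.Lie Cfsg.Agent.Omega.Lie.Quot
open Cfsg.Agent.Transfer.FusionBasic Cfsg.Agent.Omega.KFacts

universe u v w

variable {G : Type u} [Group G] {ι : Type w} {V : Subgroup G} {R : ι → Subgroup G} {F : Type v} [Field F]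
  {i j : ι} {v : F → F → G} {t : F → G} {w1 w2 : F → G}

theorem H0_normal (R : ι → Subgroup G) (i : ι) : (H0 R i).Normal := by
  refine ⟨fun x hx g => ?_⟩
  obtain ⟨y, hy, hyC, rfl⟩ := mem_im.1 hx
  obtain ⟨n, hn, rfl⟩ := exists_pr g
  refine mem_im.2 ⟨n * y * n⁻¹, mul_mem (mul_mem hn hy) (inv_mem hn), ?_, rfl⟩
  rw [mem_centralizer_iff] at hyC ⊢
  intro r hr
  have h1 : n⁻¹ * r * n ∈ R i := by
    have := (mem_normalizer_iff.1 (inv_mem hn) r).1 hr
    rwa [inv_inv] at this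
  have h2 := hyC _ h1
  calc r * (n * y * n⁻¹) = n * (n⁻¹ * r * n * y) * n⁻¹ := by group
    _ = n * (y * (n⁻¹ * r * n)) * n⁻¹ := by rw [h2]
    _ = n * y * n⁻¹ * r := by group

/-- **`ExoComp.Sit` in the real situation.** -/
theorem sit [Finite G] (b : BT V R) (τ : TorD V R i j v t) (C : Crd V R i j v w1 w2) (S₁ : Sylow 2 G)
    [Finite F] [CharP F 2] (hij : i ≠ j) (hF : 4 ≤ Nat.card F) (hV : (S₁ : Subgroup G) ≤ normalizer (V : Set G))
    (hR : (S₁ : Subgroup G) ≤ normalizer (R i : Set G)) :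
    ExoComp.Sit (H0 R i) (SS R i S₁) (AA V R i j) (TT τ) where
  normal := H0_normal R i
  syl := by
    have : Fact (Nat.Prime 2) := ⟨Nat.prime_two⟩
    obtain ⟨P, hP⟩ := exists_P b S₁ hR
    rw [← hP]
    refine (sylIn_top P).inf le_top ?_
    have hn := H0_normal R i
    have e : normalizer ((H0 R i : Subgroup (HQ (R i))) : Set (HQ (R i))) = ⊤ := Subgroup.normalizer_eq_top _
    exact fun x _ => e ▸ mem_top x
  AS := A_le_S b S₁ i j hV
  scal := scal b τ hij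
  SA _ hs _ ha := SA_mem b C S₁ hV hR hs ha
  TS _ ht _ hs := TS_mem b τ C S₁ hV hR ht hs
  ST _ hs _ ht := ST_mem b τ C S₁ hij hV hR ht hs
  odd := by
    have h1 := card_T b τ
    have h2 : 2 ∣ Nat.card F := by
      have := Fintype.ofFinite F
      have h3 : (Fintype.card F : F) = 0 := Nat.cast_card_eq_zero F
      rw [Nat.card_eq_fintype_card]
      exact (CharP.cast_eq_zero_iff F 2 _).1 h3
    rw [← Nat.not_even_iff_odd, even_iff_two_dvd]
    intro h3
    have h4 : 2 ∣ Nat.card (TT τ) + 1 := h1 ▸ h2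
    have h5 := (Nat.dvd_add_right h3).1 h4
    omega
  three := by
    have := card_T b τ
    omega

/-- **NODE LIE, the exotic components, in `H = N(R i)/O₂(N(R i))`.** -/
theorem exo [Finite G] (Z : RowsZS.{u}) (b : BT V R) (τ : TorD V R i j v t) (C : Crd V R i j v w1 w2) (S₁ : Sylow 2 G)
    [Finite F] [CharP F 2] (hij : i ≠ j) (hF : 4 ≤ Nat.card F) (hV : (S₁ : Subgroup G) ≤ normalizer (V : Set G))
    (hR : (S₁ : Subgroup G) ≤ normalizer (R i : Set G)) {K : Subgroup (HQ (R i))} (hK : IsComponent K)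
    (hK0 : K ≤ H0 R i) (h2 : 2 ∣ Nat.card K) (hk : IsKnownSimple' (K ⧸ center K))
    (hne : ∃ a ∈ AA V R i j, ∃ k ∈ K, a * k ≠ k * a) :
    (TT τ ≤ normalizer (K : Set (HQ (R i))) ∧ CompB.Pre (SS R i S₁) (AA V R i j) (TT τ) K ∧
      (IsLieTypeChar 2 (K ⧸ center K) ∨ OutZS (K ⧸ center K))) ∨
      CompT.Three (AA V R i j) (TT τ) K (SS R i S₁ ⊓ K) :=
  (sit b τ C S₁ hij hF hV hR).exo_rows Z (pCore_HQ _) hK hK0 h2 hk hne

end Cfsg.Agent.Omega.Lie.ExoBT
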