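import Cfsg.Agent.Omega.Lie.Exo
import Cfsg.Agent.Omega.Lie.CompT
import Cfsg.Agent.Omega.Lie.LemmaTComp

/-!
# NODE LIE: the components of `H = N_G(R₁)/Q₁` which are not centralised by `A`

`Sit H0 S A T`: `S` a Sylow 2-subgroup of the normal subgroup `H0`, `A ≤ S` elementary abelian and normal in `S`,
`T` of odd order, acts by scalars on `A`, normalises `S` and `[S, T] ≤ A`.

`Sit.exo`: for a component `K ≤ H0` of `H`, `O₂(H) = 1`, of even order, with `[K, A] ≠ 1`: `T` normalises `K` and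
`NoCenMove K` fails, or we are in the exceptional case `Three` of (T2).
-/

set_option autoImplicit false

namespace Cfsg.Agent.Omega.Lie.ExoComp

open Cfsg Subgroup Cfsg.Agent.Transfer.FusionBasic Cfsg.Agent.Omega.Lie.CompB Cfsg.Agent.Omega.Lie.CenTwo
open Cfsg.Agent.Omega.Lie.CompT

variable {H : Type*} [Group H]

/-- The setting of NODE LIE, `q ≥ 4`. -/
structure Sit (H0 S A T : Subgroup H) : Prop where
  normal : H0.Normal
  syl : SylIn 2 S H0
  AS : A ≤ S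
  scal : Scal A T
  SA : ∀ s ∈ S, ∀ a ∈ A, s * a * s⁻¹ ∈ A
  TS : ∀ t ∈ T, ∀ s ∈ S, t * s * t⁻¹ ∈ S
  ST : ∀ s ∈ S, ∀ t ∈ T, s⁻¹ * (t * s * t⁻¹) ∈ A
  odd : Odd (Nat.card T)
  three : 3 ≤ Nat.card T

namespace Sit

variable {H0 S A T K : Subgroup H}

theorem exists_ne_one [Finite H] (h : Sit H0 S A T) : ∃ t ∈ T, t ≠ 1 := by
  have h3 := h.three
  by_contra hc
  push Not at hc
  have : T = ⊥ := (eq_bot_iff_forall T).2 hc
  rw [this, Subgroup.card_bot] at h3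
  omega

theorem free (h : Sit H0 S A T) : ∀ t ∈ T, t ≠ 1 → ∀ a ∈ A, t * a * t⁻¹ = a → a = 1 := by
  intro t ht ht1 a ha hta
  by_contra ha1
  exact ht1 (h.scal.reg a ha ha1 t ht hta)

theorem set0 (h : Sit H0 S A T) : LemmaT.Set0 S A T := ⟨h.scal.sq, h.SA, h.scal.norm, h.free⟩

theorem commA (h : Sit H0 S A T) {a b : H} (ha : a ∈ A) (hb : b ∈ A) : a * b = b * a := h.set0.comm ha hb

/-- every element of `A` is a commutator `[a, t]` -/
theorem AT [Finite H] (h : Sit H0 S A T) :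
    A ≤ closure {g | ∃ a ∈ A, ∃ t ∈ T, a⁻¹ * (t * a * t⁻¹) = g} := by
  obtain ⟨t, ht, ht1⟩ := h.exists_ne_one
  let f : A → A := fun a => ⟨(a : H)⁻¹ * (t * a * t⁻¹), mul_mem (inv_mem a.2) (h.scal.norm t ht a a.2)⟩
  have hf : Function.Injective f := by
    intro a b hab
    have h1 : (a : H)⁻¹ * (t * a * t⁻¹) = (b : H)⁻¹ * (t * b * t⁻¹) := congrArg Subtype.val hab
    have h2 : t * ((a : H) * (b : H)⁻¹) * t⁻¹ = (a : H) * (b : H)⁻¹ := by
      have e1 : t * (a : H) * t⁻¹ = (a : H) * ((b : H)⁻¹ * (t * b * t⁻¹)) := by rw [← h1]; group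
      have e2 : t * ((a : H) * (b : H)⁻¹) * t⁻¹ = (t * (a : H) * t⁻¹) * (t * (b : H) * t⁻¹)⁻¹ := by group
      rw [e2, e1]
      group
    have h3 := h.free t ht ht1 _ (mul_mem a.2 (inv_mem b.2)) h2
    exact Subtype.ext (mul_inv_eq_one.1 h3)
  intro a ha
  obtain ⟨b, hb⟩ := (Finite.injective_iff_surjective.1 hf) ⟨a, ha⟩
  exact subset_closure ⟨b, b.2, t, ht, congrArg Subtype.val hb⟩

/-- a Sylow 2-subgroup of `H` meeting `H0` in `S` -/
theorem exists_sylow [Finite H] (h : Sit H0 S A T) :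
    ∃ P : Sylow 2 H, S ≤ (P : Subgroup H) ∧ (P : Subgroup H) ⊓ H0 = S := by
  obtain ⟨P, hP⟩ := h.syl.isPGroup.exists_le_sylow
  exact ⟨P, hP, h.syl.2.2 _ (le_inf hP h.syl.le) inf_le_right (P.isPGroup'.to_le inf_le_left)⟩

/-- (T1): `A` normalises `K`. -/
theorem A_le [Finite H] (h : Sit H0 S A T) (hO : pCore 2 H = ⊥) (hK : IsComponent K) (hKH : K ≤ H0)
    (h2 : 2 ∣ Nat.card K) : A ≤ normalizer (K : Set H) := by
  obtain ⟨P, _, hP⟩ := h.exists_sylow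
  refine h.set0.normalises_component h.exists_ne_one hO P hK h2 fun x hx hxK => ?_
  rw [← hP]
  exact ⟨hx, hKH hxK⟩

/-- `S ⊓ K` is a Sylow 2-subgroup of `K`. -/
theorem sylK [Finite H] (h : Sit H0 S A T) (hK : K.IsSubnormal) (hKH : K ≤ H0) : SylIn 2 (S ⊓ K) K := by
  have : Fact (Nat.Prime 2) := ⟨Nat.prime_two⟩
  obtain ⟨P, _, hP⟩ := h.exists_sylow
  obtain ⟨Q, hQ⟩ := Cfsg.Agent.S0542.result 2 K hK P
  have h1 := sylIn_map Q
  rw [hQ, subgroupOf_map_subtype] at h1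
  have h2 : (P : Subgroup H) ⊓ K = S ⊓ K := by
    rw [← hP, inf_assoc, inf_eq_right.2 hKH]
  rwa [h2] at h1

theorem zodd [Finite H] (hO : pCore 2 H = ⊥) (hK : IsComponent K) :
    ∀ x ∈ K, (∀ y ∈ K, x * y = y * x) → Odd (orderOf x) := by
  intro x hx hc
  have hcomp := LemmaT.comp_of_isComponent hK hO
  rw [← Nat.not_even_iff_odd]
  intro he
  obtain ⟨n, hn⟩ := even_iff_two_dvd.1 he
  have hpos : 0 < orderOf x := orderOf_pos x
  have h1 : x ^ n * x ^ n = 1 := by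
    rw [← pow_add, ← two_mul, ← hn]
    exact pow_orderOf_eq_one x
  have h2 := hcomp.cen (x ^ n) (pow_mem hx n) h1 fun y hy => (Commute.pow_left (show Commute x y from hc y hy) n)
  have h3 : orderOf x ∣ n := orderOf_dvd_of_pow_eq_one h2
  have h4 : orderOf x ≤ n := Nat.le_of_dvd (by omega) h3
  omega

theorem S_ne_bot [Finite H] (h : Sit H0 S A T) (hK : K.IsSubnormal) (hKH : K ≤ H0) (h2 : 2 ∣ Nat.card K) :
    S ⊓ K ≠ ⊥ := by
  obtain ⟨P, _, hP⟩ := h.exists_sylow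
  obtain ⟨x, hxK, hxP, hx1, _⟩ := LemmaT.exists_involution P hK h2
  intro h0
  have h1 : x ∈ S ⊓ K := ⟨by rw [← hP]; exact ⟨hxP, hKH hxK⟩, hxK⟩
  rw [h0, mem_bot] at h1
  exact hx1 h1

theorem pre [Finite H] (h : Sit H0 S A T) (hO : pCore 2 H = ⊥) (hK : IsComponent K) (hKH : K ≤ H0)
    (h2 : 2 ∣ Nat.card K) (hT : T ≤ normalizer (K : Set H)) : Pre S A T K where
  S2 := h.syl.isPGroup
  AS := h.AS
  A2 := h.scal.sq
  TA := h.scal.norm
  TS := h.TS
  TK t ht x hx := (mem_normalizer_iff.1 (hT ht) x).1 hx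
  ST t ht s hs := h.ST s hs t ht
  AT := h.AT
  AK a ha x hx := (mem_normalizer_iff.1 (h.A_le hO hK hKH h2 ha) x).1 hx
  syl P hPK hP2 hSP := by
    have h1 := (h.sylK hK.1 hKH).2.2 P hSP hPK hP2
    rw [h1]
    exact inf_le_left
  zodd := zodd hO hK

/-- **NODE LIE, the exotic components.** -/
theorem exo [Finite H] (h : Sit H0 S A T) (hO : pCore 2 H = ⊥) (hK : IsComponent K) (hKH : K ≤ H0)
    (h2 : 2 ∣ Nat.card K) (hne : ∃ a ∈ A, ∃ k ∈ K, a * k ≠ k * a) :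
    (T ≤ normalizer (K : Set H) ∧ Pre S A T K ∧ ¬ NoCenMove K) ∨ Three A T K (S ⊓ K) := by
  have hz : ∀ x ∈ S ⊓ K, (∀ y ∈ K, x * y = y * x) → x = 1 := by
    rintro x ⟨hxS, hxK⟩ hc
    have h1 := zodd hO hK x hxK hc
    obtain ⟨n, hn⟩ := h.syl.isPGroup ⟨x, hxS⟩
    have h2 : x ^ 2 ^ n = 1 := congrArg Subtype.val hn
    have h3 : orderOf x ∣ 2 ^ n := orderOf_dvd_of_pow_eq_one h2
    have h4 : Nat.Coprime (orderOf x) (2 ^ n) := (Nat.Coprime.pow_right n (Nat.coprime_two_right.2 h1))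
    exact orderOf_eq_one_iff.1 (Nat.Coprime.eq_one_of_dvd h4 h3)
  rcases torus_component h.scal h.three hK (h.S_ne_bot hK.1 hKH h2) hz h.ST with hT | hT
  · left
    have hp := h.pre hO hK hKH h2 hT
    refine ⟨hT, hp, fun hn => ?_⟩
    obtain ⟨a, ha, k, hk, hak⟩ := hne
    exact hak (hp.centralises h.odd h.exists_ne_one h.free h.SA hK.2 h2 hn a ha k hk)
  · exact Or.inr hT

end Sit

end Cfsg.Agent.Omega.Lie.ExoComp
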