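import Cfsg.Agent.Omega.Lie.ExoComp
import Cfsg.Agent.Omega.KFactsZS

/-!
# NODE LIE: a component with `[K, A] ≠ 1` is of Lie type in characteristic 2, or has an elementary abelian Sylow 2-subgroup
-/

set_option autoImplicit false

namespace Cfsg.Agent.Omega.Lie.ExoComp

open Cfsg Subgroup Cfsg.Agent.Omega.Lie.CompB Cfsg.Agent.Omega.Lie.CompT Cfsg.Agent.Omega.KFacts

universe u

variable {H : Type u} [Group H] {H0 S A T K : Subgroup H}

theorem odd_center [Finite H] (hO : pCore 2 H = ⊥) (hK : IsComponent K) : Odd (Nat.card (center K)) := by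
  rw [← Nat.not_even_iff_odd, even_iff_two_dvd]
  intro h2
  have : Fact (Nat.Prime 2) := ⟨Nat.prime_two⟩
  obtain ⟨z, hz⟩ := exists_prime_orderOf_dvd_card' 2 h2
  have h3 := Sit.zodd hO hK ((z : K) : H) (z : K).2 fun y hy =>
    (congrArg Subtype.val (mem_center_iff.1 z.2 ⟨y, hy⟩)).symm
  rw [orderOf_coe, orderOf_coe, hz] at h3
  exact absurd h3 (by decide)

theorem not_primeCyclic {K : Type*} [Group K] (hK : IsQuasisimple K) : ¬ IsPrimeCyclic (K ⧸ center K) := by
  intro h
  have hf : Fact (Nat.card (K ⧸ center K)).Prime := ⟨h⟩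
  have hc : IsCyclic (K ⧸ center K) := isCyclic_of_prime_card rfl
  have h1 : commutator K ≤ center K := by
    rw [commutator_def, Subgroup.commutator_le]
    intro x _ y _
    change x * y * x⁻¹ * y⁻¹ ∈ _
    rw [← QuotientGroup.eq_one_iff]
    obtain ⟨g, hg⟩ := hc.exists_generator
    obtain ⟨m, hm⟩ := mem_zpowers_iff.1 (hg (x : K ⧸ center K))
    obtain ⟨n, hn⟩ := mem_zpowers_iff.1 (hg (y : K ⧸ center K))
    rw [QuotientGroup.mk_mul, QuotientGroup.mk_mul, QuotientGroup.mk_mul, QuotientGroup.mk_inv,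
      QuotientGroup.mk_inv, ← hm, ← hn]
    rw [(Commute.zpow_zpow_self g m n).eq]
    group
  have h2 : center K = ⊤ := top_le_iff.1 (by rw [← hK.1.commutator_eq_top]; exact h1)
  exact SignalizersComponents.Components.quasisimple_center_ne_top hK h2

/-- **NODE LIE, the exotic components, with the table.** -/
theorem Sit.exo_rows [Finite H] (R : RowsZS.{u}) (h : Sit H0 S A T) (hO : pCore 2 H = ⊥) (hK : IsComponent K)
    (hKH : K ≤ H0) (h2 : 2 ∣ Nat.card K) (hk : IsKnownSimple' (K ⧸ center K))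
    (hne : ∃ a ∈ A, ∃ k ∈ K, a * k ≠ k * a) :
    (T ≤ normalizer (K : Set H) ∧ Pre S A T K ∧ (IsLieTypeChar 2 (K ⧸ center K) ∨ OutZS (K ⧸ center K))) ∨
      Three A T K (S ⊓ K) := by
  rcases h.exo hO hK hKH h2 hne with ⟨h1, h3, h4⟩ | h1
  · left
    refine ⟨h1, h3, ?_⟩
    rcases R.cover (odd_center hO hK) hk (not_primeCyclic hK.2) with h5 | h5 | h5
    · exact Or.inl h5
    · exact absurd h5 h4
    · exact Or.inr h5
  · exact Or.inr h1

end Cfsg.Agent.Omega.Lie.ExoComp
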