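import Cfsg.Agent.Omega.Lie.NOneEl
import Cfsg.Agent.Omega.Lie.Quot
import Cfsg.Agent.Omega.Lie.TwoEnd

/-!
# NODE LIE: `H = N(R i) / O₂(N(R i))` acting on `M = W i / R i`

`QFr`: helper688's `ModFr` together with the action of helper452's `HQ (R i)`.  Facts (N0), (N1), LEMMA N for
`A = AA V R i j`, `T = TT τ`, `Ĥ = normalClosure A`.
-/

set_option autoImplicit false
set_option linter.unusedSectionVars false

namespace Cfsg.Agent.Omega.Lie.QMod

open Subgroup Cfsg.Agent.Omega.BTwo Cfsg.Agent.Omega.Lie Cfsg.Agent.Omega.Lie.Quot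
  Cfsg.Agent.Omega.Lie.LemN

universe u v w

variable {G : Type u} [Group G] {ι : Type w} {F : Type v} [Field F]
  {V : Subgroup G} {R : ι → Subgroup G} {i j : ι}

/-- `M = W i / R i`, `B = R i` as modules for `H = N(R i) / O₂(N(R i))` -/
structure QFr (V : Subgroup G) (R : ι → Subgroup G) (i : ι) (M B : Type u) [AddCommGroup M] [AddCommGroup B]
    [DistribMulAction (NR R i) M] [DistribMulAction (NR R i) B] [DistribMulAction (HQ (R i)) M]
    [DistribMulAction (HQ (R i)) B] (p : G → M) (r : G → B) (f : M →+ M →+ B) : Prop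
    extends ModFr V R i M B p r f where
  smul_M : ∀ (n : NR R i) (a : M), pr (R i) n • a = n • a
  smul_B : ∀ (n : NR R i) (a : B), pr (R i) n • a = n • a

/-- a group acting through a quotient -/
def liftAct {N X : Type*} [Group N] [AddCommGroup X] [DistribMulAction N X] (K : Subgroup N) [K.Normal]
    (h : ∀ n ∈ K, ∀ x : X, n • x = x) : N ⧸ K →* AddMonoid.End X :=
  QuotientGroup.lift K (DistribMulAction.toAddMonoidEnd N X) fun n hn => by
    ext x
    exact h n hn x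

theorem exists_q (b : BT V R) (i : ι) :
    ∃ (M B : Type u) (_ : AddCommGroup M) (_ : AddCommGroup B) (_ : DistribMulAction (NR R i) M)
      (_ : DistribMulAction (NR R i) B) (_ : DistribMulAction (HQ (R i)) M)
      (_ : DistribMulAction (HQ (R i)) B) (p : G → M) (r : G → B) (f : M →+ M →+ B),
      QFr V R i M B p r f := by
  obtain ⟨M, B, _, _, _, _, p, r, f, m⟩ := b.exists_mod i
  have hM : ∀ n ∈ pCore 2 (normalizer (R i : Set G)), ∀ x : M, n • x = x := fun n hn x =>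
    m.Q_act b ⟨n, hn, rfl⟩ x
  have hB : ∀ n ∈ pCore 2 (normalizer (R i : Set G)), ∀ x : B, n • x = x := fun n hn x =>
    m.act_B b (Q_le_C b i ⟨n, hn, rfl⟩) x
  let _ : DistribMulAction (HQ (R i)) M := DistribMulAction.compHom M (liftAct _ hM)
  let _ : DistribMulAction (HQ (R i)) B := DistribMulAction.compHom B (liftAct _ hB)
  exact ⟨M, B, _, _, _, _, _, _, p, r, f, { m with
    smul_M := fun n a => rfl
    smul_B := fun n a => rfl }⟩

variable {M B : Type u} [AddCommGroup M] [AddCommGroup B]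
  [DistribMulAction (NR R i) M] [DistribMulAction (NR R i) B] [DistribMulAction (HQ (R i)) M]
  [DistribMulAction (HQ (R i)) B] {p : G → M} {r : G → B}
  {f : M →+ M →+ B} {vv : F → F → G} {w1 w2 t : F → G}

open Cfsg.Agent.Omega.Lie.TwoEnd (D cm)

/-! ### elements -/

theorem exists_U (b : BT V R) {a : HQ (R i)} (ha : a ∈ AA V R i j) :
    ∃ h : NR R i, (h : G) ∈ UU V R j ∧ pr (R i) h = a := by
  obtain ⟨u, hu, rfl⟩ := (mem_AA b).1 ha
  exact ⟨⟨u, U_le_N b i j hu⟩, hu, rfl⟩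

theorem notMem_D (b : BT V R) (hij : i ≠ j) {h : NR R i} (hh : (h : G) ∈ UU V R j) (ha1 : pr (R i) h ≠ 1) :
    (h : G) ∉ DD V R := by
  intro hD
  exact ha1 ((pr_eq_one h.2).2 ((U_inf_Q b hij hh).2 hD))

theorem exists_line (b : BT V R) (τ : TorD V R i j vv t) {a x : HQ (R i)} (ha : a ∈ AA V R i j)
    (hx : x ∈ TT τ) : ∃ h h' n : NR R i, Line V R i j h h' n ∧ pr (R i) h = a ∧ pr (R i) h' = x * a * x⁻¹ ∧
      pr (R i) n = x := by
  obtain ⟨h, hh, rfl⟩ := exists_U b ha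
  obtain ⟨y, hy, rfl⟩ := (mem_TT τ).1 hx
  have hut := conj_mem_U b hh (τ.memX y hy) (cj_eq_self_iff.2 (τ.normR' hy))
  exact ⟨_, _, _, line_of b hh (τ.memX y hy) (cj_eq_self_iff.2 (τ.normR hy))
    (cj_eq_self_iff.2 (τ.normR' hy)) hut, rfl, rfl, rfl⟩

section BT

variable (m : QFr V R i M B p r f) (b : BT V R)
include m

theorem D_pr (h : NR R i) (a : M) : D (pr (R i) h) a = LemN.br h a := by
  rw [TwoEnd.D_apply, m.smul_M]; rfl

include b

theorem two (a : M) : a + a = 0 := m.two_M b a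

/-- `H⁰` preserves `f` -/
theorem inv {h : HQ (R i)} (hh : h ∈ H0 R i) (a c : M) : f (h • a) (h • c) = f a c := by
  obtain ⟨g, hg, hgC, rfl⟩ := mem_im.1 hh
  rw [m.smul_M, m.smul_M, m.f_act b, m.act_B b hgC]

theorem A_le_H0 : AA V R i j ≤ H0 R i := by
  intro a ha
  obtain ⟨h, hh, rfl⟩ := exists_U b ha
  exact pr_mem_im h.2 (centralizer_le (b.R_le i) (UU_le_cen j hh))

theorem H0_normal : (H0 R i).Normal := by
  have _ := m
  have _ := b
  constructor
  intro x hx g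
  obtain ⟨y, hy, hyC, rfl⟩ := mem_im.1 hx
  obtain ⟨g', hg', rfl⟩ := exists_pr g
  exact pr_mem_im (mul_mem (mul_mem hg' hy) (inv_mem hg'))
    (conj_mem_of_normalizer (normalizer_le_normalizer_centralizer _ hg') hyC)

theorem nc_le_H0 : normalClosure (AA V R i j : Set (HQ (R i))) ≤ H0 R i := by
  have := H0_normal m b
  exact normalClosure_le_normal (A_le_H0 m b)

/-- the orbit of `e` generates `M` -/
theorem gen {S : AddSubgroup M} (hS : ∀ h : HQ (R i), ∀ a ∈ S, h • a ∈ S) (hV : m.sb V ≤ S) : S = ⊤ :=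
  m.toModFr.gen (fun n a ha => by
    rw [← m.smul_M]
    exact hS _ a ha) hV

theorem D_e {a : HQ (R i)} (ha : a ∈ AA V R i j) {x : M} (hx : x ∈ m.sb V) : D a x = 0 := by
  obtain ⟨h, hh, rfl⟩ := exists_U b ha
  rw [D_pr m]; exact br_V m.toModFr b hh hx

theorem A_e {a : HQ (R i)} (ha : a ∈ AA V R i j) {x : M} (hx : x ∈ m.sb V) : a • x = x :=
  sub_eq_zero.1 (D_e m b ha hx)

theorem D_U {a : HQ (R i)} (ha : a ∈ AA V R i j) (x : M) : D a x ∈ m.sb (UU V R i) := by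
  obtain ⟨h, hh, rfl⟩ := exists_U b ha
  rw [D_pr m]; exact br_mem_U m.toModFr b hh x

theorem D_D {a : HQ (R i)} (ha : a ∈ AA V R i j) {x : M} (hx : x ∈ m.sb (UU V R i)) :
    D a x ∈ m.sb (DD V R) := by
  obtain ⟨h, hh, rfl⟩ := exists_U b ha
  rw [D_pr m]; exact br_mem_D m.toModFr b hh hx

theorem D_V {a : HQ (R i)} (ha : a ∈ AA V R i j) {x : M} (hx : x ∈ m.sb (DD V R)) :
    D a x ∈ m.sb V := by
  obtain ⟨h, hh, rfl⟩ := exists_U b ha
  rw [D_pr m]; exact br_mem_V m.toModFr b hh hx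

/-- `f ([x, a], y) = f (x, [y, a])` -/
theorem adj {a : HQ (R i)} (ha : a ∈ AA V R i j) (x y : M) : f (D a x) y = f x (D a y) := by
  obtain ⟨h, hh, rfl⟩ := exists_U b ha
  rw [D_pr m, D_pr m]; exact br_adj m.toModFr b hh x y

/-- `A` is normal in `N_H(e)` -/
theorem nrm [Finite G] (hij : i ≠ j) {h : HQ (R i)} (hh : ∀ x ∈ m.sb V, h • x ∈ m.sb V) {a : HQ (R i)}
    (ha : a ∈ AA V R i j) : h * a * h⁻¹ ∈ AA V R i j := by
  obtain ⟨n, hn, rfl⟩ := exists_pr h
  have hRW := b.R_le_W i i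
  have hVW := V_le_WW V (R i)
  -- `n` normalises `V`
  have hnV : n ∈ normalizer (V : Set G) := by
    refine mem_normalizer_of_conj fun v hv => ?_
    have h1 := hh (p v) (m.p_mem (hVW hv) hv)
    rw [m.smul_M, m.p_act ⟨n, hn⟩ v (hVW hv)] at h1
    exact (m.p_mem_iff (conj_mem_of_normalizer (normalizer_le_WW V (R i) hn) (hVW hv)) (b.R_le i)).1 h1
  obtain ⟨u, hu, rfl⟩ := exists_U b ha
  have h1 : n * u * n⁻¹ ∈ YY V R := conj_mem_of_normalizer (b.NV_le_NY hnV) (UU_le_YY j hu)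
  obtain ⟨x, hx, y, hy, e⟩ := b.exists_mul_Y hij h1
  have hxN := b.W_le_N i (UU_le_WW i hx)
  have h2 : pr (R i) ⟨x, hxN⟩ = 1 := (pr_eq_one hxN).2 (b.W_le_Q i (UU_le_WW i hx))
  have h3 : pr (R i) ⟨n, hn⟩ * pr (R i) u * (pr (R i) ⟨n, hn⟩)⁻¹ = pr (R i) ⟨y, U_le_N b i j hy⟩ := by
    have e1 : (⟨n, hn⟩ : NR R i) * u * (⟨n, hn⟩ : NR R i)⁻¹ = ⟨x, hxN⟩ * ⟨y, U_le_N b i j hy⟩ :=
      Subtype.ext e
    rw [← map_inv, ← map_mul, ← map_mul, e1, map_mul, h2, one_mul]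
  rw [h3]
  exact (mem_AA b).2 ⟨y, hy, rfl⟩

/-- `rad` is normalised by `H` -/
theorem rad_smul {h : HQ (R i)} {z : M} (hz : z ∈ m.sb (ZZ V R i)) : h • z ∈ m.sb (ZZ V R i) := by
  obtain ⟨n, hn, rfl⟩ := exists_pr h
  rw [m.smul_M]
  refine m.sb_smul ?_ hz
  rw [← cj_eq_self_iff]
  exact cj_ZZ b (cj_eq_self_iff.2 hn)

/-- `rad` is the radical of `f` -/
theorem mem_rad {z : M} : z ∈ m.sb (ZZ V R i) ↔ ∀ x, f z x = 0 := by
  constructor
  · rintro ⟨ζ, hζ, hζ', rfl⟩ x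
    obtain ⟨w, hw, rfl⟩ := m.p_surj x
    rw [m.f_eq _ hζ' _ hw, bil_one b hζ hw, m.r_one]
  · intro h
    obtain ⟨w, hw, rfl⟩ := m.p_surj z
    refine m.p_mem hw (mem_inf.2 ⟨hw, ?_⟩)
    rw [mem_centralizer_iff]
    intro x hx
    have h1 := h (p x)
    rw [m.f_eq _ hw _ hx, m.r_ker _ (b.WW_comm i hw hx), mul_inv_eq_one, mul_inv_eq_iff_eq_mul] at h1
    exact h1.symm

/-- (8.1) with an arbitrary proper subgroup of `B` -/
theorem key [Finite G] {z : M} {R₀ : AddSubgroup B} (hR : R₀ ≠ ⊤) (h : ∀ u, f u z ∈ R₀) :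
    z ∈ m.sb (ZZ V R i) := by
  rw [mem_rad m b]
  intro x
  refine m.rad_xi b (QuotientAddGroup.mk' R₀) ?_ (fun c => ?_) x
  · intro h0
    apply hR
    rw [eq_top_iff]
    intro β _
    rw [← QuotientAddGroup.eq_zero_iff]
    exact congrArg (fun g => g β) h0
  · rw [m.f_symm b]
    exact (QuotientAddGroup.eq_zero_iff _).2 (h c)

end BT

section BTC

variable (m : QFr V R i M B p r f) (b : BTC V R)
include m b

/-- `H` is faithful on `M` -/
theorem faithful [Finite G] {h : HQ (R i)} (hh : ∀ a : M, h • a = a) : h = 1 := by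
  obtain ⟨n, hn, rfl⟩ := exists_pr h
  rw [pr_eq_one]
  exact m.mem_Q b (h := ⟨n, hn⟩) fun a => by rw [← m.smul_M]; exact hh a

/-- `Ĥ = ⟨A^H⟩` centralises `rad` -/
theorem rad_fix (hij : i ≠ j) {h : HQ (R i)} (hh : h ∈ normalClosure (AA V R i j : Set (HQ (R i)))) {z : M}
    (hz : z ∈ m.sb (ZZ V R i)) : h • z = z := by
  let N : Subgroup (HQ (R i)) :=
    { carrier := {h | ∀ z ∈ m.sb (ZZ V R i), h • z = z}
      one_mem' := fun z _ => one_smul _ z
      mul_mem' := fun {x y} hx hy z hz => by rw [mul_smul, hy z hz, hx z hz]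
      inv_mem' := fun {x} hx z hz => by
        rw [inv_smul_eq_iff, hx z hz] }
  have hN : N.Normal := ⟨fun x hx g z hz => by
    rw [mul_smul, mul_smul, hx _ (rad_smul m b.toBT hz), smul_inv_smul]⟩
  have hA : (AA V R i j : Set (HQ (R i))) ⊆ N := by
    intro a ha z hz
    obtain ⟨u, hu, rfl⟩ := exists_U b.toBT ha
    obtain ⟨ζ, hζ, hζ', rfl⟩ := hz
    rw [m.smul_M, m.p_act u ζ hζ',
      m.p_eq_iff (conj_mem_of_normalizer (normalizer_le_WW V (R i) u.2) hζ') hζ']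
    have h1 := Z_U b hij hζ hu
    rw [show (u : G) * ζ * (u : G)⁻¹ * ζ⁻¹ = (ζ * u * ζ⁻¹ * (u : G)⁻¹)⁻¹ by group]
    exact inv_mem h1
  exact normalClosure_le_normal hA hh z hz

/-- (8.1) for `Ĥ` -/
theorem hkey [Finite G] (hij : i ≠ j) {h : HQ (R i)}
    (hh : h ∈ normalClosure (AA V R i j : Set (HQ (R i)))) {z : M} {R₀ : AddSubgroup B} (hR : R₀ ≠ ⊤)
    (h0 : ∀ u, f u z ∈ R₀) : h • z = z := rad_fix m b hij hh (key m b.toBT hR h0)

/-- (N0) on a line: `[M, a, a^x] ≤ e`, `x ∈ T` -/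
theorem line0 (τ : TorD V R i j vv t) {a x : HQ (R i)} (ha : a ∈ AA V R i j) (hx : x ∈ TT τ) (y : M) :
    D (x * a * x⁻¹) (D a y) ∈ m.sb V := by
  obtain ⟨h, h', n, l, rfl, e, -⟩ := exists_line b.toBT τ ha hx
  rw [← e, D_pr m, D_pr m]
  exact n0_line m.toModFr b l y

/-- `[M, a, b, b^x] = 0`, `x ∈ T` -/
theorem line1 (τ : TorD V R i j vv t) {a a' x : HQ (R i)} (ha : a ∈ AA V R i j) (ha' : a' ∈ AA V R i j)
    (hx : x ∈ TT τ) (y : M) : D (x * a' * x⁻¹) (D a' (D a y)) = 0 := by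
  obtain ⟨u, hu, rfl⟩ := exists_U b.toBT ha
  obtain ⟨h, h', n, l, rfl, e, -⟩ := exists_line b.toBT τ ha' hx
  rw [← e, D_pr m, D_pr m, D_pr m]
  exact c3 m.toModFr b hu l y

/-- (N1): `[M, a, b] ≠ 0 ⟹ e ≤ [M, a, b]` -/
theorem full [CharP F 2] (c : Coord V R i j vv w1 w2) {a a' : HQ (R i)} (ha : a ∈ AA V R i j)
    (ha' : a' ∈ AA V R i j) (hne : ∃ y : M, D a' (D a y) ≠ 0) {x : M} (hx : x ∈ m.sb V) :
    ∃ y : M, D a' (D a y) = x := by
  obtain ⟨u, hu, rfl⟩ := exists_U b.toBT ha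
  obtain ⟨u', hu', rfl⟩ := exists_U b.toBT ha'
  obtain ⟨y, hy⟩ := hne
  rw [D_pr m, D_pr m] at hy
  obtain ⟨z, hz⟩ := n1 m.toModFr b c hu hu' ⟨y, hy⟩ hx
  exact ⟨z, by rw [D_pr m, D_pr m]; exact hz⟩

/-- `[M, a, b] ≠ 0 ⟹ [M, a, b^x] ≤ [M, a, b]`, `x ∈ T` -/
theorem same [Finite F] [CharP F 2] (c : Coord V R i j vv w1 w2) (τ : TorD V R i j vv t)
    {a a' x : HQ (R i)} (ha : a ∈ AA V R i j)
    (ha' : a' ∈ AA V R i j) (hx : x ∈ TT τ) (hne : ∃ y : M, D a' (D a y) ≠ 0) (y : M) :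
    ∃ y' : M, D (x * a' * x⁻¹) (D a y) = D a' (D a y') := by
  obtain ⟨u, hu, rfl⟩ := exists_U b.toBT ha
  obtain ⟨h, h', n, l, rfl, e, -⟩ := exists_line b.toBT τ ha' hx
  obtain ⟨z, hz⟩ := hne
  rw [D_pr m, D_pr m] at hz
  obtain ⟨y', hy'⟩ := c2 m.toModFr b c hu l ⟨z, hz⟩ y
  exact ⟨y', by rw [← e, D_pr m, D_pr m, D_pr m, D_pr m]; exact hy'⟩

/-- LEMMA N: `e ≤ [M, a] + rad` -/
theorem lemN [Finite G] [Finite F] [CharP F 2] (hq : 4 ≤ Nat.card F) (hij : i ≠ j)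
    (c : Coord V R i j vv w1 w2) {a : HQ (R i)} (ha : a ∈ AA V R i j) (ha1 : a ≠ 1) {x : M}
    (hx : x ∈ m.sb V) : ∃ y : M, ∃ z ∈ m.sb (ZZ V R i), x = D a y + z := by
  obtain ⟨u, hu, rfl⟩ := exists_U b.toBT ha
  obtain ⟨y, z, hz, e⟩ := lemN_M m.toModFr b c hq hu (notMem_D b.toBT hij hu ha1) hx
  exact ⟨y, z, hz, by rw [D_pr m]; exact e⟩

/-- LEMMA N: what lies in `Ĥ` and centralises `[M, a]` centralises `e` -/
theorem lemN_fix [Finite G] [Finite F] [CharP F 2] (hq : 4 ≤ Nat.card F) (hij : i ≠ j)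
    (c : Coord V R i j vv w1 w2) {a h : HQ (R i)} (ha : a ∈ AA V R i j) (ha1 : a ≠ 1)
    (hh : h ∈ normalClosure (AA V R i j : Set (HQ (R i)))) (hy : ∀ y : M, h • D a y = D a y) {x : M}
    (hx : x ∈ m.sb V) : h • x = x := by
  obtain ⟨y, z, hz, rfl⟩ := lemN m b hq hij c ha ha1 hx
  rw [smul_add, hy, rad_fix m b hij hh hz]

/-- `|e| = |F|` -/
theorem card_e (c : Coord V R i j vv w1 w2) : Nat.card (m.sb V) = Nat.card F := by
  symm
  have hvW : ∀ q, vv 0 q ∈ WW V (R i) := fun q => V_le_WW V (R i) (c.v_mem 0 q)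
  refine Nat.card_congr (Equiv.ofBijective (fun β : F => (⟨p (vv 0 β), m.p_mem (hvW β) (c.v_mem 0 β)⟩ :
    m.sb V)) ⟨fun β β' h => ?_, ?_⟩)
  · have h1 : p (vv 0 β) = p (vv 0 β') := congrArg Subtype.val h
    rw [m.p_eq_iff (hvW β) (hvW β')] at h1
    obtain ⟨x, hx⟩ := (c.mem_R1 _).1 h1
    have h2 := c.v_add x 0 0 β'
    rw [hx, inv_mul_cancel_right, add_zero, zero_add] at h2
    exact (c.v_inj h2).2.symm
  · rintro ⟨x, hx⟩
    obtain ⟨β, hβ⟩ := mem_e m.toModFr b c hx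
    exact ⟨β, Subtype.ext hβ⟩

/-- `|B| = |F|` -/
theorem card_B (c : Coord V R i j vv w1 w2) : Nat.card B = Nat.card F := by
  have _ := b
  symm
  have hR : ∀ q, vv q 0 ∈ R i := fun q => (c.mem_R1 _).2 ⟨q, rfl⟩
  refine Nat.card_congr (Equiv.ofBijective (fun β : F => r (vv β 0)) ⟨fun β β' h => ?_, fun x => ?_⟩)
  · exact (c.v_inj (m.r_inj (hR β) (hR β') h)).1
  · obtain ⟨y, hy, rfl⟩ := m.r_surj x
    obtain ⟨β, rfl⟩ := (c.mem_R1 _).1 hy
    exact ⟨β, rfl⟩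

omit b in
theorem finite_M [Finite G] : Finite M :=
  Finite.of_surjective (fun x : WW V (R i) => p x) fun a => by
    obtain ⟨x, hx, rfl⟩ := m.p_surj a
    exact ⟨⟨x, hx⟩, rfl⟩

/-- `|[M, a, a^x]| ≤ |F|`, `x ∈ T` -/
theorem card_line [Finite G] (c : Coord V R i j vv w1 w2) (τ : TorD V R i j vv t) {a x : HQ (R i)}
    (ha : a ∈ AA V R i j) (hx : x ∈ TT τ) :
    Nat.card (cm (cm (⊤ : AddSubgroup M) a) (x * a * x⁻¹)) ≤ Nat.card F := by
  have := finite_M m
  rw [← card_e m b c]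
  have h : cm (cm (⊤ : AddSubgroup M) a) (x * a * x⁻¹) ≤ m.sb V := by
    rintro _ ⟨_, ⟨y, -, rfl⟩, rfl⟩
    exact line0 m b τ ha hx y
  exact Nat.card_le_card_of_injective (AddSubgroup.inclusion h) (AddSubgroup.inclusion_injective h)

/-- `|M : e^⊥| ≤ |F|` -/
theorem index_U [Finite G] (c : Coord V R i j vv w1 w2) : (m.sb (UU V R i)).index ≤ Nat.card F := by
  have h1 : (m.sb (UU V R i)).index = Nat.card (M ⧸ m.sb (UU V R i)) := rfl
  have := finite_M m
  rw [h1]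
  -- `M / e^⊥ → F`, `w ↦` its parameter
  have hFi : Finite F := Finite.of_injective (fun a => vv a 0) fun a a' h => (c.v_inj h).1
  have hs : ∀ w : WW V (R i), ∃ s, ∀ b c, (w : G) * vv b c * (w : G)⁻¹ = vv (b + s * c) c := fun w =>
    c.W1_act w w.2
  choose s hs using hs
  have hp : ∀ y : M, ∃ w : WW V (R i), p w = y := fun y => by
    obtain ⟨x, hx, rfl⟩ := m.p_surj y
    exact ⟨⟨x, hx⟩, rfl⟩
  choose q hq using hp
  refine Nat.card_le_card_of_injective (fun z : M ⧸ m.sb (UU V R i) => s (q (Quotient.out z))) fun z z' h => ?_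
  rw [← QuotientAddGroup.out_eq' z, ← QuotientAddGroup.out_eq' z', QuotientAddGroup.eq]
  set y : M := Quotient.out z
  set y' : M := Quotient.out z'
  rw [← hq y, ← hq y', ← m.p_inv (q y).2, ← m.p_mul _ (inv_mem (q y).2) _ (q y').2]
  have hW : ((q y : WW V (R i)) : G)⁻¹ * (q y' : WW V (R i)) ∈ WW V (R i) := mul_mem (inv_mem (q y).2) (q y').2
  refine m.p_mem hW (mem_inf.2 ⟨hW, ?_⟩)
  rw [mem_centralizer_iff]
  intro v hv
  obtain ⟨d, e, rfl⟩ := (c.mem_V v).1 hv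
  have h1 := hs (q y) d e
  have h2 := hs (q y') d e
  have h3 : s (q y) = s (q y') := h
  rw [h3, ← h2] at h1
  calc vv d e * (((q y : WW V (R i)) : G)⁻¹ * (q y' : WW V (R i)))
      = ((q y : WW V (R i)) : G)⁻¹ * ((q y : WW V (R i)) * vv d e * ((q y : WW V (R i)) : G)⁻¹) *
        (q y' : WW V (R i)) := by group
    _ = ((q y : WW V (R i)) : G)⁻¹ * (q y' : WW V (R i)) * vv d e := by rw [h1]; group

/-- `|[M, a, b]| ≤ |F|²` -/
theorem card_two [Finite G] (c : Coord V R i j vv w1 w2) {a a' : HQ (R i)}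
    (ha : a ∈ AA V R i j) (ha' : a' ∈ AA V R i j) :
    Nat.card (cm (cm (⊤ : AddSubgroup M) a) a') ≤ Nat.card F ^ 2 := by
  have := finite_M m
  have hFi : Finite F := Finite.of_injective (fun a => vv a 0) fun a a' h => (c.v_inj h).1
  set φ : M →+ M := (D a').comp (D a) with hφ
  have e1 : cm (cm (⊤ : AddSubgroup M) a) a' = φ.range := by
    unfold cm
    rw [AddSubgroup.map_map, ← AddMonoidHom.range_eq_map]
  rw [e1]
  set U := m.sb (UU V R i) with hU
  have h1 := AddSubgroup.index_map_dvd U (f := φ.rangeRestrict) φ.rangeRestrict_surjective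
  have h2 : (U.map φ.rangeRestrict).index ≤ Nat.card F :=
    (Nat.le_of_dvd (Nat.pos_of_ne_zero AddSubgroup.index_ne_zero_of_finite) h1).trans (index_U m b c)
  have h3 : Nat.card (U.map φ.rangeRestrict) ≤ Nat.card F := by
    rw [← card_e m b c]
    refine Nat.card_le_card_of_injective (fun z : U.map φ.rangeRestrict => (⟨((z : φ.range) : M), ?_⟩ : m.sb V)) ?_
    · obtain ⟨z, y, hy, rfl⟩ := z
      exact D_V m b.toBT ha' (D_D m b.toBT ha hy)
    · intro z z' h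
      exact Subtype.ext (Subtype.ext (congrArg (fun x : m.sb V => (x : M)) h))
  rw [← AddSubgroup.card_mul_index (U.map φ.rangeRestrict), pow_two]
  exact Nat.mul_le_mul h3 h2

/-- `|A| = |U j : D|` -/
theorem card_A (hij : i ≠ j) : Nat.card (AA V R i j) = (DD V R).relIndex (UU V R j) := by
  have _ := m
  -- the hom `U j → H`
  let φ : UU V R j →* HQ (R i) :=
    (pr (R i)).comp (Subgroup.inclusion (U_le_N b.toBT i j))
  have h1 : φ.range = AA V R i j := by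
    ext x
    rw [mem_AA b.toBT]
    constructor
    · rintro ⟨u, rfl⟩; exact ⟨u, u.2, rfl⟩
    · rintro ⟨u, hu, rfl⟩; exact ⟨⟨u, hu⟩, rfl⟩
  have h2 : φ.ker = (DD V R).subgroupOf (UU V R j) := by
    ext u
    rw [MonoidHom.mem_ker, mem_subgroupOf]
    change pr (R i) ⟨(u : G), _⟩ = 1 ↔ _
    rw [pr_eq_one, U_inf_Q b.toBT hij u.2]
  rw [← h1, ← index_ker, h2]
  rfl

omit b in
/-- `|M| = |W i : R i|` -/
theorem card_M_eq : Nat.card M = (R i).relIndex (WW V (R i)) := by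
  let φ : WW V (R i) →* Multiplicative M :=
    { toFun := fun x => Multiplicative.ofAdd (p x)
      map_one' := by rw [coe_one, m.p_one]; rfl
      map_mul' := fun x y => by rw [coe_mul, m.p_mul x x.2 y y.2]; rfl }
  have h1 : Function.Surjective φ := fun a => by
    obtain ⟨x, hx, e⟩ := m.p_surj a.toAdd
    exact ⟨⟨x, hx⟩, congrArg Multiplicative.ofAdd e⟩
  have h2 : φ.ker = (R i).subgroupOf (WW V (R i)) := by
    ext x
    rw [MonoidHom.mem_ker, mem_subgroupOf, ← m.p_ker x x.2]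
    exact Iff.rfl
  change _ = ((R i).subgroupOf (WW V (R i))).index
  rw [← h2, index_ker, MonoidHom.range_eq_top.2 h1, card_top]
  rfl

/-- `|M| ≤ (|F| |A|)²` -/
theorem card_M [Finite G] [CharP F 2] (hij : i ≠ j) (c : Coord V R i j vv w1 w2) :
    Nat.card M ≤ (Nat.card F * Nat.card (AA V R i j)) ^ 2 := by
  have hFi : Finite F := Finite.of_injective (fun a => vv a 0) fun a a' h => (c.v_inj h).1
  obtain ⟨N, _, _, P1, P2, y⟩ := c.exists_yPair b.toBT
  have hA : Nat.card (AA V R i j) = Nat.card N := by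
    rw [card_A m b hij, ← b.card_U i j, y.index_D_U]
  -- `|R i| = |F|`, `|V| = |F|²`
  have hR : Nat.card (R i) = Nat.card F := by
    symm
    refine Nat.card_congr (Equiv.ofBijective (fun β : F => (⟨vv β 0, (c.mem_R1 _).2 ⟨β, rfl⟩⟩ : R i))
      ⟨fun β β' h => (c.v_inj (congrArg Subtype.val h)).1, ?_⟩)
    rintro ⟨x, hx⟩
    obtain ⟨β, hβ⟩ := (c.mem_R1 _).1 hx
    exact ⟨β, Subtype.ext hβ⟩
  have hV : Nat.card V = Nat.card F * Nat.card F := by
    rw [← Nat.card_prod]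
    symm
    refine Nat.card_congr (Equiv.ofBijective (fun β : F × F => (⟨vv β.1 β.2, c.v_mem _ _⟩ : V))
      ⟨fun β β' h => ?_, ?_⟩)
    · have h1 := c.v_inj (congrArg Subtype.val h)
      exact Prod.ext h1.1 h1.2
    · rintro ⟨x, hx⟩
      obtain ⟨β, γ, hβ⟩ := (c.mem_V _).1 hx
      exact ⟨(β, γ), Subtype.ext hβ⟩
  have h1 : (R i).relIndex V = Nat.card F := by
    have h2 := relIndex_mul_relIndex ⊥ (R i) V bot_le (b.R_le i)
    rw [relIndex_bot_left, relIndex_bot_left, hR, hV] at h2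
    exact Nat.eq_of_mul_eq_mul_left Nat.card_pos h2
  have h2 : V.relIndex (DD V R) ≤ Nat.card N := by
    have k1 := y.index_cen_le b.toBT c
    have k2 : (centralizer (YY V R : Set G)).relIndex (DD V R) = V.relIndex (DD V R) := by
      rw [← inf_relIndex_right, ← inf_relIndex_right V]
      congr 1
      apply le_antisymm
      · rintro x ⟨hx, hx'⟩
        refine mem_inf.2 ⟨b.cen_DU (i := i) hx' fun u hu => ?_, hx'⟩
        exact (mem_centralizer_iff.1 hx u (UU_le_YY i hu)).symm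
      · rintro x ⟨hx, hx'⟩
        refine mem_inf.2 ⟨?_, hx'⟩
        rw [mem_centralizer_iff]
        exact fun u hu => (mem_centralizer_iff.1 (YY_le_cen hu) x hx).symm
    rw [k2] at k1
    have := y.finite_M
    exact Nat.le_of_dvd Nat.card_pos k1
  have h3 : (DD V R).relIndex (UU V R i) = Nat.card N := y.index_D_U
  have h4 : (UU V R i).relIndex (WW V (R i)) ≤ Nat.card F := by
    have k := b.relIndex_U_le i
    rw [← inf_relIndex_right, inf_comm] at k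
    rw [← hR]
    exact k
  have e1 := relIndex_mul_relIndex (R i) V (DD V R) (b.R_le i) (V_le_D V R)
  have e2 := relIndex_mul_relIndex (R i) (DD V R) (UU V R i) ((b.R_le i).trans (V_le_D V R)) (b.D_le_U i)
  have e3 := relIndex_mul_relIndex (R i) (UU V R i) (WW V (R i)) (b.R_le_U i) (UU_le_WW i)
  rw [card_M_eq m, ← e3, ← e2, ← e1, h1, h3, hA]
  calc Nat.card F * V.relIndex (DD V R) * Nat.card N * (UU V R i).relIndex (WW V (R i))
      ≤ Nat.card F * Nat.card N * Nat.card N * Nat.card F := by gcongr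
    _ = (Nat.card F * Nat.card N) ^ 2 := by ring

end BTC

end Cfsg.Agent.Omega.Lie.QMod
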