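import Cfsg.Agent.Omega.Lie.ModQ
import Cfsg.Agent.Omega.BTwo.Count

/-!
# NODE LIE, LEMMA CEN (#14596): `C_M(S_E) = e`

Abstract: a group `H` acts on an additive group `M`, `e ≤ M`, `cl P e = ⟨e^P⟩`.

* `Rk e Sm X Xm Sr` (one rank one group `⟨X, Xm⟩`): `Sm = Sr Xm`, `X` normalises `Sr` and `⟨e^Xm⟩`;
  `Rk.of_fix` (`X`, `Xm` fix `e`), `Rk.of_quad` (`(1+a)(1+b) M ≤ e` for some `a ≠ b` in `X`, rank one Bruhat
  relations);
* `cl_inv`: `⟨e^Sm⟩` is invariant under all `X`'s, so `⟨e^E⟩ = ⟨e^Sm⟩` for `E = ⟨Sm, X's⟩`;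
* `cen_inj`, `cen_eq`: if `M = ⟨e^Sm⟩` and the form is nondegenerate, then `C_M(Sm) ∩ e^⊥ = 0` and
  `C_M(S) = e` for a conjugate `S` of `Sm` fixing `e`.
-/

set_option autoImplicit false
set_option linter.unusedSectionVars false

namespace Cfsg.Agent.Omega.Lie.SE

open Subgroup Cfsg.Agent.Omega.BTwo Cfsg.Agent.Omega.Lie.Quot Cfsg.Agent.Omega.Lie.LemN
open scoped Pointwise

universe u v w

section abs

variable {H : Type v} {M : Type u} [Group H] [AddCommGroup M] [DistribMulAction H M]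

/-- `⟨e^P⟩` -/
def cl (P : Subgroup H) (e : AddSubgroup M) : AddSubgroup M := ⨆ g : P, (g : H) • e

theorem smul_le_cl {P : Subgroup H} {e : AddSubgroup M} {g : H} (hg : g ∈ P) : g • e ≤ cl P e :=
  le_iSup (fun g : P => (g : H) • e) ⟨g, hg⟩

theorem le_cl (P : Subgroup H) (e : AddSubgroup M) : e ≤ cl P e := by
  have := smul_le_cl (e := e) (one_mem P)
  rwa [one_smul] at this

theorem cl_le {P : Subgroup H} {e Y : AddSubgroup M} (h : ∀ g ∈ P, g • e ≤ Y) : cl P e ≤ Y :=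
  iSup_le fun g => h g g.2

theorem smul_mono {h : H} {X Y : AddSubgroup M} (hXY : X ≤ Y) : h • X ≤ h • Y :=
  AddSubgroup.pointwise_smul_le_pointwise_smul_iff.2 hXY

theorem smul_le_iff {h : H} {X Y : AddSubgroup M} : h • X ≤ Y ↔ X ≤ h⁻¹ • Y := by
  constructor
  · intro hX x hx
    have := hX (AddSubgroup.smul_mem_pointwise_smul x h X hx)
    have h2 := AddSubgroup.smul_mem_pointwise_smul _ h⁻¹ Y this
    rwa [inv_smul_smul] at h2
  · rintro hX _ ⟨x, hx, rfl⟩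
    have h2 := AddSubgroup.smul_mem_pointwise_smul _ h _ (hX hx)
    rw [smul_inv_smul] at h2
    exact h2

theorem smul_iSup_le {ι : Type*} {h : H} {X : ι → AddSubgroup M} {Y : AddSubgroup M} (hX : ∀ i, h • X i ≤ Y) :
    h • (⨆ i, X i) ≤ Y := by
  rw [smul_le_iff]
  exact iSup_le fun i => smul_le_iff.1 (hX i)

theorem smul_cl_le {P : Subgroup H} {e Y : AddSubgroup M} {h : H} (hh : ∀ g ∈ P, h • g • e ≤ Y) :
    h • cl P e ≤ Y := smul_iSup_le fun g => hh g g.2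

theorem cl_mono {P Q : Subgroup H} (e : AddSubgroup M) (h : P ≤ Q) : cl P e ≤ cl Q e :=
  cl_le fun _ hg => smul_le_cl (h hg)

theorem smul_cl_self {P : Subgroup H} {e : AddSubgroup M} {h : H} (hh : h ∈ P) : h • cl P e ≤ cl P e :=
  smul_cl_le fun g hg => by rw [smul_smul]; exact smul_le_cl (mul_mem hh hg)

/-- one rank one group `⟨X, Xm⟩`, with `Sm = Sr Xm` -/
structure Rk (e : AddSubgroup M) (Sm X Xm Sr : Subgroup H) : Prop where
  Xm_le : Xm ≤ Sm
  Sr_le : Sr ≤ Sm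
  fact : ∀ g ∈ Sm, ∃ s ∈ Sr, ∃ x ∈ Xm, g = s * x
  norm : ∀ a ∈ X, ∀ s ∈ Sr, a * s * a⁻¹ ∈ Sr
  inv : ∀ a ∈ X, a • cl Xm e ≤ cl Xm e

variable {e : AddSubgroup M} {Sm X Xm Sr : Subgroup H}

/-- `⟨e^Sm⟩` is invariant under `X` -/
theorem Rk.smul_le (r : Rk e Sm X Xm Sr) {a : H} (ha : a ∈ X) : a • cl Sm e ≤ cl Sm e := by
  refine smul_cl_le fun g hg => ?_
  obtain ⟨s, hs, x, hx, rfl⟩ := r.fact g hg
  have e1 : a • (s * x) • e = (a * s * a⁻¹) • (a • (x • e)) := by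
    rw [smul_smul, smul_smul, smul_smul]
    congr 1
    group
  rw [e1]
  have h1 : a • (x • e) ≤ cl Xm e := (smul_mono (smul_le_cl hx)).trans (r.inv a ha)
  refine (smul_mono h1).trans (smul_cl_le fun y hy => ?_)
  rw [smul_smul]
  exact smul_le_cl (mul_mem (r.Sr_le (r.norm a ha s hs)) (r.Xm_le hy))

/-- the case where the rank one group fixes `e` -/
theorem inv_of_fix (hX : ∀ a ∈ X, a • e = e) (hXm : ∀ a ∈ Xm, a • e = e) : ∀ a ∈ X, a • cl Xm e ≤ cl Xm e := by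
  intro a ha
  refine smul_cl_le fun g hg => ?_
  rw [hXm g hg, hX a ha]
  exact le_cl _ _

/-- the case where the rank one group acts with `(1 + a)(1 + b) M ≤ e` -/
theorem inv_of_quad {n : H} (hX : ∀ a ∈ X, a • e = e)
    (h1 : ∀ a ∈ X, a ≠ 1 → ∃ x ∈ Xm, a • n • e = x • e)
    (h2 : ∀ x ∈ Xm, x ≠ 1 → ∃ a ∈ X, x • e = a • n • e)
    {a b : H} (ha : a ∈ X) (hb : b ∈ X) (ha1 : a ≠ 1) (hb1 : b ≠ 1) (hab : a * b ≠ 1)
    (hq : ∀ m : M, m + a • m + b • m + (a * b) • m ∈ e) : ∀ c ∈ X, c • cl Xm e ≤ cl Xm e := by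
  have h3 : ∀ c ∈ X, c ≠ 1 → c • n • e ≤ cl Xm e := by
    intro c hc hc1
    obtain ⟨x, hx, e1⟩ := h1 c hc hc1
    rw [e1]
    exact smul_le_cl hx
  have h4 : n • e ≤ cl Xm e := by
    intro y hy
    have k1 := h3 a ha ha1 (AddSubgroup.smul_mem_pointwise_smul y a _ hy)
    have k2 := h3 b hb hb1 (AddSubgroup.smul_mem_pointwise_smul y b _ hy)
    have k3 := h3 (a * b) (mul_mem ha hb) hab (AddSubgroup.smul_mem_pointwise_smul y (a * b) _ hy)
    have k4 := le_cl Xm e (hq y)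
    have e1 : y = (y + a • y + b • y + (a * b) • y) - a • y - b • y - (a * b) • y := by abel
    rw [e1]
    exact sub_mem (sub_mem (sub_mem k4 k1) k2) k3
  intro c hc
  refine smul_cl_le fun x hx => ?_
  by_cases hx1 : x = 1
  · rw [hx1, one_smul, hX c hc]
    exact le_cl _ _
  · obtain ⟨d, hd, e1⟩ := h2 x hx hx1
    rw [e1, smul_smul]
    by_cases hcd : c * d = 1
    · rw [hcd, one_smul]; exact h4
    · exact h3 _ (mul_mem hc hd) hcd

/-- **(C1)** `⟨e^Sm⟩` is invariant under the group generated by `Sm` and the `X i` -/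
theorem cl_inv {I : Type*} {X Xm Sr : I → Subgroup H} (r : ∀ i, Rk e Sm (X i) (Xm i) (Sr i)) {E : Subgroup H}
    (hE : E ≤ Sm ⊔ ⨆ i, X i) : ∀ h ∈ E, h • cl Sm e ≤ cl Sm e := by
  -- `h • Y ≤ Y` and `h⁻¹ • Y ≤ Y`
  let N : Subgroup H :=
    { carrier := {h | h • cl Sm e = cl Sm e}
      one_mem' := one_smul _ _
      mul_mem' := by
        intro a b ha hb
        change (a * b) • cl Sm e = cl Sm e
        rw [mul_smul, show b • cl Sm e = cl Sm e from hb]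
        exact ha
      inv_mem' := by
        intro a ha
        change a⁻¹ • cl Sm e = cl Sm e
        rw [inv_smul_eq_iff]
        exact (show a • cl Sm e = cl Sm e from ha).symm }
  have key : ∀ {P : Subgroup H}, (∀ h ∈ P, h • cl Sm e ≤ cl Sm e) → P ≤ N := by
    intro P hP h hh
    refine le_antisymm (hP h hh) ?_
    have := hP h⁻¹ (inv_mem hh)
    rwa [smul_le_iff, inv_inv] at this
  have h1 : E ≤ N := hE.trans (sup_le (key fun h hh => smul_cl_self hh)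
    (iSup_le fun i => key fun h hh => (r i).smul_le hh))
  exact fun h hh => (show h • cl Sm e = cl Sm e from h1 hh).le

/-- **(C1)** `⟨e^E⟩ ≤ ⟨e^Sm⟩` -/
theorem cl_E_le {I : Type*} {X Xm Sr : I → Subgroup H} (r : ∀ i, Rk e Sm (X i) (Xm i) (Sr i)) {E : Subgroup H}
    (hE : E ≤ Sm ⊔ ⨆ i, X i) : cl E e ≤ cl Sm e :=
  cl_le fun h hh => (smul_mono (le_cl Sm e)).trans (cl_inv r hE h hh)

variable {B : Type*} [AddCommGroup B] {f : M →+ M →+ B}

/-- **(C2)** if `M = ⟨e^Sm⟩`, a vector fixed by `Sm` and perpendicular to `e` is 0 -/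
theorem cen_inj (hf : ∀ h ∈ Sm, ∀ x y : M, f (h • x) (h • y) = f x y) (hnd : ∀ x, (∀ y, f x y = 0) → x = 0)
    (hM : cl Sm e = ⊤) {x : M} (hx : ∀ h ∈ Sm, h • x = x) (he : ∀ y ∈ e, f x y = 0) : x = 0 := by
  apply hnd
  have h1 : cl Sm e ≤ (f x).ker := by
    refine cl_le fun g hg => ?_
    rintro _ ⟨y, hy, rfl⟩
    change f x (g • y) = 0
    have h2 := hf g hg x y
    rw [hx g hg] at h2
    rw [h2]
    exact he y hy
  intro y
  exact h1 (hM ▸ AddSubgroup.mem_top y)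

/-- the fixed points -/
def fix (P : Subgroup H) : AddSubgroup M where
  carrier := {x | ∀ h ∈ P, h • x = x}
  zero_mem' := fun h _ => smul_zero h
  add_mem' := by
    intro x y hx hy h hh
    rw [smul_add, hx h hh, hy h hh]
  neg_mem' := by
    intro x hx h hh
    rw [smul_neg, hx h hh]

theorem mem_fix {P : Subgroup H} {x : M} : x ∈ (fix P : AddSubgroup M) ↔ ∀ h ∈ P, h • x = x := Iff.rfl

theorem card_fix_conj {P : Subgroup H} (g : H) :
    Nat.card (fix (M := M) (P.map (MulAut.conj g).toMonoidHom)) = Nat.card (fix (M := M) P) := by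
  symm
  refine Nat.card_congr ⟨fun x => ⟨g • x, ?_⟩, fun x => ⟨g⁻¹ • x, ?_⟩, fun x => ?_, fun x => ?_⟩
  · rintro _ ⟨h, hh, rfl⟩
    change (g * h * g⁻¹) • g • (x : M) = g • (x : M)
    rw [smul_smul, inv_mul_cancel_right, mul_smul, x.2 h hh]
  · intro h hh
    have := x.2 (g * h * g⁻¹) ⟨h, hh, rfl⟩
    rw [mul_smul, mul_smul, ← eq_inv_smul_iff] at this
    exact this
  · apply Subtype.ext
    change g⁻¹ • g • (x : M) = x
    rw [inv_smul_smul]
  · apply Subtype.ext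
    change g • g⁻¹ • (x : M) = x
    rw [smul_inv_smul]

/-- **LEMMA CEN**: `C_M(S) = e` for a conjugate `S` of `Sm` which fixes `e` -/
theorem cen_eq [Finite M] (hf : ∀ h ∈ Sm, ∀ x y : M, f (h • x) (h • y) = f x y)
    (hnd : ∀ x, (∀ y, f x y = 0) → x = 0) (hM : cl Sm e = ⊤) {U : AddSubgroup M}
    (hU : ∀ x, x ∈ U ↔ ∀ y ∈ e, f x y = 0) (hidx : U.index ≤ Nat.card e) {g : H}
    (hS : ∀ h ∈ Sm.map (MulAut.conj g).toMonoidHom, ∀ y ∈ e, h • y = y) {x : M}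
    (hx : ∀ h ∈ Sm.map (MulAut.conj g).toMonoidHom, h • x = x) : x ∈ e := by
  have hbot : (fix Sm : AddSubgroup M) ⊓ U = ⊥ := by
    rw [eq_bot_iff]
    rintro y ⟨hy, hy'⟩
    exact AddSubgroup.mem_bot.2 (cen_inj hf hnd hM hy ((hU y).1 hy'))
  have h1 : Nat.card (fix (M := M) Sm) ≤ U.index := by
    have h2 : Function.Injective (fun y : fix (M := M) Sm => (QuotientAddGroup.mk (y : M) : M ⧸ U)) := by
      intro y z hyz
      have h3 : -(y : M) + z ∈ U := QuotientAddGroup.eq.1 hyz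
      have h4 : -(y : M) + z ∈ (fix Sm : AddSubgroup M) ⊓ U := ⟨AddSubgroup.add_mem _ (AddSubgroup.neg_mem _ y.2) z.2, h3⟩
      rw [hbot, AddSubgroup.mem_bot, neg_add_eq_zero] at h4
      exact Subtype.ext h4
    exact Nat.card_le_card_of_injective _ h2
  have h5 : e ≤ fix (M := M) (Sm.map (MulAut.conj g).toMonoidHom) := fun y hy h hh => hS h hh y hy
  have h6 : Nat.card (fix (M := M) (Sm.map (MulAut.conj g).toMonoidHom)) ≤ Nat.card e := by
    rw [card_fix_conj]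
    exact h1.trans hidx
  have h7 : e = fix (M := M) (Sm.map (MulAut.conj g).toMonoidHom) :=
    by
    refine le_antisymm h5 ?_
    intro y hy
    by_contra hne
    have h8 : (e : Set M) ⊂ (fix (M := M) (Sm.map (MulAut.conj g).toMonoidHom) : Set M) :=
      ⟨h5, fun hle => hne (hle hy)⟩
    have h9 := Set.ncard_lt_ncard h8 (Set.toFinite _)
    exact absurd h6 (not_le.2 h9)
  rw [h7]
  exact hx

/-! ### Rank one data in the group -/

/-- group theoretic data of a rank one group `⟨X, Xm⟩`: `N` is the stabiliser of `e`, `A`, `T` as in NODE LIE.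
Either `X`, `Xm` fix `e`, or `X ≤ A` is moved by `T` and the rank one Bruhat relations hold (`n e = e'`). -/
structure RkG (N A T Sm X Xm Sr : Subgroup H) : Prop where
  Xm_le : Xm ≤ Sm
  Sr_le : Sr ≤ Sm
  fact : ∀ g ∈ Sm, ∃ s ∈ Sr, ∃ x ∈ Xm, g = s * x
  norm : ∀ a ∈ X, ∀ s ∈ Sr, a * s * a⁻¹ ∈ Sr
  X_le : X ≤ N
  alt : Xm ≤ N ∨ (X ≤ A ∧ (∃ a ∈ X, ∃ t ∈ T, t * a * t⁻¹ ∈ X ∧ a ≠ 1 ∧ a * (t * a * t⁻¹) ≠ 1) ∧
    ∃ n : H, (∀ a ∈ X, a ≠ 1 → ∃ x ∈ Xm, x⁻¹ * a * n ∈ N) ∧ (∀ x ∈ Xm, x ≠ 1 → ∃ a ∈ X, x⁻¹ * a * n ∈ N))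

theorem RkG.rk {N A T Sm X Xm Sr : Subgroup H} (r : RkG N A T Sm X Xm Sr) (hN : ∀ h ∈ N, h • e = e)
    (hq : ∀ a ∈ A, ∀ t ∈ T, ∀ m : M, m + a • m + (t * a * t⁻¹) • m + (a * (t * a * t⁻¹)) • m ∈ e) :
    Rk e Sm X Xm Sr where
  Xm_le := r.Xm_le
  Sr_le := r.Sr_le
  fact := r.fact
  norm := r.norm
  inv := by
    have hX : ∀ a ∈ X, a • e = e := fun a ha => hN a (r.X_le ha)
    have key : ∀ {a x n : H}, x⁻¹ * a * n ∈ N → a • n • e = x • e := by
      intro a x n h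
      have h1 := hN _ h
      rw [mul_assoc, mul_smul, inv_smul_eq_iff, mul_smul] at h1
      exact h1
    rcases r.alt with h | ⟨hXA, ⟨a, ha, t, ht, hb, ha1, hab⟩, n, h1, h2⟩
    · exact inv_of_fix hX fun a ha => hN a (h ha)
    · refine inv_of_quad (n := n) hX (fun a ha ha1 => ?_) (fun x hx hx1 => ?_) ha hb ha1 ?_ hab
        (hq a (hXA ha) t ht)
      · obtain ⟨x, hx, h⟩ := h1 a ha ha1
        exact ⟨x, hx, key h⟩
      · obtain ⟨a, ha, h⟩ := h2 x hx hx1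
        exact ⟨a, ha, (key h).symm⟩
      · intro h
        rw [mul_inv_eq_one, mul_eq_left] at h
        exact ha1 h

end abs

/-! ### The real situation -/

section real

variable {G : Type u} [Group G] {ι : Type w} {V : Subgroup G} {R : ι → Subgroup G} {i : ι} {M B : Type u}
  [AddCommGroup M] [AddCommGroup B] [DistribMulAction (NR R i) M] [DistribMulAction (NR R i) B]
  [DistribMulAction (HQ (R i)) M] {p : G → M} {r : G → B} {f : M →+ M →+ B}

/-- the stabiliser of `e = V / R i` in `H` -/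
def NE (V : Subgroup G) (R : ι → Subgroup G) (i : ι) : Subgroup (HQ (R i)) := im (R i) (normalizer (V : Set G))

theorem NE_smul (m : ModQ V R i M B p r f) {h : HQ (R i)} (hh : h ∈ NE V R i) : h • m.sb V = m.sb V := by
  have key : ∀ h ∈ NE V R i, h • m.sb V ≤ m.sb V := by
    intro h hh
    obtain ⟨g, hg, hgV, rfl⟩ := mem_im.1 hh
    rintro _ ⟨y, hy, rfl⟩
    change pr (R i) ⟨g, hg⟩ • y ∈ m.sb V
    rw [m.pr_smul]
    exact m.toModFr.sb_smul (h := ⟨g, hg⟩) hgV hy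
  refine le_antisymm (key h hh) ?_
  have := key h⁻¹ (inv_mem hh)
  rwa [smul_le_iff, inv_inv] at this

/-- `S = (S₁ ∩ C(R i)) / O₂(N(R i))` centralises `e` -/
theorem fix_SS [Finite G] {F : Type v} [Field F] {j : ι} {vv : F → F → G} {w1 w2 : F → G} (b : BT V R)
    (m : ModQ V R i M B p r f) (C : Crd V R i j vv w1 w2) (S₁ : Sylow 2 G)
    (hV : (S₁ : Subgroup G) ≤ normalizer (V : Set G)) (hR : (S₁ : Subgroup G) ≤ normalizer (R i : Set G))
    {h : HQ (R i)} (hh : h ∈ SS R i S₁) {y : M} (hy : y ∈ m.sb V) : h • y = y := by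
  obtain ⟨g, hg, hgS, rfl⟩ := mem_im.1 hh
  obtain ⟨y, hyV, hyW, rfl⟩ := hy
  rw [S_eq b C S₁ hV hR] at hgS
  -- the elements which act trivially on `V / R i`
  let K : Subgroup G :=
    { carrier := {g | g ∈ normalizer (R i : Set G) ∧ ∀ v ∈ V, g * v * g⁻¹ * v⁻¹ ∈ R i}
      one_mem' := ⟨one_mem _, fun v _ => by rw [one_mul, inv_one, mul_one, mul_inv_cancel]; exact one_mem _⟩
      mul_mem' := by
        rintro a c ⟨ha, ha'⟩ ⟨hc, hc'⟩
        refine ⟨mul_mem ha hc, fun v hv => ?_⟩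
        have h1 := conj_mem_of_normalizer ha (hc' v hv)
        have e : a * c * v * (a * c)⁻¹ * v⁻¹ = (a * (c * v * c⁻¹ * v⁻¹) * a⁻¹) * (a * v * a⁻¹ * v⁻¹) := by group
        rw [e]
        exact mul_mem h1 (ha' v hv)
      inv_mem' := by
        rintro a ⟨ha, ha'⟩
        refine ⟨inv_mem ha, fun v hv => ?_⟩
        have h1 := conj_inv_mem_of_normalizer ha (ha' v hv)
        have h2 : a⁻¹ * v * a ∈ V := by
          have h3 : a⁻¹ * (a * v * a⁻¹ * v⁻¹)⁻¹ * a ∈ R i := conj_inv_mem_of_normalizer ha (inv_mem (ha' v hv))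
          have e : a⁻¹ * v * a = (a⁻¹ * (a * v * a⁻¹ * v⁻¹)⁻¹ * a) * v := by group
          rw [e]
          exact mul_mem (b.R_le i h3) hv
        have e : a⁻¹ * v * a⁻¹⁻¹ * v⁻¹ = a⁻¹ * (a * v * a⁻¹ * v⁻¹)⁻¹ * a := by group
        rw [e]
        exact conj_inv_mem_of_normalizer ha (inv_mem (ha' v hv)) }
  have hle : (S₁ : Subgroup G) ⊓ centralizer (V : Set G) ⊔ WW V (R i) ≤ K := by
    refine sup_le ?_ ?_
    · rintro x ⟨-, hx⟩
      refine ⟨b.cen_le_N i hx, fun v hv => ?_⟩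
      rw [← mem_centralizer_iff.1 hx v hv, mul_inv_cancel_right, mul_inv_cancel]
      exact one_mem _
    · intro x hx
      have hxQ := b.W_le_Q i hx
      exact ⟨b.Q_le i hxQ, fun v hv => b.QV i x hxQ v hv⟩
  have h1 := (hle hgS).2 y hyV
  rw [m.act hg hyW, m.p_eq_iff (conj_mem_of_normalizer (normalizer_le_WW V (R i) hg) hyW) hyW]
  exact h1

end real

end Cfsg.Agent.Omega.Lie.SE
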