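import Cfsg.Agent.Omega.Lie.FixD
import Cfsg.Agent.Omega.Lie.QMod
import Cfsg.Agent.Omega.Lie.CrdOf
import Cfsg.Agent.Omega.Lie.ThmD
import Cfsg.Agent.Omega.Lie.SE

/-!
# THEOREM FIX (#15651), final forms

`b : BTC V R`, `c : Coord V R i j ..`, `τ : TorD ..`, `4 ≤ |F|`, `C(W i) ≤ R i` (rad = 0), `A ≠ 1`;
`NE V R i` (Lie/SE.lean) `=` the image of `N(V)` in `H = N(R i) / O₂(N(R i))` `=` the stabiliser of `e` (`mem_NE`).

* `norm_of` (`G`-form of the abstract theorem): `t(a) ∈ Γ ≤ N(R i)`, `[V ^ g, U j] ≤ R i` for `g ∈ Γ`, and some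
  `Q ≤ Γ ⊓ N(V)` has odd index in `Γ`; then `Γ ≤ N(V)`;
* `gam`, `gam_orb` : `T ≤ Gam ≤ H`, `A` centralises `γ e` (`γ ∈ Gam`), and a subgroup of odd index of `Gam` is
  contained in `NE` / the orbit of `e` is odd; then `Gam ≤ NE`;
* `norm_le` : `A ≤ N ≤ H⁰`, `N ⊴ H`: `N_H(S ⊓ N) ≤ NE`;
* **`mul`** : `H = N NE`; `mulG` : `N(R i) = N (N(R i) ⊓ N(V))` for `U j ≤ N ≤ C(R i)`, `N ⊴ N(R i)`;
* `span`, `spanG` : `M = ⟨e ^ N⟩`, `W i = ⟨V ^ N⟩`.
-/

set_option autoImplicit false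
set_option linter.unusedSectionVars false

namespace Cfsg.Agent.Omega.Lie.Fix

open Subgroup Cfsg.Agent.Omega.BTwo Cfsg.Agent.Lib.SL2Mat Cfsg.Agent.Omega.Lie.Quot
open Cfsg.Agent.Omega.Lie.SE (NE cl)
open scoped Pointwise

universe u v w

variable {G : Type u} [Group G] {ι : Type w} {V : Subgroup G} {R : ι → Subgroup G} {i j : ι}

/-- an element acting trivially on `M` normalises `V` -/
theorem Q_le_NV [Finite G] (b : BT V R) (i : ι) : QQ (R i) ≤ normalizer (V : Set G) := by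
  obtain ⟨M, B, _, _, _, _, p, r, f, m⟩ := b.exists_mod i
  have hVW := V_le_WW V (R i)
  intro g hg
  obtain ⟨n, hn, rfl⟩ := hg
  refine mem_normalizer_of_conj fun x hx => ?_
  have h1 : n • p x ∈ m.sb V := by
    rw [m.Q_act b ⟨n, hn, rfl⟩]
    exact m.p_mem (hVW hx) hx
  rw [m.p_act n x (hVW hx)] at h1
  exact (m.p_mem_iff (conj_mem_of_normalizer (normalizer_le_WW V (R i) n.2) (hVW hx)) (b.R_le i)).1 h1

theorem pr_mem_NE [Finite G] (b : BT V R) {g : G} (hg : g ∈ normalizer (R i : Set G)) :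
    pr (R i) ⟨g, hg⟩ ∈ NE V R i ↔ g ∈ normalizer (V : Set G) := pr_mem_im_iff (Q_le_NV b i) hg

/-- `NE` is the stabiliser of `e` -/
theorem mem_NE [Finite G] (b : BT V R) {M B : Type u} [AddCommGroup M] [AddCommGroup B]
    [DistribMulAction (NR R i) M] [DistribMulAction (NR R i) B] [DistribMulAction (HQ (R i)) M]
    {p : G → M} {r : G → B} {f : M →+ M →+ B} (m : ModQ V R i M B p r f)
    {h : HQ (R i)} : h ∈ NE V R i ↔ ∀ x ∈ m.sb V, h • x ∈ m.sb V := by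
  obtain ⟨n, hn, rfl⟩ := exists_pr h
  have hVW := V_le_WW V (R i)
  rw [pr_mem_NE b]
  constructor
  · rintro hnV _ ⟨x, hx, hxW, rfl⟩
    rw [m.pr_smul, m.p_act ⟨n, hn⟩ x hxW]
    exact m.p_mem (conj_mem_of_normalizer (normalizer_le_WW V (R i) hn) hxW) (conj_mem_of_normalizer hnV hx)
  · intro hh
    refine mem_normalizer_of_conj fun v hv => ?_
    have h1 := hh (p v) (m.p_mem (hVW hv) hv)
    rw [m.pr_smul, m.p_act ⟨n, hn⟩ v (hVW hv)] at h1
    exact (m.p_mem_iff (conj_mem_of_normalizer (normalizer_le_WW V (R i) hn) (hVW hv)) (b.R_le i)).1 h1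

theorem mem_NE_iff_le [Finite G] (b : BT V R) {M B : Type u} [AddCommGroup M] [AddCommGroup B]
    [DistribMulAction (NR R i) M] [DistribMulAction (NR R i) B] [DistribMulAction (HQ (R i)) M]
    {p : G → M} {r : G → B} {f : M →+ M →+ B} (m : ModQ V R i M B p r f)
    {h : HQ (R i)} : h ∈ NE V R i ↔ h • m.sb V ≤ m.sb V := by
  rw [mem_NE b m]
  constructor
  · rintro h1 _ ⟨y, hy, rfl⟩
    exact h1 y hy
  · exact fun h1 x hx => h1 (AddSubgroup.smul_mem_pointwise_smul x h _ hx)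

variable {F : Type v} [Field F] {v : F → F → G} {w1 w2 t : F → G}
variable [Finite G] [Finite F] [CharP F 2]

/-- **THEOREM FIX**, abstract theorem in `G` -/
theorem norm_of (b : BTC V R) (c : Coord V R i j v w1 w2) (τ : TorD V R i j v t) (hq : 4 ≤ Nat.card F)
    (hC : centralizer (WW V (R i) : Set G) ≤ R i) (hA : ∃ u ∈ UU V R j, u ∉ DD V R)
    {Γ Q : Subgroup G} (hΓ : Γ ≤ normalizer (R i : Set G)) (hT : ∀ a : F, a ≠ 0 → t a ∈ Γ)
    (hfix : ∀ g ∈ Γ, ∀ u ∈ UU V R j, ∀ x ∈ V, u * (g * x * g⁻¹) * u⁻¹ * (g * x * g⁻¹)⁻¹ ∈ R i)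
    (hQΓ : Q ≤ Γ) (hQ : Q ≤ normalizer (V : Set G)) (hodd : Odd (Q.relIndex Γ)) :
    Γ ≤ normalizer (V : Set G) := by
  obtain ⟨M, B, _, _, _, _, _, p, r, f, φ, s, h⟩ := b.exists_fMod c (LemN.exists_ne hq) hC
  have hVW := V_le_WW V (R i)
  have hcW : ∀ {g x : G}, g ∈ normalizer (R i : Set G) → x ∈ WW V (R i) → g * x * g⁻¹ ∈ WW V (R i) :=
    fun hg hx => conj_mem_of_normalizer (normalizer_le_WW V (R i) hg) hx
  have hv : v 0 1 ∈ V := c.v_mem 0 1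
  intro g hg
  have key := main' (h := h) (τ := τ) (Γ := Γ.subgroupOf (normalizer (R i : Set G)))
    (fun a => mem_subgroupOf.2 (hT a a.ne_zero))
    (fun u hu k hk => ?_) hq hA (Q := Q.subgroupOf (normalizer (R i : Set G)))
    (fun x hx => hQΓ hx) (fun x hx => ?_) ?_ (g := ⟨g, hΓ hg⟩) (mem_subgroupOf.2 hg)
  · obtain ⟨c', hc'⟩ := key
    exact norm_V h hc'
  · rw [h.fr.p_act k _ (hVW hv), h.fr.p_act u _ (hcW k.2 (hVW hv)),
      h.fr.p_eq_iff (hcW u.2 (hcW k.2 (hVW hv))) (hcW k.2 (hVW hv))]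
    exact hfix k (mem_subgroupOf.1 hk) u hu _ hv
  · have h1 : x • p (v 0 1) ∈ h.fr.sb V := by
      rw [h.fr.p_act x _ (hVW hv)]
      exact h.fr.p_mem (hcW x.2 (hVW hv)) (conj_mem_of_normalizer (hQ (mem_subgroupOf.1 hx)) hv)
    obtain ⟨γ, hγ⟩ := h.mem_V.1 h1
    exact ⟨γ, hγ.symm⟩
  · rwa [relIndex_subgroupOf hΓ]

/-- **THEOREM FIX** for `T ≤ Gam ≤ H` -/
theorem gam (b : BTC V R) (c : Coord V R i j v w1 w2) (τ : TorD V R i j v t) (hq : 4 ≤ Nat.card F)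
    (hC : centralizer (WW V (R i) : Set G) ≤ R i) (hA : ∃ a ∈ AA V R i j, a ≠ 1)
    {M B : Type u} [AddCommGroup M] [AddCommGroup B]
    [DistribMulAction (NR R i) M] [DistribMulAction (NR R i) B] [DistribMulAction (HQ (R i)) M]
    {p : G → M} {r : G → B} {f : M →+ M →+ B} (m : ModQ V R i M B p r f)
    {Gam Q : Subgroup (HQ (R i))} (hT : TT τ ≤ Gam)
    (hfix : ∀ g ∈ Gam, ∀ a ∈ AA V R i j, ∀ x ∈ m.sb V, a • g • x = g • x)
    (hQΓ : Q ≤ Gam) (hQ : Q ≤ NE V R i) (hodd : Odd (Q.relIndex Gam)) : Gam ≤ NE V R i := by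
  have hbt := b.toBT
  have hN : ∀ {X : Subgroup (HQ (R i))} {g : G} (hg : g ∈ normalizer (R i : Set G)),
      g ∈ (X.comap (pr (R i))).map (normalizer (R i : Set G)).subtype ↔ pr (R i) ⟨g, hg⟩ ∈ X := by
    intro X g hg
    constructor
    · rintro ⟨x, hx, e⟩
      have : x = ⟨g, hg⟩ := Subtype.ext e
      rwa [← this]
    · exact fun hx => ⟨⟨g, hg⟩, hx, rfl⟩
  have hle : ∀ X : Subgroup (HQ (R i)), (X.comap (pr (R i))).map (normalizer (R i : Set G)).subtype ≤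
      normalizer (R i : Set G) := fun X => map_subtype_le _
  have hVW := V_le_WW V (R i)
  have hcW : ∀ {g x : G}, g ∈ normalizer (R i : Set G) → x ∈ WW V (R i) → g * x * g⁻¹ ∈ WW V (R i) :=
    fun hg hx => conj_mem_of_normalizer (normalizer_le_WW V (R i) hg) hx
  have hA' : ∃ u ∈ UU V R j, u ∉ DD V R := by
    obtain ⟨a, ha, ha1⟩ := hA
    obtain ⟨u, hu, rfl⟩ := QMod.exists_U hbt ha
    exact ⟨u, hu, QMod.notMem_D hbt c.ne hu ha1⟩
  have key := norm_of b c τ hq hC hA' (Γ := (Gam.comap (pr (R i))).map (normalizer (R i : Set G)).subtype)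
    (Q := (Q.comap (pr (R i))).map (normalizer (R i : Set G)).subtype) (hle _)
    (fun a ha => (hN (τ.normR ha)).2 (hT ((mem_TT τ).2 ⟨a, ha, rfl⟩)))
    (fun g hg u hu x hx => ?_) (map_mono (comap_mono hQΓ)) (fun g hg => ?_) ?_
  · intro y hy
    obtain ⟨g, hg, rfl⟩ := exists_pr y
    exact (pr_mem_NE hbt hg).2 (key ((hN hg).2 hy))
  · have hgN := hle _ hg
    have huN : u ∈ normalizer (R i : Set G) := U_le_N hbt i j hu
    have h1 := hfix _ ((hN hgN).1 hg) _ ((mem_AA hbt).2 ⟨u, hu, rfl⟩) (p x) (m.p_mem (hVW hx) hx)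
    rw [m.pr_smul, m.pr_smul, m.p_act ⟨g, hgN⟩ x (hVW hx), m.p_act _ _ (hcW hgN (hVW hx)),
      m.p_eq_iff (hcW huN (hcW hgN (hVW hx))) (hcW hgN (hVW hx))] at h1
    exact h1
  · have hgN := hle _ hg
    exact (pr_mem_NE hbt hgN).1 (hQ ((hN hgN).1 hg))
  · rw [relIndex_map_map_of_injective _ _ (normalizer (R i : Set G)).subtype_injective,
      relIndex_comap, map_comap_eq_self_of_surjective (pr_surjective _)]
    exact hodd

/-- **THEOREM FIX** for `T ≤ Gam ≤ H`, the orbit of `e` is odd -/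
theorem gam_orb (b : BTC V R) (c : Coord V R i j v w1 w2) (τ : TorD V R i j v t) (hq : 4 ≤ Nat.card F)
    (hC : centralizer (WW V (R i) : Set G) ≤ R i) (hA : ∃ a ∈ AA V R i j, a ≠ 1)
    {M B : Type u} [AddCommGroup M] [AddCommGroup B]
    [DistribMulAction (NR R i) M] [DistribMulAction (NR R i) B] [DistribMulAction (HQ (R i)) M]
    {p : G → M} {r : G → B} {f : M →+ M →+ B} (m : ModQ V R i M B p r f)
    {Gam : Subgroup (HQ (R i))} (hT : TT τ ≤ Gam)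
    (hfix : ∀ g ∈ Gam, ∀ a ∈ AA V R i j, ∀ x ∈ m.sb V, a • g • x = g • x)
    (hodd : Odd (Nat.card {e' : AddSubgroup M | ∃ g ∈ Gam, g • m.sb V = e'})) :
    ∀ g ∈ Gam, g • m.sb V ≤ m.sb V := by
  have hbt := b.toBT
  have e : Set.range (fun g : Gam => (g : HQ (R i)) • m.sb V) = {e' : AddSubgroup M | ∃ g ∈ Gam, g • m.sb V = e'} := by
    ext x
    constructor
    · rintro ⟨g, rfl⟩
      exact ⟨g, g.2, rfl⟩
    · rintro ⟨g, hg, rfl⟩
      exact ⟨⟨g, hg⟩, rfl⟩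
  have h1 : (NE V R i ⊓ Gam).relIndex Gam =
      Nat.card {e' : AddSubgroup M | ∃ g ∈ Gam, g • m.sb V = e'} := by
    have h2 := MulAction.index_stabilizer (G := Gam) (x := m.sb V)
    have h3 : MulAction.orbit Gam (m.sb V) = {e' : AddSubgroup M | ∃ g ∈ Gam, g • m.sb V = e'} := by
      rw [← e]; rfl
    rw [h3] at h2
    rw [Nat.card_coe_set_eq, ← h2, inf_relIndex_right]
    unfold relIndex
    congr 1
    ext g
    rw [mem_subgroupOf, MulAction.mem_stabilizer_iff]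
    exact ⟨fun hg => SE.NE_smul m hg, fun hg => (mem_NE_iff_le hbt m).2 (le_of_eq hg)⟩
  have key := gam b c τ hq hC hA m (Q := NE V R i ⊓ Gam) hT hfix inf_le_right inf_le_left (by rw [h1]; exact hodd)
  exact fun g hg => (mem_NE_iff_le hbt m).1 (key hg)

section N

variable (b : BTC V R) (c : Coord V R i j v w1 w2) (τ : TorD V R i j v t) (hq : 4 ≤ Nat.card F)
  (hC : centralizer (WW V (R i) : Set G) ≤ R i) (hA : ∃ a ∈ AA V R i j, a ≠ 1)
  (S₁ : Sylow 2 G) (hV : (S₁ : Subgroup G) ≤ normalizer (V : Set G))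
  (hR : (S₁ : Subgroup G) ≤ normalizer (R i : Set G))
  {N : Subgroup (HQ (R i))} (hN : N.Normal) (hAN : AA V R i j ≤ N)
include b c τ hq hC hA hV hR hN hAN

/-- **THEOREM FIX** for `Γ = N_H(S ⊓ N)` -/
theorem norm_le : normalizer ((SS R i S₁ ⊓ N : Subgroup (HQ (R i))) : Set (HQ (R i))) ≤ NE V R i := by
  have hbt := b.toBT
  have C := CrdOf.crd c
  obtain ⟨M, B, _, _, _, _, _, _, p, r, f, m'⟩ := QMod.exists_q hbt i
  have m : ModQ V R i M B p r f := ⟨m'.toModFr, m'.smul_M⟩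
  obtain ⟨P, hP⟩ := exists_sylow S₁ hR
  have hPS : (P : Subgroup (HQ (R i))) ⊓ H0 R i = SS R i S₁ := by
    rw [hP]
    exact (im_inf (QQ_le_sylow S₁ hR) (Q_le_C hbt i)).symm
  have hH0 : (H0 R i).Normal := QMod.H0_normal m' hbt
  have hPn : (P : Subgroup (HQ (R i))) ≤
      normalizer ((SS R i S₁ ⊓ N : Subgroup (HQ (R i))) : Set (HQ (R i))) := by
    intro x hx
    refine mem_normalizer_of_conj fun y hy => ?_
    obtain ⟨h1, h2⟩ := mem_inf.1 hy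
    rw [← hPS] at h1 ⊢
    exact mem_inf.2 ⟨mem_inf.2 ⟨mul_mem (mul_mem hx (mem_inf.1 h1).1) (inv_mem hx),
      hH0.conj_mem _ (mem_inf.1 h1).2 x⟩, hN.conj_mem _ h2 x⟩
  have hTn : TT τ ≤ normalizer ((SS R i S₁ ⊓ N : Subgroup (HQ (R i))) : Set (HQ (R i))) := by
    intro x hx
    refine mem_normalizer_of_conj fun y hy => ?_
    obtain ⟨h1, h2⟩ := mem_inf.1 hy
    exact mem_inf.2 ⟨TS_mem hbt τ C S₁ hV hR hx h1, hN.conj_mem _ h2 x⟩
  refine gam b c τ hq hC hA m (Q := (P : Subgroup (HQ (R i)))) hTn (fun g hg a ha x hx => ?_) hPn ?_ ?_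
  · have h1 : g⁻¹ * a * g ∈ SS R i S₁ ⊓ N := by
      have h2 := conj_mem_of_normalizer (inv_mem hg) (mem_inf.2 ⟨A_le_S hbt S₁ i j hV ha, hAN ha⟩)
      rwa [inv_inv] at h2
    have h2 := SE.fix_SS hbt m C S₁ hV hR (mem_inf.1 h1).1 hx
    calc a • g • x = g • (g⁻¹ * a * g) • x := by rw [← mul_smul, ← mul_smul]; congr 1; group
      _ = g • x := by rw [h2]
  · rw [hP]; exact im_mono hV
  · have hfact : Fact (Nat.Prime 2) := ⟨Nat.prime_two⟩
    have h1 : Odd (P : Subgroup (HQ (R i))).index := by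
      rw [← Nat.not_even_iff_odd, even_iff_two_dvd]
      exact P.not_dvd_index
    exact h1.of_dvd_nat (relIndex_dvd_index_of_le hPn)

variable (hN0 : N ≤ H0 R i)
include hN0

/-- **(L8)** : `H = N N_H(e)` -/
theorem mul (h : HQ (R i)) : ∃ n ∈ N, ∃ k ∈ NE V R i, h = n * k := by
  have hbt := b.toBT
  obtain ⟨P, hP⟩ := exists_P hbt S₁ hR
  have h1 := ThmD.frattini P N
  have h2 : (P : Subgroup (HQ (R i))) ⊓ N = SS R i S₁ ⊓ N := by
    rw [← hP, inf_assoc, inf_eq_right.2 hN0]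
  rw [h2] at h1
  have h3 : h ∈ normalizer ((SS R i S₁ ⊓ N : Subgroup (HQ (R i))) : Set (HQ (R i))) ⊔ N := by
    rw [h1]; exact mem_top _
  rw [sup_comm, mem_sup_of_normal_left] at h3
  obtain ⟨n, hn, k, hk, rfl⟩ := h3
  exact ⟨n, hn, k, norm_le b c τ hq hC hA S₁ hV hR hN hAN hk, rfl⟩

/-- **(L9)** : `M = ⟨e ^ N⟩` -/
theorem span {M B : Type u} [AddCommGroup M] [AddCommGroup B]
    [DistribMulAction (NR R i) M] [DistribMulAction (NR R i) B] [DistribMulAction (HQ (R i)) M]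
    {p : G → M} {r : G → B} {f : M →+ M →+ B} (m : ModQ V R i M B p r f) : cl N (m.sb V) = ⊤ := by
  refine m.toModFr.gen (fun x a ha => ?_) (SE.le_cl _ _)
  rw [← m.pr_smul]
  obtain ⟨n, hn, k, hk, e⟩ := mul b c τ hq hC hA S₁ hV hR hN hAN hN0 (pr (R i) x)
  have h1 : pr (R i) x • cl N (m.sb V) ≤ cl N (m.sb V) := by
    refine SE.smul_cl_le fun g hg => ?_
    have e2 : pr (R i) x * g = (n * (k * g * k⁻¹)) * k := by rw [e]; group
    rw [← mul_smul, e2, mul_smul, SE.NE_smul m hk]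
    exact SE.smul_le_cl (mul_mem hn (hN.conj_mem _ hg k))
  exact h1 (AddSubgroup.smul_mem_pointwise_smul a _ _ ha)

end N

section G

variable (b : BTC V R) (c : Coord V R i j v w1 w2) (τ : TorD V R i j v t) (hq : 4 ≤ Nat.card F)
  (hC : centralizer (WW V (R i) : Set G) ≤ R i) (hA : ∃ u ∈ UU V R j, u ∉ DD V R)
  (S₁ : Sylow 2 G) (hV : (S₁ : Subgroup G) ≤ normalizer (V : Set G))
  (hR : (S₁ : Subgroup G) ≤ normalizer (R i : Set G))
  {N : Subgroup G} (hN : normalizer (R i : Set G) ≤ normalizer (N : Set G)) (hU : UU V R j ≤ N)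
  (hN0 : N ≤ centralizer (R i : Set G))
include b c τ hq hC hA hV hR hN hU hN0

/-- **(L8)** in `G` : `N(R i) = N (N(R i) ⊓ N(V))` -/
theorem mulG {g : G} (hg : g ∈ normalizer (R i : Set G)) :
    ∃ n ∈ N, ∃ k ∈ normalizer (R i : Set G) ⊓ normalizer (V : Set G), g = n * k := by
  have hbt := b.toBT
  have hNN : N ≤ normalizer (R i : Set G) := hN0.trans (centralizer_le_normalizer _)
  have h1 : (im (R i) N).Normal := by
    constructor
    intro x hx y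
    obtain ⟨x', hx', hxN, rfl⟩ := mem_im.1 hx
    obtain ⟨y', hy', rfl⟩ := exists_pr y
    exact mem_im.2 ⟨_, mul_mem (mul_mem hy' hx') (inv_mem hy'), conj_mem_of_normalizer (hN hy') hxN, rfl⟩
  have h2 : ∃ a ∈ AA V R i j, a ≠ 1 := by
    obtain ⟨u, hu, hD⟩ := hA
    exact ⟨_, (mem_AA hbt).2 ⟨u, hu, rfl⟩, fun h0 => hD ((U_inf_Q hbt c.ne hu).1 ((pr_eq_one _).1 h0))⟩
  obtain ⟨n', hn', k', hk', e⟩ := mul b c τ hq hC h2 S₁ hV hR h1 (im_mono hU) (im_mono hN0) (pr (R i) ⟨g, hg⟩)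
  obtain ⟨n, hn, hnN, rfl⟩ := mem_im.1 hn'
  refine ⟨n, hnN, n⁻¹ * g, mem_inf.2 ⟨mul_mem (inv_mem hn) hg, ?_⟩, by group⟩
  have h3 : pr (R i) ⟨n⁻¹ * g, mul_mem (inv_mem hn) hg⟩ = k' := by
    have e1 : (⟨n⁻¹ * g, mul_mem (inv_mem hn) hg⟩ : NR R i) = (⟨n, hn⟩ : NR R i)⁻¹ * ⟨g, hg⟩ := rfl
    rw [e1, map_mul, map_inv, e, inv_mul_cancel_left]
  rw [← h3] at hk'
  exact (pr_mem_NE hbt _).1 hk'

/-- **(L9)** in `G` : `W i = ⟨V ^ N⟩` -/
theorem spanG {X : Subgroup G} (hX : ∀ n ∈ N, ∀ x ∈ V, n * x * n⁻¹ ∈ X) : WW V (R i) ≤ X := by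
  unfold WW
  refine iSup_le fun g => ?_
  rintro _ ⟨x, hx, rfl⟩
  obtain ⟨n, hn, k, hk, e⟩ := mulG b c τ hq hC hA S₁ hV hR hN hU hN0 g.2
  change (g : G) * x * (g : G)⁻¹ ∈ X
  have e2 : n * k * x * (n * k)⁻¹ = n * (k * x * k⁻¹) * n⁻¹ := by group
  rw [e, e2]
  exact hX n hn _ (conj_mem_of_normalizer (mem_inf.1 hk).2 hx)

end G

end Cfsg.Agent.Omega.Lie.Fix
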