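import Mathlib

/-!
# LEMMA HOM (THEOREM FIX, NODE LIE (L9)): homologies in characteristic 2

`HomSys D ph`: `D` is a set of nonzero vectors of an `F`-space, closed under nonzero scalars, `ph d` a functional with
`ph d d = 1`; the homologies `hh ph d μ : v ↦ v + (μ + 1) ph d v • d` map `D` to `D` and are compatible with `ph`.

* `HomSys.sym`, `HomSys.inv` : `ph d y = (ph y d)⁻¹` for `d, y ∈ D`;
* **`HomSys.perp`** : if `|D|` is odd, `|F| ≥ 4` and a group which is compatible with `ph` is transitive on `D`, then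
  `ph d y = 0` for `d, y ∈ D` non-proportional.
-/

set_option autoImplicit false
set_option linter.unusedSectionVars false

namespace Cfsg.Agent.Omega.Lie.HomLem

universe u v

variable {F : Type u} [Field F] {C : Type v} [AddCommGroup C] [Module F C]

/-- the homology with centre `d`, axis `ker (ph d)` and factor `μ` (characteristic 2) -/
def hh (ph : C → C →ₗ[F] F) (d : C) (μ : F) (v : C) : C := v + ((μ + 1) * ph d v) • d

/-- system of homologies -/
structure HomSys (D : Set C) (ph : C → C →ₗ[F] F) : Prop where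
  smul : ∀ d ∈ D, ∀ c : F, c ≠ 0 → c • d ∈ D
  self : ∀ d ∈ D, ph d d = 1
  ph_smul : ∀ d ∈ D, ∀ c : F, c ≠ 0 → ∀ v ∈ D, ph (c • d) v = c⁻¹ * ph d v
  mem : ∀ d ∈ D, ∀ μ : F, μ ≠ 0 → ∀ y ∈ D, hh ph d μ y ∈ D
  equi : ∀ d ∈ D, ∀ μ : F, μ ≠ 0 → ∀ y ∈ D, ∀ v ∈ D, ph (hh ph d μ y) (hh ph d μ v) = ph y v

variable {ph : C → C →ₗ[F] F}

theorem ph_hh (d x : C) (μ : F) (v : C) : ph x (hh ph d μ v) = ph x v + (μ + 1) * ph d v * ph x d := by
  unfold hh
  rw [map_add, map_smul, smul_eq_mul]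

section two

variable [CharP F 2]

theorem two0 (F : Type u) [Field F] [CharP F 2] : (2 : F) = 0 := CharP.cast_eq_zero F 2

theorem smul2 (F : Type u) [Field F] [CharP F 2] {C : Type v} [AddCommGroup C] [Module F C] (v : C) :
    v + v = 0 := by
  have h : (2 : F) • v = 0 := by rw [two0 F, zero_smul]
  rwa [two_smul] at h

theorem hh_self {d : C} (hd : ph d d = 1) (μ : F) : hh ph d μ d = μ • d := by
  have h2 := two0 F
  unfold hh
  rw [hd]
  match_scalars
  linear_combination h2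

theorem hh_inv {d : C} (hd : ph d d = 1) {μ : F} (hμ : μ ≠ 0) (v : C) :
    hh ph d μ (hh ph d μ⁻¹ v) = v := by
  have h2 := two0 F
  have e : hh ph d μ (hh ph d μ⁻¹ v) = hh ph d μ⁻¹ v + ((μ + 1) * ph d (hh ph d μ⁻¹ v)) • d := rfl
  rw [e, ph_hh, hd]
  unfold hh
  match_scalars
  · ring
  · have h3 : μ * μ⁻¹ = 1 := mul_inv_cancel₀ hμ
    linear_combination (ph d v) * h3 + (μ⁻¹ + 2 + μ) * ph d v * h2

/-- formula for a product of two homologies -/
theorem hh_hh {y y' : C} (h : ph y' y = 1) {l : F} (hl : l ≠ 0) (v : C) :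
    hh ph y' l⁻¹ (hh ph y l v) =
      v + ((l + 1) * ph y v) • (y + y') + ((l⁻¹ + 1) * (ph y v + ph y' v)) • y' := by
  have h2 := two0 F
  have e : hh ph y' l⁻¹ (hh ph y l v) = hh ph y l v + ((l⁻¹ + 1) * ph y' (hh ph y l v)) • y' := rfl
  rw [e, ph_hh, h]
  unfold hh
  have h3 : l⁻¹ * l = 1 := inv_mul_cancel₀ hl
  match_scalars
  · ring
  · ring
  · linear_combination (ph y v) * h3

end two

namespace HomSys

variable {D : Set C} (h : HomSys D ph)
include h

theorem ne_zero {d : C} (hd : d ∈ D) : d ≠ 0 := by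
  rintro rfl
  have := h.self _ hd
  rw [map_zero] at this
  exact zero_ne_one this

variable [CharP F 2]

theorem equi' {d : C} (hd : d ∈ D) {μ : F} (hμ : μ ≠ 0) {y : C} (hy : y ∈ D) {v : C} (hv : v ∈ D) :
    ph (hh ph d μ y) v = ph y (hh ph d μ⁻¹ v) := by
  have h1 := h.equi d hd μ hμ y hy (hh ph d μ⁻¹ v) (h.mem d hd _ (inv_ne_zero hμ) v hv)
  rwa [hh_inv (h.self d hd) hμ] at h1

theorem sym (hF : ∃ a : F, a ≠ 0 ∧ a ≠ 1) {d y : C} (hd : d ∈ D) (hy : y ∈ D) (h0 : ph d y = 0) :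
    ph y d = 0 := by
  obtain ⟨a, ha, ha1⟩ := hF
  have h1 := h.equi d hd a ha y hy d hd
  have e : hh ph d a y = y := by
    unfold hh
    rw [h0, mul_zero, zero_smul, add_zero]
  rw [e, hh_self (h.self d hd), map_smul, smul_eq_mul] at h1
  have h2 : (a - 1) * ph y d = 0 := by linear_combination h1
  rcases mul_eq_zero.1 h2 with h3 | h3
  · exact absurd (sub_eq_zero.1 h3) ha1
  · exact h3

/-- the pair lemma -/
theorem pair (hF : ∃ a : F, a ≠ 0 ∧ a ≠ 1) {d y : C} (hd : d ∈ D) (hy : y ∈ D) (hc : ph d y ≠ 0) :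
    y + ph d y • d ∉ D := by
  intro ha
  have h2 := two0 F
  set c := ph d y with hcd
  set a := y + c • d with had
  have hdd := h.self d hd
  have haa := h.self a ha
  have hda : ph d a = 0 := by
    rw [had, map_add, map_smul, hdd, smul_eq_mul, mul_one, ← hcd]
    linear_combination c * h2
  have had0 : ph a d = 0 := h.sym hF hd ha hda
  -- `x = d + a ∈ D`
  have hx : d + a ∈ D := by
    have h1 := h.mem d hd c⁻¹ (inv_ne_zero hc) y hy
    have e : hh ph d c⁻¹ y = d + a := by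
      unfold hh
      rw [← hcd, had, add_mul, inv_mul_cancel₀ hc]
      match_scalars
      · ring
      · ring
    rwa [e] at h1
  set x := d + a with hxd
  have hxx := h.self x hx
  set p := ph x d with hp
  have hxa : ph x a = 1 + p := by
    have h1 : ph x x = ph x d + ph x a := by
      conv_lhs => rw [hxd]
      rw [map_add]
    rw [hxx, ← hp] at h1
    linear_combination (-1 : F) * h1 - p * h2
  have hdx : ph d x = 1 := by rw [hxd, map_add, hdd, hda, add_zero]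
  have hax : ph a x = 1 := by rw [hxd, map_add, had0, haa, zero_add]
  have hp0 : p ≠ 0 := by
    intro h0
    have := h.sym hF hx hd h0
    rw [hdx] at this
    exact one_ne_zero this
  have hp1 : 1 + p ≠ 0 := by
    intro h0
    have := h.sym hF hx ha (hxa.trans h0)
    rw [hax] at this
    exact one_ne_zero this
  -- `z = p d + (1 + p) a`
  have hz1 : hh ph x p⁻¹ d = p • d + (1 + p) • a := by
    unfold hh
    rw [← hp, add_mul, inv_mul_cancel₀ hp0, hxd]
    match_scalars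
    · linear_combination h2
    · ring
  have hμ : p * (1 + p)⁻¹ ≠ 0 := mul_ne_zero hp0 (inv_ne_zero hp1)
  have hz2 : (1 + p) • hh ph d (p * (1 + p)⁻¹) x = p • d + (1 + p) • a := by
    unfold hh
    rw [hdx, hxd]
    match_scalars
    · field_simp
      linear_combination (1 + p) * h2
    · ring
  -- first computation
  have e1 : ph (hh ph x p⁻¹ d) d = 1 + (p + 1) * p := by
    rw [h.equi' hx (inv_ne_zero hp0) hd hd, inv_inv, ph_hh, hdd, ← hp, hdx, mul_one]
  have e2 : ph ((1 + p) • hh ph d (p * (1 + p)⁻¹) x) d = 1 := by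
    rw [h.ph_smul _ (h.mem d hd _ hμ x hx) _ hp1 _ hd, h.equi' hd hμ hx hd, hh_self hdd, map_smul, smul_eq_mul, ← hp]
    field_simp
  rw [hz1, ← hz2, e2] at e1
  have e3 : (1 + p) * p = 0 := by linear_combination (-1 : F) * e1
  rcases mul_eq_zero.1 e3 with h3 | h3
  · exact hp1 h3
  · exact hp0 h3

/-- `ph d y = (ph y d)⁻¹` on `D` -/
theorem inv (hF : ∃ a : F, a ≠ 0 ∧ a ≠ 1) {d y : C} (hd : d ∈ D) (hy : y ∈ D) :
    ph d y = (ph y d)⁻¹ := by
  have h2 := two0 F
  by_cases hc : ph d y = 0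
  · rw [hc, h.sym hF hd hy hc, inv_zero]
  have hc' : ph y d ≠ 0 := fun h0 => hc (h.sym hF hy hd h0)
  by_contra hne
  have hne' : ph d y * ph y d ≠ 1 := fun h1 => hne (eq_inv_of_mul_eq_one_left h1)
  have hμ : 1 + (ph d y * ph y d)⁻¹ ≠ 0 := by
    intro h0
    have h3 : (ph d y * ph y d)⁻¹ = 1 := by linear_combination h0 - h2
    exact hne' (inv_eq_one.1 h3)
  have h1 := h.smul _ (h.mem y hy _ hμ d hd) (ph d y) hc
  apply h.pair hF hd hy hc
  have e : y + ph d y • d = ph d y • hh ph y (1 + (ph d y * ph y d)⁻¹) d := by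
    unfold hh
    match_scalars
    · have e3 : (ph d y * ph y d)⁻¹ * (ph d y * ph y d) = 1 := inv_mul_cancel₀ (mul_ne_zero hc hc')
      linear_combination (-1 : F) * e3 - ph d y * ph y d * h2
    · ring
  rw [e]
  exact h1

theorem ph_ne (hF : ∃ a : F, a ≠ 0 ∧ a ≠ 1) {d y : C} (hd : d ∈ D) (hy : y ∈ D) (hc : ph d y ≠ 0) :
    ph y d ≠ 0 := fun h0 => hc (h.sym hF hy hd h0)

/-- `y` and `hh d μ y` are not perpendicular -/
theorem ph_hh_ne (hF : ∃ a : F, a ≠ 0 ∧ a ≠ 1) {d y : C} (hd : d ∈ D) (hy : y ∈ D) {μ : F} (hμ : μ ≠ 0) :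
    ph y (hh ph d μ y) ≠ 0 := by
  have h2 := two0 F
  rw [ph_hh, h.self y hy]
  by_cases hc : ph d y = 0
  · rw [hc, mul_zero, zero_mul, add_zero]
    exact one_ne_zero
  · have e : ph d y * ph y d = 1 := by
      rw [h.inv hF hd hy]
      exact inv_mul_cancel₀ (h.ph_ne hF hd hy hc)
    have e2 : 1 + (μ + 1) * ph d y * ph y d = μ := by linear_combination (μ + 1) * e + h2
    rw [e2]
    exact hμ

/-! ### the vector `a` -/

/-- `v + β a ∈ D` for one `β ≠ 0` implies all -/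
theorem all (hF : ∃ a : F, a ≠ 0 ∧ a ≠ 1) {v a : C} (hv : v ∈ D) (hva : ph v a = 0) {β : F} (hβ : β ≠ 0)
    (hb : v + β • a ∈ D) (γ : F) : v + γ • a ∈ D := by
  have _ := hF
  have h2 := two0 F
  by_cases hγ : γ = 0
  · rw [hγ, zero_smul, add_zero]; exact hv
  have hμ : β * γ⁻¹ ≠ 0 := mul_ne_zero hβ (inv_ne_zero hγ)
  have h1 := h.smul _ (h.mem v hv _ hμ _ hb) (γ * β⁻¹) (mul_ne_zero hγ (inv_ne_zero hβ))
  have e : (γ * β⁻¹) • hh ph v (β * γ⁻¹) (v + β • a) = v + γ • a := by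
    unfold hh
    rw [map_add, map_smul, h.self v hv, hva, smul_zero, add_zero]
    match_scalars
    · field_simp
      linear_combination γ * h2
    · field_simp
  rwa [e] at h1

/-- (i) -/
theorem step1 (hF : ∃ a : F, a ≠ 0 ∧ a ≠ 1) {v y a : C} (hv : v ∈ D) (hva : ph v a = 0) (hy : y ∈ D)
    (hya : ph y a = 0) (hya' : y + a ∈ D) (hyv : ph y v ≠ 0) : ∃ β : F, β ≠ 0 ∧ v + β • a ∈ D := by
  have h2 := two0 F
  obtain ⟨l, hl, hl1⟩ := hF
  have hF : ∃ a : F, a ≠ 0 ∧ a ≠ 1 := ⟨l, hl, hl1⟩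
  have hl1' : l + 1 ≠ 0 := by
    intro h0
    apply hl1
    linear_combination h0 - h2
  have hyy' : ph y (y + a) = 1 := by rw [map_add, h.self y hy, hya, add_zero]
  have hy'y : ph (y + a) y = 1 := by rw [h.inv hF hya' hy, hyy', inv_one]
  refine ⟨(l + 1) * ph y v, mul_ne_zero hl1' hyv, ?_⟩
  have h1 := h.mem _ hya' l⁻¹ (inv_ne_zero hl) _ (h.mem y hy l hl v hv)
  rw [hh_hh hy'y hl] at h1
  have e1 : ph (y + a) v = ph y v := by
    rw [h.inv hF hya' hv, map_add, hva, add_zero, ← h.inv hF hy hv]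
  have e2 : ph y v + ph (y + a) v = 0 := by rw [e1]; linear_combination (ph y v) * h2
  have e3 : y + (y + a) = a := by rw [← add_assoc, smul2 F, zero_add]
  rw [e2, mul_zero, zero_smul, add_zero, e3] at h1
  exact h1

/-- the transvection `τ = g²` -/
def tau (ph : C → C →ₗ[F] F) (x x' : C) (l : F) (v : C) : C :=
  hh ph x' l⁻¹ (hh ph x l (hh ph x' l⁻¹ (hh ph x l v)))

theorem tau_eq {x x' : C} (hx : x ∈ D) (hx' : x' ∈ D) (h1 : ph x x' = 1) (h1' : ph x' x = 1) {l : F} (hl : l ≠ 0)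
    (v : C) : tau ph x x' l v = v + ((l + l⁻¹) * (ph x v + ph x' v)) • (x + x') := by
  have h2 := two0 F
  unfold tau
  rw [hh_hh h1' hl, hh_hh h1' hl]
  simp only [map_add, map_smul, smul_eq_mul, h.self x hx, h.self x' hx', h1, h1']
  have h3 : l * l⁻¹ = 1 := mul_inv_cancel₀ hl
  match_scalars
  · ring
  · linear_combination (ph x v + ph x' v) * h3 + (3 * l * ph x v + l ^ 2 * ph x v + 3 * ph x v + ph x' v) * h2
  · linear_combination (ph x v + ph x' v) * h3 + (5 * l * ph x v + 2 * l * ph x v * l⁻¹ + l ^ 2 * ph x v +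
      7 * ph x v + 5 * ph x v * l⁻¹ + ph x v * l⁻¹ ^ 2 + 3 * l⁻¹ * ph x' v + l⁻¹ ^ 2 * ph x' v + 3 * ph x' v) * h2

theorem tau_mem {x x' : C} (hx : x ∈ D) (hx' : x' ∈ D) {l : F} (hl : l ≠ 0) {v : C} (hv : v ∈ D) :
    tau ph x x' l v ∈ D :=
  h.mem _ hx' _ (inv_ne_zero hl) _ (h.mem _ hx _ hl _ (h.mem _ hx' _ (inv_ne_zero hl) _ (h.mem _ hx _ hl _ hv)))

theorem tau_equi {x x' : C} (hx : x ∈ D) (hx' : x' ∈ D) {l : F} (hl : l ≠ 0) {y : C} (hy : y ∈ D) {v : C}
    (hv : v ∈ D) : ph (tau ph x x' l y) (tau ph x x' l v) = ph y v := by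
  unfold tau
  have hl' := inv_ne_zero hl
  have k1 := h.mem _ hx _ hl _ hy
  have k2 := h.mem _ hx' _ hl' _ k1
  have k3 := h.mem _ hx _ hl _ k2
  have j1 := h.mem _ hx _ hl _ hv
  have j2 := h.mem _ hx' _ hl' _ j1
  have j3 := h.mem _ hx _ hl _ j2
  rw [h.equi _ hx' _ hl' _ k3 _ j3, h.equi _ hx _ hl _ k2 _ j2, h.equi _ hx' _ hl' _ k1 _ j1,
    h.equi _ hx _ hl _ hy _ hv]

/-- `φ_d(a) = 0 ↔ ψ(d) = 0` -/
theorem psi_iff (hF : ∃ a : F, a ≠ 0 ∧ a ≠ 1) {x x' d : C} (hx : x ∈ D) (hx' : x' ∈ D) (hd : d ∈ D) :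
    ph d (x + x') = 0 ↔ ph x d + ph x' d = 0 := by
  have h2 := two0 F
  have k : ∀ s t : F, s + t = 0 ↔ s = t := fun s t =>
    ⟨fun e => by linear_combination e - t * h2, fun e => by linear_combination e + t * h2⟩
  rw [map_add, h.inv hF hd hx, h.inv hF hd hx', k, k]
  exact inv_inj

/-- (ii) -/
theorem step2 (hF : ∃ a : F, a ≠ 0 ∧ a ≠ 1) {x x' v w : C} (hx : x ∈ D) (hx' : x' ∈ D) (h1 : ph x x' = 1)
    (hv : v ∈ D) (hva : ph v (x + x') = 0) (hw : w ∈ D) (hwa : ph x w + ph x' w ≠ 0) (hwv : ph w v ≠ 0) :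
    ∃ β : F, β ≠ 0 ∧ v + β • (x + x') ∈ D := by
  have h2 := two0 F
  obtain ⟨l, hl, hl1⟩ := hF
  have hF : ∃ a : F, a ≠ 0 ∧ a ≠ 1 := ⟨l, hl, hl1⟩
  have hl1' : l + 1 ≠ 0 := by
    intro h0
    apply hl1
    linear_combination h0 - h2
  have h1' : ph x' x = 1 := by rw [h.inv hF hx' hx, h1, inv_one]
  have hκ : l + l⁻¹ ≠ 0 := by
    intro h0
    have h3 : l * l⁻¹ = 1 := mul_inv_cancel₀ hl
    have h4 : (l + 1) * (l + 1) = 0 := by linear_combination l * h0 - h3 + l * h2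
    exact hl1' (mul_self_eq_zero.1 h4)
  set ε := (l + l⁻¹) * (ph x w + ph x' w) with hε
  have hε0 : ε ≠ 0 := mul_ne_zero hκ hwa
  set w' := tau ph x x' l w with hw'
  have hw'D : w' ∈ D := h.tau_mem hx hx' hl hw
  have e1 : w' = w + ε • (x + x') := h.tau_eq hx hx' h1 h1' hl w
  -- `τ w' = w`
  have e2 : tau ph x x' l w' = w := by
    rw [h.tau_eq hx hx' h1 h1' hl, e1]
    simp only [map_add, map_smul, smul_eq_mul, h.self x hx, h.self x' hx', h1, h1']
    have e3 : (l + l⁻¹) * (ph x w + ε * (1 + 1) + (ph x' w + ε * (1 + 1))) = ε := by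
      rw [hε]
      linear_combination ((l + l⁻¹) * 2 * ((l + l⁻¹) * (ph x w + ph x' w))) * h2
    rw [e3, add_assoc, ← add_smul, show ε + ε = 0 by linear_combination ε * h2, zero_smul, add_zero]
  have e3 : ph w' w = ph w w' := by
    have := h.tau_equi hx hx' hl hw hw'D
    rwa [e2] at this
  have e4 : ph w w' = 0 := by
    by_contra hne
    have e5 : ph w w' * ph w w' = 1 := by
      nth_rw 1 [h.inv hF hw hw'D, e3]
      exact inv_mul_cancel₀ hne
    have e6 : (ph w w' + 1) * (ph w w' + 1) = 0 := by linear_combination e5 + (ph w w' + 1) * h2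
    have e7 := mul_self_eq_zero.1 e6
    rw [e1, map_add, map_smul, smul_eq_mul, h.self w hw] at e7
    have e8 : ε * ph w (x + x') = 0 := by linear_combination e7 - h2
    rcases mul_eq_zero.1 e8 with h9 | h9
    · exact hε0 h9
    · exact hwa ((h.psi_iff hF hx hx' hw).1 h9)
  have e5 : ph w' v = ph w v := by
    rw [h.inv hF hw'D hv, e1, map_add, map_smul, hva, smul_zero, add_zero, ← h.inv hF hw hv]
  refine ⟨(l + 1) * ph w v * ε, mul_ne_zero (mul_ne_zero hl1' hwv) hε0, ?_⟩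
  have h5 := h.mem _ hw'D l hl _ (h.mem w hw l hl v hv)
  have e6 : hh ph w' l (hh ph w l v) = v + ((l + 1) * ph w v * ε) • (x + x') := by
    have e7 : hh ph w' l (hh ph w l v) = hh ph w l v + ((l + 1) * ph w' (hh ph w l v)) • w' := rfl
    rw [e7, ph_hh, e3, e4, mul_zero, add_zero, e5]
    unfold hh
    rw [e1]
    match_scalars
    · ring
    · linear_combination ((l + 1) * ph w v) * h2
    · ring
    · ring
  rwa [e6] at h5

/-! ### components -/

/-- the graph on `D` -/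
def Adj (D : Set C) (ph : C → C →ₗ[F] F) (u v : D) : Prop := ph (u : C) (v : C) ≠ 0

/-- the component -/
def Cmp (D : Set C) (ph : C → C →ₗ[F] F) (u v : D) : Prop := Relation.ReflTransGen (Adj D ph) u v

theorem adj_symm (hF : ∃ a : F, a ≠ 0 ∧ a ≠ 1) {u v : D} (huv : Adj D ph u v) : Adj D ph v u :=
  h.ph_ne hF u.2 v.2 huv

theorem cmp_symm (hF : ∃ a : F, a ≠ 0 ∧ a ≠ 1) {u v : D} (huv : Cmp D ph u v) : Cmp D ph v u := by
  induction huv with
  | refl => exact Relation.ReflTransGen.refl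
  | tail _ h2 ih => exact Relation.ReflTransGen.head (h.adj_symm hF h2) ih

/-- the component as a setoid -/
def std (hF : ∃ a : F, a ≠ 0 ∧ a ≠ 1) : Setoid D where
  r := Cmp D ph
  iseqv := ⟨fun _ => Relation.ReflTransGen.refl, fun e => h.cmp_symm hF e, fun e e' => e.trans e'⟩

theorem cmp_hh (hF : ∃ a : F, a ≠ 0 ∧ a ≠ 1) {u v : D} (huv : Cmp D ph u v) {d : C} (hd : d ∈ D) {μ : F}
    (hμ : μ ≠ 0) : Cmp D ph u ⟨hh ph d μ v, h.mem d hd μ hμ v v.2⟩ :=
  huv.tail (h.ph_hh_ne hF hd v.2 hμ)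

theorem cmp_tau (hF : ∃ a : F, a ≠ 0 ∧ a ≠ 1) {u v : D} (huv : Cmp D ph u v) {x x' : C} (hx : x ∈ D)
    (hx' : x' ∈ D) {l : F} (hl : l ≠ 0) : Cmp D ph u ⟨tau ph x x' l v, h.tau_mem hx hx' hl v.2⟩ :=
  h.cmp_hh hF (h.cmp_hh hF (h.cmp_hh hF (h.cmp_hh hF huv hx hl) hx' (inv_ne_zero hl)) hx hl) hx'
    (inv_ne_zero hl)

/-- in the component of `x`, `ψ(v) = 0` implies `v ∈ Λ_a` -/
theorem cmp_all (hF : ∃ a : F, a ≠ 0 ∧ a ≠ 1) {x x' : C} (hx : x ∈ D) (hx' : x' ∈ D) (h1 : ph x x' = 1)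
    {v : D} (hv : Cmp D ph ⟨x, hx⟩ v) (hv0 : ph x (v : C) + ph x' (v : C) = 0) (γ : F) :
    (v : C) + γ • (x + x') ∈ D := by
  have h2 := two0 F
  have h1' : ph x' x = 1 := by rw [h.inv hF hx' hx, h1, inv_one]
  suffices H : ph x (v : C) + ph x' (v : C) = 0 → ∃ β : F, β ≠ 0 ∧ (v : C) + β • (x + x') ∈ D by
    obtain ⟨β, hβ, hb⟩ := H hv0
    exact h.all hF v.2 ((h.psi_iff hF hx hx' v.2).2 hv0) hβ hb γ
  induction hv with
  | refl =>
    intro _
    refine ⟨1, one_ne_zero, ?_⟩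
    change x + (1 : F) • (x + x') ∈ D
    rw [one_smul, ← add_assoc, smul2 F, zero_add]
    exact hx'
  | @tail u v hu huv ih =>
    intro hv0
    have hva := (h.psi_iff hF hx hx' v.2).2 hv0
    by_cases hu0 : ph x (u : C) + ph x' (u : C) = 0
    · obtain ⟨β, hβ, hb⟩ := ih hu0 hu0
      have hua := (h.psi_iff hF hx hx' u.2).2 hu0
      have hb1 := h.all hF u.2 hua hβ hb 1
      rw [one_smul] at hb1
      exact h.step1 hF v.2 hva u.2 hua hb1 huv
    · exact h.step2 hF hx hx' h1 v.2 hva u.2 hu0 huv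

omit h [CharP F 2] [Field F] [AddCommGroup C] [Module F C] in
theorem end_sq {X : Type*} (t : Function.End X) (ht : ∀ v, t (t v) = v) : t ^ 2 ^ 1 = 1 := by
  rw [pow_one, pow_two]
  funext v
  exact ht v

/-- the component of `x` has even order -/
theorem even_cmp (hF : ∃ a : F, a ≠ 0 ∧ a ≠ 1) [Finite D] {x x' : C} (hx : x ∈ D) (hx' : x' ∈ D)
    (h1 : ph x x' = 1) (hne : x ≠ x') : Even (Nat.card {v : D // Cmp D ph ⟨x, hx⟩ v}) := by
  classical
  have h2 := two0 F
  obtain ⟨l, hl, hl1⟩ := hF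
  have hF : ∃ a : F, a ≠ 0 ∧ a ≠ 1 := ⟨l, hl, hl1⟩
  have h1' : ph x' x = 1 := by rw [h.inv hF hx' hx, h1, inv_one]
  have hκ : l + l⁻¹ ≠ 0 := by
    intro h0
    have h3 : l * l⁻¹ = 1 := mul_inv_cancel₀ hl
    have h4 : (l + 1) * (l + 1) = 0 := by linear_combination l * h0 - h3 + l * h2
    have h5 := mul_self_eq_zero.1 h4
    apply hl1
    linear_combination h5 - h2
  have ha0 : x + x' ≠ 0 := by
    intro h0
    apply hne
    have h3 := smul2 F x'
    have h4 : x + x' + x' = x' := by rw [h0, zero_add]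
    rwa [add_assoc, h3, add_zero] at h4
  have hpa : ∀ (v : C) (γ : F), ph x (v + γ • (x + x')) + ph x' (v + γ • (x + x')) = ph x v + ph x' v := by
    intro v γ
    simp only [map_add, map_smul, smul_eq_mul, h.self x hx, h.self x' hx', h1, h1']
    linear_combination (2 * γ) * h2
  -- the involution
  let th : {v : D // Cmp D ph ⟨x, hx⟩ v} → {v : D // Cmp D ph ⟨x, hx⟩ v} := fun v =>
    if hv : ph x (v : C) + ph x' (v : C) = 0 then
      ⟨⟨(v : C) + (1 : F) • (x + x'), h.cmp_all hF hx hx' h1 v.2 hv 1⟩, v.2.tail (by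
        change ph (v : C) ((v : C) + (1 : F) • (x + x')) ≠ 0
        rw [map_add, map_smul, h.self _ v.1.2, (h.psi_iff hF hx hx' v.1.2).2 hv, smul_zero, add_zero]
        exact one_ne_zero)⟩
    else ⟨⟨tau ph x x' l v, h.tau_mem hx hx' hl v.1.2⟩, h.cmp_tau hF v.2 hx hx' hl⟩
  have hth1 : ∀ v : {v : D // Cmp D ph ⟨x, hx⟩ v}, ph x (v : C) + ph x' (v : C) = 0 →
      ((th v : D) : C) = (v : C) + (1 : F) • (x + x') := by
    intro v hv
    simp only [th, dif_pos hv]
  have hth2 : ∀ v : {v : D // Cmp D ph ⟨x, hx⟩ v}, ph x (v : C) + ph x' (v : C) ≠ 0 →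
      ((th v : D) : C) = (v : C) + ((l + l⁻¹) * (ph x (v : C) + ph x' (v : C))) • (x + x') := by
    intro v hv
    simp only [th, dif_neg hv]
    exact h.tau_eq hx hx' h1 h1' hl v
  have hinv : ∀ v, th (th v) = v := by
    intro v
    apply Subtype.ext
    apply Subtype.ext
    by_cases hv : ph x (v : C) + ph x' (v : C) = 0
    · have e1 := hth1 v hv
      have e2 : ph x ((th v : D) : C) + ph x' ((th v : D) : C) = 0 := by rw [e1, hpa]; exact hv
      rw [hth1 _ e2, e1, add_assoc, smul2 F, add_zero]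
    · have e1 := hth2 v hv
      have e2 : ph x ((th v : D) : C) + ph x' ((th v : D) : C) = ph x (v : C) + ph x' (v : C) := by
        rw [e1, hpa]
      rw [hth2 _ (e2 ▸ hv), e2, e1, add_assoc, smul2 F, add_zero]
  have hfix : ∀ v, th v ≠ v := by
    intro v hv0
    have hv0' : ((th v : D) : C) = (v : C) := by rw [hv0]
    by_cases hv : ph x (v : C) + ph x' (v : C) = 0
    · rw [hth1 v hv, one_smul] at hv0'
      exact ha0 (add_eq_left.1 hv0')
    · rw [hth2 v hv] at hv0'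
      rcases smul_eq_zero.1 (add_eq_left.1 hv0') with h3 | h3
      · exact mul_ne_zero hκ hv h3
      · exact ha0 h3
  have := Fintype.ofFinite {v : D // Cmp D ph ⟨x, hx⟩ v}
  rw [Nat.card_eq_fintype_card]
  have : Fact (Nat.Prime 2) := ⟨Nat.prime_two⟩
  have h3 := Equiv.Perm.card_fixedPoints_modEq (p := 2) (n := 1) (f := th) (end_sq _ hinv)
  have h4 : Fintype.card (Function.fixedPoints th) = 0 := by
    rw [Fintype.card_eq_zero_iff]
    exact ⟨fun v => hfix v.1 v.2⟩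
  rw [h4] at h3
  exact even_iff_two_dvd.2 (Nat.modEq_zero_iff_dvd.1 h3)

/-- **LEMMA HOM** -/
theorem perp (hF : ∃ a : F, a ≠ 0 ∧ a ≠ 1) [Finite D] (hodd : Odd (Nat.card D))
    (htr : ∀ x y : D, ∃ g : D ≃ D, (∀ u v : D, ph (g u : C) (g v : C) = 0 ↔ ph (u : C) (v : C) = 0) ∧ g x = y)
    {d y : C} (hd : d ∈ D) (hy : y ∈ D) (hn : ∀ c : F, y ≠ c • d) : ph d y = 0 := by
  classical
  by_contra hc
  -- normalise
  have hx' : (ph d y)⁻¹ • y ∈ D := h.smul y hy _ (inv_ne_zero hc)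
  have h1 : ph d ((ph d y)⁻¹ • y) = 1 := by rw [map_smul, smul_eq_mul, inv_mul_cancel₀ hc]
  have hne : d ≠ (ph d y)⁻¹ • y := by
    intro e
    apply hn (ph d y)
    rw [e, smul_smul]
    rw [← e, mul_inv_cancel₀ hc, one_smul]
  have hev := h.even_cmp hF hd hx' h1 hne
  -- every component has even order
  have hall : ∀ u : D, Even (Nat.card {v : D // Cmp D ph u v}) := by
    intro u
    obtain ⟨g, hg, hgu⟩ := htr ⟨d, hd⟩ u
    have hmap : ∀ {u v : D}, Cmp D ph u v → Cmp D ph (g u) (g v) := by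
      intro u v huv
      induction huv with
      | refl => exact Relation.ReflTransGen.refl
      | tail _ h2 ih => exact ih.tail (fun h0 => h2 ((hg _ _).1 h0))
    have hmap' : ∀ {u v : D}, Cmp D ph (g u) (g v) → Cmp D ph u v := by
      have key : ∀ {u v : D}, Cmp D ph u v → Cmp D ph (g.symm u) (g.symm v) := by
        intro u v huv
        induction huv with
        | refl => exact Relation.ReflTransGen.refl
        | @tail b c _ h2 ih =>
          refine ih.tail (fun h0 => h2 ?_)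
          have := (hg (g.symm b) (g.symm c)).2 h0
          rwa [g.apply_symm_apply, g.apply_symm_apply] at this
      intro u v huv
      have := key huv
      rwa [g.symm_apply_apply, g.symm_apply_apply] at this
    have e : Nat.card {v : D // Cmp D ph ⟨d, hd⟩ v} = Nat.card {v : D // Cmp D ph u v} := by
      apply Nat.card_congr
      refine g.subtypeEquiv fun v => ?_
      rw [← hgu]
      exact ⟨hmap, hmap'⟩
    rw [← e]
    exact hev
  -- count
  have := Fintype.ofFinite D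
  let s : Setoid D := h.std hF
  have e1 : Nat.card D = ∑ q : Quotient s, Nat.card {v : D // Quotient.mk s v = q} := by
    rw [← Nat.card_sigma]
    exact Nat.card_congr (Equiv.sigmaFiberEquiv (Quotient.mk s)).symm
  have e2 : Even (Nat.card D) := by
    rw [e1]
    refine Finset.even_sum _ fun q _ => ?_
    obtain ⟨u, rfl⟩ := Quotient.exists_rep q
    have e3 : Nat.card {v : D // Quotient.mk s v = Quotient.mk s u} = Nat.card {v : D // Cmp D ph u v} := by
      refine Nat.card_congr (Equiv.subtypeEquivRight fun v => ?_)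
      rw [Quotient.eq]
      exact ⟨fun k => h.cmp_symm hF k, fun k => h.cmp_symm hF k⟩
    rw [e3]
    exact hall u
  exact (Nat.not_even_iff_odd.2 hodd) e2

end HomSys

end Cfsg.Agent.Omega.Lie.HomLem
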