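import Cfsg.Agent.Omega.Lie.QMod

/-!
# NODE LIE, (L1) of #13991: `e = C_M(A) ∩ C_M(T)^⊥`

In the situation of `QMod` with `C(W i) ≤ R i` (`rad = 0`), `q ≥ 4`:
* `dperp`: `e^⊥⊥ = e`;
* `mem_cA_iff`: `C_M(A) = [M, A]^⊥`;
* `cT_le`: `C_M(T) ≤ e^⊥`; `D_le`: `D / R = e + C(T)`;
* `mem_e_iff`: `x ∈ e ↔ x ∈ C_M(A)` and `f (x, C_M(T)) = 0`;
* **`stab`**: `h ∈ H` normalising `A` and `T` stabilises `e`; `stab_of_comm`: `h` normalises `A` and commutes with `T`.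
* `lift_norm`: `h ∈ H` stabilises `e` ==> its preimages normalise `V`.
-/

set_option autoImplicit false
set_option linter.unusedSectionVars false

namespace Cfsg.Agent.Omega.Lie.LOne

open Subgroup Cfsg.Agent.Omega.BTwo Cfsg.Agent.Omega.Lie Cfsg.Agent.Omega.Lie.Quot
  Cfsg.Agent.Omega.Lie.LemN Cfsg.Agent.Omega.Lie.QMod

open Cfsg.Agent.Omega.Lie.TwoEnd (D cm)

universe u v w

variable {G : Type u} [Group G] {ι : Type w} {F : Type v} [Field F]
  {V : Subgroup G} {R : ι → Subgroup G} {i j : ι}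
  {M B : Type u} [AddCommGroup M] [AddCommGroup B]
  [DistribMulAction (NR R i) M] [DistribMulAction (NR R i) B] [DistribMulAction (HQ (R i)) M]
  [DistribMulAction (HQ (R i)) B] {p : G → M} {r : G → B}
  {f : M →+ M →+ B} {vv : F → F → G} {w1 w2 t : F → G}

theorem D_eq {H X : Type*} [Group H] [AddCommGroup X] [DistribMulAction H X] (a : H) (x : X) :
    D a x = a • x - x := TwoEnd.D_apply a x

section BT

variable (m : QFr V R i M B p r f) (b : BT V R)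
include m b

theorem f_act (h : HQ (R i)) (a c : M) : f (h • a) (h • c) = h • f a c := by
  obtain ⟨n, hn, rfl⟩ := exists_pr h
  rw [m.smul_M, m.smul_M, m.f_act b, m.smul_B]

theorem f_act_zero (h : HQ (R i)) {a c : M} : f (h • a) (h • c) = 0 ↔ f a c = 0 := by
  rw [f_act m b]
  exact smul_eq_zero_iff_eq h

/-- `e^⊥⊥ = e + rad` -/
theorem dperp {x : M} (hx : ∀ y ∈ m.sb (UU V R i), f x y = 0) :
    ∃ v ∈ m.sb V, ∃ z, (∀ y, f z y = 0) ∧ x = v + z := by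
  obtain ⟨w, hw, rfl⟩ := m.p_surj x
  obtain ⟨v, hv, hc⟩ := b.cen_U (b.W_le_Q i hw) fun u hu => by
    have huW := UU_le_WW i hu
    have h1 := hx (p u) (m.p_mem huW hu)
    rw [m.f_eq _ hw _ huW, m.r_ker _ (b.WW_comm i hw huW), mul_inv_eq_one, mul_inv_eq_iff_eq_mul] at h1
    exact h1
  have hvW := V_le_WW V (R i) hv
  have hzW : v⁻¹ * w ∈ WW V (R i) := mul_mem (inv_mem hvW) hw
  refine ⟨p v, m.p_mem hvW hv, p (v⁻¹ * w), ?_, ?_⟩
  · rw [← mem_rad m b]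
    exact m.p_mem hzW (mem_inf.2 ⟨hzW, hc⟩)
  · rw [← m.p_mul _ hvW _ hzW]
    congr 1
    group

/-- `h` stabilises `e` ==> its preimages normalise `V` -/
theorem lift_norm [Finite G] {n : G} (hn : n ∈ normalizer (R i : Set G))
    (h : ∀ x ∈ m.sb V, pr (R i) ⟨n, hn⟩ • x ∈ m.sb V) : n ∈ normalizer (V : Set G) := by
  have hVW := V_le_WW V (R i)
  refine mem_normalizer_of_conj fun v hv => ?_
  have h1 := h (p v) (m.p_mem (hVW hv) hv)
  rw [m.smul_M, m.p_act ⟨n, hn⟩ v (hVW hv)] at h1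
  exact (m.p_mem_iff (conj_mem_of_normalizer (normalizer_le_WW V (R i) hn) (hVW hv)) (b.R_le i)).1 h1

/-- `C_M(A) ≤ [M, A]^⊥` -/
theorem f_cA {x : M} (hx : ∀ a ∈ AA V R i j, a • x = x) {a : HQ (R i)} (ha : a ∈ AA V R i j) (y : M) :
    f x (D a y) = 0 := by
  rw [← adj m b ha, D_eq, hx a ha, sub_self, map_zero, AddMonoidHom.zero_apply]

/-- `C_M(A) = [M, A]^⊥` -/
theorem mem_cA_iff (hrad : ∀ z, (∀ y, f z y = 0) → z = 0) {x : M} :
    (∀ a ∈ AA V R i j, a • x = x) ↔ ∀ a ∈ AA V R i j, ∀ y, f x (D a y) = 0 := by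
  refine ⟨fun hx a ha y => f_cA m b hx ha y, fun hx a ha => ?_⟩
  have h1 : D a x = 0 := hrad _ fun y => by rw [adj m b ha]; exact hx a ha y
  rw [D_eq] at h1
  exact sub_eq_zero.1 h1

/-- `C_M(T) ≤ e^⊥` -/
theorem cT_le [CharP F 2] (hF : ∃ a : F, a ≠ 0 ∧ a ≠ 1) (c : Coord V R i j vv w1 w2) (τ : TorD V R i j vv t)
    {x : M} (hx : ∀ a ∈ TT τ, a • x = x) : x ∈ m.sb (UU V R i) := by
  rw [← m.perp_iff b]
  obtain ⟨w, hw, rfl⟩ := m.p_surj x
  obtain ⟨s, hs⟩ := c.W1_act w hw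
  have hVW := V_le_WW V (R i)
  -- `f (p w, p (vv 0 γ)) = r (vv (s γ) 0)`
  have hf : ∀ γ, f (p w) (p (vv 0 γ)) = r (vv (s * γ) 0) := by
    intro γ
    rw [m.f_eq _ hw _ (hVW (c.v_mem 0 γ)), hs]
    congr 1
    rw [zero_add, mul_inv_eq_iff_eq_mul, ← c.v_add, add_zero, zero_add]
  obtain ⟨a, ha, ha1⟩ := hF
  have hT : pr (R i) ⟨t a, τ.normR ha⟩ ∈ TT τ := (mem_TT τ).2 ⟨a, ha, rfl⟩
  have h1 := hf (a⁻¹ * 1)
  have hR : vv (s * 1) 0 ∈ R i := (c.mem_R1 _).2 ⟨_, rfl⟩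
  have h2 : p (vv 0 (a⁻¹ * 1)) = pr (R i) ⟨t a, τ.normR ha⟩ • p (vv 0 1) := by
    rw [m.smul_M, m.p_act _ _ (hVW (c.v_mem 0 1))]
    change _ = p (t a * vv 0 1 * (t a)⁻¹)
    rw [τ.act a 0 1 ha, mul_zero]
  have h3 : f (p w) (pr (R i) ⟨t a, τ.normR ha⟩ • p (vv 0 1)) = r (vv (a * (s * 1)) 0) := by
    conv_lhs => rw [← hx _ hT]
    rw [f_act m b, hf, m.smul_B, m.r_act _ _ hR]
    change r (t a * vv (s * 1) 0 * (t a)⁻¹) = _
    rw [τ.act a _ 0 ha, mul_zero]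
  rw [h2, h3] at h1
  have hRi : ∀ q, vv q 0 ∈ R i := fun q => (c.mem_R1 _).2 ⟨q, rfl⟩
  have h4 := (c.v_inj (m.r_inj (hRi _) (hRi _) h1)).1
  have h5 : s = 0 := by
    by_contra hs0
    have h6 : a = a⁻¹ := by
      apply mul_left_cancel₀ hs0
      linear_combination h4
    have h7 : a * a = 1 := by
      nth_rw 2 [h6]
      exact mul_inv_cancel₀ ha
    have h8 : (a + 1) * (a + 1) = 0 := by
      have h9 : (2 : F) = 0 := CharP.cast_eq_zero F 2
      linear_combination h7 + (a + 1) * h9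
    have h10 : a + 1 = 0 := mul_self_eq_zero.1 h8
    apply ha1
    have h9 : (2 : F) = 0 := CharP.cast_eq_zero F 2
    linear_combination h10 - h9
  rintro _ ⟨v, hv, hvW, rfl⟩
  rw [m.f_eq _ hw _ hvW]
  obtain ⟨β, γ, rfl⟩ := (c.mem_V v).1 hv
  rw [hs, h5, zero_mul, add_zero, mul_inv_cancel, m.r_one]

/-- `[D / R, T] ≤ e` -/
theorem T_D (τ : TorD V R i j vv t) {a : HQ (R i)} (ha : a ∈ TT τ) {x : M} (hx : x ∈ m.sb (DD V R)) :
    a • x - x ∈ m.sb V := by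
  obtain ⟨c, hc, rfl⟩ := (mem_TT τ).1 ha
  rw [m.smul_M]
  exact m.X_D b (h := ⟨t c, τ.normR hc⟩) (τ.memX c hc) hx

/-- `D / R = e + C(T)` -/
theorem D_le [Finite F] [CharP F 2] (τ : TorD V R i j vv t) {x : M} (hx : x ∈ m.sb (DD V R)) :
    ∃ v ∈ m.sb V, ∃ y, (∀ a ∈ TT τ, a • y = y) ∧ x = v + y := by
  have hc := card_T b τ
  have hfin : Finite (TT τ) := by
    have h1 : 1 < Nat.card F := Finite.one_lt_card
    exact (Nat.card_pos_iff.1 (by omega)).2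
  have := Fintype.ofFinite (TT τ)
  have h2F : 2 ∣ Nat.card F := by
    have := (CharP.cast_eq_zero F 2)
    have h3 : addOrderOf (1 : F) = 2 := by
      have h4 : addOrderOf (1 : F) ∣ 2 := by
        rw [addOrderOf_dvd_iff_nsmul_eq_zero, nsmul_eq_mul, mul_one]
        exact_mod_cast CharP.cast_eq_zero F 2
      rcases (Nat.dvd_prime Nat.prime_two).1 h4 with h | h
      · rw [AddMonoid.addOrderOf_eq_one_iff] at h
        exact absurd h one_ne_zero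
      · exact h
    rw [← h3]
    exact addOrderOf_dvd_natCard 1
  have hodd : Odd (Nat.card (TT τ)) := by
    rw [← Nat.not_even_iff_odd]
    intro he
    have h5 := he.two_dvd
    omega
  set y : M := ∑ a : TT τ, (a : HQ (R i)) • x with hy
  have h1 : ∑ a : TT τ, ((a : HQ (R i)) • x - x) = y - x := by
    rw [Finset.sum_sub_distrib, Finset.sum_const, Finset.card_univ, ← Nat.card_eq_fintype_card]
    obtain ⟨k, hk⟩ := hodd
    have h3 : Nat.card (TT τ) • x = x := by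
      rw [hk, add_smul, one_smul, mul_comm, mul_smul, two_smul, two m b, smul_zero, zero_add]
    rw [h3]
  have h2 : y - x ∈ m.sb V := by
    rw [← h1]
    exact AddSubgroup.sum_mem _ fun a _ => T_D m b τ a.2 hx
  refine ⟨-(y - x), neg_mem h2, y, fun a ha => ?_, by abel⟩
  rw [hy, Finset.smul_sum]
  exact Fintype.sum_equiv (Equiv.mulLeft (⟨a, ha⟩ : TT τ)) _ _ fun c => by
    rw [smul_smul]; rfl

end BT

section BTC

variable (m : QFr V R i M B p r f) (b : BTC V R)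
include m b

/-- **`e = C_M(A) ∩ C_M(T)^⊥`** -/
theorem mem_e_iff [Finite G] [Finite F] [CharP F 2] (hq : 4 ≤ Nat.card F) (c : Coord V R i j vv w1 w2)
    (τ : TorD V R i j vv t) (hrad : ∀ z, (∀ y, f z y = 0) → z = 0) (hA : ∃ a ∈ AA V R i j, a ≠ 1) {x : M} :
    x ∈ m.sb V ↔ (∀ a ∈ AA V R i j, a • x = x) ∧ ∀ y, (∀ a ∈ TT τ, a • y = y) → f x y = 0 := by
  have hF := exists_ne hq
  constructor
  · intro hx
    refine ⟨fun a ha => A_e m b.toBT ha hx, fun y hy => ?_⟩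
    rw [m.f_symm b.toBT]
    exact (m.perp_iff b.toBT y).2 (cT_le m b.toBT hF c τ hy) x hx
  · rintro ⟨hx, hx'⟩
    obtain ⟨a₀, ha₀, ha₀'⟩ := hA
    have hxe : ∀ v ∈ m.sb V, f x v = 0 := by
      intro v hv
      obtain ⟨y, z, hz, rfl⟩ := lemN m b hq c.ne c ha₀ ha₀' hv
      have hz0 : z = 0 := hrad z ((mem_rad m b.toBT).1 hz)
      rw [hz0, add_zero]
      exact f_cA m b.toBT hx ha₀ y
    have hxD : ∀ d ∈ m.sb (DD V R), f x d = 0 := by
      intro d hd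
      obtain ⟨v, hv, y, hy, rfl⟩ := D_le m b.toBT τ hd
      rw [map_add, hxe v hv, hx' y hy, add_zero]
    -- an element outside `e^⊥`
    have hw : p (w1 1) ∉ m.sb (UU V R i) := w1_notMem m.toModFr b c one_ne_zero
    obtain ⟨v, hv, z, hz, rfl⟩ := dperp m b.toBT (x := x) fun y hy => by
      obtain ⟨h, hh, hD⟩ := m.A_surj b.toBT c.ne hw hy
      have h1 := hxD _ hD
      have h2 : f x (h • p (w1 1) - p (w1 1)) = 0 := by
        have h3 : pr (R i) h ∈ AA V R i j := (mem_AA b.toBT).2 ⟨h, hh, rfl⟩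
        have h4 := f_cA m b.toBT hx h3 (p (w1 1))
        rwa [D_eq, m.smul_M] at h4
      rw [map_sub, h2, zero_sub, neg_eq_zero] at h1
      exact h1
    rw [hrad z hz, add_zero]
    exact hv

/-- **(L1)**: `h ∈ H` normalising `A` and `T` stabilises `e` -/
theorem stab [Finite G] [Finite F] [CharP F 2] (hq : 4 ≤ Nat.card F) (c : Coord V R i j vv w1 w2)
    (τ : TorD V R i j vv t) (hrad : ∀ z, (∀ y, f z y = 0) → z = 0) (hA : ∃ a ∈ AA V R i j, a ≠ 1)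
    {h : HQ (R i)} (hhA : ∀ a ∈ AA V R i j, h * a * h⁻¹ ∈ AA V R i j)
    (hhT : ∀ a ∈ TT τ, h * a * h⁻¹ ∈ TT τ) {x : M} (hx : x ∈ m.sb V) : h • x ∈ m.sb V := by
  have hinv : ∀ {S : Subgroup (HQ (R i))}, (∀ a ∈ S, h * a * h⁻¹ ∈ S) → ∀ a ∈ S, h⁻¹ * a * h ∈ S := by
    intro S hS a ha
    exact conj_inv_mem_of_normalizer (mem_normalizer_of_conj hS) ha
  rw [mem_e_iff m b hq c τ hrad hA] at hx ⊢
  refine ⟨fun a ha => ?_, fun y hy => ?_⟩
  · have h1 := hx.1 _ (hinv hhA a ha)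
    rw [mul_smul, mul_smul, inv_smul_eq_iff] at h1
    exact h1
  · have h1 := hx.2 (h⁻¹ • y) fun a ha => by
      have h2 := hy _ (hhT a ha)
      rw [mul_smul, mul_smul] at h2
      rw [← smul_left_cancel_iff h, h2, smul_inv_smul]
    have h2 := (f_act_zero m b.toBT h).2 h1
    rwa [smul_inv_smul] at h2

theorem stab_of_comm [Finite G] [Finite F] [CharP F 2] (hq : 4 ≤ Nat.card F) (c : Coord V R i j vv w1 w2)
    (τ : TorD V R i j vv t) (hrad : ∀ z, (∀ y, f z y = 0) → z = 0) (hA : ∃ a ∈ AA V R i j, a ≠ 1)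
    {h : HQ (R i)} (hhA : ∀ a ∈ AA V R i j, h * a * h⁻¹ ∈ AA V R i j)
    (hhT : ∀ a ∈ TT τ, h * a = a * h) {x : M} (hx : x ∈ m.sb V) : h • x ∈ m.sb V :=
  stab m b hq c τ hrad hA hhA (fun a ha => by rw [hhT a ha, mul_inv_cancel_right]; exact ha) hx

end BTC

end Cfsg.Agent.Omega.Lie.LOne
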