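import Cfsg.Agent.Omega.Lie.LemN
import Cfsg.Agent.Omega.Lie.TorNat
import Cfsg.Agent.Omega.BTwo.Mod
import Cfsg.Agent.Omega.BTwo.XMod

/-!
# NODE LIE: (N0), LEMMA N, (N1) of TEXT LIE-1/2 (#12098, #12707) on the module `M = W i / R i`

`m : ModFr V R i M B p r f`; `br h a = h • a - a`.
-/

set_option autoImplicit false
set_option linter.unusedSectionVars false

namespace Cfsg.Agent.Omega.Lie.LemN

open Subgroup Cfsg.Agent.Omega.BTwo Cfsg.Agent.Lib.SL2Mat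

universe u v w

variable {G : Type u} [Group G] {ι : Type w} {F : Type v} [Field F]
  {V : Subgroup G} {R : ι → Subgroup G} {i j : ι}
  {M B : Type u} [AddCommGroup M] [AddCommGroup B]
  [DistribMulAction (NR R i) M] [DistribMulAction (NR R i) B] {p : G → M} {r : G → B}
  {f : M →+ M →+ B}

/-- `[a, h] = h a - a` -/
def br (h : NR R i) : M →+ M where
  toFun a := h • a - a
  map_zero' := by rw [smul_zero, sub_zero]
  map_add' a c := by rw [smul_add]; abel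

theorem br_apply (h : NR R i) (a : M) : br h a = h • a - a := rfl

/-- `M` has exponent 2: `LEMMA N` needs `4 ≤ |F|` -/
theorem exists_ne [Finite F] (hq : 4 ≤ Nat.card F) : ∃ a : F, a ≠ 0 ∧ a ≠ 1 := by
  classical
  by_contra hcon
  push Not at hcon
  have h : Nat.card F ≤ Nat.card Bool := by
    refine Nat.card_le_card_of_injective (fun a : F => decide (a = 0)) fun a c h => ?_
    have h' : (a = 0) ↔ (c = 0) := by simpa using h
    by_cases ha : a = 0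
    · rw [ha, h'.1 ha]
    · rw [hcon a ha, hcon c (fun hc => ha (h'.2 hc))]
  rw [Nat.card_eq_fintype_card (α := Bool), Fintype.card_bool] at h
  omega

section BT

variable (m : ModFr V R i M B p r f) (b : BT V R)
include m b

/-- `U j ≤ N(R i)` -/
def el (b : BT V R) (i : ι) {j : ι} {u : G} (hu : u ∈ UU V R j) : NR R i := ⟨u, b.cen_le_N i (UU_le_cen j hu)⟩

theorem p_br {h : NR R i} {x : G} (hx : x ∈ WW V (R i)) : br h (p x) = p (h * x * (h : G)⁻¹ * x⁻¹) :=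
  m.smul_sub_p b hx

/-- `p [w, u] = [p w, u]` -/
theorem p_cm {h : NR R i} {x : G} (hx : x ∈ WW V (R i)) : p (x * h * x⁻¹ * (h : G)⁻¹) = br h (p x) := by
  have h1 := m.comm_mem_W b (h := h) hx
  have e : x * h * x⁻¹ * (h : G)⁻¹ = (h * x * (h : G)⁻¹ * x⁻¹)⁻¹ := by group
  rw [p_br m b hx, e, m.p_inv h1, neg_eq_iff_add_eq_zero]
  exact m.two_M b _

theorem sq_act {h : NR R i} (hh : (h : G) ∈ UU V R j) (a : M) : h • h • a = a := by
  rw [← mul_smul]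
  exact m.W_act b (h := h * h) (V_le_WW V (R i) (b.R_le j (b.W_sq j (UU_le_WW j hh)))) a

theorem sub_eq (a c : M) : a - c = a + c := by
  rw [sub_eq_add_neg, add_right_inj, neg_eq_iff_add_eq_zero]
  exact m.two_M b c

/-- `[M, h, h] = 0` -/
theorem br_br {h : NR R i} (hh : (h : G) ∈ UU V R j) (a : M) : br h (br h a) = 0 := by
  rw [br_apply, br_apply, smul_sub, sq_act m b hh, sub_eq m b, sub_eq m b, sub_eq m b,
    add_comm (h • a) a]
  exact m.two_M b _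

/-- `A` is abelian on `M` -/
theorem act_comm {h h' : NR R i} (hh : (h : G) ∈ UU V R j) (hh' : (h' : G) ∈ UU V R j) (a : M) :
    h • h' • a = h' • h • a := by
  have e : h * h' = (h * h' * h⁻¹ * h'⁻¹) * (h' * h) := by group
  rw [← mul_smul, e, mul_smul _ (h' * h), mul_smul h' h]
  exact m.W_act b (h := h * h' * h⁻¹ * h'⁻¹)
    (V_le_WW V (R i) (b.R_le j (b.WW_comm j (UU_le_WW j hh) (UU_le_WW j hh')))) _

theorem br_comm {h h' : NR R i} (hh : (h : G) ∈ UU V R j) (hh' : (h' : G) ∈ UU V R j) (a : M) :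
    br h (br h' a) = br h' (br h a) := by
  rw [br_apply, br_apply, br_apply, br_apply, smul_sub, smul_sub, act_comm m b hh hh']
  abel

/-- `f ([a, h], c) = f (a, [c, h])` -/
theorem br_adj {h : NR R i} (hh : (h : G) ∈ UU V R j) (a c : M) : f (br h a) c = f a (br h c) := by
  have hR : (h : G) ∈ centralizer (R i : Set G) :=
    centralizer_le (b.R_le i) (UU_le_cen j hh)
  have h1 : f (h • a) c = f a (h • c) := by
    conv_lhs => rw [← sq_act m b hh c]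
    rw [m.f_act b, m.act_B b hR]
  rw [br_apply, br_apply, map_sub, AddMonoidHom.sub_apply, h1, map_sub]

theorem br_mem_U {h : NR R i} (hh : (h : G) ∈ UU V R j) (a : M) : br h a ∈ m.sb (UU V R i) := m.A_M b hh a

theorem br_mem_D {h : NR R i} (hh : (h : G) ∈ UU V R j) {a : M} (ha : a ∈ m.sb (UU V R i)) :
    br h a ∈ m.sb (DD V R) := m.A_U b hh ha

theorem br_mem_V {h : NR R i} (hh : (h : G) ∈ UU V R j) {a : M} (ha : a ∈ m.sb (DD V R)) :
    br h a ∈ m.sb V := m.A_D b hh ha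

theorem br_V {h : NR R i} (hh : (h : G) ∈ UU V R j) {a : M} (ha : a ∈ m.sb V) : br h a = 0 := by
  rw [br_apply, m.cen_e b (UU_le_cen j hh) ha, sub_self]

/-- elements of `e` are separated by one `a ∉ e^⊥` -/
theorem e_inj {a x : M} (ha : a ∉ m.sb (UU V R i)) (hx : x ∈ m.sb V) (h : f x a = 0) : x = 0 := by
  obtain ⟨w, hw, rfl⟩ := m.p_surj a
  obtain ⟨v, hv, hv', rfl⟩ := hx
  rw [m.p_mem_iff hw (b.R_le_U i)] at ha
  rw [m.f_eq v hv' w hw, m.r_ker _ (b.WW_comm i hv' hw), mul_inv_eq_one, mul_inv_eq_iff_eq_mul] at h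
  by_contra hne
  have hvi : v ∉ R i := fun h1 => hne ((m.p_ker v hv').2 h1)
  have h1 := b.reg (b.W_le_Q i hw) hv hvi h.symm
  apply ha
  refine mem_inf.2 ⟨hw, ?_⟩
  rw [mem_centralizer_iff]
  exact fun a ha => (h1 a ha).symm

end BT

section BTC

variable (m : ModFr V R i M B p r f) (b : BTC V R) {vv : F → F → G} {w1 w2 : F → G}
  (c : Coord V R i j vv w1 w2)
include m b c

/-- an element outside `e^⊥` -/
theorem w1_notMem {a : F} (ha : a ≠ 0) : p (w1 a) ∉ m.sb (UU V R i) := by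
  rw [m.p_mem_iff (c.w1_mem a) (b.R_le_U i)]
  intro h
  have h1 := mem_centralizer_iff.1 (UU_le_cen i h) _ (c.v_mem 0 1)
  have h2 := c.w1_act a 0 1
  rw [← h1] at h2
  have h3 : vv 0 1 = vv (0 + a * 1) 1 := by rw [← h2]; group
  have h4 := (c.v_inj h3).1
  rw [mul_one, zero_add] at h4
  exact ha h4.symm

/-- elements of `e` -/
theorem mem_e {x : M} (hx : x ∈ m.sb V) : ∃ β, p (vv 0 β) = x := by
  obtain ⟨v, hv, hv', rfl⟩ := hx
  obtain ⟨a, β, rfl⟩ := (c.mem_V v).1 hv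
  refine ⟨β, ?_⟩
  have h1 := c.v_add a 0 0 β
  rw [add_zero, zero_add] at h1
  have ha : vv a 0 ∈ R i := (c.mem_R1 _).2 ⟨a, rfl⟩
  rw [h1, m.p_mul _ (b.R_le_W i i ha) _ (V_le_WW V (R i) (c.v_mem 0 β)), (m.p_ker _ (b.R_le_W i i ha)).2 ha,
    zero_add]

/-- `s ∈ D - e`: `f (e^⊥, s) = B` -/
theorem D_surj [CharP F 2] {s : M} (hs : s ∈ m.sb (DD V R)) (hs' : s ∉ m.sb V) (β : B) :
    ∃ y ∈ m.sb (UU V R i), f y s = β := by
  obtain ⟨d, hd, hd', rfl⟩ := hs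
  have hdV : d ∉ V := fun h => hs' (m.p_mem hd' h)
  have hne : ∃ u₀ ∈ UU V R i, d * u₀ * d⁻¹ * u₀⁻¹ ≠ 1 := by
    by_contra hcon
    push Not at hcon
    refine hdV (b.cen_DU hd (i := i) fun u₀ hu₀ => ?_)
    have := hcon u₀ hu₀
    rwa [mul_inv_eq_one, mul_inv_eq_iff_eq_mul] at this
  obtain ⟨u₀, hu₀, hne⟩ := hne
  obtain ⟨c₀, hc₀⟩ := (c.mem_R1 _).1 (b.DU hd hu₀)
  have hc₀' : c₀ ≠ 0 := by
    rintro rfl
    exact hne (by rw [← hc₀, c.v_zero])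
  obtain ⟨x, hx, rfl⟩ := m.r_surj β
  obtain ⟨x', rfl⟩ := (c.mem_R1 _).1 hx
  by_cases hx0 : x' = 0
  · refine ⟨0, zero_mem _, ?_⟩
    rw [hx0, c.v_zero, m.r_one, map_zero, AddMonoidHom.zero_apply]
  have ha : x' / c₀ ≠ 0 := div_ne_zero hx0 hc₀'
  have hX := c.hh_mem_X b.toBT (x' / c₀)
  have hu : hh w1 w2 (x' / c₀) * u₀ * (hh w1 w2 (x' / c₀))⁻¹ ∈ UU V R i := by
    rw [← b.cj_UU (b.X_le_NV hX) (c.hh_R1 b.toBT ha)]; exact conj_mem_cj hu₀
  refine ⟨_, m.p_mem (UU_le_WW i hu) hu, ?_⟩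
  rw [m.f_symm b.toBT, m.f_eq _ hd' _ (UU_le_WW i hu), ← b.lam_conj hX hd (UU_le_YY i hu₀), ← hc₀,
    c.hh_act ha, mul_zero, div_mul_cancel₀ _ hc₀']

/-- **(N1)**: if `[M, h, h'] ≠ 0` then `e ≤ [M, h, h']` -/
theorem n1 [CharP F 2] {h h' : NR R i} (hh : (h : G) ∈ UU V R j) (hh' : (h' : G) ∈ UU V R j)
    (hne : ∃ a : M, br h' (br h a) ≠ 0) {x : M} (hx : x ∈ m.sb V) : ∃ a : M, br h' (br h a) = x := by
  have hadj : ∀ a c : M, f (br h' (br h a)) c = f a (br h' (br h c)) := by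
    intro a c
    rw [br_adj m b.toBT hh', br_adj m b.toBT hh, br_comm m b.toBT hh hh']
  have hUV : ∀ y ∈ m.sb (UU V R i), br h' (br h y) ∈ m.sb V := fun y hy =>
    br_mem_V m b.toBT hh' (br_mem_D m b.toBT hh hy)
  by_cases hi : ∃ a₀ : M, br h' (br h a₀) ∉ m.sb V
  · obtain ⟨a₀, ha₀⟩ := hi
    have ha₀' : a₀ ∉ m.sb (UU V R i) := fun h1 => ha₀ (hUV a₀ h1)
    obtain ⟨y, hy, e⟩ := D_surj m b c (br_mem_D m b.toBT hh' (br_mem_U m b.toBT hh a₀)) ha₀ (f x a₀)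
    refine ⟨y, ?_⟩
    rw [← sub_eq_zero]
    refine e_inj m b.toBT ha₀' (sub_mem (hUV y hy) hx) ?_
    rw [map_sub, AddMonoidHom.sub_apply, hadj, e, sub_self]
  · push Not at hi
    have hU : ∀ y ∈ m.sb (UU V R i), br h' (br h y) = 0 := by
      intro y hy
      refine e_inj m b.toBT (w1_notMem m b c one_ne_zero) (hi y) ?_
      rw [hadj]
      exact (m.perp_iff b.toBT y).2 hy _ (hi _)
    obtain ⟨a₁, ha₁⟩ := hne
    have ha₁' : a₁ ∉ m.sb (UU V R i) := fun h1 => ha₁ (hU a₁ h1)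
    obtain ⟨w, hw, rfl⟩ := m.p_surj a₁
    obtain ⟨s, hs⟩ := c.W1_act w hw
    obtain ⟨β, hβ⟩ := mem_e m b c (hi (p w))
    obtain ⟨γ, rfl⟩ := mem_e m b c hx
    have hβ0 : β ≠ 0 := by
      rintro rfl
      apply ha₁
      rw [← hβ, c.v_zero, m.p_one]
    have hs0 : s ≠ 0 := by
      rintro rfl
      apply ha₁'
      rw [m.p_mem_iff hw (b.R_le_U i)]
      refine mem_inf.2 ⟨hw, ?_⟩
      rw [mem_centralizer_iff]
      intro v hv
      obtain ⟨a, q, rfl⟩ := (c.mem_V v).1 hv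
      have h1 := hs a q
      rw [zero_mul, add_zero, mul_inv_eq_iff_eq_mul] at h1
      exact h1.symm
    have hvW : ∀ q, vv 0 q ∈ WW V (R i) := fun q => V_le_WW V (R i) (c.v_mem 0 q)
    refine ⟨p (w1 (s * γ / β)), ?_⟩
    rw [← sub_eq_zero]
    refine e_inj m b.toBT ha₁' (sub_mem (hi _) (m.p_mem (hvW γ) (c.v_mem 0 γ))) ?_
    rw [map_sub, AddMonoidHom.sub_apply, hadj, ← hβ, m.f_eq _ (c.w1_mem _) _ (hvW β),
      m.f_symm b.toBT (p (vv 0 γ)), m.f_eq _ hw _ (hvW γ), cm_act b c (c.w1_act _), cm_act b c hs,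
      div_mul_cancel₀ _ hβ0, sub_self]

/-! ### `t`-conjugates, `t ∈ X` fixing `R i`, `R j` -/

/-- `h'` acts on `M` as `t h t⁻¹`, `t ∈ X` fixing `R i` and `R j` (`F_q h = F_q h'`) -/
structure Line (V : Subgroup G) (R : ι → Subgroup G) (i j : ι) (h h' t : NR R i) : Prop where
  hU : (h : G) ∈ UU V R j
  hU' : (h' : G) ∈ UU V R j
  tX : (t : G) ∈ XX V R
  tj : cj (t : G) (R j) = R j
  eq : ((t * h * t⁻¹ * h'⁻¹ : NR R i) : G) ∈ DD V R

omit m b c in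
theorem Line.symm (b : BT V R) {h h' t : NR R i} (l : Line V R i j h h' t) : Line V R i j h' h t⁻¹ where
  hU := l.hU'
  hU' := l.hU
  tX := inv_mem l.tX
  tj := (cj_eq_iff.1 l.tj).symm
  eq := by
    have h1 := conj_inv_mem_of_normalizer (b.NV_le_ND (b.X_le_NV l.tX)) (inv_mem l.eq)
    have h2 := conj_mem_of_normalizer (g := (h : G)⁻¹) (b.NV_le_ND (cen_le_NV V (UU_le_cen j (inv_mem l.hU)))) h1
    have e : ((t⁻¹ * h' * t⁻¹⁻¹ * h⁻¹ : NR R i) : G) =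
        (t : G)⁻¹ * ((t * h * t⁻¹ * h'⁻¹ : NR R i) : G)⁻¹ * t := by
      push_cast; group
    rw [e]
    exact h1

omit c in
theorem Line.act {h h' t : NR R i} (l : Line V R i j h h' t) (a : M) : h' • a = t • h • t⁻¹ • a := by
  have e : t * h * t⁻¹ = (t * h * t⁻¹ * h'⁻¹) * h' := by group
  rw [← mul_smul, ← mul_smul, e, mul_smul _ h']
  exact (m.W_act b.toBT (h := t * h * t⁻¹ * h'⁻¹) (D_le_W V R i l.eq) _).symm

omit c in
theorem Line.brk {h h' t : NR R i} (l : Line V R i j h h' t) (a : M) : br h' a = t • br h (t⁻¹ • a) := by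
  rw [br_apply, br_apply, l.act m b, smul_sub, smul_inv_smul]

omit c in
/-- on `D / R i` -/
theorem Line.brk_D {h h' t : NR R i} (l : Line V R i j h h' t) {a : M} (ha : a ∈ m.sb (DD V R)) :
    br h' a = t • br h a := by
  have h1 := m.X_D b.toBT (h := t⁻¹) (inv_mem l.tX) ha
  have h2 := br_V m b.toBT l.hU h1
  rw [map_sub, sub_eq_zero] at h2
  rw [l.brk m b, h2]

omit c in
/-- (C3): `[M, h, h', h''] = 0` if `F_q h' = F_q h''` -/
theorem c3 {h h' h'' t : NR R i} (hh : (h : G) ∈ UU V R j) (l : Line V R i j h' h'' t) (a : M) :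
    br h'' (br h' (br h a)) = 0 := by
  have h1 := br_mem_D m b.toBT l.hU (br_mem_U m b.toBT hh a)
  rw [l.brk_D m b h1, br_br m b.toBT l.hU, smul_zero]

omit c in
/-- **(N0)**: `[M, h, h'] ≤ e` if `F_q h = F_q h'` -/
theorem n0_line {h h' t : NR R i} (l : Line V R i j h h' t) (a : M) :
    LemN.br h' (LemN.br h a) ∈ m.sb V := by
  obtain ⟨w, hw, rfl⟩ := m.p_surj a
  have hti : cj (t : G) (R i) = R i := cj_eq_self_iff.2 t.2
  have h0 := N0_T b hw l.hU l.tX hti l.tj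
  -- the element `t h t⁻¹` of `U j`
  have hu' : (t : G) * h * (t : G)⁻¹ ∈ UU V R j := by
    have := conj_mem_cj (g := (t : G)) l.hU
    rwa [b.cj_UU (b.X_le_NV l.tX) l.tj] at this
  have hcW := UU_le_WW i (b.WU' hw l.hU)
  have h1 := p_cm m b.toBT (h := t * h * t⁻¹) hcW
  have h2 : p ((w * h * w⁻¹ * (h : G)⁻¹) * (t * h * t⁻¹ : NR R i) * (w * h * w⁻¹ * (h : G)⁻¹)⁻¹ *
      ((t * h * t⁻¹ : NR R i) : G)⁻¹) ∈ m.sb V := by
    refine m.p_mem (V_le_WW V (R i) h0) h0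
  rw [h1, p_cm m b.toBT hw] at h2
  have h3 : LemN.br h' (LemN.br h (p w)) = LemN.br (t * h * t⁻¹) (LemN.br h (p w)) := by
    rw [br_apply h', br_apply (t * h * t⁻¹), l.act m b, mul_smul, mul_smul]
  rw [h3]
  exact h2

/-- (C2) -/
theorem c2 [Finite F] [CharP F 2] {h h' h'' t : NR R i} (hh : (h : G) ∈ UU V R j)
    (l : Line V R i j h' h'' t) (hne : ∃ a : M, LemN.br h' (LemN.br h a) ≠ 0) (a : M) :
    ∃ a' : M, LemN.br h'' (LemN.br h a) = LemN.br h' (LemN.br h a') := by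
  suffices H : ∃ a' : M, LemN.br h'' (LemN.br h a) - LemN.br h' (LemN.br h a') ∈ m.sb V by
    obtain ⟨a', ha'⟩ := H
    obtain ⟨a'', ha''⟩ := n1 m b c hh l.hU hne ha'
    refine ⟨a' + a'', ?_⟩
    rw [map_add, map_add, ha'']
    abel
  obtain ⟨w, hw, rfl⟩ := m.p_surj a
  obtain ⟨N, _, _, P1, P2, y⟩ := c.exists_yPair b.toBT
  obtain ⟨s, hs⟩ := c.exists_up hw
  obtain ⟨A, hA, hA'⟩ := y.exists_act c b.toBT (inv_mem l.tX)
  have hhY : (h : G) ∈ YY V R := UU_le_YY j hh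
  have h1Y : P1 (h : G) = 0 := (y.mem_U2 _ hhY).1 hh
  -- `P` of `[x, h]`
  have key : ∀ x ∈ WW V (R i), ∀ q : F, ActV vv x (up q) →
      P1 (x * h * x⁻¹ * (h : G)⁻¹) = q • P2 (h : G) ∧ P2 (x * h * x⁻¹ * (h : G)⁻¹) = 0 := by
    intro x hx q hq
    have h1 := y.actY_of_W1 c b.toBT hx hq _ hhY
    have m1 := y.X_Y b.toBT c (W_le_X V R i hx) hhY
    have m2 := b.WU' hx hh
    refine ⟨?_, (y.mem_U1 _ (UU_le_YY i m2)).1 m2⟩
    rw [y.mul1 _ m1 _ (inv_mem hhY), h1.1, y.inv1 hhY, up_00, up_01, h1Y, smul_zero, zero_add, neg_zero,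
      add_zero]
  set z := w * h * w⁻¹ * (h : G)⁻¹ with hz
  have hzU : z ∈ UU V R i := b.WU' hw hh
  obtain ⟨k1, k2⟩ := key w hw s hs
  have hti : cj (t : G)⁻¹ (R i) = R i := cj_eq_self_iff.2 (inv_mem t.2)
  have hz1 : (t : G)⁻¹ * z * (t : G)⁻¹⁻¹ ∈ UU V R i := by
    rw [← b.cj_UU (b.X_le_NV (inv_mem l.tX)) hti]; exact conj_mem_cj hzU
  have hz'U : w1 (ent A 0 0 * s) * h * (w1 (ent A 0 0 * s))⁻¹ * (h : G)⁻¹ ∈ UU V R i :=
    b.WU' (c.w1_mem _) hh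
  obtain ⟨k3, k4⟩ := key _ (c.w1_mem (ent A 0 0 * s)) _ (c.actV_w1 _)
  have k5 := (hA' z (UU_le_YY i hzU)).1
  have k6 := (y.mem_U1 _ (UU_le_YY i hz1)).1 hz1
  rw [← hz] at k1 k2
  rw [k1, k2, smul_zero, add_zero, smul_smul, ← k3] at k5
  rw [← k4] at k6
  have hD := (y.eq_iff (UU_le_YY i hz1) (UU_le_YY i hz'U)).2 ⟨k5, k6⟩
  set w' := w1 (ent A 0 0 * s) with hw'
  set z' := w' * h * w'⁻¹ * (h : G)⁻¹ with hz'
  refine ⟨p w', ?_⟩
  have e1 : LemN.br h (p w) = p z := (p_cm m b.toBT hw).symm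
  have e2 : LemN.br h (p w') = p z' := (p_cm m b.toBT (c.w1_mem _)).symm
  have e3 : (t⁻¹ : NR R i) • p z = p z' + p (z'⁻¹ * ((t : G)⁻¹ * z * (t : G)⁻¹⁻¹)) := by
    rw [m.p_act _ z (UU_le_WW i hzU), ← m.p_mul _ (UU_le_WW i hz'U) _ (D_le_W V R i hD)]
    congr 1
    push_cast
    group
  have hDm : p (z'⁻¹ * ((t : G)⁻¹ * z * (t : G)⁻¹⁻¹)) ∈ m.sb (DD V R) := m.p_mem (D_le_W V R i hD) hD
  have h5 : LemN.br h' (LemN.br h (p w')) ∈ m.sb (DD V R) :=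
    br_mem_D m b.toBT l.hU (br_mem_U m b.toBT hh _)
  have h6 := m.X_D b.toBT l.tX h5
  have h7 := br_mem_V m b.toBT l.hU hDm
  have h8 : t • LemN.br h' (p (z'⁻¹ * ((t : G)⁻¹ * z * (t : G)⁻¹⁻¹))) ∈ m.sb V :=
    m.sb_smul (b.X_le_NV l.tX) h7
  rw [l.brk m b, e1, e3, map_add, smul_add, ← e2]
  have e4 : t • LemN.br h' (LemN.br h (p w')) + t • LemN.br h' (p (z'⁻¹ * ((t : G)⁻¹ * z * (t : G)⁻¹⁻¹))) -
      LemN.br h' (LemN.br h (p w')) = (t • LemN.br h' (LemN.br h (p w')) - LemN.br h' (LemN.br h (p w'))) +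
        t • LemN.br h' (p (z'⁻¹ * ((t : G)⁻¹ * z * (t : G)⁻¹⁻¹))) := by abel
  rw [e4]
  exact add_mem h6 h8

/-! ### LEMMA N on `M`, and the inputs of LQ -/

/-- **LEMMA N** on `M`: `e ≤ [M, h] + rad` -/
theorem lemN_M [Finite G] [Finite F] [CharP F 2] (hq : 4 ≤ Nat.card F) {h : NR R i} (hh : (h : G) ∈ UU V R j)
    (hD : (h : G) ∉ DD V R) {x : M} (hx : x ∈ m.sb V) :
    ∃ a : M, ∃ z ∈ m.sb (ZZ V R i), x = LemN.br h a + z := by
  obtain ⟨t, τ⟩ := coord_exists_torD b.toBT c (b.cen_W_isPGroup i)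
  obtain ⟨v, hv, hv', rfl⟩ := hx
  obtain ⟨w, hw, ζ, hζ, e⟩ := lemN b (exists_ne hq) c τ hh hD hv
  refine ⟨p w, p ζ, m.p_mem hζ.1 hζ, ?_⟩
  rw [← p_cm m b.toBT hw, ← m.p_mul _ (UU_le_WW i (b.WU' hw hh)) _ hζ.1, ← e]

/-- **LEMMA N**: what centralises `[M, h]` and `rad` centralises `e` -/
theorem lemN_fix [Finite G] [Finite F] [CharP F 2] (hq : 4 ≤ Nat.card F) {h k : NR R i}
    (hh : (h : G) ∈ UU V R j) (hD : (h : G) ∉ DD V R) (hk : ∀ z ∈ m.sb (ZZ V R i), k • z = z)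
    (hk' : ∀ a : M, k • LemN.br h a = LemN.br h a) {x : M} (hx : x ∈ m.sb V) : k • x = x := by
  obtain ⟨a, z, hz, rfl⟩ := lemN_M m b c hq hh hD hx
  rw [smul_add, hk z hz, hk' a]

/-- input (1) of LQ: `[M, a, b, b'] = 0` if `F_q b = F_q b'` or `F_q b = F_q a` -/
theorem lq1 {a₀ b₀ b₀' t : NR R i} (ha : (a₀ : G) ∈ UU V R j) (hb' : (b₀' : G) ∈ UU V R j)
    (hc : Line V R i j b₀ b₀' t ∨ Line V R i j a₀ b₀ t) (x : M) :
    b₀' • LemN.br b₀ (LemN.br a₀ x) = LemN.br b₀ (LemN.br a₀ x) := by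
  rw [← sub_eq_zero]
  rcases hc with l | l
  · exact c3 m b ha l x
  · exact br_V m b.toBT hb' (n0_line m b l x)

/-- input (3) of LQ: `[M, a, b] ≤ [M, a, b']` -/
theorem lq3 [Finite F] [CharP F 2] {a₀ b₀ b₀' t : NR R i} (ha : (a₀ : G) ∈ UU V R j)
    (hb' : (b₀' : G) ∈ UU V R j) (hc : Line V R i j b₀ b₀' t ∨ Line V R i j a₀ b₀ t)
    (hne : ∃ x : M, LemN.br b₀' (LemN.br a₀ x) ≠ 0) (x : M) :
    ∃ x' : M, LemN.br b₀ (LemN.br a₀ x) = LemN.br b₀' (LemN.br a₀ x') := by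
  rcases hc with l | l
  · exact c2 m b c ha (l.symm b.toBT) hne x
  · obtain ⟨x', hx'⟩ := n1 m b c ha hb' hne (n0_line m b l x)
    exact ⟨x', hx'.symm⟩

end BTC

end Cfsg.Agent.Omega.Lie.LemN
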