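import Cfsg.Agent.Omega.BTwo.ModG
import Cfsg.Agent.Omega.Lie.NOneA
import Cfsg.Agent.Omega.Lie.LOne
import Cfsg.Agent.Omega.Lie.HomLem

/-!
# THEOREM FIX (#15651), elements of `N(R i)` acting on `M = W i / R i` and on `V`

`h : FMod ..`, `e₁ = p (v 0 1)`.
* `norm_V` : `g e₁ ∈ F e₁` implies `g ∈ N(V)`;
* `act_fix` : `g ∈ C(R i)`, `g e₁ = e₁` implies `g v(β, γ) g⁻¹ = v(β + ξ γ, γ)` (`F`-linear);
* `act_X` : `x ∈ X ∩ N(R i)` acts on `M` as `u t(a)`, `u ∈ U j`;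
* `comm_V` : the KEY of step (3): `[u, x]` centralises `V ^ g`.
-/

set_option autoImplicit false
set_option linter.unusedSectionVars false

namespace Cfsg.Agent.Omega.Lie.Fix

open Subgroup Cfsg.Agent.Omega.BTwo Cfsg.Agent.Lib.SL2Mat

universe u v w

variable {G : Type u} [Group G] {ι : Type w} {V : Subgroup G} {R : ι → Subgroup G} {i j : ι}

theorem conj_comm (g u x : G) : g * u * g⁻¹ * (g * x * g⁻¹) * (g * u * g⁻¹)⁻¹ * (g * x * g⁻¹)⁻¹ =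
    g * (u * x * u⁻¹ * x⁻¹) * g⁻¹ := by group

variable {F : Type v} [Field F] [CharP F 2] {v : F → F → G} {w1 w2 : F → G}
variable {M B : Type u} [AddCommGroup M] [AddCommGroup B] [DistribMulAction (NR R i) M]
  [DistribMulAction (NR R i) B] [Module F M] {p : G → M} {r : G → B} {f : M →+ M →+ B}
  {φ : M →ₗ[F] M →ₗ[F] F} {s : NR R i → (F ≃+* F)}
variable (h : FMod V R i j v w1 w2 M B p r f φ s)
include h

theorem p_v0 (γ : F) : p (v 0 γ) = γ • p (v 0 1) := h.p_v 0 γ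

/-- conjugation on `R i` -/
theorem conj_v0 (g : NR R i) (β : F) :
    (g : G) * v β 0 * (g : G)⁻¹ = v (h.fr.sg h.co h.bt g β) 0 := by
  have h1 := h.fr.bF_sg h.co h.bt g β
  rw [h.fr.bF_apply h.co h.bt, h.fr.bF_apply h.co h.bt, h.fr.r_act g _ (h.fr.v0_mem h.co h.bt β)] at h1
  exact (h.fr.r_inj (h.fr.v0_mem h.co h.bt _)
    (conj_mem_of_normalizer g.2 (h.fr.v0_mem h.co h.bt β)) h1).symm

/-- an element stabilising `e` normalises `V` -/
theorem norm_V [Finite G] {g : NR R i} {c : F} (hg : g • p (v 0 1) = c • p (v 0 1)) :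
    (g : G) ∈ normalizer (V : Set G) := by
  have hVW := V_le_WW V (R i)
  refine mem_normalizer_of_conj fun x hx => ?_
  have h0 : p x ∈ h.fr.sb V := h.fr.p_mem (hVW hx) hx
  have h1 : g • p x ∈ h.fr.sb V := by
    obtain ⟨γ, hγ⟩ := h.mem_V.1 h0
    rw [← hγ, h.semi, hg, smul_smul]
    exact h.mem_V.2 ⟨_, rfl⟩
  rw [h.fr.p_act g x (hVW hx)] at h1
  exact (h.fr.p_mem_iff (conj_mem_of_normalizer (normalizer_le_WW V (R i) g.2) (hVW hx)) (h.bt.R_le i)).1 h1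

/-- `g e₁ = c e₁`, `g` linear: the action of `g` on `v 0 γ` -/
theorem conj_v {g : NR R i} {c : F} (hg : g • p (v 0 1) = c • p (v 0 1)) (hl : ∀ (l : F) (a : M), g • (l • a) = l • (g • a))
    (γ : F) : ∃ ζ : F, (g : G) * v 0 γ * (g : G)⁻¹ = v ζ (c * γ) := by
  have hW := h.fr.v_mem_W h.co h.bt 0 γ
  have hW' := h.fr.v_mem_W h.co h.bt 0 (c * γ)
  have h1 : p ((g : G) * v 0 γ * (g : G)⁻¹) = p (v 0 (c * γ)) := by
    rw [← h.fr.p_act g _ hW, p_v0 h γ, p_v0 h (c * γ), hl, hg, smul_smul, mul_comm]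
  rw [h.fr.p_eq_iff (conj_mem_of_normalizer (normalizer_le_WW V (R i) g.2) hW) hW'] at h1
  obtain ⟨ζ, hζ⟩ := (h.co.mem_R1 _).1 h1
  refine ⟨ζ, ?_⟩
  have h2 := h.co.v_add ζ 0 0 (c * γ)
  rw [add_zero, zero_add] at h2
  rw [h2, hζ]
  group

/-- `g ∈ C(R i)` trivial on `e` acts on `V` as an `F`-linear transvection -/
theorem act_fix [Finite G] {g : NR R i} (hg : (g : G) ∈ centralizer (R i : Set G)) (he : g • p (v 0 1) = p (v 0 1)) :
    ∃ ξ : F, ∀ β γ, (g : G) * v β γ * (g : G)⁻¹ = v (β + ξ * γ) γ := by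
  have he' : g • p (v 0 1) = (1 : F) • p (v 0 1) := by rw [one_smul]; exact he
  have hgV := norm_V h he'
  choose z hz using conj_v h he' (h.lin_cen hg)
  have hz' : ∀ β γ, (g : G) * v β γ * (g : G)⁻¹ = v (β + z γ) γ := by
    intro β γ
    have h1 := h.co.v_add β 0 0 γ
    rw [add_zero, zero_add] at h1
    have h2 := h.co.v_add β 0 (z γ) γ
    rw [zero_add] at h2
    have h3 : (g : G) * v β 0 * (g : G)⁻¹ = v β 0 := by
      have h4 := h.cen_aux hg β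
      rwa [one_mul] at h4
    have h5 := hz γ
    rw [one_mul] at h5
    calc (g : G) * v β γ * (g : G)⁻¹ = ((g : G) * v β 0 * (g : G)⁻¹) * ((g : G) * v 0 γ * (g : G)⁻¹) := by
          rw [h1]; group
      _ = v (β + z γ) γ := by rw [h3, h5, h2]
  -- `x = g w2(1) g⁻¹`
  have hx : (g : G) * w2 1 * (g : G)⁻¹ ∈ XX V R :=
    conj_mem_of_normalizer (h.bt.NV_le_NX hgV) (W_le_X V R j (h.co.w2_mem 1))
  obtain ⟨A, hA⟩ := h.co.exists_actV h.bt hx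
  have key : ∀ β γ, v (ent A 0 0 * (β + z γ) + ent A 0 1 * γ) (ent A 1 0 * (β + z γ) + ent A 1 1 * γ) =
      v (β + z (γ + β)) (γ + β) := by
    intro β γ
    rw [← hA, ← hz', ← hz']
    have h1 := h.co.w2_act 1 β γ
    rw [one_mul] at h1
    rw [← h1]
    group
  have h10 : ent A 1 0 = 1 := by
    have h0 : z 0 = 0 := by
      have h1 := hz 0
      have h2 := h.co.v_add 0 0 0 0
      rw [add_zero] at h2
      have h3 : v 0 0 = 1 := left_eq_mul.1 h2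
      rw [h3, mul_one, mul_inv_cancel, mul_zero] at h1
      exact (h.co.v_one _ _ h1.symm).1
    have h1 := (h.co.v_inj (key 1 0)).2
    rw [h0, add_zero, zero_add, mul_one, mul_zero, add_zero] at h1
    exact h1
  refine ⟨1 - ent A 1 1, fun β γ => ?_⟩
  rw [hz']
  congr 2
  have h1 := (h.co.v_inj (key 0 γ)).2
  rw [h10, zero_add, one_mul, add_zero] at h1
  linear_combination h1

/-- such an element is in `C(V) W i` -/
theorem mem_sup [Finite G] {g : NR R i} (hg : (g : G) ∈ centralizer (R i : Set G))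
    (he : g • p (v 0 1) = p (v 0 1)) : (g : G) ∈ centralizer (V : Set G) ⊔ WW V (R i) := by
  obtain ⟨ξ, hξ⟩ := act_fix h hg he
  have h1 : (w1 ξ)⁻¹ * (g : G) ∈ centralizer (V : Set G) := by
    rw [mem_centralizer_iff]
    intro z hz
    obtain ⟨β, γ, rfl⟩ := (h.co.mem_V z).1 hz
    have h2 := hξ β γ
    rw [← h.co.w1_act] at h2
    calc v β γ * ((w1 ξ)⁻¹ * (g : G)) = (w1 ξ)⁻¹ * (w1 ξ * v β γ * (w1 ξ)⁻¹) * (g : G) := by group
      _ = (w1 ξ)⁻¹ * (g : G) * v β γ := by rw [← h2]; group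
  have e : (g : G) = w1 ξ * ((w1 ξ)⁻¹ * (g : G)) := by group
  rw [e]
  exact mul_mem (mem_sup_right (h.co.w1_mem ξ)) (mem_sup_left h1)

/-- an element of `X ∩ N(R i)` acts on `M` as an element of `U j T` -/
theorem act_X [Finite G] [Finite F] {t : F → G} (τ : TorD V R i j v t) {x : NR R i} (hx : (x : G) ∈ XX V R) :
    ∃ (a : Fˣ) (u : NR R i), (u : G) ∈ UU V R j ∧ ∀ m : M, x • m = u • tT τ a • m := by
  obtain ⟨N, _, _, P1, P2, y⟩ := h.co.exists_yPair h.bt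
  obtain ⟨A, hA⟩ := h.co.exists_actV h.bt hx
  have h10 : ent A 1 0 = 0 := by
    have h1 := hA 1 0
    have h2 : (x : G) * v 1 0 * (x : G)⁻¹ ∈ R i := conj_mem_of_normalizer x.2 (h.fr.v0_mem h.co h.bt 1)
    obtain ⟨d, hd⟩ := (h.co.mem_R1 _).1 h2
    rw [← hd] at h1
    have h3 := (h.co.v_inj h1).2
    rw [mul_one, mul_zero, add_zero] at h3
    exact h3.symm
  have hdet := det_eq A
  rw [h10, mul_zero, sub_zero] at hdet
  have h00 : ent A 0 0 ≠ 0 := left_ne_zero_of_mul_eq_one hdet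
  have h11 : ent A 1 1 = (ent A 0 0)⁻¹ := (inv_eq_of_mul_eq_one_right hdet).symm
  set a := Units.mk0 _ h00 with ha
  -- `z = w1(..)⁻¹ x t(a)⁻¹ ∈ Y`
  set ξ := ent A 0 1 * ent A 0 0 with hξ
  have hz : (w1 ξ)⁻¹ * (x : G) * (t a)⁻¹ ∈ YY V R := by
    rw [← y.cen_X_V h.co h.btc, mem_inf]
    refine ⟨mul_mem (mul_mem (inv_mem (W_le_X V R i (h.co.w1_mem ξ))) hx) (inv_mem (τ.memX a a.ne_zero)), ?_⟩
    rw [mem_centralizer_iff]
    intro z hz
    obtain ⟨β, γ, rfl⟩ := (h.co.mem_V z).1 hz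
    -- `t a * v (a⁻¹ β) (a γ) * (t a)⁻¹ = v β γ`
    have k1 := τ.act a ((a : F)⁻¹ * β) (a * γ) a.ne_zero
    rw [mul_inv_cancel_left₀ a.ne_zero, inv_mul_cancel_left₀ a.ne_zero] at k1
    have k2 := hA ((a : F)⁻¹ * β) (a * γ)
    have e1 : ent A 0 0 * ((a : F)⁻¹ * β) + ent A 0 1 * (a * γ) = β + ξ * γ := by
      rw [hξ, ha]
      change ent A 0 0 * ((ent A 0 0)⁻¹ * β) + ent A 0 1 * (ent A 0 0 * γ) = _
      rw [mul_inv_cancel_left₀ h00]
      ring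
    have e2 : ent A 1 0 * ((a : F)⁻¹ * β) + ent A 1 1 * (a * γ) = γ := by
      rw [h10, h11, ha]
      change 0 * ((ent A 0 0)⁻¹ * β) + (ent A 0 0)⁻¹ * (ent A 0 0 * γ) = _
      rw [inv_mul_cancel_left₀ h00, zero_mul, zero_add]
    rw [e1, e2, ← h.co.w1_act ξ β γ] at k2
    calc v β γ * ((w1 ξ)⁻¹ * (x : G) * (t a)⁻¹)
        = (w1 ξ)⁻¹ * (w1 ξ * v β γ * (w1 ξ)⁻¹) * (x : G) * (t a)⁻¹ := by group
      _ = (w1 ξ)⁻¹ * (x : G) * (t a)⁻¹ * (t a * v ((a : F)⁻¹ * β) (a * γ) * (t a)⁻¹) := by rw [← k2]; group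
      _ = (w1 ξ)⁻¹ * (x : G) * (t a)⁻¹ * v β γ := by rw [k1]
  obtain ⟨x1, hx1, y1, hy1, e⟩ := h.bt.exists_mul_Y h.co.ne hz
  have hx1N := h.bt.W_le_N i (UU_le_WW i hx1)
  have hw1N := h.bt.W_le_N i (h.co.w1_mem ξ)
  refine ⟨a, ⟨y1, h.bt.cen_le_N i (UU_le_cen j hy1)⟩, hy1, fun m => ?_⟩
  have e2 : x = (⟨w1 ξ, hw1N⟩ : NR R i) * (⟨x1, hx1N⟩ * (⟨y1, h.bt.cen_le_N i (UU_le_cen j hy1)⟩ * tT τ a)) := by
    apply Subtype.ext
    change (x : G) = w1 ξ * (x1 * (y1 * t a))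
    calc (x : G) = w1 ξ * ((w1 ξ)⁻¹ * (x : G) * (t a)⁻¹) * t a := by group
      _ = w1 ξ * (x1 * (y1 * t a)) := by rw [e]; group
  rw [e2, mul_smul, mul_smul, mul_smul, h.fr.W_act h.bt (h.co.w1_mem ξ), h.fr.W_act h.bt (UU_le_WW i hx1)]

/-- **KEY of step (3)** : `x ∈ N(R i)` acts on `R i` and on `F (g e₁)` as the scalar `α`, `u ∈ C(R i)` fixes `g e₁`;
then `[u, x]` centralises `V ^ g` -/
theorem comm_V [Finite G] {g x u : NR R i} {α : F} (hα : α ≠ 0)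
    (hx : ∀ β, (x : G) * v β 0 * (x : G)⁻¹ = v (α * β) 0) (hxe : x • g • p (v 0 1) = α • g • p (v 0 1))
    (hu : (u : G) ∈ centralizer (R i : Set G)) (hue : u • g • p (v 0 1) = g • p (v 0 1)) {z : G} (hz : z ∈ V) :
    ((u : G) * x * (u : G)⁻¹ * (x : G)⁻¹) * ((g : G) * z * (g : G)⁻¹) =
      ((g : G) * z * (g : G)⁻¹) * ((u : G) * x * (u : G)⁻¹ * (x : G)⁻¹) := by
  -- conjugates
  set u' : NR R i := g⁻¹ * u * g with hu'
  set x' : NR R i := g⁻¹ * x * g with hx'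
  have hu'c : (u' : G) ∈ centralizer (R i : Set G) := by
    have h1 : (g : G)⁻¹ * u * (g : G)⁻¹⁻¹ ∈ centralizer (R i : Set G) :=
      conj_mem_of_normalizer (normalizer_le_normalizer_centralizer _ (inv_mem g.2)) hu
    rwa [inv_inv] at h1
  have hu'e : u' • p (v 0 1) = p (v 0 1) := by
    rw [hu', mul_smul, mul_smul, hue, inv_smul_smul]
  obtain ⟨ξ, hξ⟩ := act_fix h hu'c hu'e
  set α' := s g⁻¹ α with hα'
  have hα'0 : α' ≠ 0 := by
    rw [hα']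
    exact fun h0 => hα ((map_eq_zero_iff _ (s g⁻¹).injective).1 h0)
  have hx'0 : ∀ β, (x' : G) * v β 0 * (x' : G)⁻¹ = v (α' * β) 0 := by
    intro β
    rw [conj_v0 h, hx', h.fr.sg_mul, h.fr.sg_mul]
    have h1 : ∀ γ, h.fr.sg h.co h.bt x γ = α * γ := fun γ => by
      have h2 := conj_v0 h x γ
      rw [hx] at h2
      exact (h.co.v_inj h2).1.symm
    rw [h1, h.semi_B, ← h.fr.sg_mul, inv_mul_cancel, h.fr.sg_one]
  have hx'e : x' • p (v 0 1) = α' • p (v 0 1) := by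
    rw [hx', mul_smul, mul_smul, hxe, h.semi, inv_smul_smul]
  choose ζ hζ using conj_v h hx'e (h.lin hα'0 hx'0)
  -- the two products agree on `V`
  have key : ∀ z ∈ V, (u' : G) * (x' : G) * z * ((u' : G) * (x' : G))⁻¹ =
      (x' : G) * (u' : G) * z * ((x' : G) * (u' : G))⁻¹ := by
    intro z hz
    obtain ⟨β, γ, rfl⟩ := (h.co.mem_V z).1 hz
    have h0 : ∀ β γ, v β γ = v β 0 * v 0 γ := fun β γ => by
      rw [← h.co.v_add, add_zero, zero_add]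
    have hxx : ∀ β γ, (x' : G) * v β γ * (x' : G)⁻¹ = v (α' * β + ζ γ) (α' * γ) := by
      intro β γ
      have h1 := h.co.v_add (α' * β) 0 (ζ γ) (α' * γ)
      rw [zero_add] at h1
      rw [h1, ← hx'0, ← hζ, h0 β γ]
      group
    have e1 : (u' : G) * (x' : G) * v β γ * ((u' : G) * (x' : G))⁻¹ =
        (u' : G) * ((x' : G) * v β γ * (x' : G)⁻¹) * (u' : G)⁻¹ := by group
    have e2 : (x' : G) * (u' : G) * v β γ * ((x' : G) * (u' : G))⁻¹ =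
        (x' : G) * ((u' : G) * v β γ * (u' : G)⁻¹) * (x' : G)⁻¹ := by group
    rw [e1, e2, hxx, hξ, hξ, hxx]
    congr 1
    ring
  have e1 : (u : G) = (g : G) * u' * (g : G)⁻¹ := by
    change (u : G) = (g : G) * ((g : G)⁻¹ * u * g) * (g : G)⁻¹
    group
  have e2 : (x : G) = (g : G) * x' * (g : G)⁻¹ := by
    change (x : G) = (g : G) * ((g : G)⁻¹ * x * g) * (g : G)⁻¹
    group
  have hz2 := key ((x' : G)⁻¹ * (u' : G)⁻¹ * z * ((x' : G)⁻¹ * (u' : G)⁻¹)⁻¹) (by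
    have hN : (x' : G)⁻¹ * (u' : G)⁻¹ ∈ normalizer (V : Set G) :=
      mul_mem (inv_mem (norm_V h hx'e)) (inv_mem (norm_V h (c := 1) (by rw [one_smul]; exact hu'e)))
    exact conj_mem_of_normalizer hN hz)
  have e3 : (u' : G) * (x' : G) * ((x' : G)⁻¹ * (u' : G)⁻¹ * z * ((x' : G)⁻¹ * (u' : G)⁻¹)⁻¹) *
      ((u' : G) * (x' : G))⁻¹ = z := by group
  rw [e3] at hz2
  -- `z = [x', u'] z [x', u']⁻¹`
  have e4 : (u' : G) * x' * (u' : G)⁻¹ * (x' : G)⁻¹ * z =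
      z * ((u' : G) * x' * (u' : G)⁻¹ * (x' : G)⁻¹) := by
    have e5 : (x' : G) * (u' : G) * ((x' : G)⁻¹ * (u' : G)⁻¹ * z * ((x' : G)⁻¹ * (u' : G)⁻¹)⁻¹) *
        ((x' : G) * (u' : G))⁻¹ =
        ((u' : G) * x' * (u' : G)⁻¹ * (x' : G)⁻¹)⁻¹ * z * ((u' : G) * x' * (u' : G)⁻¹ * (x' : G)⁻¹) := by
      group
    rw [e5] at hz2
    nth_rw 1 [hz2]
    group
  rw [e1, e2]
  rw [conj_comm]
  calc (g : G) * ((u' : G) * x' * (u' : G)⁻¹ * (x' : G)⁻¹) * (g : G)⁻¹ * ((g : G) * z * (g : G)⁻¹)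
      = (g : G) * ((u' : G) * x' * (u' : G)⁻¹ * (x' : G)⁻¹ * z) * (g : G)⁻¹ := by group
    _ = (g : G) * (z * ((u' : G) * x' * (u' : G)⁻¹ * (x' : G)⁻¹)) * (g : G)⁻¹ := by rw [e4]
    _ = _ := by group

end Cfsg.Agent.Omega.Lie.Fix
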