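import Cfsg.Agent.Omega.Lie.FixA

/-!
# THEOREM FIX (#15651), steps (1) and (2): the system of homologies on `C_M(S ∩ N)`

`L ≤ N(R i)` (preimage of `S ∩ N`), `SN h τ L`; `CC` = `C_M(L)`; `Γ = normalizer L`.
* `dec` : `C_M(L) = e ⊕ (C_M(L) ∩ M₁)`;
* `homSys` : `D = Γ u₀` with the functionals `ph` is a `HomSys`;
* `perp` : `ph d y = 0` for non-proportional `d, y ∈ D`.
-/

set_option autoImplicit false
set_option linter.unusedSectionVars false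

namespace Cfsg.Agent.Omega.Lie.Fix

open Subgroup Cfsg.Agent.Omega.BTwo Cfsg.Agent.Lib.SL2Mat Cfsg.Agent.Omega.Lie.HomLem

universe u v w

variable {G : Type u} [Group G] {ι : Type w} {V : Subgroup G} {R : ι → Subgroup G} {i j : ι}
variable {F : Type v} [Field F] [CharP F 2] {v : F → F → G} {w1 w2 : F → G}
variable {M B : Type u} [AddCommGroup M] [AddCommGroup B] [DistribMulAction (NR R i) M]
  [DistribMulAction (NR R i) B] [Module F M] {p : G → M} {r : G → B} {f : M →+ M →+ B}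
  {φ : M →ₗ[F] M →ₗ[F] F} {s : NR R i → (F ≃+* F)}
variable (h : FMod V R i j v w1 w2 M B p r f φ s)

/-! ### the field automorphisms -/

section s
include h

theorem smul_e_inj {g : NR R i} {a c : F} (e : a • g • p (v 0 1) = c • g • p (v 0 1)) : a = c := by
  have hne : g • p (v 0 1) ≠ 0 := fun h0 => h.e_ne ((smul_eq_zero_iff_eq g).1 h0)
  have h1 : (a - c) • g • p (v 0 1) = 0 := by rw [sub_smul, e, sub_self]
  exact sub_eq_zero.1 ((smul_eq_zero.1 h1).resolve_right hne)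

theorem s_mul (g k : NR R i) (l : F) : s (g * k) l = s g (s k l) := by
  apply smul_e_inj h (g := g * k)
  rw [← h.semi, mul_smul, h.semi, h.semi, mul_smul]

theorem s_one (l : F) : s 1 l = l := by
  apply smul_e_inj h (g := 1)
  rw [← h.semi, one_smul, one_smul]

theorem s_inv (g : NR R i) (l : F) : s g (s g⁻¹ l) = l := by
  rw [← s_mul h, mul_inv_cancel, s_one h]

theorem s_inv' (g : NR R i) (l : F) : s g⁻¹ (s g l) = l := by
  rw [← s_mul h, inv_mul_cancel, s_one h]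

theorem s_T {t : F → G} (τ : TorD V R i j v t) (a : Fˣ) (l : F) : s (tT τ a) l = l :=
  (h.s_eq a.ne_zero (h.T_aux τ a) l).1

end s

/-- hypotheses on `L` = the preimage of `S ∩ N` -/
structure SN (h : FMod V R i j v w1 w2 M B p r f φ s) {t : F → G} (τ : TorD V R i j v t)
    (L Γ : Subgroup (NR R i)) : Prop where
  cen : ∀ x ∈ L, (x : G) ∈ centralizer (R i : Set G)
  fixe : ∀ x ∈ L, x • p (v 0 1) = p (v 0 1)
  A_le : ∀ u : NR R i, (u : G) ∈ UU V R j → u ∈ L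
  T_mem : ∀ a : Fˣ, tT τ a ∈ Γ
  norm : Γ ≤ normalizer (L : Set (NR R i))

variable {t : F → G} {τ : TorD V R i j v t} {L Γ : Subgroup (NR R i)}

/-- `C_M(L)` -/
def CC {h : FMod V R i j v w1 w2 M B p r f φ s} (d : SN h τ L Γ) : Submodule F M where
  carrier := {m | ∀ x ∈ L, x • m = m}
  zero_mem' := fun x _ => smul_zero _
  add_mem' := fun {m m'} hm hm' x hx => by
    have h1 := hm x hx
    have h2 := hm' x hx
    rw [smul_add, h1, h2]
  smul_mem' := fun l m hm x hx => by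
    have h1 := hm x hx
    rw [h.lin_cen (d.cen x hx), h1]

variable {h} (d : SN h τ L Γ)
include d

theorem mem_CC {m : M} : m ∈ CC d ↔ ∀ x ∈ L, x • m = m := Iff.rfl

theorem e_mem : p (v 0 1) ∈ CC d := fun x hx => d.fixe x hx

theorem smul_mem {g : NR R i} (hg : g ∈ Γ) {m : M} (hm : m ∈ CC d) :
    g • m ∈ CC d := by
  intro x hx
  have h1 : g⁻¹ * x * g ∈ L := by
    have h2 := conj_mem_of_normalizer (inv_mem (d.norm hg)) hx
    rwa [inv_inv] at h2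
  have h2 := hm _ h1
  have e : x • g • m = g • (g⁻¹ * x * g) • m := by
    rw [← mul_smul, ← mul_smul]
    congr 1
    group
  rw [e, h2]

theorem fix_A {m : M} (hm : m ∈ CC d) {u : NR R i} (hu : (u : G) ∈ UU V R j) : u • m = m := hm u (d.A_le u hu)

variable [Finite G] [Finite F]

omit d in
include h in
/-- LEMMA N, `rad = 0` -/
theorem lemN (hq : 4 ≤ Nat.card F) {u : NR R i} (hu : (u : G) ∈ UU V R j) (hD : (u : G) ∉ DD V R) (γ : F) :
    ∃ a : M, u • a - a = γ • p (v 0 1) := by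
  obtain ⟨a, z, ⟨ζ, hζ, hζW, rfl⟩, e⟩ := LemN.lemN_M h.fr h.btc h.co hq hu hD (h.mem_V.2 ⟨γ, rfl⟩)
  have h1 : p ζ = 0 := (h.fr.p_ker ζ hζW).2 (h.cenW hζ.2)
  rw [h1, add_zero, LemN.br_apply] at e
  exact ⟨a, e.symm⟩

/-- `C_M(L) ≤ e^⊥` -/
theorem CC_perp (hq : 4 ≤ Nat.card F) (hA : ∃ u ∈ UU V R j, u ∉ DD V R) {m : M} (hm : m ∈ CC d) :
    φ m (p (v 0 1)) = 0 := by
  obtain ⟨u, hu, hD⟩ := hA
  set u' : NR R i := ⟨u, h.bt.cen_le_N i (UU_le_cen j hu)⟩ with hu'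
  obtain ⟨a, ha⟩ := lemN (h := h) hq (u := u') hu hD 1
  rw [one_smul] at ha
  have hc : (u' : G) ∈ centralizer (R i : Set G) := centralizer_le (h.bt.R_le i) (UU_le_cen j hu)
  have h1 := h.phi_cen hc m a
  rw [fix_A d hm hu] at h1
  rw [← ha, map_sub, h1, sub_self]

/-- `C_M(L) = e ⊕ (C_M(L) ∩ M₁)` -/
theorem dec (hq : 4 ≤ Nat.card F) (hA : ∃ u ∈ UU V R j, u ∉ DD V R) {m : M} (hm : m ∈ CC d) :
    ∃ γ : F, ∃ z ∈ CC d, z ∈ h.M1 τ ∧ m = γ • p (v 0 1) + z := by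
  obtain ⟨N, _, _, P1, P2, y⟩ := h.co.exists_yPair h.bt
  obtain ⟨n, sf, q, E⟩ := h.exists_eig τ y
  obtain ⟨γ, z, hz, g, e⟩ := (E.mem_U m).1 (CC_perp d hq hA hm)
  obtain ⟨a, ha⟩ := h.exists_unit
  have hai : (a : F)⁻¹ - 1 ≠ 0 := fun e => ha (by rw [← inv_inv (a : F), sub_eq_zero.1 e, inv_one])
  have ha1 : (a : F) - 1 ≠ 0 := sub_ne_zero.2 ha
  have hT := smul_mem d (d.T_mem a) hm
  have hng := E.n_mem g a
  have hz1 := hz a
  have e1 : tT τ a • m = ((a : F)⁻¹ * γ) • p (v 0 1) + z + (a : F) • n g := by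
    rw [e, smul_add, smul_add, h.T_smul_e τ, hz1, hng, mul_comm]
  have hT2 := smul_mem d (d.T_mem a) hT
  have e2 : tT τ a • tT τ a • m = ((a : F)⁻¹ * ((a : F)⁻¹ * γ)) • p (v 0 1) + z + (a : F) • (a : F) • n g := by
    rw [e1, smul_add, smul_add, h.T_smul_e τ, hz1, h.T_lin τ, hng, mul_comm]
  -- `(T - a)(T - a⁻¹) m = (1 - a)(1 - a⁻¹) z`
  have h1 : tT τ a • tT τ a • m - ((a : F) + (a : F)⁻¹) • tT τ a • m + m ∈ CC d :=
    (CC d).add_mem ((CC d).sub_mem hT2 ((CC d).smul_mem _ hT)) hm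
  have h3 : (a : F) * (a : F)⁻¹ = 1 := mul_inv_cancel₀ a.ne_zero
  have e3 : tT τ a • tT τ a • m - ((a : F) + (a : F)⁻¹) • tT τ a • m + m =
      (((a : F) - 1) * ((a : F)⁻¹ - 1)) • z := by
    rw [e2, e1, e]
    match_scalars
    · linear_combination (-γ) * h3
    · linear_combination (-1 : F) * h3
    · linear_combination (-1 : F) * h3
  rw [e3] at h1
  have hzC : z ∈ CC d := by
    have h4 := (CC d).smul_mem (((a : F) - 1) * ((a : F)⁻¹ - 1))⁻¹ h1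
    rwa [smul_smul, inv_mul_cancel₀ (mul_ne_zero ha1 hai), one_smul] at h4
  -- `z = 0`
  have hz0 : z = 0 := by
    refine E.inj z hz fun g' => ?_
    obtain ⟨u, hu, hu1, hu2⟩ := y.surj 0 g'
    have huj : u ∈ UU V R j := (y.mem_U2 u hu).2 hu1
    set u' : NR R i := ⟨u, h.bt.cen_le_N i (UU_le_cen j huj)⟩ with hu'
    have h5 := E.A_0 u' huj z hz
    rw [fix_A d hzC (u := u') huj] at h5
    have h6 := h.e_smul_eq_zero (left_eq_add.1 h5)
    have h7 : P2 (u' : G) = g' := hu2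
    rwa [h7] at h6
  rw [hz0, add_zero] at e
  have hg : n g ∈ CC d := by
    have h5 : n g = m - γ • p (v 0 1) := by rw [e]; abel
    rw [h5]
    exact (CC d).sub_mem hm ((CC d).smul_mem γ (e_mem d))
  exact ⟨γ, n g, hg, E.n_mem g, e⟩

omit d in
include h τ in
theorem exists_eps {γ : F} (hγ : γ ≠ 0) : ∃ ε : M →ₗ[F] F, ε (γ • p (v 0 1)) = 1 ∧ ∀ z ∈ h.M1 τ, ε z = 0 := by
  obtain ⟨N, _, _, P1, P2, y⟩ := h.co.exists_yPair h.bt
  have hn : p (v 0 1) ∉ h.M1 τ := fun h1 => h.e_ne (h.M1_D τ y h1 (h.e_mem_D τ))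
  obtain ⟨f, hf, hf'⟩ := Submodule.exists_dual_map_eq_bot_of_notMem hn inferInstance
  refine ⟨(γ * f (p (v 0 1)))⁻¹ • f, ?_, fun z hz => ?_⟩
  · rw [LinearMap.smul_apply, map_smul, smul_eq_mul, smul_eq_mul]
    exact inv_mul_cancel₀ (mul_ne_zero hγ hf)
  · have h1 : f z ∈ (h.M1 τ).map f := ⟨z, hz, rfl⟩
    rw [hf', Submodule.mem_bot] at h1
    rw [LinearMap.smul_apply, h1, smul_zero]

/-- (K): an element of `Γ` stabilising `e` stabilises `C_M(L) ∩ M₁` -/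
theorem stab_M1 {k : NR R i} (hk : k ∈ Γ) {c : F} (hc : c ≠ 0)
    (hke : k • p (v 0 1) = c • p (v 0 1)) {z : M} (hz : z ∈ CC d) (hz1 : z ∈ h.M1 τ) : k • z ∈ h.M1 τ := by
  have hkV := norm_V h hke
  intro b
  set a : Fˣ := Units.map (s k⁻¹).toMonoidHom b with ha
  have hab : s k a = b := by
    change s k (s k⁻¹ b) = b
    exact s_inv h k b
  set x : NR R i := k * tT τ a * k⁻¹ with hx
  have hxX : (x : G) ∈ XX V R := conj_mem_of_normalizer (h.bt.NV_le_NX hkV) (τ.memX a a.ne_zero)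
  obtain ⟨a', u, hu, hxu⟩ := act_X h τ hxX
  have hxC : ∀ m ∈ CC d, x • m = tT τ a' • m := fun m hm => by
    rw [hxu, fix_A d (smul_mem d (d.T_mem a') hm) hu]
  -- `a' = b`
  have e1 : x • (c • p (v 0 1)) = (c * (b : F)⁻¹) • p (v 0 1) := by
    rw [← hke, hx, mul_smul, mul_smul, inv_smul_smul, h.T_e τ, h.semi, hke, smul_smul, map_inv₀, hab, mul_comm]
  have e2 : x • (c • p (v 0 1)) = (c * (a' : F)⁻¹) • p (v 0 1) := by
    rw [hxC _ ((CC d).smul_mem c (e_mem d)), h.T_smul_e τ]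
  have e3 : (a' : F) = b := by
    have h1 : (c * (a' : F)⁻¹ - c * (b : F)⁻¹) • p (v 0 1) = 0 := by rw [sub_smul, ← e1, ← e2, sub_self]
    have h2 := sub_eq_zero.1 (h.e_smul_eq_zero h1)
    exact inv_injective (mul_left_cancel₀ hc h2)
  have e4 : x • k • z = (b : F) • k • z := by
    rw [hx, mul_smul, mul_smul, inv_smul_smul, hz1 a, h.semi, hab]
  have e5 : a' = b := Units.ext e3
  rw [hxC _ (smul_mem d hk hz), e5] at e4
  exact e4

/-! ### the functionals -/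

omit d [Finite G] [Finite F] in
/-- the functional `x ↦ g ε (g⁻¹ x)` -/
def Fn (h : FMod V R i j v w1 w2 M B p r f φ s) (ε : M →ₗ[F] F) (g : NR R i) : M →ₗ[F] F where
  toFun x := s g (ε (g⁻¹ • x))
  map_add' x z := by rw [smul_add, map_add, map_add]
  map_smul' l x := by
    rw [h.semi, map_smul, smul_eq_mul, map_mul, s_inv h]
    rfl

omit d [Finite G] [Finite F] in
theorem Fn_apply (ε : M →ₗ[F] F) (g : NR R i) (x : M) : Fn h ε g x = s g (ε (g⁻¹ • x)) := rfl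

omit d in
/-- the orbit of `u₀` under `Γ` -/
def Dl (Γ : Subgroup (NR R i)) (u₀ : M) : Set M := {d | ∃ g ∈ Γ, g • u₀ = d}

open Classical in
omit d in
/-- the functionals -/
noncomputable def ph (h : FMod V R i j v w1 w2 M B p r f φ s) (ε : M →ₗ[F] F) (u₀ : M) (Γ : Subgroup (NR R i)) :
    M → M →ₗ[F] F :=
  fun d => if hd : ∃ g ∈ Γ, g • u₀ = d then Fn h ε hd.choose else 0

/-- the vector `u₀` and the functional `ε` -/
structure Ep (h : FMod V R i j v w1 w2 M B p r f φ s) (τ : TorD V R i j v t) (u₀ : M) (ε : M →ₗ[F] F) : Prop where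
  u0 : ∃ γ : F, γ ≠ 0 ∧ u₀ = γ • p (v 0 1)
  one : ε u₀ = 1
  zero : ∀ z ∈ h.M1 τ, ε z = 0

section ep

variable {u₀ : M} {ε : M →ₗ[F] F} (ep : Ep h τ u₀ ε) (hq : 4 ≤ Nat.card F) (hA : ∃ u ∈ UU V R j, u ∉ DD V R)
include ep

omit d [Finite G] [Finite F] in
theorem T_u (a : Fˣ) : tT τ a • u₀ = (a : F)⁻¹ • u₀ := by
  obtain ⟨γ, -, e⟩ := ep.u0
  rw [e, h.T_smul_e τ, smul_smul, mul_comm]

omit [Finite G] [Finite F] in
theorem u_mem : u₀ ∈ CC d := by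
  obtain ⟨γ, -, e⟩ := ep.u0
  rw [e]
  exact (CC d).smul_mem γ (e_mem d)

omit d [Finite G] [Finite F] in
theorem stab_u {k : NR R i} {c : F} (hc : c ≠ 0) (hk : k • u₀ = c • u₀) :
    ∃ c' : F, c' ≠ 0 ∧ k • p (v 0 1) = c' • p (v 0 1) := by
  obtain ⟨γ, hγ, e⟩ := ep.u0
  have h1 : s k γ ≠ 0 := fun h0 => hγ ((map_eq_zero_iff _ (s k).injective).1 h0)
  refine ⟨(s k γ)⁻¹ * (c * γ), mul_ne_zero (inv_ne_zero h1) (mul_ne_zero hc hγ), ?_⟩
  rw [e, h.semi, smul_smul] at hk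
  rw [mul_smul, ← hk, smul_smul, inv_mul_cancel₀ h1, one_smul]

include hq hA

theorem dec' {z : M} (hz : z ∈ CC d) : ∃ z₁ ∈ CC d, z₁ ∈ h.M1 τ ∧ z = ε z • u₀ + z₁ := by
  obtain ⟨γ, z₁, h1, h2, e⟩ := dec d hq hA hz
  obtain ⟨γ₀, hγ₀, e0⟩ := ep.u0
  refine ⟨z₁, h1, h2, ?_⟩
  have e1 : γ • p (v 0 1) = (γ * γ₀⁻¹) • u₀ := by
    rw [e0, smul_smul, mul_assoc, inv_mul_cancel₀ hγ₀, mul_one]
  have e2 : ε z = γ * γ₀⁻¹ := by
    rw [e, e1, map_add, map_smul, ep.one, ep.zero z₁ h2, smul_eq_mul, mul_one, add_zero]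
  rw [e2, ← e1]
  exact e

theorem Fn_unique {g g' : NR R i} (hg : g ∈ Γ)
    (hg' : g' ∈ Γ) (e : g • u₀ = g' • u₀) {x : M} (hx : x ∈ CC d) :
    Fn h ε g x = Fn h ε g' x := by
  set k : NR R i := g⁻¹ * g' with hk
  have hkN : k⁻¹ ∈ Γ := inv_mem (mul_mem (inv_mem hg) hg')
  have hku : k⁻¹ • u₀ = u₀ := by
    rw [inv_smul_eq_iff, hk, mul_smul, ← e, inv_smul_smul]
  obtain ⟨c', hc', hce⟩ := stab_u ep (k := k⁻¹) (c := 1) one_ne_zero (by rw [hku, one_smul])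
  have hz : g⁻¹ • x ∈ CC d := smul_mem d (inv_mem hg) hx
  obtain ⟨z₁, hz₁, hz₂, e1⟩ := dec' d ep hq hA hz
  have e2 : g'⁻¹ • x = k⁻¹ • g⁻¹ • x := by
    rw [← mul_smul, hk]
    congr 1
    group
  have e3 : ε (g'⁻¹ • x) = s k⁻¹ (ε (g⁻¹ • x)) := by
    rw [e2]
    generalize ε (g⁻¹ • x) = c at e1
    rw [e1, smul_add, h.semi, hku, map_add, ep.zero _ (stab_M1 d hkN hc' hce hz₁ hz₂), LinearMap.map_smul,
      ep.one, smul_eq_mul, mul_one, add_zero]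
  rw [Fn_apply, Fn_apply, e3, ← s_mul h]
  congr 2
  rw [hk]
  group

theorem ph_eq {g : NR R i} (hg : g ∈ Γ) {x : M} (hx : x ∈ CC d) :
    ph h ε u₀ Γ (g • u₀) x = s g (ε (g⁻¹ • x)) := by
  have hd : ∃ g' ∈ Γ, g' • u₀ = g • u₀ := ⟨g, hg, rfl⟩
  unfold ph
  rw [dif_pos hd]
  exact Fn_unique d ep hq hA hd.choose_spec.1 hg hd.choose_spec.2 hx

theorem ph_act {κ : NR R i} (hκ : κ ∈ Γ) {y : M} (hy : y ∈ Dl Γ u₀) {x : M}
    (hx : x ∈ CC d) : ph h ε u₀ Γ (κ • y) (κ • x) = s κ (ph h ε u₀ Γ y x) := by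
  obtain ⟨g, hg, rfl⟩ := hy
  rw [← mul_smul, ph_eq d ep hq hA (mul_mem hκ hg) (smul_mem d hκ hx), ph_eq d ep hq hA hg hx, ← s_mul h]
  congr 2
  rw [← mul_smul]
  congr 1
  group

omit d hq hA [Finite G] [Finite F] in
theorem act_D {κ : NR R i} (hκ : κ ∈ Γ) {y : M} (hy : y ∈ Dl Γ u₀) :
    κ • y ∈ Dl Γ u₀ := by
  obtain ⟨g, hg, rfl⟩ := hy
  exact ⟨κ * g, mul_mem hκ hg, mul_smul _ _ _⟩

omit hq hA [Finite G] [Finite F] in
theorem D_le {y : M} (hy : y ∈ Dl Γ u₀) : y ∈ CC d := by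
  obtain ⟨g, hg, rfl⟩ := hy
  exact smul_mem d hg (u_mem d ep)

omit d hq hA [Finite G] [Finite F] in
theorem exists_tor (g : NR R i) {c : F} (hc : c ≠ 0) : ∃ a : Fˣ, s g a = c := by
  refine ⟨Units.map (s g⁻¹).toMonoidHom (Units.mk0 c hc), ?_⟩
  change s g (s g⁻¹ c) = c
  exact s_inv h g c

omit hq hA [Finite G] [Finite F] in
theorem smul_D {y : M} (hy : y ∈ Dl Γ u₀) {c : F} (hc : c ≠ 0) : c • y ∈ Dl Γ u₀ := by
  obtain ⟨g, hg, rfl⟩ := hy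
  obtain ⟨a, ha⟩ := exists_tor ep g (inv_ne_zero hc)
  refine ⟨g * tT τ a, mul_mem hg (d.T_mem a), ?_⟩
  rw [mul_smul, T_u ep, h.semi, map_inv₀, ha, inv_inv]

omit d ep hq hA [Finite G] [Finite F] in
theorem tT_inv (a : Fˣ) : (tT τ a)⁻¹ = tT τ a⁻¹ := by
  rw [inv_eq_iff_mul_eq_one, ← tT_mul, mul_inv_cancel]
  exact Subtype.ext τ.one

theorem eps_T {z : M} (hz : z ∈ CC d) (a : Fˣ) : ε (tT τ a⁻¹ • z) = a * ε z := by
  obtain ⟨z₁, -, hz₂, e⟩ := dec' d ep hq hA hz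
  have e2 : tT τ a⁻¹ • z = (ε z * a) • u₀ + ((a⁻¹ : Fˣ) : F) • z₁ := by
    conv_lhs => rw [e, smul_add, h.T_lin τ, T_u ep, hz₂ a⁻¹, Units.val_inv_eq_inv_val, inv_inv, smul_smul]
    rw [Units.val_inv_eq_inv_val]
  have e3 := ep.zero _ hz₂
  have e4 := ep.one
  rw [e2]
  simp only [map_add, map_smul, smul_eq_mul, e3, e4, mul_one, mul_zero, add_zero]
  rw [mul_comm]

theorem ph_smul' {y : M} (hy : y ∈ Dl Γ u₀) {c : F} (hc : c ≠ 0) {x : M} (hx : x ∈ CC d) :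
    ph h ε u₀ Γ (c • y) x = c⁻¹ * ph h ε u₀ Γ y x := by
  obtain ⟨g, hg, rfl⟩ := hy
  obtain ⟨a, ha⟩ := exists_tor ep g (inv_ne_zero hc)
  have e1 : c • g • u₀ = (g * tT τ a) • u₀ := by
    rw [mul_smul, T_u ep, h.semi, map_inv₀, ha, inv_inv]
  rw [e1, ph_eq d ep hq hA (mul_mem hg (d.T_mem a)) hx, ph_eq d ep hq hA hg hx, s_mul h, s_T h τ, mul_inv_rev,
    mul_smul, tT_inv]
  rw [eps_T d ep hq hA (smul_mem d (inv_mem hg) hx), map_mul, ha]

/-- the homology `hh d μ` is induced by an element of `Γ` up to a scalar -/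
theorem hh_eq {y : M} (hy : y ∈ Dl Γ u₀) {μ : F} (hμ : μ ≠ 0) :
    ∃ κ ∈ Γ, ∃ ρ : F, ρ ≠ 0 ∧ (∀ l, s κ l = l) ∧
      ∀ x ∈ CC d, HomLem.hh (ph h ε u₀ Γ) y μ x = ρ⁻¹ • κ • x := by
  obtain ⟨ν, hν⟩ := FiniteField.isSquare_of_char_two (F := F) (ringChar.eq F 2 ▸ rfl : ringChar F = 2) μ
  have hν0 : ν ≠ 0 := by
    rintro rfl
    exact hμ (by rw [hν, mul_zero])
  obtain ⟨g, hg, rfl⟩ := hy
  obtain ⟨a, ha⟩ := exists_tor ep g (inv_ne_zero hν0)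
  refine ⟨g * tT τ a * g⁻¹, mul_mem (mul_mem hg (d.T_mem a)) (inv_mem hg), ν⁻¹, inv_ne_zero hν0, fun l => ?_,
    fun x hx => ?_⟩
  · rw [s_mul h, s_mul h, s_T h τ, s_inv h]
  · have hz := smul_mem d (inv_mem hg) hx
    obtain ⟨z₁, hz₁, hz₂, e⟩ := dec' d ep hq hA hz
    have h2 := two0 F
    have e1 : x = g • g⁻¹ • x := (smul_inv_smul g x).symm
    unfold HomLem.hh
    rw [ph_eq d ep hq hA hg hx, mul_smul (g * tT τ a), mul_smul g]
    have e2 : g • tT τ a • g⁻¹ • x = (ν * s g (ε (g⁻¹ • x))) • g • u₀ + ν⁻¹ • g • z₁ := by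
      conv_lhs => rw [e, smul_add, h.T_lin τ, T_u ep, hz₂ a, smul_add, h.semi, h.semi, h.semi, map_inv₀, ha, inv_inv,
        smul_smul]
      rw [mul_comm]
    have e3 : x = s g (ε (g⁻¹ • x)) • g • u₀ + g • z₁ := by
      conv_lhs => rw [e1, e, smul_add, h.semi]
    rw [e2]
    nth_rw 1 [e3]
    rw [inv_inv, hν]
    generalize s g (ε (g⁻¹ • x)) = C
    generalize g • u₀ = U
    generalize g • z₁ = Z
    have h3 : ν * ν⁻¹ = 1 := mul_inv_cancel₀ hν0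
    match_scalars
    · linear_combination C * h2
    · linear_combination (-1 : F) * h3

/-- **the system of homologies** -/
theorem homSys : HomSys (Dl Γ u₀) (ph h ε u₀ Γ) where
  smul y hy c hc := smul_D d ep hy hc
  self y hy := by
    obtain ⟨g, hg, rfl⟩ := hy
    rw [ph_eq d ep hq hA hg (smul_mem d hg (u_mem d ep)), inv_smul_smul, ep.one, map_one]
  ph_smul y hy c hc x hx := ph_smul' d ep hq hA hy hc (D_le d ep hx)
  mem y hy μ hμ x hx := by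
    obtain ⟨κ, hκ, ρ, hρ, -, e⟩ := hh_eq d ep hq hA hy hμ
    rw [e x (D_le d ep hx)]
    exact smul_D d ep (act_D ep hκ hx) (inv_ne_zero hρ)
  equi y hy μ hμ x hx z hz := by
    obtain ⟨κ, hκ, ρ, hρ, hs, e⟩ := hh_eq d ep hq hA hy hμ
    have hxC := D_le d ep hx
    have hzC := D_le d ep hz
    rw [e x hxC, e z hzC, ph_smul' d ep hq hA (act_D ep hκ hx) (inv_ne_zero hρ)
      ((CC d).smul_mem _ (smul_mem d hκ hzC)), map_smul, smul_eq_mul, inv_inv, mul_inv_cancel_left₀ hρ,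
      ph_act d ep hq hA hκ hx hzC, hs]

end ep

end Cfsg.Agent.Omega.Lie.Fix
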