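import Cfsg.Agent.Omega.Lie.FixB
import Cfsg.Agent.Omega.BTwo.SemiBasic

/-!
# THEOREM FIX (#15651), step (3)

`exists_a` : for `g ∈ Γ` with `g u₀ ∈ M₁` there is `a ∈ U j` which fixes `M₁` pointwise and has
`[m, a] ∈ φ(m, e₁) g u₀ + e`; `final` : three points of `Δ` give a contradiction.
-/

set_option autoImplicit false
set_option linter.unusedSectionVars false

namespace Cfsg.Agent.Omega.Lie.Fix

open Subgroup Cfsg.Agent.Omega.BTwo Cfsg.Agent.Lib.SL2Mat Cfsg.Agent.Omega.Lie.HomLem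

universe u v w

variable {G : Type u} [Group G] {ι : Type w} {V : Subgroup G} {R : ι → Subgroup G} {i j : ι}

theorem comm_conj {n u x z : G} (e : (u * x * u⁻¹ * x⁻¹) * z = z * (u * x * u⁻¹ * x⁻¹)) :
    (n * z * n⁻¹) * ((n * u * n⁻¹) * (n * x * n⁻¹) * (n * u * n⁻¹)⁻¹ * (n * x * n⁻¹)⁻¹) =
      ((n * u * n⁻¹) * (n * x * n⁻¹) * (n * u * n⁻¹)⁻¹ * (n * x * n⁻¹)⁻¹) * (n * z * n⁻¹) := by
  rw [conj_comm]
  calc n * z * n⁻¹ * (n * (u * x * u⁻¹ * x⁻¹) * n⁻¹) = n * (z * (u * x * u⁻¹ * x⁻¹)) * n⁻¹ := by group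
    _ = n * ((u * x * u⁻¹ * x⁻¹) * z) * n⁻¹ := by rw [e]
    _ = _ := by group

variable {F : Type v} [Field F] [CharP F 2] {v : F → F → G} {w1 w2 : F → G}
variable {M B : Type u} [AddCommGroup M] [AddCommGroup B] [DistribMulAction (NR R i) M]
  [DistribMulAction (NR R i) B] [Module F M] {p : G → M} {r : G → B} {f : M →+ M →+ B}
  {φ : M →ₗ[F] M →ₗ[F] F} {s : NR R i → (F ≃+* F)}
variable {h : FMod V R i j v w1 w2 M B p r f φ s}
variable {t : F → G} {τ : TorD V R i j v t} {L Γ : Subgroup (NR R i)} (d : SN h τ L Γ)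
variable [Finite G] [Finite F] {u₀ : M} {ε : M →ₗ[F] F} (ep : Ep h τ u₀ ε)
include d ep

/-- `g e₁` is a multiple of `g u₀` -/
theorem ge_mem (g : NR R i) : ∃ c : F, g • p (v 0 1) = c • g • u₀ := by
  obtain ⟨γ, hγ, e⟩ := ep.u0
  refine ⟨(s g γ)⁻¹, ?_⟩
  have h1 : s g γ ≠ 0 := fun h0 => hγ ((map_eq_zero_iff _ (s g).injective).1 h0)
  rw [e, h.semi, smul_smul, inv_mul_cancel₀ h1, one_smul]

/-- (3), (i)-(iii) -/
theorem exists_a {g : NR R i} (hg : g ∈ Γ) (hg1 : g • u₀ ∈ h.M1 τ) :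
    ∃ a : NR R i, (a : G) ∈ UU V R j ∧ (∀ m ∈ h.M1 τ, a • m = m) ∧
      ∀ m : M, ∃ γ : F, a • m - m = φ m (p (v 0 1)) • g • u₀ + γ • p (v 0 1) := by
  obtain ⟨N, _, _, P1, P2, y⟩ := h.co.exists_yPair h.bt
  obtain ⟨n, sf, q, E⟩ := h.exists_eig τ y
  obtain ⟨a₁, ha₁⟩ := h.exists_unit
  set nw := nn w1 w2 (1 : F) with hnw
  have hnwX : nw ∈ XX V R := h.co.nn_mem_X h.bt 1
  have hnwV := h.bt.X_le_NV hnwX
  have hn12 : cj nw (R i) = R j := h.co.nn_R1 h.bt one_ne_zero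
  have hn21 : cj nw (R j) = R i := h.co.nn_R2 h.bt one_ne_zero
  have hU12 : cj nw (UU V R i) = UU V R j := h.bt.cj_UU hnwV hn12
  have hU21 : cj nw (UU V R j) = UU V R i := h.bt.cj_UU hnwV hn21
  have nwact : ∀ β γ, nw * v β γ * nw⁻¹ = v γ β := fun β γ => by
    have h1 := h.co.nn_act (one_ne_zero (α := F)) β γ
    rwa [inv_one, one_mul, one_mul] at h1
  have nwact' : ∀ β γ, nw⁻¹ * v β γ * nw = v γ β := fun β γ => by
    rw [← nwact γ β]; group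
  -- the element `z` of `V ^ g`
  obtain ⟨γ₀, hγ₀, hu₀⟩ := ep.u0
  set z : G := (g : G) * v 0 γ₀ * (g : G)⁻¹ with hz
  have hzW : z ∈ WW V (R i) := conj_mem_of_normalizer (normalizer_le_WW V (R i) g.2) (h.fr.v_mem_W h.co h.bt 0 γ₀)
  have hpz : p z = g • u₀ := by
    rw [hz, ← h.fr.p_act g _ (h.fr.v_mem_W h.co h.bt 0 γ₀), p_v0 h γ₀, hu₀]
  have hzU : z ∈ UU V R i := by
    have h1 : p z ∈ h.fr.sb (UU V R i) := by
      rw [hpz]
      exact h.mem_U.2 (h.M1_U τ hg1)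
    exact (h.fr.p_mem_iff hzW (h.bt.R_le_U i)).1 h1
  have hnz : n (P1 z) = g • u₀ := by
    have h1 := E.p_n z hzU
    rw [hpz] at h1
    have h2 := h.M1_D τ y ((h.M1 τ).sub_mem hg1 (E.n_mem (P1 z))) h1
    exact (sub_eq_zero.1 h2).symm
  -- the element `a`
  have hz2 : nw * z * nw⁻¹ ∈ UU V R j := by
    rw [← hU12]
    exact conj_mem_cj hzU
  set a : NR R i := ⟨nw * z * nw⁻¹, h.bt.cen_le_N i (UU_le_cen j hz2)⟩ with ha
  have haU : (a : G) ∈ UU V R j := hz2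
  have hac : (a : G) ∈ centralizer (R i : Set G) := centralizer_le (h.bt.R_le i) (UU_le_cen j haU)
  have hP2 : P2 (a : G) = P1 z := by
    have h1 := (y.nn1 h.bt h.co (one_ne_zero (α := F)) (UU_le_YY i hzU)).2
    rwa [inv_one, one_smul] at h1
  -- the commutators
  have hcomm : ∀ w ∈ UU V R i, ∀ b : Fˣ, (a : G) * (w * t b * w⁻¹ * (t b)⁻¹) =
      (w * t b * w⁻¹ * (t b)⁻¹) * (a : G) := by
    intro w hw b
    have hu : nw⁻¹ * w * nw ∈ UU V R j := by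
      have h1 : w ∈ cj nw (UU V R j) := by rw [hU21]; exact hw
      exact mem_cj.1 h1
    have hxX : nw⁻¹ * t b * nw ∈ XX V R := mul_mem (mul_mem (inv_mem hnwX) (τ.memX b b.ne_zero)) hnwX
    have hxN : nw⁻¹ * t b * nw ∈ normalizer (R i : Set G) := by
      rw [← cj_eq_self_iff, mul_assoc, cj_mul, cj_mul, hn12, cj_eq_self_iff.2 (τ.normR' b.ne_zero), ← hn12,
        ← cj_mul, inv_mul_cancel, cj_one]
    set u' : NR R i := ⟨_, h.bt.cen_le_N i (UU_le_cen j hu)⟩ with hu'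
    set x : NR R i := ⟨_, hxN⟩ with hx
    have hxv : ∀ β γ, (x : G) * v β γ * (x : G)⁻¹ = v ((b : F)⁻¹ * β) (b * γ) := by
      intro β γ
      have e : (x : G) * v β γ * (x : G)⁻¹ = nw⁻¹ * (t b * (nw * v β γ * nw⁻¹) * (t b)⁻¹) * nw := by
        change nw⁻¹ * t b * nw * v β γ * (nw⁻¹ * t b * nw)⁻¹ = _
        group
      rw [e, nwact, τ.act b γ β b.ne_zero, nwact']
    have hxR : ∀ β, (x : G) * v β 0 * (x : G)⁻¹ = v ((b : F)⁻¹ * β) 0 := fun β => by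
      rw [hxv, mul_zero]
    have hxe1 : x • p (v 0 1) = (b : F) • p (v 0 1) := by
      rw [h.fr.p_act _ _ (h.fr.v_mem_W h.co h.bt 0 1), hxv, mul_zero, mul_one, p_v0 h]
    -- `x` acts on `C_M(L)` as `t b⁻¹`
    obtain ⟨a', u'', hu'', hxu⟩ := act_X h τ (x := x) hxX
    have hxC : ∀ m ∈ CC d, x • m = tT τ a' • m := fun m hm => by
      rw [hxu, fix_A d (smul_mem d (d.T_mem a') hm) hu'']
    have ha' : (a' : F)⁻¹ = b := by
      have h1 := hxC _ (e_mem d)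
      rw [hxe1, h.T_e τ] at h1
      have h2 : ((b : F) - (a' : F)⁻¹) • p (v 0 1) = 0 := by rw [sub_smul, h1, sub_self]
      exact (sub_eq_zero.1 (h.e_smul_eq_zero h2)).symm
    have ha'' : (a' : F) = (b : F)⁻¹ := by rw [← ha', inv_inv]
    obtain ⟨c, hc⟩ := ge_mem d ep g
    have hge : g • p (v 0 1) ∈ h.M1 τ := by rw [hc]; exact (h.M1 τ).smul_mem c hg1
    have hgC : g • p (v 0 1) ∈ CC d := smul_mem d hg (e_mem d)
    have hxe : x • g • p (v 0 1) = (b : F)⁻¹ • g • p (v 0 1) := by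
      rw [hxC _ hgC, hge a', ha'']
    have h1 := comm_V h (inv_ne_zero b.ne_zero) hxR hxe
      (centralizer_le (h.bt.R_le i) (UU_le_cen j (hu : (u' : G) ∈ _))) (fix_A d hgC (u := u') hu)
      (h.co.v_mem 0 γ₀)
    have h2 := comm_conj (n := nw) (u := (u' : G)) (x := (x : G)) (z := z) h1
    have e1 : nw * (u' : G) * nw⁻¹ = w := by
      change nw * (nw⁻¹ * w * nw) * nw⁻¹ = w
      group
    have e2 : nw * (x : G) * nw⁻¹ = t b := by
      change nw * (nw⁻¹ * t b * nw) * nw⁻¹ = t b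
      group
    rw [e1, e2] at h2
    exact h2
  -- `a` fixes `M₁`
  have haM1 : ∀ m ∈ h.M1 τ, a • m = m := by
    intro m hm
    obtain ⟨w, hw, hwW, rfl⟩ := h.mem_U.2 (h.M1_U τ hm)
    have hk := hcomm w hw a₁
    set k := w * t a₁ * w⁻¹ * (t a₁)⁻¹ with hkd
    have htw : t a₁ * w⁻¹ * (t a₁)⁻¹ ∈ WW V (R i) :=
      conj_mem_of_normalizer (normalizer_le_WW V (R i) (τ.normR a₁.ne_zero)) (inv_mem hwW)
    have hkW : k ∈ WW V (R i) := by
      have e : k = w * (t a₁ * w⁻¹ * (t a₁)⁻¹) := by rw [hkd]; group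
      rw [e]
      exact mul_mem hwW htw
    have hpk : p k = (1 - (a₁ : F)) • p w := by
      have e : k = w * (t a₁ * w⁻¹ * (t a₁)⁻¹) := by rw [hkd]; group
      have e2 : p (t a₁ * w⁻¹ * (t a₁)⁻¹) = tT τ a₁ • p w⁻¹ := (h.fr.p_act (tT τ a₁) _ (inv_mem hwW)).symm
      rw [e, h.fr.p_mul _ hwW _ htw, e2, h.fr.p_inv hwW, smul_neg, hm a₁, sub_smul, one_smul, sub_eq_add_neg]
    have h1 : a • p k = p k := by
      rw [h.fr.p_act a _ hkW, hk, mul_inv_cancel_right]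
    rw [hpk, h.lin_cen hac] at h1
    have h2 : (1 - (a₁ : F)) • (a • p w - p w) = 0 := by rw [smul_sub, h1, sub_self]
    exact sub_eq_zero.1 ((smul_eq_zero.1 h2).resolve_left (sub_ne_zero.2 (Ne.symm ha₁)))
  refine ⟨a, haU, haM1, fun m => ?_⟩
  -- `[m, a]`
  have h1 := E.A_top a haU m
  rw [hP2, hnz] at h1
  obtain ⟨γ, d', hd', e⟩ := (E.mem_D _).1 h1
  have hd0 : d' = 0 := by
    refine E.inj d' hd' fun g' => ?_
    have h2 := h.phi_cen hac m (n g')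
    rw [haM1 _ (E.n_mem g')] at h2
    have h3 : φ (a • m - m - φ m (p (v 0 1)) • g • u₀) (n g') = 0 := by
      rw [map_sub, map_sub, LinearMap.sub_apply, LinearMap.sub_apply, h2, sub_self, zero_sub, map_smul,
        LinearMap.smul_apply, ← hnz, E.phi_11, smul_zero, neg_zero]
    rw [e, map_add, LinearMap.add_apply, map_smul, LinearMap.smul_apply, h.phi_symm (p (v 0 1)), E.phi_e1,
      smul_zero, zero_add] at h3
    exact h3
  rw [hd0, add_zero] at e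
  exact ⟨γ, by rw [← e]; abel⟩

/-- `x ∈ C_M(L)` with `ph (g u₀) x = 0` is an eigenvector of `g t g⁻¹` -/
theorem eig_of (hq : 4 ≤ Nat.card F) (hA : ∃ u ∈ UU V R j, u ∉ DD V R) {g : NR R i} (hg : g ∈ Γ) {x : M}
    (hx : x ∈ CC d) (h0 : ph h ε u₀ Γ (g • u₀) x = 0) (a : Fˣ) :
    (g * tT τ a * g⁻¹) • x = s g a • x := by
  rw [ph_eq d ep hq hA hg hx] at h0
  have h1 : ε (g⁻¹ • x) = 0 := (map_eq_zero_iff _ (s g).injective).1 h0
  obtain ⟨z₁, hz₁, hz₂, e⟩ := dec' d ep hq hA (smul_mem d (inv_mem hg) hx)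
  rw [h1, zero_smul, zero_add] at e
  have e2 : x = g • z₁ := by rw [← e, smul_inv_smul]
  rw [mul_smul, mul_smul, e2, inv_smul_smul, hz₂ a, h.semi]

/-- **step (3)** -/
theorem final (hq : 4 ≤ Nat.card F) (hA : ∃ u ∈ UU V R j, u ∉ DD V R) {g₂ g₃ : NR R i} (h2 : g₂ ∈ Γ) (h3 : g₃ ∈ Γ)
    (p12 : ph h ε u₀ Γ u₀ (g₂ • u₀) = 0) (p31 : ph h ε u₀ Γ (g₃ • u₀) u₀ = 0)
    (p32 : ph h ε u₀ Γ (g₃ • u₀) (g₂ • u₀) = 0) : False := by
  have huC := u_mem d ep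
  have h2C := smul_mem d h2 huC
  obtain ⟨γ₀, hγ₀, hu₀⟩ := ep.u0
  -- `g₂ u₀ ∈ M₁`
  have h21 : g₂ • u₀ ∈ h.M1 τ := by
    have h1 := ph_eq d ep hq hA (one_mem Γ) h2C
    rw [one_smul, inv_one, one_smul, s_one h, p12] at h1
    obtain ⟨z₁, -, hz₂, e⟩ := dec' d ep hq hA h2C
    rw [← h1, zero_smul, zero_add] at e
    rw [e]; exact hz₂
  obtain ⟨a, haU, haM1, hal⟩ := exists_a d ep h2 h21
  have hac : (a : G) ∈ centralizer (R i : Set G) := centralizer_le (h.bt.R_le i) (UU_le_cen j haU)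
  obtain ⟨a₁, ha₁⟩ := h.exists_unit
  set c := s g₃ a₁ with hc
  have hc1 : c ≠ 1 := fun e => ha₁ ((s g₃).injective (e.trans (map_one _).symm))
  have hc0 : c ≠ 0 := fun e => a₁.ne_zero ((map_eq_zero_iff _ (s g₃).injective).1 e)
  set t₃ : NR R i := g₃ * tT τ a₁ * g₃⁻¹ with ht₃
  have tu : t₃ • u₀ = c • u₀ := eig_of d ep hq hA h3 huC p31 a₁
  have t2 : t₃ • g₂ • u₀ = c • g₂ • u₀ := eig_of d ep hq hA h3 h2C p32 a₁
  -- `t₃` on `R i`
  have tR : ∀ β, (t₃ : G) * v β 0 * (t₃ : G)⁻¹ = v (c * β) 0 := by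
    intro β
    have h5 : ∀ γ, h.fr.sg h.co h.bt (tT τ a₁) γ = a₁ * γ := fun γ => (h.s_eq a₁.ne_zero (h.T_aux τ a₁) γ).2
    rw [conj_v0 h, ht₃, h.fr.sg_mul, h.fr.sg_mul, h5, h.semi_B, ← h.fr.sg_mul, mul_inv_cancel, h.fr.sg_one]
  have tlin := h.lin hc0 tR
  have tphi := h.phi_lin hc0 tR
  -- the plane `l`
  let l : Submodule F M := Submodule.span F {u₀, g₂ • u₀}
  have hl : ∀ x, x ∈ l ↔ ∃ α β : F, α • u₀ + β • g₂ • u₀ = x := fun x => Submodule.mem_span_pair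
  have hul : p (v 0 1) ∈ l := (hl _).2 ⟨γ₀⁻¹, 0, by
    rw [zero_smul, add_zero, hu₀, smul_smul, inv_mul_cancel₀ hγ₀, one_smul]⟩
  have h2l : g₂ • u₀ ∈ l := (hl _).2 ⟨0, 1, by rw [zero_smul, one_smul, zero_add]⟩
  have hal' : ∀ m : M, a • m - m ∈ l := fun m => by
    obtain ⟨γ, e⟩ := hal m
    rw [e]
    exact l.add_mem (l.smul_mem _ h2l) (l.smul_mem _ hul)
  have tl : ∀ x ∈ l, t₃ • x = c • x := by
    intro x hx
    obtain ⟨α, β, rfl⟩ := (hl x).1 hx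
    rw [smul_add, tlin, tlin, tu, t2, smul_add, smul_smul, smul_smul, smul_smul, smul_smul, mul_comm α, mul_comm β]
  have phl : ∀ x ∈ l, ph h ε u₀ Γ (g₃ • u₀) x = 0 := by
    intro x hx
    obtain ⟨α, β, rfl⟩ := (hl x).1 hx
    rw [map_add, map_smul, map_smul, p31, p32, smul_zero, smul_zero, add_zero]
  -- `b = t₃ a t₃⁻¹ a⁻¹`
  set b : NR R i := t₃ * a * t₃⁻¹ * a⁻¹ with hb
  have hbl : ∀ m : M, b • m - m ∈ l := by
    intro m
    set m' := t₃⁻¹ • a⁻¹ • m with hm'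
    have e1 : b • m = t₃ • a • m' := by rw [hb, mul_smul, mul_smul, mul_smul]
    have e2 : m = a • t₃ • m' := by rw [hm', smul_inv_smul, smul_inv_smul]
    have e3 : b • m - m = t₃ • (a • m' - m') - (a • t₃ • m' - t₃ • m') := by
      rw [e1, smul_sub]
      nth_rw 1 [e2]
      abel
    rw [e3, tl _ (hal' m')]
    exact l.sub_mem (l.smul_mem _ (hal' _)) (hal' _)
  -- `g₃⁻¹ b g₃` acts as an element of `U j`
  set a' : NR R i := g₃⁻¹ * a * g₃ with ha'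
  have ha'c : (a' : G) ∈ centralizer (R i : Set G) := by
    have h1 : (g₃ : G)⁻¹ * a * (g₃ : G)⁻¹⁻¹ ∈ centralizer (R i : Set G) :=
      conj_mem_of_normalizer (normalizer_le_normalizer_centralizer _ (inv_mem g₃.2)) hac
    rwa [inv_inv] at h1
  have ha'e : a' • p (v 0 1) = p (v 0 1) := by
    rw [ha', mul_smul, mul_smul, fix_A d (smul_mem d h3 (e_mem d)) haU, inv_smul_smul]
  have hsup := mem_sup h ha'c ha'e
  have hcs := comm_X_sup h.bt i hsup (τ.memX a₁ a₁.ne_zero) (τ.normR a₁.ne_zero)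
  rw [Y_sup_W h.bt h.co.ne] at hcs
  have hcs' := inv_mem hcs
  obtain ⟨y3, hy3, w3, hw3, e3⟩ := exists_mul_of_mem_sup
    ((UU_le_cen (R := R) j).trans (h.bt.cen_le_NW i)) hcs'
  set y' : NR R i := ⟨y3, h.bt.cen_le_N i (UU_le_cen j hy3)⟩ with hy'
  set w' : NR R i := ⟨w3, h.bt.W_le_N i hw3⟩ with hw'
  have hb' : g₃⁻¹ * b * g₃ = y' * w' := by
    apply Subtype.ext
    change (g₃ : G)⁻¹ * (g₃ * t a₁ * (g₃ : G)⁻¹ * a * (g₃ * t a₁ * (g₃ : G)⁻¹)⁻¹ * (a : G)⁻¹) * g₃ = y3 * w3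
    rw [← e3]
    change _ = (((g₃ : G)⁻¹ * a * g₃) * t a₁ * ((g₃ : G)⁻¹ * a * g₃)⁻¹ * (t a₁)⁻¹)⁻¹
    group
  have hb'' : ∀ m : M, b • m = g₃ • y' • g₃⁻¹ • m := by
    intro m
    have e : b = g₃ * (y' * w') * g₃⁻¹ := by rw [← hb']; group
    rw [e, mul_smul, mul_smul, mul_smul, h.fr.W_act h.bt (h := w') hw3]
  -- `y3 ∈ D`
  have hyD : y3 ∈ DD V R := by
    by_contra hD
    obtain ⟨m, hm⟩ := lemN (h := h) hq (u := y') hy3 hD γ₀
    rw [← hu₀] at hm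
    have h5 : b • g₃ • m - g₃ • m = g₃ • u₀ := by
      rw [hb'', inv_smul_smul, ← smul_sub, hm]
    have h6 := hbl (g₃ • m)
    rw [h5] at h6
    have h7 := phl _ h6
    rw [(homSys d ep hq hA).self _ ⟨g₃, h3, rfl⟩] at h7
    exact one_ne_zero h7
  have hb1 : ∀ m : M, b • m = m := fun m => by
    rw [hb'', h.fr.W_act h.bt (D_le_W V R i hyD : (y' : G) ∈ _), smul_inv_smul]
  -- `a t₃ = t₃ a` on `M`
  have hat : ∀ m : M, a • t₃ • m = t₃ • a • m := by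
    intro m
    have h5 := hb1 (a • t₃ • m)
    rw [hb, mul_smul, mul_smul, mul_smul, inv_smul_smul, inv_smul_smul] at h5
    exact h5.symm
  -- `l^⊥ ≤ C_M(a)`
  have hperp : ∀ z : M, (∀ x ∈ l, φ z x = 0) → a • z = z := by
    intro z hz
    apply h.ext
    intro x
    have e : x = a • a⁻¹ • x := (smul_inv_smul a x).symm
    have h5 := hz _ (hal' (a⁻¹ • x))
    rw [← e, map_sub, sub_eq_zero] at h5
    rw [h5]
    conv_lhs => rw [e]
    exact h.phi_cen hac _ _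
  set m0 := p (w1 1) with hm0
  have hm1 : φ m0 (p (v 0 1)) = 1 := h.phi_w1 1
  have h5 : a • (t₃ • m0 - m0) = t₃ • m0 - m0 := by
    apply hperp
    intro x hx
    have h6 := tphi m0 x
    rw [tl x hx, map_smul, smul_eq_mul] at h6
    have h7 := mul_left_cancel₀ hc0 h6
    rw [map_sub, LinearMap.sub_apply, h7, sub_self]
  have h6 : a • m0 - m0 = c • (a • m0 - m0) := by
    rw [← tl _ (hal' m0), smul_sub, ← hat]
    rw [smul_sub] at h5
    have h7 : a • t₃ • m0 - t₃ • m0 = (a • t₃ • m0 - a • m0) - (t₃ • m0 - m0) + (a • m0 - m0) := by abel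
    rw [h7, h5]
    abel
  have h7 : (1 - c) • (a • m0 - m0) = 0 := by rw [sub_smul, one_smul, ← h6, sub_self]
  have h8 := (smul_eq_zero.1 h7).resolve_left (sub_ne_zero.2 (Ne.symm hc1))
  obtain ⟨γ, e⟩ := hal m0
  rw [h8, hm1, one_smul] at e
  -- `g₂ u₀ ∈ e ∩ M₁ = 0`
  obtain ⟨N, _, _, P1, P2, y⟩ := h.co.exists_yPair h.bt
  have h9 : g₂ • u₀ ∈ h.fr.sb (DD V R) := by
    have h10 : g₂ • u₀ = (-γ) • p (v 0 1) := by
      rw [neg_smul, eq_neg_iff_add_eq_zero]; exact e.symm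
    rw [h10]
    exact h.D_smul_e τ _
  have h10 := h.M1_D τ y h21 h9
  rw [smul_eq_zero_iff_eq] at h10
  have h11 := ep.one
  rw [h10, map_zero] at h11
  exact zero_ne_one h11

end Cfsg.Agent.Omega.Lie.Fix
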