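import Cfsg.Agent.Omega.Lie.FixC

/-!
# THEOREM FIX (#15651), level of `N(R i)`

**`main`** : `Γ ≤ N(R i)` contains the torus, `L ≥ U j` is normalised by `Γ`, `L ≤ C(R i)` fixes `e`, and some `Q ≤ Γ` of
odd index stabilises `e`.  Then `Γ` stabilises `e`.
**`main'`** : the same with `L = ⟨A^Γ⟩`: only `a γ e₁ = γ e₁` for `a ∈ U j`, `γ ∈ Γ` is needed.
-/

set_option autoImplicit false
set_option linter.unusedSectionVars false

namespace Cfsg.Agent.Omega.Lie.Fix

open Subgroup Cfsg.Agent.Omega.BTwo Cfsg.Agent.Lib.SL2Mat Cfsg.Agent.Omega.Lie.HomLem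

universe u v w

theorem odd_units {F : Type*} [Field F] [Finite F] [CharP F 2] : Odd (Nat.card Fˣ) := by
  have := Fintype.ofFinite F
  have h1 := FiniteField.even_card_of_char_two (F := F) (ringChar.eq F 2 ▸ rfl : ringChar F = 2)
  rw [Nat.card_units, Nat.card_eq_fintype_card]
  have h2 : 1 < Fintype.card F := Fintype.one_lt_card
  rw [← Nat.not_even_iff_odd]
  intro h3
  obtain ⟨k, hk⟩ := h3
  omega

variable {G : Type u} [Group G] {ι : Type w} {V : Subgroup G} {R : ι → Subgroup G} {i j : ι}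
variable {F : Type v} [Field F] [CharP F 2] {v : F → F → G} {w1 w2 : F → G}
variable {M B : Type u} [AddCommGroup M] [AddCommGroup B] [DistribMulAction (NR R i) M]
  [DistribMulAction (NR R i) B] [Module F M] {p : G → M} {r : G → B} {f : M →+ M →+ B}
  {φ : M →ₗ[F] M →ₗ[F] F} {s : NR R i → (F ≃+* F)}
variable {h : FMod V R i j v w1 w2 M B p r f φ s}
variable {t : F → G} {τ : TorD V R i j v t} {L Γ : Subgroup (NR R i)}
variable [Finite G] [Finite F]

include h in
/-- a 2-group stabilising `e` fixes a vector `≠ 0` of `e` -/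
theorem exists_u0 {P : Subgroup (NR R i)} (hP : IsPGroup 2 P)
    (hPe : ∀ x ∈ P, ∃ c : F, x • p (v 0 1) = c • p (v 0 1)) :
    ∃ γ : F, γ ≠ 0 ∧ ∀ x ∈ P, x • (γ • p (v 0 1)) = γ • p (v 0 1) := by
  classical
  let X : SubMulAction P M :=
    { carrier := {m | ∃ γ : F, γ ≠ 0 ∧ m = γ • p (v 0 1)}
      smul_mem' := by
        rintro ⟨x, hx⟩ _ ⟨γ, hγ, rfl⟩
        obtain ⟨c, hc⟩ := hPe x hx
        refine ⟨s x γ * c, mul_ne_zero ?_ ?_, ?_⟩
        · exact fun h0 => hγ ((map_eq_zero_iff _ (s x).injective).1 h0)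
        · rintro rfl
          rw [zero_smul, smul_eq_zero_iff_eq] at hc
          exact h.e_ne hc
        · change x • (γ • p (v 0 1)) = _
          rw [h.semi, hc, smul_smul] }
  have hM := h.fr.finite_M
  have hX : Nat.card X = Nat.card Fˣ := by
    symm
    refine Nat.card_congr (Equiv.ofBijective (fun a : Fˣ => (⟨(a : F) • p (v 0 1), a, a.ne_zero, rfl⟩ : X)) ⟨?_, ?_⟩)
    · intro a c e
      have h1 : (a : F) • p (v 0 1) = (c : F) • p (v 0 1) := congrArg Subtype.val e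
      have h2 : ((a : F) - c) • p (v 0 1) = 0 := by rw [sub_smul, h1, sub_self]
      exact Units.ext (sub_eq_zero.1 (h.e_smul_eq_zero h2))
    · rintro ⟨_, γ, hγ, rfl⟩
      exact ⟨Units.mk0 γ hγ, rfl⟩
  have : Fact (Nat.Prime 2) := ⟨Nat.prime_two⟩
  have hfX : Finite X := Subtype.finite
  have h1 := hP.card_modEq_card_fixedPoints X
  rw [hX] at h1
  have h2 : Nonempty (MulAction.fixedPoints P X) := by
    by_contra hcon
    rw [not_nonempty_iff] at hcon
    rw [Nat.card_of_isEmpty (α := MulAction.fixedPoints P X)] at h1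
    have h3 := Nat.modEq_zero_iff_dvd.1 h1
    exact (Nat.not_even_iff_odd.2 (odd_units (F := F))) (even_iff_two_dvd.2 h3)
  obtain ⟨⟨⟨_, γ, hγ, rfl⟩, hfix⟩⟩ := h2
  refine ⟨γ, hγ, fun x hx => ?_⟩
  exact congrArg Subtype.val (hfix ⟨x, hx⟩)

omit [CharP F 2] [Field F] in
/-- the orbit of a vector fixed by a subgroup of odd index has odd order -/
theorem odd_D {P : Subgroup (NR R i)} (hPo : Odd (P.relIndex Γ)) {u₀ : M} (hu : ∀ x ∈ P, x • u₀ = u₀) :
    Odd (Nat.card (Dl Γ u₀)) := by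
  have e : Dl Γ u₀ = MulAction.orbit Γ u₀ := by
    ext x
    constructor
    · rintro ⟨g, hg, rfl⟩
      exact ⟨⟨g, hg⟩, rfl⟩
    · rintro ⟨g, rfl⟩
      exact ⟨g, g.2, rfl⟩
  have h1 := MulAction.index_stabilizer (G := Γ) (x := u₀)
  rw [e, Nat.card_coe_set_eq, ← h1]
  have h2 : P.subgroupOf Γ ≤ MulAction.stabilizer Γ u₀ := by
    intro x hx
    rw [MulAction.mem_stabilizer_iff]
    exact hu _ (mem_subgroupOf.1 hx)
  exact hPo.of_dvd_nat (index_dvd_of_le h2)

theorem perp' (d : SN h τ L Γ) {u₀ : M} {ε : M →ₗ[F] F} (ep : Ep h τ u₀ ε) (hq : 4 ≤ Nat.card F)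
    (hA : ∃ u ∈ UU V R j, u ∉ DD V R) (hodd : Odd (Nat.card (Dl Γ u₀))) {x y : M} (hx : x ∈ Dl Γ u₀)
    (hy : y ∈ Dl Γ u₀) (hn : ∀ c : F, y ≠ c • x) : ph h ε u₀ Γ x y = 0 := by
  have hM := h.fr.finite_M
  have hfD : Finite (Dl Γ u₀) := Subtype.finite
  refine (homSys d ep hq hA).perp h.four hodd ?_ hx hy hn
  rintro ⟨_, g, hg, rfl⟩ ⟨_, g', hg', rfl⟩
  set κ : NR R i := g' * g⁻¹ with hκ
  have hκΓ : κ ∈ Γ := mul_mem hg' (inv_mem hg)
  refine ⟨{ toFun := fun u => ⟨κ • (u : M), act_D ep hκΓ u.2⟩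
            invFun := fun u => ⟨κ⁻¹ • (u : M), act_D ep (inv_mem hκΓ) u.2⟩
            left_inv := fun u => Subtype.ext (inv_smul_smul κ _)
            right_inv := fun u => Subtype.ext (smul_inv_smul κ _) }, fun u w => ?_, Subtype.ext ?_⟩
  · change ph h ε u₀ Γ (κ • (u : M)) (κ • (w : M)) = 0 ↔ _
    rw [ph_act d ep hq hA hκΓ u.2 (D_le d ep w.2)]
    exact map_eq_zero_iff _ (s κ).injective
  · change κ • g • u₀ = g' • u₀
    rw [hκ, mul_smul, inv_smul_smul]

/-- **THEOREM FIX**, general form -/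
theorem main (d : SN h τ L Γ) (hq : 4 ≤ Nat.card F) (hA : ∃ u ∈ UU V R j, u ∉ DD V R)
    {Q : Subgroup (NR R i)} (hQΓ : Q ≤ Γ) (hQ : ∀ x ∈ Q, ∃ c : F, x • p (v 0 1) = c • p (v 0 1))
    (hodd : Odd (Q.relIndex Γ)) {g : NR R i} (hg : g ∈ Γ) : ∃ c : F, g • p (v 0 1) = c • p (v 0 1) := by
  classical
  have : Fact (Nat.Prime 2) := ⟨Nat.prime_two⟩
  -- a Sylow 2-subgroup of `Q`
  obtain ⟨P₀⟩ : Nonempty (Sylow 2 Q) := inferInstance
  set P : Subgroup (NR R i) := (P₀ : Subgroup Q).map Q.subtype with hP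
  have hPQ : P ≤ Q := map_subtype_le _
  have hP2 : IsPGroup 2 P := P₀.isPGroup'.map _
  have hPo : Odd (P.relIndex Γ) := by
    rw [← relIndex_mul_relIndex P Q Γ hPQ hQΓ]
    refine Odd.mul ?_ hodd
    have e : P.relIndex Q = (P₀ : Subgroup Q).index := by
      unfold relIndex
      congr 1
      exact comap_map_eq_self_of_injective Q.subtype_injective _
    rw [e, ← Nat.not_even_iff_odd, even_iff_two_dvd]
    exact P₀.not_dvd_index
  obtain ⟨γ, hγ, hfix⟩ := exists_u0 (h := h) hP2 fun x hx => hQ x (hPQ hx)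
  set u₀ : M := γ • p (v 0 1) with hu₀
  obtain ⟨ε, hε1, hε2⟩ := exists_eps (h := h) (τ := τ) hγ
  have ep : Ep h τ u₀ ε := ⟨⟨γ, hγ, rfl⟩, hε1, hε2⟩
  have hoD := odd_D (M := M) hPo hfix
  by_contra hcon
  push Not at hcon
  have hu0 : u₀ ≠ 0 := fun h0 => hγ (h.e_smul_eq_zero h0)
  have hn0 : ∀ k : NR R i, k • u₀ ≠ 0 := fun k h0 => hu0 ((smul_eq_zero_iff_eq k).1 h0)
  have hcon' : ∀ c : F, g • u₀ ≠ c • u₀ := by
    intro c e
    have hc : c ≠ 0 := by
      rintro rfl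
      rw [zero_smul] at e
      exact hn0 g e
    obtain ⟨c', -, e'⟩ := stab_u ep hc e
    exact hcon c' e'
  -- a third point
  obtain ⟨g₃, h3, h31, h32⟩ : ∃ g₃ ∈ Γ, (∀ c : F, g₃ • u₀ ≠ c • u₀) ∧ ∀ c : F, g₃ • u₀ ≠ c • g • u₀ := by
    by_contra hno
    push Not at hno
    have hD1 : ∀ a : Fˣ, (a : F) • u₀ ∈ Dl Γ u₀ := fun a => smul_D d ep ⟨1, one_mem _, one_smul _ _⟩ a.ne_zero
    have hD2 : ∀ a : Fˣ, (a : F) • g • u₀ ∈ Dl Γ u₀ := fun a => smul_D d ep ⟨g, hg, rfl⟩ a.ne_zero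
    let f : Fˣ ⊕ Fˣ → Dl Γ u₀ := Sum.elim (fun a => ⟨_, hD1 a⟩) (fun a => ⟨_, hD2 a⟩)
    have hcan : ∀ (x : M), x ≠ 0 → ∀ a c : Fˣ, (a : F) • x = (c : F) • x → a = c := by
      intro x hx a c e
      have h1 : ((a : F) - c) • x = 0 := by rw [sub_smul, e, sub_self]
      exact Units.ext (sub_eq_zero.1 ((smul_eq_zero.1 h1).resolve_right hx))
    have hcross : ∀ a c : Fˣ, (a : F) • u₀ ≠ (c : F) • g • u₀ := by
      intro a c e
      apply hcon' ((c : F)⁻¹ * a)
      rw [mul_smul, e, smul_smul, inv_mul_cancel₀ c.ne_zero, one_smul]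
    have hf : Function.Bijective f := by
      constructor
      · rintro (a | a) (c | c) e
        · have h1 : (a : F) • u₀ = (c : F) • u₀ := congrArg Subtype.val e
          rw [hcan _ hu0 a c h1]
        · exact absurd (congrArg Subtype.val e) (hcross a c)
        · exact absurd (congrArg Subtype.val e).symm (hcross c a)
        · have h1 : (a : F) • g • u₀ = (c : F) • g • u₀ := congrArg Subtype.val e
          rw [hcan _ (hn0 g) a c h1]
      · rintro ⟨_, k, hk, rfl⟩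
        by_cases h1 : ∀ c : F, k • u₀ ≠ c • u₀
        · obtain ⟨c, hc⟩ := hno k hk h1
          have hc0 : c ≠ 0 := by
            rintro rfl
            rw [zero_smul] at hc
            exact hn0 k hc
          exact ⟨Sum.inr (Units.mk0 c hc0), Subtype.ext hc.symm⟩
        · push Not at h1
          obtain ⟨c, hc⟩ := h1
          have hc0 : c ≠ 0 := by
            rintro rfl
            rw [zero_smul] at hc
            exact hn0 k hc
          exact ⟨Sum.inl (Units.mk0 c hc0), Subtype.ext hc.symm⟩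
    have h1 : Nat.card (Dl Γ u₀) = Nat.card Fˣ + Nat.card Fˣ := by
      rw [← Nat.card_sum]
      exact (Nat.card_congr (Equiv.ofBijective f hf)).symm
    rw [h1, ← Nat.not_even_iff_odd] at hoD
    exact hoD ⟨_, rfl⟩
  have hnp : ∀ x y : M, x ≠ 0 → (∀ c : F, y ≠ c • x) → ∀ c : F, x ≠ c • y := by
    intro x y hx hxy c e
    have hc : c ≠ 0 := by
      rintro rfl
      rw [zero_smul] at e
      exact hx e
    apply hxy c⁻¹
    rw [e, smul_smul, inv_mul_cancel₀ hc, one_smul]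
  have hD0 : u₀ ∈ Dl Γ u₀ := ⟨1, one_mem _, one_smul _ _⟩
  exact final d ep hq hA hg h3 (perp' d ep hq hA hoD hD0 ⟨g, hg, rfl⟩ hcon')
    (perp' d ep hq hA hoD ⟨g₃, h3, rfl⟩ hD0 (hnp _ _ hu0 h31))
    (perp' d ep hq hA hoD ⟨g₃, h3, rfl⟩ ⟨g, hg, rfl⟩ (hnp _ _ (hn0 g) h32))

include h in
/-- **THEOREM FIX** for `L = ⟨A^Γ⟩` -/
theorem main' (hT : ∀ a : Fˣ, tT τ a ∈ Γ)
    (hfix : ∀ u : NR R i, (u : G) ∈ UU V R j → ∀ g ∈ Γ, u • g • p (v 0 1) = g • p (v 0 1))
    (hq : 4 ≤ Nat.card F) (hA : ∃ u ∈ UU V R j, u ∉ DD V R)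
    {Q : Subgroup (NR R i)} (hQΓ : Q ≤ Γ) (hQ : ∀ x ∈ Q, ∃ c : F, x • p (v 0 1) = c • p (v 0 1))
    (hodd : Odd (Q.relIndex Γ)) {g : NR R i} (hg : g ∈ Γ) : ∃ c : F, g • p (v 0 1) = c • p (v 0 1) := by
  let X : Set (NR R i) := {x | ∃ k ∈ Γ, ∃ u : NR R i, (u : G) ∈ UU V R j ∧ x = k * u * k⁻¹}
  have hXc : ∀ x ∈ closure X, (x : G) ∈ centralizer (R i : Set G) ∧ ∀ k ∈ Γ, x • k • p (v 0 1) = k • p (v 0 1) := by
    intro x hx
    induction hx using closure_induction with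
    | mem x hx =>
      obtain ⟨k, hk, u, hu, rfl⟩ := hx
      refine ⟨conj_mem_of_normalizer (normalizer_le_normalizer_centralizer _ k.2)
        (centralizer_le (h.bt.R_le i) (UU_le_cen j hu)), fun k' hk' => ?_⟩
      have h1 := hfix u hu (k⁻¹ * k') (mul_mem (inv_mem hk) hk')
      rw [mul_smul, mul_smul, ← mul_smul k⁻¹ k', h1, mul_smul, smul_inv_smul]
    | one => exact ⟨one_mem _, fun k _ => one_smul _ _⟩
    | mul x y _ _ hx hy =>
      exact ⟨mul_mem hx.1 hy.1, fun k hk => by rw [mul_smul, hy.2 k hk, hx.2 k hk]⟩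
    | inv x _ hx =>
      exact ⟨inv_mem hx.1, fun k hk => by rw [inv_smul_eq_iff, hx.2 k hk]⟩
  have d : SN h τ (closure X) Γ :=
    { cen := fun x hx => (hXc x hx).1
      fixe := fun x hx => by
        have h1 := (hXc x hx).2 1 (one_mem _)
        rwa [one_smul] at h1
      A_le := fun u hu => subset_closure ⟨1, one_mem _, u, hu, by group⟩
      T_mem := hT
      norm := by
        intro k hk
        have key : ∀ k ∈ Γ, ∀ x ∈ closure X, k * x * k⁻¹ ∈ closure X := by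
          intro k hk x hx
          induction hx using closure_induction with
          | mem x hx =>
            obtain ⟨k', hk', u, hu, rfl⟩ := hx
            exact subset_closure ⟨k * k', mul_mem hk hk', u, hu, by group⟩
          | one => rw [mul_one, mul_inv_cancel]; exact one_mem _
          | mul x y _ _ hx hy =>
            have e : k * (x * y) * k⁻¹ = (k * x * k⁻¹) * (k * y * k⁻¹) := by group
            rw [e]; exact mul_mem hx hy
          | inv x _ hx =>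
            have e : k * x⁻¹ * k⁻¹ = (k * x * k⁻¹)⁻¹ := by group
            rw [e]; exact inv_mem hx
        rw [mem_normalizer_iff]
        intro x
        refine ⟨key k hk x, fun hx => ?_⟩
        have h1 := key k⁻¹ (inv_mem hk) _ hx
        rwa [show k⁻¹ * (k * x * k⁻¹) * k⁻¹⁻¹ = x by group] at h1 }
  exact main d hq hA hQΓ hQ hodd hg

end Cfsg.Agent.Omega.Lie.Fix
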