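import Cfsg.Agent.Omega.Lie.HeisCover

/-!
# The Heisenberg bound over a finite field

`F` a finite elementary abelian `r`-group (a vector space over `ZMod r`), `X : F → E` additive, acting nontrivially
on a finite abelian `2`-group `V`.

* `exists_functional`: there is a functional `f ≠ 0` such that `X F` acts nontrivially on the fixed points of
  `X (ker f)`;
* `two_pow_le`: if for every functional `f ≠ 0` there are `x i, y i ∈ E` (`i < n`) which form a Heisenberg
  configuration modulo `X (ker f)`, then `2 ^ (ord_r(2) * r ^ n) ≤ |V|`;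
* `FH`: `X, A j, B j : F → E` (`j < h`) with `B j t * A j u * (B j t)⁻¹ = A j u * X (c j * t * u)`, `c j ≠ 0`, `F` a
  field; `FH.two_pow_le`: `2 ^ (ord_r(2) * |F| ^ h) ≤ |V|`.
-/

set_option autoImplicit false
set_option linter.dupNamespace false
set_option linter.unusedSectionVars false
set_option linter.style.haveILetI false

universe u v w

namespace Cfsg.Agent.Omega.Lie.HeisF

open Finset Cfsg.Agent.Omega.Lie.Heis

section hyperplane

variable {E : Type u} [Group E] {F : Type w} [AddCommGroup F] {r : ℕ} [Fact r.Prime] [Module (ZMod r) F]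
  {X : F → E} (hX : ∀ t u, X (t + u) = X t * X u)

include hX in
theorem X_zero : X 0 = 1 := by
  have h := hX 0 0
  rw [add_zero] at h
  exact left_eq_mul.1 h

include hX in
theorem X_nsmul (n : ℕ) (t : F) : X (n • t) = X t ^ n := by
  induction n with
  | zero => rw [zero_smul, pow_zero, X_zero hX]
  | succ n ih => rw [succ_nsmul, hX, ih, pow_succ]

include hX in
theorem X_smul (c : ZMod r) (t : F) : X (c • t) = X t ^ c.val := by
  rw [← X_nsmul hX, ← Nat.cast_smul_eq_nsmul (ZMod r) c.val t, ZMod.natCast_zmod_val]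

include hX in
theorem X_pow (t : F) : X t ^ r = 1 := by
  rw [← X_nsmul hX, ← Nat.cast_smul_eq_nsmul (ZMod r) r t, ZMod.natCast_self, zero_smul, X_zero hX]

include hX in
theorem X_comm (t u : F) : X t * X u = X u * X t := by rw [← hX, ← hX, add_comm]

variable [Finite F] {A : Type v} [AddCommGroup A] [DistribMulAction E A]

include hX in
/-- A hyperplane `ker f` whose fixed points are not fixed by `X F`. -/
theorem exists_functional (ht : ∀ v : A, r • v = 0 → v = 0) (hne : ∃ (t : F) (v : A), X t • v ≠ v) :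
    ∃ f : F →ₗ[ZMod r] ZMod r, f ≠ 0 ∧ ∃ v : A, (∀ t, f t = 0 → X t • v = v) ∧ ∃ t, X t • v ≠ v := by
  classical
  have hr : r.Prime := Fact.out
  let S : Set (Submodule (ZMod r) F) := {H | ∃ v : A, (∀ t ∈ H, X t • v = v) ∧ ∃ t, X t • v ≠ v}
  haveI : Finite (Submodule (ZMod r) F) := Finite.of_injective _ SetLike.coe_injective
  obtain ⟨t₀, v₀, h₀⟩ := hne
  have hS : S.Nonempty := ⟨⊥, v₀, fun t ht => by
    rw [(Submodule.mem_bot _).1 ht, X_zero hX, one_smul], t₀, h₀⟩
  obtain ⟨H, hH⟩ := (Set.toFinite S).exists_maximal hS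
  obtain ⟨v, hv, t₁, ht₁⟩ := hH.prop
  have hmax : ∀ K : Submodule (ZMod r) F, H < K → ∀ w : A, (∀ t ∈ K, X t • w = w) → ∀ t, X t • w = w := by
    intro K hK w hw t
    by_contra hcon
    exact absurd (hH.le_of_ge (show K ∈ S from ⟨w, hw, t, hcon⟩) hK.le) (not_le_of_gt hK)
  have hlt : H < ⊤ := by
    rw [lt_top_iff_ne_top]
    rintro rfl
    exact ht₁ (hv t₁ Submodule.mem_top)
  obtain ⟨f, hf, hle⟩ := H.exists_le_ker_of_lt_top hlt
  refine ⟨f, hf, v, ?_, t₁, ht₁⟩
  suffices hker : LinearMap.ker f ≤ H from fun t ht => hv t (hker ht)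
  by_contra hnle
  obtain ⟨a, ha, haH⟩ := SetLike.not_le_iff_exists.1 hnle
  obtain ⟨s, hs⟩ : ∃ s, f s ≠ 0 := by
    by_contra hcon
    push Not at hcon
    exact hf (LinearMap.ext hcon)
  -- norms
  have hN : ∀ b, b ∉ H → ∀ t, X t • ∑ j ∈ range r, X b ^ j • v = ∑ j ∈ range r, X b ^ j • v := by
    intro b hb
    refine hmax (H ⊔ Submodule.span (ZMod r) {b}) ?_ _ ?_
    · refine lt_of_le_of_ne le_sup_left fun h => hb ?_
      rw [h]
      exact Submodule.mem_sup_right (Submodule.mem_span_singleton_self b)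
    · intro t htm
      obtain ⟨y, hy, z, hz, rfl⟩ := Submodule.mem_sup.1 htm
      obtain ⟨c, rfl⟩ := Submodule.mem_span_singleton.1 hz
      rw [hX, mul_smul, X_smul hX,
        pow_smul_of_fix (smul_norm (X_pow hX b) v) c.val, smul_sum]
      refine sum_congr rfl fun j _ => ?_
      have h1 : X y * X b ^ j = X b ^ j * X y := (Commute.pow_right (X_comm hX y b : Commute (X y) (X b)) j)
      rw [smul_smul, h1, mul_smul, hv y hy]
  have hsk : ∀ k : ℕ, s + k • a ∉ H := by
    intro k hk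
    have h1 : f (s + k • a) = 0 := LinearMap.mem_ker.1 (hle hk)
    rw [map_add, map_nsmul, LinearMap.mem_ker.1 ha, smul_zero, add_zero] at h1
    exact hs h1
  have hja : ∀ j, j ∈ range r → j ≠ 0 → j • a ∉ H := by
    intro j hj hj0 hjH
    apply haH
    have h1 : (j : ZMod r) ≠ 0 := by
      rw [Ne, ZMod.natCast_eq_zero_iff]
      intro hd
      have := Nat.le_of_dvd (Nat.pos_of_ne_zero hj0) hd
      have := mem_range.1 hj
      omega
    rw [← Nat.cast_smul_eq_nsmul (ZMod r) j a] at hjH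
    have h2 := H.smul_mem (j : ZMod r)⁻¹ hjH
    rwa [smul_smul, inv_mul_cancel₀ h1, one_smul] at h2
  -- the identity
  have hid : ∑ k ∈ range r, ∑ j ∈ range r, X (s + k • a) ^ j • v =
      r • v + ∑ j ∈ (range r).erase 0, ∑ k ∈ range r, X (j • a) ^ k • v := by
    rw [sum_comm]
    have h0 : (0 : ℕ) ∈ range r := mem_range.2 hr.pos
    rw [← Finset.add_sum_erase _ _ h0]
    congr 1
    · simp
    · refine sum_congr rfl fun j hj => ?_
      have hj0 := (mem_erase.1 hj).1
      have hj1 := (mem_erase.1 hj).2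
      have h1 : ∑ k ∈ range r, X (s + k • a) ^ j • v = X s ^ j • ∑ k ∈ range r, X (j • a) ^ k • v := by
        rw [smul_sum]
        refine sum_congr rfl fun k _ => ?_
        rw [hX, Commute.mul_pow (X_comm hX s (k • a)), mul_smul, X_nsmul hX k a, X_nsmul hX j a, ← pow_mul,
          ← pow_mul, mul_comm k j]
      rw [h1]
      exact pow_smul_of_fix (hN (j • a) (hja j hj1 hj0) s) j
  have hfin : X t₁ • (r • v) = r • v := by
    have h1 : X t₁ • ∑ k ∈ range r, ∑ j ∈ range r, X (s + k • a) ^ j • v =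
        ∑ k ∈ range r, ∑ j ∈ range r, X (s + k • a) ^ j • v := by
      rw [smul_sum]
      exact sum_congr rfl fun k _ => hN _ (hsk k) t₁
    have h2 : X t₁ • ∑ j ∈ (range r).erase 0, ∑ k ∈ range r, X (j • a) ^ k • v =
        ∑ j ∈ (range r).erase 0, ∑ k ∈ range r, X (j • a) ^ k • v := by
      rw [smul_sum]
      exact sum_congr rfl fun j hj => hN _ (hja j (mem_erase.1 hj).2 (mem_erase.1 hj).1) t₁
    rw [hid, smul_add, h2] at h1
    exact add_right_cancel h1
  apply ht₁
  have h3 : X t₁ • (r • v) = r • (X t₁ • v) := map_nsmul (DistribSMul.toAddMonoidHom A (X t₁)) r v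
  have h4 : r • (X t₁ • v - v) = 0 := by rw [smul_sub, ← h3, hfin, sub_self]
  exact sub_eq_zero.1 (ht _ h4)

end hyperplane

section main

variable {E : Type u} [Group E] {F : Type w} [AddCommGroup F] [Finite F] {r : ℕ} [Fact r.Prime] [Module (ZMod r) F]
  {X : F → E} (hX : ∀ t u, X (t + u) = X t * X u) {V : Type v} [CommGroup V] [Finite V] (φ : E →* MulAut V)

include hX in
/-- **The Heisenberg bound, all functionals.** -/
theorem two_pow_le (h2 : IsPGroup 2 V) (hr2 : r ≠ 2) (hne : ∃ t, φ (X t) ≠ 1) {n : ℕ}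
    (H : ∀ f : F →ₗ[ZMod r] ZMod r, f ≠ 0 → ∃ (x y : Fin n → E) (w : Fin n → Fin n → F),
      (∀ i, x i ^ r = 1) ∧ (∀ i t, X t * x i = x i * X t) ∧ (∀ i t, X t * y i = y i * X t) ∧
      (∀ i j, x i * x j = x j * x i) ∧ (∀ i j, y i * x j * (y i)⁻¹ = x j * X (w i j)) ∧
      ∀ i j, f (w i j) = if i = j then 1 else 0) :
    2 ^ (orderOf (2 : ZMod r) * r ^ n) ≤ Nat.card V := by
  classical
  have hr : r.Prime := Fact.out
  letI := addAct φ
  haveI : Finite (Additive V) := inferInstanceAs (Finite V)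
  have h4 : IsPGroup 2 (Multiplicative (Additive V)) := by
    intro g
    obtain ⟨k, hk⟩ := h2 (Additive.toMul (Multiplicative.toAdd g))
    exact ⟨k, hk⟩
  have ht := tors_of_two (A := Additive V) hr h4 hr2
  have hne' : ∃ (t : F) (v : Additive V), X t • v ≠ v := by
    obtain ⟨t, ht⟩ := hne
    by_contra hcon
    push Not at hcon
    apply ht
    ext v
    exact congrArg Additive.toMul (hcon t (Additive.ofMul v))
  obtain ⟨f, hf, v, hv, t₁, ht₁⟩ := exists_functional hX ht hne'
  obtain ⟨x, y, w, hxr, hXx, hXy, hxx, hyx, hfw⟩ := H f hf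
  obtain ⟨s, hs⟩ : ∃ s, f s = 1 := by
    obtain ⟨s, hs⟩ : ∃ s, f s ≠ 0 := by
      by_contra hcon
      push Not at hcon
      exact hf (LinearMap.ext hcon)
    exact ⟨(f s)⁻¹ • s, by rw [map_smul, smul_eq_mul, inv_mul_cancel₀ hs]⟩
  -- the fixed points of `X (ker f)`
  let W : Subgroup V :=
    { carrier := {v | ∀ t, f t = 0 → φ (X t) v = v}
      one_mem' := fun t _ => map_one _
      mul_mem' := fun {a b} ha hb t ht => by rw [map_mul, ha t ht, hb t ht]
      inv_mem' := fun {a} ha t ht => by rw [map_inv, ha t ht] }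
  let N : Subgroup E := Subgroup.centralizer (Set.range X)
  have hmem : ∀ g : E, (∀ t, X t * g = g * X t) → g ∈ N := by
    intro g hg
    rw [Subgroup.mem_centralizer_iff]
    rintro _ ⟨t, rfl⟩
    exact hg t
  have hW : ∀ g : N, ∀ a ∈ W, (φ.comp N.subtype) g a ∈ W := by
    intro g a ha t ht
    show φ (X t) (φ (g : E) a) = φ (g : E) a
    have hg := Subgroup.mem_centralizer_iff.1 g.2 (X t) ⟨t, rfl⟩
    rw [← MulAut.mul_apply, ← map_mul, hg, map_mul, MulAut.mul_apply, ha t ht]
  let ψ : N →* MulAut W := resAct (φ.comp N.subtype) W hW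
  have hψ : ∀ (g : E) (hg : g ∈ N) (a : W), ((ψ ⟨g, hg⟩ a : W) : V) = φ g a := fun g hg a => rfl
  have hXN : ∀ t, X t ∈ N := fun t => hmem _ fun t' => X_comm hX t' t
  have hψ0 : ∀ t, f t = 0 → ψ ⟨X t, hXN t⟩ = 1 := by
    intro t ht
    ext a
    rw [hψ]
    exact a.2 t ht
  have hψ1 : ∀ t u, f t = f u → ψ ⟨X t, hXN t⟩ = ψ ⟨X u, hXN u⟩ := by
    intro t u htu
    have h5 : (⟨X t, hXN t⟩ : N) = ⟨X u, hXN u⟩ * ⟨X (t - u), hXN (t - u)⟩ := by
      apply Subtype.ext
      show X t = X u * X (t - u)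
      rw [← hX, add_sub_cancel]
    rw [h5, map_mul, hψ0 (t - u) (by rw [map_sub, htu, sub_self]), mul_one]
  have hH : Heis.Heis r n (ψ ⟨X s, hXN s⟩) (fun i => ψ ⟨x i, hmem _ (hXx i)⟩) (fun i => ψ ⟨y i, hmem _ (hXy i)⟩) := by
    refine ⟨hr, ?_, fun i => ?_, fun i => ?_, fun i => ?_, fun i j => ?_, fun i j hij => ?_, fun i => ?_⟩
    · rw [← map_pow, ← map_one ψ]
      congr 1
      exact Subtype.ext (X_pow hX s)
    · rw [← map_pow, ← map_one ψ]
      congr 1
      exact Subtype.ext (hxr i)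
    · rw [← map_mul, ← map_mul]
      congr 1
      exact Subtype.ext (hXx i s)
    · rw [← map_mul, ← map_mul]
      congr 1
      exact Subtype.ext (hXy i s)
    · rw [← map_mul, ← map_mul]
      congr 1
      exact Subtype.ext (hxx i j)
    · have h5 : (⟨y i, hmem _ (hXy i)⟩ : N) * ⟨x j, hmem _ (hXx j)⟩ =
          ⟨x j, hmem _ (hXx j)⟩ * ⟨X (w i j), hXN (w i j)⟩ * ⟨y i, hmem _ (hXy i)⟩ := by
        apply Subtype.ext
        show y i * x j = x j * X (w i j) * y i
        rw [← hyx]; group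
      rw [← map_mul, h5, map_mul, map_mul, hψ0 _ (by rw [hfw, if_neg hij]), mul_one]
    · have h5 : (⟨y i, hmem _ (hXy i)⟩ : N) * ⟨x i, hmem _ (hXx i)⟩ * (⟨y i, hmem _ (hXy i)⟩ : N)⁻¹ =
          ⟨x i, hmem _ (hXx i)⟩ * ⟨X (w i i), hXN (w i i)⟩ := by
        apply Subtype.ext
        show y i * x i * (y i)⁻¹ = x i * X (w i i)
        exact hyx i i
      rw [← map_inv, ← map_mul, ← map_mul, h5, map_mul, hψ1 (w i i) s (by rw [hfw, if_pos rfl, hs])]
  have hz : ψ ⟨X s, hXN s⟩ ≠ 1 := by
    intro hz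
    apply ht₁
    have hvW : v.toMul ∈ W := fun t ht => congrArg Additive.toMul (hv t ht)
    have h6 : ψ ⟨X t₁, hXN t₁⟩ = 1 := by
      have h7 : ψ ⟨X t₁, hXN t₁⟩ = ψ ⟨X (f t₁ • s), hXN _⟩ := hψ1 _ _ (by
        rw [map_smul, hs, smul_eq_mul, mul_one])
      have h8 : (⟨X (f t₁ • s), hXN _⟩ : N) = ⟨X s, hXN s⟩ ^ (f t₁).val := Subtype.ext (X_smul hX _ _)
      rw [h7, h8, map_pow, hz, one_pow]
    have h9 := congrArg (fun g : MulAut W => ((g ⟨v.toMul, hvW⟩ : W) : V)) h6
    exact congrArg Additive.ofMul h9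
  have h10 := hH.two_pow_le_mulAut (MonoidHom.id (MulAut W)) (h2.to_subgroup W) hr2 hz
  exact h10.trans (Nat.card_le_card_of_injective _ Subtype.val_injective)

end main

/-! ### Fields -/

/-- A Heisenberg configuration over the field `F`. -/
structure FH {E : Type u} [Group E] {F : Type w} [Field F] (r h : ℕ) (X : F → E) (A B : Fin h → F → E)
    (c : Fin h → F) : Prop where
  add : ∀ t u, X (t + u) = X t * X u
  A_pow : ∀ j t, A j t ^ r = 1
  XA : ∀ j t u, X t * A j u = A j u * X t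
  XB : ∀ j t u, X t * B j u = B j u * X t
  AA : ∀ i j t u, A i t * A j u = A j u * A i t
  BA : ∀ i j, i ≠ j → ∀ t u, B i t * A j u = A j u * B i t
  conj : ∀ j t u, B j t * A j u * (B j t)⁻¹ = A j u * X (c j * t * u)
  c_ne : ∀ j, c j ≠ 0

section field

variable {E : Type u} [Group E] {F : Type w} [Field F] [Finite F] {r h : ℕ} {X : F → E} {A B : Fin h → F → E}
    {c : Fin h → F} {V : Type v} [CommGroup V] [Finite V]

/-- **The Heisenberg bound over the field `F`.** -/
theorem FH.two_pow_le [Fact r.Prime] [CharP F r] (hH : FH r h X A B c) (φ : E →* MulAut V) (h2 : IsPGroup 2 V)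
    (hr2 : r ≠ 2) (hne : ∃ t, φ (X t) ≠ 1) : 2 ^ (orderOf (2 : ZMod r) * Nat.card F ^ h) ≤ Nat.card V := by
  classical
  letI : Algebra (ZMod r) F := ZMod.algebra F r
  haveI : Module.Finite (ZMod r) F := Module.Finite.of_finite
  let e := Module.finrank (ZMod r) F
  have hcard : Nat.card F = r ^ e := by
    rw [Module.natCard_eq_pow_finrank (K := ZMod r) (V := F), Nat.card_zmod]
  have hpow : Nat.card F ^ h = r ^ (h * e) := by rw [hcard, ← pow_mul, mul_comm]
  rw [hpow]
  refine HeisF.two_pow_le hH.add φ h2 hr2 hne ?_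
  intro f hf
  -- dual bases for `(t, u) ↦ f (t * u)`
  let Bf : LinearMap.BilinForm (ZMod r) F := LinearMap.mk₂ (ZMod r) (fun t u => f (t * u))
    (fun t t' u => by rw [add_mul, map_add]) (fun a t u => by rw [smul_mul_assoc, map_smul])
    (fun t u u' => by rw [mul_add, map_add]) (fun a t u => by rw [mul_smul_comm, map_smul])
  have hBf : ∀ t u, Bf t u = f (t * u) := fun t u => rfl
  have hnd : Bf.Nondegenerate := by
    obtain ⟨s, hs⟩ : ∃ s, f s ≠ 0 := by
      by_contra hcon
      push Not at hcon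
      exact hf (LinearMap.ext hcon)
    constructor
    · intro t ht
      by_contra ht0
      apply hs
      have := ht (t⁻¹ * s)
      rwa [hBf, ← mul_assoc, mul_inv_cancel₀ ht0, one_mul] at this
    · intro t ht
      by_contra ht0
      apply hs
      have := ht (s * t⁻¹)
      rwa [hBf, mul_assoc, inv_mul_cancel₀ ht0, mul_one] at this
  let b : Module.Basis (Fin e) (ZMod r) F := Module.finBasis (ZMod r) F
  let b' : Fin e → F := fun i => Bf.dualBasis hnd b i
  have hbb : ∀ i j, f (b' i * b j) = if i = j then 1 else 0 := by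
    intro i j
    have := LinearMap.BilinForm.apply_dualBasis_left hnd b i j
    rw [hBf] at this
    rw [this]
    simp only [eq_comm]
  let ε : Fin (h * e) ≃ Fin h × Fin e := finProdFinEquiv.symm
  refine ⟨fun i => A (ε i).1 (b (ε i).2), fun i => B (ε i).1 ((c (ε i).1)⁻¹ * b' (ε i).2),
    fun i j => if (ε i).1 = (ε j).1 then b' (ε i).2 * b (ε j).2 else 0, fun i => hH.A_pow _ _, fun i t => hH.XA _ _ _,
    fun i t => hH.XB _ _ _, fun i j => hH.AA _ _ _ _, fun i j => ?_, fun i j => ?_⟩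
  · by_cases hij : (ε i).1 = (ε j).1
    · simp only
      rw [if_pos hij, hij, hH.conj, ← mul_assoc, mul_inv_cancel₀ (hH.c_ne _), one_mul]
    · simp only
      rw [if_neg hij, X_zero hH.add, mul_one, hH.BA _ _ hij]
      group
  · by_cases hij : (ε i).1 = (ε j).1
    · simp only
      rw [if_pos hij, hbb]
      by_cases hij2 : (ε i).2 = (ε j).2
      · have : i = j := ε.injective (Prod.ext hij hij2)
        rw [if_pos hij2, if_pos this]
      · rw [if_neg hij2, if_neg (fun h => hij2 (by rw [h]))]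
    · simp only
      rw [if_neg hij, map_zero, if_neg (fun h => hij (by rw [h]))]

end field

end Cfsg.Agent.Omega.Lie.HeisF
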