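import Cfsg.Agent.Omega.Lie.HeisF
import Cfsg.Agent.Omega.Lie.HeisLift

/-!
# The lower bound from a Heisenberg configuration over a field

* `FHeis.two_pow_le`: a configuration `FHeis z x y` (`ι` pairs over the finite field `F` of characteristic `p`) in a
  group acting on a `2`-group `V` with `z F` acting nontrivially: `2 ^ (ord_p(2) * |F| ^ |ι|) ≤ |V|`;
* `LB.fheis`: `K` simple with `FHeis z x y`, `Force ...`, `z ≠ 1`: the same bound for all odd covers of `K`.
-/

set_option autoImplicit false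
set_option linter.dupNamespace false

universe u v w

namespace Cfsg.Agent.Omega.Lie.HeisLift

open Cfsg.Agent.Omega.Lie.FHeis Cfsg.Agent.Omega.Lie.Heis

variable {F : Type*} [Field F] {ι : Type*}

/-- **The Heisenberg bound** for `FHeis`. -/
theorem two_pow_le [Finite F] [Finite ι] {p : ℕ} [Fact p.Prime] [CharP F p] (hp2 : p ≠ 2) {E : Type*} [Group E]
    {z : F → E} {x y : ι → F → E} (h : FHeis z x y) {V : Type*} [CommGroup V] [Finite V] (φ : E →* MulAut V)
    (h2 : IsPGroup 2 V) (hne : ∃ t, φ (z t) ≠ 1) :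
    2 ^ (orderOf (2 : ZMod p) * Nat.card F ^ Nat.card ι) ≤ Nat.card V := by
  let e : Fin (Nat.card ι) ≃ ι := (Finite.equivFin ι).symm
  have hH : HeisF.FH p (Nat.card ι) z (fun j => x (e j)) (fun j => y (e j)) (fun _ => 1) := by
    refine ⟨h.z_add, fun j t => add_pow_char (h.x_add _) t, fun j t u => h.zx _ _ _, fun j t u => h.zy _ _ _,
      fun i j t u => ?_, fun i j hij t u => h.yx _ _ _ _ fun h' => hij (e.injective h'), fun j t u => ?_,
      fun j => one_ne_zero⟩
    · by_cases hij : i = j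
      · subst hij
        exact add_comm' (h.x_add _) t u
      · exact h.xx _ _ _ _ fun h' => hij (e.injective h')
    · show y (e j) t * x (e j) u * (y (e j) t)⁻¹ = x (e j) u * z (1 * t * u)
      rw [h.conj, one_mul, mul_comm t u]
  exact hH.two_pow_le φ h2 hp2 hne

/-- **The lower bound in all odd covers** of a simple group `K` with a Heisenberg configuration. -/
theorem LB.fheis [Finite F] [Finite ι] {p : ℕ} [Fact p.Prime] [CharP F p] (hp2 : p ≠ 2) {K : Type u} [Group K]
    [IsSimpleGroup K] {z : F → K} {x y : ι → F → K} (h : FHeis z x y) (hz : ∃ s, z s ≠ 1) {g : K} {t : ι → F → K}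
    {w : ι → K} {i₀ : ι} (f : Force p z x y g t w i₀) :
    Heis.LB.{u, v, w} K (orderOf (2 : ZMod p) * Nat.card F ^ Nat.card ι) := by
  intro L _ _ π hπ hc ho hL V _ _ h2 φ hφ
  obtain ⟨z', x', y', hz', -, -, h'⟩ := lift (p := p) hπ hc ho h f
  refine two_pow_le hp2 h' φ h2 ?_
  obtain ⟨s, hs⟩ := hz
  refine ⟨s, fun h1 => hs ?_⟩
  have h3 : z' s ∈ π.ker := ker_le_ker hπ hc hL hφ (MonoidHom.mem_ker.2 h1)
  rw [← hz', MonoidHom.mem_ker.1 h3]

end Cfsg.Agent.Omega.Lie.HeisLift
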