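import Cfsg.Agent.Omega.Lie.HeisF

/-!
# Lifting Heisenberg configurations to central extensions with kernel of odd order

No information on the Schur multiplier is used, the order of the kernel may be divisible by the characteristic.

* `Cov π`: `π : L →* K` is surjective with central kernel of odd order;
* `LC g g'`: in all such extensions all lifts of `g` and `g'` commute; `LC.of_inv`: it is enough that `g`, `g'`
  commute and that some `s` inverts `g` and centralises `g'`; `cenLC g` is a subgroup;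
* `lift_FH`: a Heisenberg configuration `X, A j, B j` such that one element inverts the `X t` and `A j t` and
  centralises the `B j t` lifts, provided that `LC` holds for the pairs `(X, X)`, `(X, A)`, `(A, A)`;
* `LB.fh`: the bound `|V| ≥ 2 ^ (ord_r(2) * |F| ^ h)` for all nontrivial actions of all such perfect extensions.
-/

set_option autoImplicit false
set_option linter.unusedSectionVars false
set_option linter.style.haveILetI false

universe u v w w'

namespace Cfsg.Agent.Omega.Lie.HeisF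

open Cfsg.Agent.Omega.Lie.Heis

/-- A central extension with kernel of odd order. -/
structure Cov {L : Type v} {K : Type u} [Group L] [Group K] (π : L →* K) : Prop where
  surj : Function.Surjective π
  cen : π.ker ≤ Subgroup.center L
  odd : Odd (Nat.card π.ker)

namespace Cov

variable {L : Type v} {K : Type u} [Group L] [Group K] {π : L →* K} (hπ : Cov π)

include hπ

theorem comm {c : L} (hc : π c = 1) (a : L) : a * c = c * a :=
  Subgroup.mem_center_iff.1 (hπ.cen (MonoidHom.mem_ker.2 hc)) a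

theorem coprime {c : L} (hc : π c = 1) : Nat.Coprime 2 (orderOf c) := by
  have h1 : orderOf c ∣ Nat.card π.ker := by
    have := orderOf_dvd_natCard (⟨c, MonoidHom.mem_ker.2 hc⟩ : π.ker)
    rwa [Subgroup.orderOf_mk] at this
  exact (Nat.coprime_two_left.2 hπ.odd).coprime_dvd_right h1

theorem eq_one {c : L} (hc : π c = 1) (h2 : c * c = 1) : c = 1 := by
  have h1 : orderOf c ∣ 2 := orderOf_dvd_of_pow_eq_one (by rw [pow_two, h2])
  exact orderOf_eq_one_iff.1 (Nat.eq_one_of_dvd_coprimes (hπ.coprime hc) h1 dvd_rfl)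

theorem exists_sqrt {c : L} (hc : π c = 1) : ∃ d, π d = 1 ∧ d * d = c := by
  obtain ⟨k, hk⟩ := exists_pow_eq_self_of_coprime (n := 2) (x := c) (hπ.coprime hc)
  refine ⟨c ^ k, by rw [map_pow, hc, one_pow], ?_⟩
  rw [← pow_add, ← two_mul, pow_mul, hk]

/-- Inverted lifts exist. -/
theorem exists_inv_lift {σ : L} {g : K} (h : π σ * g * (π σ)⁻¹ = g⁻¹) :
    ∃ a, π a = g ∧ σ * a * σ⁻¹ = a⁻¹ := by
  obtain ⟨a, rfl⟩ := hπ.surj g
  have h1 : π (σ * a * σ⁻¹ * a)⁻¹ = 1 := by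
    rw [map_inv, map_mul, map_mul, map_mul, map_inv, h, inv_mul_cancel, inv_one]
  obtain ⟨d, hd, hdd⟩ := hπ.exists_sqrt h1
  refine ⟨a * d, by rw [map_mul, hd, mul_one], ?_⟩
  rw [eq_inv_iff_mul_eq_one]
  calc σ * (a * d) * σ⁻¹ * (a * d) = σ * a * (d * (σ⁻¹ * a)) * d := by group
    _ = σ * a * ((σ⁻¹ * a) * d) * d := by rw [hπ.comm hd (σ⁻¹ * a)]
    _ = (σ * a * σ⁻¹ * a) * (d * d) := by group
    _ = 1 := by rw [hdd, mul_inv_cancel]

/-- Inverted lifts are unique. -/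
theorem inv_lift_unique {σ a b : L} (h : π a = π b) (ha : σ * a * σ⁻¹ = a⁻¹) (hb : σ * b * σ⁻¹ = b⁻¹) :
    a = b := by
  have h1 : π (b⁻¹ * a) = 1 := by rw [map_mul, map_inv, h, inv_mul_cancel]
  set z := b⁻¹ * a with hz
  have h2 : a = b * z := by rw [hz]; group
  have h3 : z * z = 1 := by
    have h4 : σ * a * σ⁻¹ = b⁻¹ * z := by
      calc σ * a * σ⁻¹ = σ * b * (z * σ⁻¹) := by rw [h2]; group
        _ = σ * b * (σ⁻¹ * z) := by rw [hπ.comm h1]
        _ = σ * b * σ⁻¹ * z := by group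
        _ = b⁻¹ * z := by rw [hb]
    have h5 : a⁻¹ = b⁻¹ * z⁻¹ := by rw [h2, hπ.comm h1, mul_inv_rev]
    have h6 : b⁻¹ * z = b⁻¹ * z⁻¹ := by rw [← h4, ha, h5]
    have h7 := mul_left_cancel h6
    rw [eq_inv_iff_mul_eq_one] at h7
    exact h7
  rw [h2, hπ.eq_one h1 h3, mul_one]

end Cov

/-- In all central extensions (in the universe `v`) with kernel of odd order all lifts of `g` and `g'` commute. -/
def LC {K : Type u} [Group K] (g g' : K) : Prop :=
  ∀ (L : Type v) [Group L] (π : L →* K), Cov π → ∀ a b : L, π a = g → π b = g' → a * b = b * a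

namespace LC

variable {K : Type u} [Group K] {g g' k : K}

theorem symm (h : LC.{u, v} g g') : LC.{u, v} g' g := fun L _ π hπ a b ha hb => (h L π hπ b a hb ha).symm

/-- **The parity trick.** -/
theorem of_inv {s : K} (hc : g * g' = g' * g) (h1 : s * g * s⁻¹ = g⁻¹) (h2 : s * g' * s⁻¹ = g') :
    LC.{u, v} g g' := by
  intro L _ π hπ a b ha hb
  obtain ⟨σ, hσ⟩ := hπ.surj s
  set c := a * b * a⁻¹ * b⁻¹ with hcd
  have hc1 : π c = 1 := by
    rw [hcd, map_mul, map_mul, map_mul, map_inv, map_inv, ha, hb, hc]; group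
  have hz : π (a * (σ * a * σ⁻¹)) = 1 := by
    rw [map_mul, map_mul, map_mul, map_inv, ha, hσ, h1, mul_inv_cancel]
  have hw : π (b⁻¹ * (σ * b * σ⁻¹)) = 1 := by
    rw [map_mul, map_mul, map_mul, map_inv, map_inv, hb, hσ, h2, inv_mul_cancel]
  set z := a * (σ * a * σ⁻¹) with hzd
  set w := b⁻¹ * (σ * b * σ⁻¹) with hwd
  have h3 : σ * a * σ⁻¹ = a⁻¹ * z := by rw [hzd]; group
  have h4 : σ * b * σ⁻¹ = b * w := by rw [hwd]; group
  have h5 : σ * c * σ⁻¹ = c := by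
    rw [hπ.comm hc1, mul_inv_cancel_right]
  have h6 : σ * c * σ⁻¹ = (a⁻¹ * z) * (b * w) * (a⁻¹ * z)⁻¹ * (b * w)⁻¹ := by
    rw [← h3, ← h4, hcd]; group
  have h7 : (a⁻¹ * z) * (b * w) * (a⁻¹ * z)⁻¹ * (b * w)⁻¹ = a⁻¹ * b * a * b⁻¹ := by
    calc (a⁻¹ * z) * (b * w) * (a⁻¹ * z)⁻¹ * (b * w)⁻¹
        = a⁻¹ * (z * (b * w)) * (z⁻¹ * a) * (b * w)⁻¹ := by group
      _ = a⁻¹ * ((b * w) * z) * (z⁻¹ * a) * (b * w)⁻¹ := by rw [hπ.comm hz]
      _ = a⁻¹ * b * (w * a) * (w⁻¹ * b⁻¹) := by group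
      _ = a⁻¹ * b * (a * w) * (w⁻¹ * b⁻¹) := by rw [hπ.comm hw]
      _ = a⁻¹ * b * a * b⁻¹ := by group
  have h8 : a⁻¹ * b * a * b⁻¹ = c⁻¹ := by
    have h9 : b * a = c⁻¹ * (a * b) := by rw [hcd]; group
    have h10 : π c⁻¹ = 1 := by rw [map_inv, hc1, inv_one]
    calc a⁻¹ * b * a * b⁻¹ = a⁻¹ * (b * a) * b⁻¹ := by group
      _ = a⁻¹ * (c⁻¹ * (a * b)) * b⁻¹ := by rw [h9]
      _ = (a⁻¹ * c⁻¹) * a := by group
      _ = (c⁻¹ * a⁻¹) * a := by rw [hπ.comm h10]
      _ = c⁻¹ := by group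
  have h9 : c = c⁻¹ := by rw [← h8, ← h7, ← h6, h5]
  have h10 : c = 1 := hπ.eq_one hc1 (by rw [eq_inv_iff_mul_eq_one] at h9; exact h9)
  have h11 : a * b = c * (b * a) := by rw [hcd]; group
  rw [h11, h10, one_mul]

end LC

/-- The elements whose lifts commute with the lifts of `k`. -/
def cenLC {K : Type u} [Group K] (k : K) : Subgroup K where
  carrier := {g | LC.{u, v} g k}
  one_mem' := fun L _ π hπ a b ha _ => (hπ.comm ha b).symm
  mul_mem' := by
    intro g g' hg hg' L _ π hπ a b ha hb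
    obtain ⟨x, hx⟩ := hπ.surj g
    have hy : π (x⁻¹ * a) = g' := by rw [map_mul, map_inv, hx, ha]; group
    have h1 := hg L π hπ x b hx hb
    have h2 := hg' L π hπ (x⁻¹ * a) b hy hb
    calc a * b = x * ((x⁻¹ * a) * b) := by group
      _ = x * (b * (x⁻¹ * a)) := by rw [h2]
      _ = (x * b) * (x⁻¹ * a) := by group
      _ = (b * x) * (x⁻¹ * a) := by rw [h1]
      _ = b * a := by group
  inv_mem' := by
    intro g hg L _ π hπ a b ha hb
    have h1 := hg L π hπ a⁻¹ b (by rw [map_inv, ha, inv_inv]) hb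
    calc a * b = a * (b * a⁻¹) * a := by group
      _ = a * (a⁻¹ * b) * a := by rw [h1]
      _ = b * a := by group

theorem mem_cenLC {K : Type u} [Group K] {k g : K} : g ∈ cenLC.{u, v} k ↔ LC.{u, v} g k := Iff.rfl

/-- **Lifting.** -/
theorem lift_FH {K : Type u} [Group K] {F : Type w} [Field F] {r h : ℕ} {X : F → K} {A B : Fin h → F → K}
    {c : Fin h → F} (hH : FH r h X A B c) {s : K} (sX : ∀ t, s * X t * s⁻¹ = (X t)⁻¹)
    (sA : ∀ j t, s * A j t * s⁻¹ = (A j t)⁻¹) (sB : ∀ j t, s * B j t * s⁻¹ = B j t)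
    (XX : ∀ t u, LC.{u, v} (X t) (X u)) (XA : ∀ j t u, LC.{u, v} (X t) (A j u))
    (AA : ∀ i j t u, LC.{u, v} (A i t) (A j u)) {L : Type v} [Group L] {π : L →* K} (hπ : Cov π) :
    ∃ (X' : F → L) (A' B' : Fin h → F → L), FH r h X' A' B' c ∧ ∀ t, π (X' t) = X t := by
  obtain ⟨σ, hσ⟩ := hπ.surj s
  have hXl : ∀ t, ∃ a, π a = X t ∧ σ * a * σ⁻¹ = a⁻¹ := fun t => hπ.exists_inv_lift (by rw [hσ, sX])
  have hAl : ∀ j t, ∃ a, π a = A j t ∧ σ * a * σ⁻¹ = a⁻¹ := fun j t => hπ.exists_inv_lift (by rw [hσ, sA])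
  have hBl : ∀ j t, ∃ a, π a = B j t := fun j t => hπ.surj _
  choose X' hX' hsX using hXl
  choose A' hA' hsA using hAl
  choose B' hB' using hBl
  have cXX : ∀ t u, X' t * X' u = X' u * X' t := fun t u => XX t u L π hπ _ _ (hX' t) (hX' u)
  have cXA : ∀ j t u, X' t * A' j u = A' j u * X' t := fun j t u => XA j t u L π hπ _ _ (hX' t) (hA' j u)
  have cXB : ∀ j t u, X' t * B' j u = B' j u * X' t := fun j t u =>
    LC.of_inv (hH.XB j t u) (sX t) (sB j u) L π hπ _ _ (hX' t) (hB' j u)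
  refine ⟨X', A', B', ⟨?_, ?_, cXA, cXB, ?_, ?_, ?_, hH.c_ne⟩, hX'⟩
  · intro t u
    apply hπ.inv_lift_unique (σ := σ)
    · rw [map_mul, hX', hX', hX', hH.add]
    · exact hsX _
    · calc σ * (X' t * X' u) * σ⁻¹ = (σ * X' t * σ⁻¹) * (σ * X' u * σ⁻¹) := by group
        _ = (X' t)⁻¹ * (X' u)⁻¹ := by rw [hsX, hsX]
        _ = (X' u * X' t)⁻¹ := by rw [mul_inv_rev]
        _ = (X' t * X' u)⁻¹ := by rw [cXX]
  · intro j t
    apply hπ.eq_one
    · rw [map_pow, hA', hH.A_pow]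
    · have h1 : π (A' j t ^ r) = 1 := by rw [map_pow, hA', hH.A_pow]
      have h2 : σ * A' j t ^ r * σ⁻¹ = (A' j t ^ r)⁻¹ := by
        rw [← conj_pow, hsA, inv_pow]
      rw [hπ.comm h1, mul_inv_cancel_right] at h2
      rw [eq_inv_iff_mul_eq_one] at h2
      exact h2
  · intro i j t u
    exact AA i j t u L π hπ _ _ (hA' i t) (hA' j u)
  · intro i j hij t u
    exact (LC.of_inv (hH.BA i j hij t u).symm (sA j u) (sB i t)).symm L π hπ _ _ (hB' i t) (hA' j u)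
  · intro j t u
    -- `w := [B', A']` is inverted by `σ`
    set w := B' j t * A' j u * (B' j t)⁻¹ * (A' j u)⁻¹ with hw
    have hπw : π w = X (c j * t * u) := by
      rw [hw, map_mul, map_mul, map_mul, map_inv, map_inv, hB', hA', hH.conj, hH.XA j (c j * t * u) u |>.symm]
      group
    have hwA : w * A' j u = A' j u * w := XA j _ u L π hπ _ _ hπw (hA' j u)
    have hBA : B' j t * A' j u * (B' j t)⁻¹ = w * A' j u := by rw [hw]; group
    have hζ : π ((B' j t)⁻¹ * (σ * B' j t * σ⁻¹)) = 1 := by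
      rw [map_mul, map_mul, map_mul, map_inv, map_inv, hB', hσ, sB, inv_mul_cancel]
    set ζ := (B' j t)⁻¹ * (σ * B' j t * σ⁻¹) with hζd
    have h1 : σ * B' j t * σ⁻¹ = B' j t * ζ := by rw [hζd]; group
    have h2 : σ * w * σ⁻¹ = w⁻¹ := by
      have h3 : σ * w * σ⁻¹ = (σ * B' j t * σ⁻¹) * (σ * A' j u * σ⁻¹) * (σ * B' j t * σ⁻¹)⁻¹ *
          (σ * A' j u * σ⁻¹)⁻¹ := by rw [hw]; group
      rw [h3, h1, hsA]
      calc B' j t * ζ * (A' j u)⁻¹ * (B' j t * ζ)⁻¹ * ((A' j u)⁻¹)⁻¹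
          = B' j t * (ζ * (A' j u)⁻¹) * (ζ⁻¹ * (B' j t)⁻¹) * A' j u := by group
        _ = B' j t * ((A' j u)⁻¹ * ζ) * (ζ⁻¹ * (B' j t)⁻¹) * A' j u := by rw [hπ.comm hζ]
        _ = (B' j t * A' j u * (B' j t)⁻¹)⁻¹ * A' j u := by group
        _ = (w * A' j u)⁻¹ * A' j u := by rw [hBA]
        _ = (A' j u * w)⁻¹ * A' j u := by rw [hwA]
        _ = w⁻¹ := by group
    have h3 : w = X' (c j * t * u) := hπ.inv_lift_unique (by rw [hπw, hX']) h2 (hsX _)
    rw [hBA, h3, cXA]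

/-- **The Heisenberg bound for all perfect central extensions with kernel of odd order.** -/
theorem LB.fh {K : Type u} [Group K] [IsSimpleGroup K] {F : Type w'} [Field F] [Finite F] {r h : ℕ}
    [Fact r.Prime] [CharP F r] (hr2 : r ≠ 2) {X : F → K} {A B : Fin h → F → K}
    {c : Fin h → F} (hH : FH r h X A B c) {s : K} (sX : ∀ t, s * X t * s⁻¹ = (X t)⁻¹)
    (sA : ∀ j t, s * A j t * s⁻¹ = (A j t)⁻¹) (sB : ∀ j t, s * B j t * s⁻¹ = B j t)
    (XX : ∀ t u, LC.{u, v} (X t) (X u)) (XA : ∀ j t u, LC.{u, v} (X t) (A j u))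
    (AA : ∀ i j t u, LC.{u, v} (A i t) (A j u)) (hX1 : ∃ t, X t ≠ 1) :
    LB.{u, v, w} K (orderOf (2 : ZMod r) * Nat.card F ^ h) := by
  intro L _ _ π hπ hc ho hL V _ _ h2 φ hφ
  obtain ⟨X', A', B', hH', hX'⟩ := lift_FH hH sX sA sB XX XA AA (π := π) ⟨hπ, hc, ho⟩
  obtain ⟨t, ht⟩ := hX1
  refine hH'.two_pow_le φ h2 hr2 ⟨t, fun h => ht ?_⟩
  have h1 : X' t ∈ π.ker := ker_le_ker hπ hc hL hφ (MonoidHom.mem_ker.2 h)
  rw [← hX', MonoidHom.mem_ker.1 h1]

end Cfsg.Agent.Omega.Lie.HeisF
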