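import Mathlib

/-!
# (INV5): an involution inverting an element of prime order `≥ 5`

The only K-fact of (T2) of TEXT LIE-1 (`TwoEnd.lean`): lift over odd normal subgroups, quotients by central subgroups,
and the row `SL₂(F)`, `|F| ≥ 4` even.
-/

set_option autoImplicit false
set_option linter.dupNamespace false

namespace Cfsg.Agent.Omega.Lie.InvFive

/-- Some involution inverts an element of prime order `≥ 5`. -/
def InvFive (K : Type*) [Group K] : Prop :=
  ∃ (y g : K) (r : ℕ), y * y = 1 ∧ y * g * y⁻¹ = g⁻¹ ∧ r.Prime ∧ 5 ≤ r ∧ g ^ r = 1 ∧ g ≠ 1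

theorem of_equiv {K L : Type*} [Group K] [Group L] (e : K ≃* L) (h : InvFive K) : InvFive L := by
  obtain ⟨y, g, r, h1, h2, h3, h4, h5, h6⟩ := h
  refine ⟨e y, e g, r, ?_, ?_, h3, h4, ?_, ?_⟩
  · rw [← map_mul, h1, map_one]
  · rw [← map_mul, ← map_inv, ← map_mul, h2, map_inv]
  · rw [← map_pow, h5, map_one]
  · simpa using h6

/-- injective image -/
theorem of_injective {K L : Type*} [Group K] [Group L] (f : K →* L) (hf : Function.Injective f) (h : InvFive K) :
    InvFive L := by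
  obtain ⟨y, g, r, h1, h2, h3, h4, h5, h6⟩ := h
  refine ⟨f y, f g, r, ?_, ?_, h3, h4, ?_, ?_⟩
  · rw [← map_mul, h1, map_one]
  · rw [← map_mul, ← map_inv, ← map_mul, h2, map_inv]
  · rw [← map_pow, h5, map_one]
  · intro h; exact h6 (hf (h.trans (map_one f).symm))

theorem ne_inv {K : Type*} [Group K] {g : K} {r : ℕ} (hr : r.Prime) (h5 : 5 ≤ r) (hg : g ^ r = 1) (h1 : g ≠ 1) :
    g ≠ g⁻¹ := by
  intro h
  have h3 : g ^ 2 = 1 := by
    rw [pow_two]
    nth_rewrite 2 [h]
    exact mul_inv_cancel g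
  have h4 : orderOf g ∣ r := orderOf_dvd_of_pow_eq_one hg
  have h6 : orderOf g ∣ 2 := orderOf_dvd_of_pow_eq_one h3
  rcases (Nat.dvd_prime hr).1 h4 with h7 | h7
  · exact h1 (orderOf_eq_one_iff.1 h7)
  · rw [h7] at h6
    have := Nat.le_of_dvd (by norm_num) h6
    omega

/-- the quotient by a central subgroup -/
theorem quotient {K : Type*} [Group K] (N : Subgroup K) [N.Normal] (hN : N ≤ Subgroup.center K) (h : InvFive K) :
    InvFive (K ⧸ N) := by
  obtain ⟨y, g, r, h1, h2, h3, h4, h5, h6⟩ := h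
  refine ⟨QuotientGroup.mk' N y, QuotientGroup.mk' N g, r, ?_, ?_, h3, h4, ?_, ?_⟩
  · rw [← map_mul, h1, map_one]
  · rw [← map_mul, ← map_inv, ← map_mul, h2, map_inv]
  · rw [← map_pow, h5, map_one]
  · intro h
    have hg : g ∈ N := (QuotientGroup.eq_one_iff g).1 h
    have hc := Subgroup.mem_center_iff.1 (hN hg) y
    have e : y * g * y⁻¹ = g := by rw [hc]; group
    exact ne_inv h3 h4 h5 h6 (e.symm.trans h2)

/-- **Lift over a normal subgroup of odd order.** -/
theorem lift {K : Type*} [Group K] [Finite K] (N : Subgroup K) [N.Normal] (hN : Odd (Nat.card N))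
    (h : InvFive (K ⧸ N)) : InvFive K := by
  obtain ⟨y', g', r, h1, h2, h3, h4, h5, h6⟩ := h
  obtain ⟨y, rfl⟩ := QuotientGroup.mk'_surjective N y'
  obtain ⟨g, rfl⟩ := QuotientGroup.mk'_surjective N g'
  obtain ⟨m, hm⟩ := hN
  have hyy : y * y ∈ N := (QuotientGroup.eq_one_iff (y * y)).1 (by
    have := h1; rw [← map_mul] at this; exact this)
  have hyn : (y * y) ^ (2 * m + 1) = 1 := by
    have h7 : (⟨y * y, hyy⟩ : N) ^ Nat.card N = 1 := pow_card_eq_one'
    rw [hm] at h7
    exact congrArg Subtype.val h7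
  set z := y * (y * y) ^ m with hz
  have hzz : z * z = 1 := by
    have hc : Commute y ((y * y) ^ m) := ((Commute.refl y).mul_right (Commute.refl y)).pow_right m
    calc z * z = y * ((y * y) ^ m * y) * (y * y) ^ m := by rw [hz]; group
      _ = y * (y * (y * y) ^ m) * (y * y) ^ m := by rw [← hc.eq]
      _ = (y * y) * ((y * y) ^ m * (y * y) ^ m) := by group
      _ = (y * y) ^ (2 * m + 1) := by rw [← pow_add, ← pow_succ', two_mul]
      _ = 1 := hyn
  have hzi : z⁻¹ = z := inv_eq_of_mul_eq_one_left hzz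
  have hzy : QuotientGroup.mk' N z = QuotientGroup.mk' N y := by
    rw [hz, map_mul, map_pow, map_mul, h1, one_pow, mul_one]
  -- the element inverted by `z`
  set w := g * (z * g * z⁻¹)⁻¹ with hw
  have hwi : z * w * z⁻¹ = w⁻¹ := by
    rw [hw, hzi]
    have e : z * (g * (z * g * z)⁻¹) * z = z * g * z⁻¹ * g⁻¹ * (z⁻¹ * z) := by group
    rw [e, inv_mul_cancel, mul_one, hzi]
    group
  have hwg : QuotientGroup.mk' N w = QuotientGroup.mk' N g ^ 2 := by
    rw [hw, map_mul, map_inv, map_mul, map_mul, map_inv, hzy, h2, inv_inv, pow_two]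
  have hord : orderOf (QuotientGroup.mk' N w) = r := by
    have h7 : orderOf (QuotientGroup.mk' N g) = r := by
      rcases (Nat.dvd_prime h3).1 (orderOf_dvd_of_pow_eq_one h5) with h | h
      · exact absurd (orderOf_eq_one_iff.1 h) h6
      · exact h
    rw [hwg]
    have hco : Nat.Coprime (orderOf (QuotientGroup.mk' N g)) 2 := by
      rw [h7]
      exact (Nat.Prime.coprime_iff_not_dvd h3).2 (fun h => by
        have := Nat.le_of_dvd (by norm_num) h
        omega)
    rw [Nat.Coprime.orderOf_pow hco, h7]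
  have hdvd : r ∣ orderOf w := by
    rw [← hord]; exact orderOf_map_dvd (QuotientGroup.mk' N) w
  obtain ⟨c, hc⟩ := hdvd
  have hpos : 0 < orderOf w := orderOf_pos w
  have hc0 : c ≠ 0 := by rintro rfl; omega
  have hwc : orderOf (w ^ c) = r := by
    rw [orderOf_pow_of_dvd hc0 ⟨r, by rw [hc, mul_comm]⟩, hc]
    exact Nat.mul_div_cancel _ (Nat.pos_of_ne_zero hc0)
  refine ⟨z, w ^ c, r, hzz, ?_, h3, h4, ?_, ?_⟩
  · rw [← conj_pow, hwi, inv_pow]
  · rw [← hwc]; exact pow_orderOf_eq_one _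
  · intro h
    rw [h, orderOf_one] at hwc
    exact absurd h3 (by rw [← hwc]; norm_num)

/-! ### `SL₂(F)` -/

/-- `2 ^ k - 1` has a prime divisor `≥ 5` for `k ≥ 3`. -/
theorem exists_prime {k : ℕ} (hk : 3 ≤ k) : ∃ r : ℕ, r.Prime ∧ 5 ≤ r ∧ r ∣ 2 ^ k - 1 := by
  by_contra hcon
  push Not at hcon
  have hpow : 8 ≤ 2 ^ k := by
    calc 8 = 2 ^ 3 := by norm_num
      _ ≤ 2 ^ k := Nat.pow_le_pow_right (by norm_num) hk
  have h1 : ∀ {d : ℕ}, d.Prime → d ∣ 2 ^ k - 1 → d = 3 := by
    intro d hd hdvd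
    have h2 : d < 5 := by
      by_contra h
      exact hcon d hd (by omega) hdvd
    have h3 : d ≠ 2 := by
      rintro rfl
      have h4 : 2 ∣ 2 ^ k := dvd_pow_self 2 (by omega)
      omega
    have h4 := hd.two_le
    interval_cases d
    · exact absurd rfl h3
    · rfl
    · exact absurd hd (by norm_num)
  have h2 := Nat.eq_prime_pow_of_unique_prime_dvd (n := 2 ^ k - 1) (p := 3) (by omega) h1
  set j := (2 ^ k - 1).primeFactorsList.length
  have h3 : (3 ^ j) % 8 = 1 ∨ (3 ^ j) % 8 = 3 := by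
    clear_value j
    clear h2
    induction j with
    | zero => left; rfl
    | succ n ih =>
      rw [pow_succ, Nat.mul_mod]
      rcases ih with h | h <;> rw [h] <;> decide
  have h4 : (2 ^ k - 1) % 8 = 7 := by
    obtain ⟨l, rfl⟩ := Nat.exists_eq_add_of_le hk
    rw [pow_add]
    have : 0 < 2 ^ l := by positivity
    omega
  rw [← h2] at h3
  omega

open Matrix

variable {F : Type*} [Field F]

theorem sl_ext {A B : Matrix.SpecialLinearGroup (Fin 2) F}
    (h : (A : Matrix (Fin 2) (Fin 2) F) = (B : Matrix (Fin 2) (Fin 2) F)) : A = B :=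
  Matrix.SpecialLinearGroup.ext _ _ fun i j => congrFun (congrFun h i) j

theorem sl_of_order [CharP F 2] {l : Fˣ} {r : ℕ} (hr : r.Prime) (h5 : 5 ≤ r) (hl : l ^ r = 1) (hl1 : l ≠ 1) :
    InvFive (Matrix.SpecialLinearGroup (Fin 2) F) := by
  have h11 : (1 : F) + 1 = 0 := CharTwo.add_self_eq_zero 1
  have hneg : (-1 : F) = 1 := by rw [neg_eq_iff_add_eq_zero]; exact h11
  let y : Matrix.SpecialLinearGroup (Fin 2) F := ⟨!![0, 1; 1, 0], by rw [Matrix.det_fin_two_of]; simp [hneg]⟩
  let g : Matrix.SpecialLinearGroup (Fin 2) F := ⟨!![(l : F), 0; 0, ((l⁻¹ : Fˣ) : F)], by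
    rw [Matrix.det_fin_two_of]; simp⟩
  have hyM : (y : Matrix (Fin 2) (Fin 2) F) = !![0, 1; 1, 0] := rfl
  have hgM : (g : Matrix (Fin 2) (Fin 2) F) = !![(l : F), 0; 0, ((l⁻¹ : Fˣ) : F)] := rfl
  have hy : y * y = 1 := by
    apply sl_ext
    rw [Matrix.SpecialLinearGroup.coe_mul, hyM, Matrix.mul_fin_two, Matrix.SpecialLinearGroup.coe_one, Matrix.one_fin_two]
    simp
  have hgy : y * g * y * g = 1 := by
    apply sl_ext
    rw [Matrix.SpecialLinearGroup.coe_mul, Matrix.SpecialLinearGroup.coe_mul, Matrix.SpecialLinearGroup.coe_mul, hyM, hgM,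
      Matrix.mul_fin_two, Matrix.mul_fin_two, Matrix.mul_fin_two, Matrix.SpecialLinearGroup.coe_one, Matrix.one_fin_two]
    simp
  have hpow : ∀ n : ℕ, ((g ^ n : Matrix.SpecialLinearGroup (Fin 2) F) : Matrix (Fin 2) (Fin 2) F) =
      !![((l ^ n : Fˣ) : F), 0; 0, (((l⁻¹) ^ n : Fˣ) : F)] := by
    intro n
    induction n with
    | zero => rw [pow_zero, Matrix.SpecialLinearGroup.coe_one, Matrix.one_fin_two]; simp
    | succ n ih =>
      rw [pow_succ, Matrix.SpecialLinearGroup.coe_mul, ih, hgM, Matrix.mul_fin_two, pow_succ, pow_succ, Units.val_mul,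
        Units.val_mul]
      simp
  refine ⟨y, g, r, hy, ?_, hr, h5, ?_, ?_⟩
  · rw [inv_eq_of_mul_eq_one_left hy]; exact eq_inv_of_mul_eq_one_left hgy
  · apply sl_ext
    rw [hpow, hl, inv_pow, hl, Matrix.SpecialLinearGroup.coe_one, Matrix.one_fin_two]
    simp
  · intro h
    apply hl1
    have h1 : (g : Matrix (Fin 2) (Fin 2) F) 0 0 = 1 := by rw [h]; simp
    rw [hgM] at h1
    exact Units.ext h1

theorem sl_of_root [CharP F 2] {w : F} (hw : w * w + w + 1 = 0) : InvFive (Matrix.SpecialLinearGroup (Fin 2) F) := by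
  have h11 : (1 : F) + 1 = 0 := CharTwo.add_self_eq_zero 1
  let y : Matrix.SpecialLinearGroup (Fin 2) F := ⟨!![1, 1; 0, 1], by rw [Matrix.det_fin_two_of]; simp⟩
  let y' : Matrix.SpecialLinearGroup (Fin 2) F := ⟨!![1, 0; w, 1], by rw [Matrix.det_fin_two_of]; simp⟩
  have hyM : (y : Matrix (Fin 2) (Fin 2) F) = !![1, 1; 0, 1] := rfl
  have hyM' : (y' : Matrix (Fin 2) (Fin 2) F) = !![1, 0; w, 1] := rfl
  have ext4 : ∀ {a b c d a' b' c' d' : F}, a = a' → b = b' → c = c' → d = d' →
      (!![a, b; c, d] : Matrix (Fin 2) (Fin 2) F) = !![a', b'; c', d'] := by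
    rintro _ _ _ _ _ _ _ _ rfl rfl rfl rfl; rfl
  have hy : y * y = 1 := by
    apply sl_ext
    rw [Matrix.SpecialLinearGroup.coe_mul, hyM, Matrix.mul_fin_two, Matrix.SpecialLinearGroup.coe_one, Matrix.one_fin_two]
    apply ext4
    · ring
    · linear_combination h11
    · ring
    · ring
  have hy' : y' * y' = 1 := by
    apply sl_ext
    rw [Matrix.SpecialLinearGroup.coe_mul, hyM', Matrix.mul_fin_two, Matrix.SpecialLinearGroup.coe_one, Matrix.one_fin_two]
    apply ext4
    · ring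
    · ring
    · linear_combination w * h11
    · ring
  refine ⟨y, y * y', 5, hy, ?_, by norm_num, le_rfl, ?_, ?_⟩
  · rw [_root_.mul_inv_rev, inv_eq_of_mul_eq_one_left hy, inv_eq_of_mul_eq_one_left hy', ← mul_assoc, hy, one_mul]
  · have h2 : ((y * y' : Matrix.SpecialLinearGroup (Fin 2) F) : Matrix (Fin 2) (Fin 2) F) = !![1 + w, 1; w, 1] := by
      rw [Matrix.SpecialLinearGroup.coe_mul, hyM, hyM', Matrix.mul_fin_two]
      apply ext4 <;> ring
    have h4 : (((y * y') ^ 2 : Matrix.SpecialLinearGroup (Fin 2) F) : Matrix (Fin 2) (Fin 2) F) =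
        !![0, w; w + 1, w + 1] := by
      rw [pow_two, Matrix.SpecialLinearGroup.coe_mul, h2, Matrix.mul_fin_two]
      apply ext4
      · linear_combination hw + w * h11
      · linear_combination h11
      · linear_combination hw - h11
      · ring
    have h8 : (((y * y') ^ 4 : Matrix.SpecialLinearGroup (Fin 2) F) : Matrix (Fin 2) (Fin 2) F) =
        !![1, 1; w, w + 1] := by
      rw [show (4 : ℕ) = 2 * 2 by norm_num, pow_mul, pow_two ((y * y') ^ 2), Matrix.SpecialLinearGroup.coe_mul, h4,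
        Matrix.mul_fin_two]
      apply ext4
      · linear_combination hw - h11
      · linear_combination hw - h11
      · linear_combination hw
      · linear_combination 2 * hw - h11
    apply sl_ext
    rw [pow_succ, Matrix.SpecialLinearGroup.coe_mul, h8, h2, Matrix.mul_fin_two, Matrix.SpecialLinearGroup.coe_one,
      Matrix.one_fin_two]
    apply ext4
    · linear_combination w * h11
    · linear_combination h11
    · linear_combination 2 * hw - h11
    · linear_combination w * h11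
  · intro h
    have h1 : ((y * y' : Matrix.SpecialLinearGroup (Fin 2) F) : Matrix (Fin 2) (Fin 2) F) 0 1 = 0 := by rw [h]; simp
    rw [Matrix.SpecialLinearGroup.coe_mul, hyM, hyM', Matrix.mul_fin_two] at h1
    simp at h1

/-- **Row `SL₂(F)`, `|F| ≥ 4` even.** -/
theorem sl [Finite F] [CharP F 2] (h4 : 4 ≤ Nat.card F) : InvFive (Matrix.SpecialLinearGroup (Fin 2) F) := by
  classical
  have := Fintype.ofFinite F
  obtain ⟨k, hp, hk⟩ := FiniteField.card F 2
  have hcard : Nat.card F = 2 ^ (k : ℕ) := by rw [Nat.card_eq_fintype_card, hk]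
  have hu : Fintype.card Fˣ = 2 ^ (k : ℕ) - 1 := by rw [Fintype.card_units, hk]
  by_cases hk3 : 3 ≤ (k : ℕ)
  · obtain ⟨r, hr, h5, hdvd⟩ := exists_prime hk3
    have := Fact.mk hr
    obtain ⟨l, hl⟩ := exists_prime_orderOf_dvd_card (G := Fˣ) r (by rw [hu]; exact hdvd)
    refine sl_of_order hr h5 (l := l) (by rw [← hl]; exact pow_orderOf_eq_one l) ?_
    rintro rfl
    rw [orderOf_one] at hl
    omega
  · have hk2 : (k : ℕ) = 2 := by
      have h1 : (k : ℕ) ≠ 0 := k.ne_zero
      have h2 : (k : ℕ) ≠ 1 := by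
        intro h; rw [hcard, h] at h4; norm_num at h4
      omega
    have : Fact (Nat.Prime 3) := ⟨by norm_num⟩
    obtain ⟨l, hl⟩ := exists_prime_orderOf_dvd_card (G := Fˣ) 3 (by rw [hu, hk2]; norm_num)
    have h3 : (l : F) ^ 3 = 1 := by
      rw [← Units.val_pow_eq_pow_val, ← hl, pow_orderOf_eq_one, Units.val_one]
    have h1 : (l : F) ≠ 1 := by
      intro h
      have : l = 1 := Units.ext h
      rw [this, orderOf_one] at hl
      omega
    refine sl_of_root (w := (l : F)) ?_
    have h5 : ((l : F) - 1) * (l * l + l + 1) = 0 := by linear_combination h3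
    rcases mul_eq_zero.1 h5 with h | h
    · exact absurd (sub_eq_zero.1 h) h1
    · exact h

/-- Row `PSL₂(F)`, `|F| ≥ 4` even. -/
theorem psl [Finite F] [CharP F 2] (h4 : 4 ≤ Nat.card F) :
    InvFive (Matrix.ProjectiveSpecialLinearGroup (Fin 2) F) :=
  quotient _ le_rfl (sl h4)

end Cfsg.Agent.Omega.Lie.InvFive
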