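import Cfsg.Agent.Omega.Lie.PairLTwo
import Cfsg.Agent.Omega.Lie.InvFive

/-!
# (INV5) for `L₂(r)`, `r ≡ ±3 (mod 8)`, `r ≥ 11` (K-fact of (T2), #13389; helper486)

Some involution of `PSL₂(F)` inverts an element of prime order `≥ 5`.
-/

set_option autoImplicit false

namespace Cfsg.Agent.Omega.Lie.PairOrd.LTwo

open Matrix
open Cfsg.Agent.ClassicalGeometry
open Cfsg.Agent.ClassicalGeometry.PSL2Klein (mk mk_eq_mk mk_eq_one mk_neg sq_eq)

variable {F : Type*} [Field F]

local notation "SL2" => Matrix.SpecialLinearGroup (Fin 2)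
local notation "PSL2" => Matrix.ProjectiveSpecialLinearGroup (Fin 2)

/-- A regular semisimple element of `SL₂(q)` is inverted by an element with square `-1`. -/
theorem exists_inverting [Finite F] (h2 : (2 : F) ≠ 0) (X : SL2 F) (hτ : X.1.trace ^ 2 ≠ 4) :
    ∃ A : SL2 F, A.1.trace = 0 ∧ (A * X).1.trace = 0 := by
  classical
  let _ := Fintype.ofFinite F
  have hd := X.2
  rw [det_fin_two] at hd
  rw [trace_fin_two] at hτ
  generalize ha : X.1 0 0 = a at *
  generalize hb : X.1 0 1 = b at *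
  generalize hc : X.1 1 0 = c at *
  generalize hdd : X.1 1 1 = d at *
  have key : ∀ x y z : F, -x ^ 2 - y * z = 1 → x * (a - d) + y * c + z * b = 0 →
      ∃ A : SL2 F, A.1.trace = 0 ∧ (A * X).1.trace = 0 := by
    intro x y z h1 h3
    have hdet : (!![x, y; z, -x] : Matrix (Fin 2) (Fin 2) F).det = 1 := by
      rw [det_fin_two_of]
      linear_combination h1
    obtain ⟨A, hA⟩ : ∃ A : SL2 F, A.1 = !![x, y; z, -x] := ⟨⟨_, hdet⟩, rfl⟩
    refine ⟨A, ?_, ?_⟩
    · rw [trace_fin_two, hA]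
      simp
    · rw [Matrix.SpecialLinearGroup.coe_mul, trace_fin_two, Matrix.mul_apply, Matrix.mul_apply,
        Fin.sum_univ_two, Fin.sum_univ_two, ha, hb, hc, hdd, hA]
      simp
      linear_combination h3
  by_cases hc0 : c = 0
  · subst hc0
    have had : a - d ≠ 0 := by
      intro h
      apply hτ
      linear_combination (a - d) * h + 4 * hd
    refine key (-b / (a - d)) (-1 - (-b / (a - d)) ^ 2) 1 (by ring) ?_
    field_simp
    ring
  · have hodd : Fintype.card F % 2 = 1 := by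
      rw [← Nat.odd_iff]
      exact (PSL2Basic.two_ne_zero_iff_odd F).1 h2
    have h4 : (4 : F) * c ≠ 0 := by
      refine mul_ne_zero ?_ hc0
      have : (4 : F) = 2 * 2 := by norm_num
      rw [this]
      exact mul_ne_zero h2 h2
    have he : ((a + d) ^ 2 - 4) / (4 * c) ≠ 0 := div_ne_zero (sub_ne_zero.2 hτ) h4
    obtain ⟨u, z, huz⟩ := FiniteField.exists_root_sum_quadratic
      (f := Polynomial.C (-c) * Polynomial.X ^ 2 + Polynomial.C 0 * Polynomial.X + Polynomial.C (-c))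
      (g := Polynomial.C (((a + d) ^ 2 - 4) / (4 * c)) * Polynomial.X ^ 2 + Polynomial.C 0 * Polynomial.X +
        Polynomial.C 0)
      (Polynomial.degree_quadratic (neg_ne_zero.2 hc0)) (Polynomial.degree_quadratic he) hodd
    simp only [Polynomial.eval_add, Polynomial.eval_mul, Polynomial.eval_C, Polynomial.eval_pow,
      Polynomial.eval_X] at huz
    have h5 : -c * u ^ 2 - c + ((a + d) ^ 2 - 4) / (4 * c) * z ^ 2 = 0 := by linear_combination huz
    have h6 : (4 * c) * (-c * u ^ 2 - c) + ((a + d) ^ 2 - 4) * z ^ 2 = 0 := by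
      have h7 := congrArg (fun t => (4 * c) * t) h5
      simp only [mul_zero] at h7
      rw [mul_add, ← mul_assoc (4 * c) _ (z ^ 2), mul_div_cancel₀ _ h4] at h7
      exact h7
    refine key (u + (a - d) * z / (2 * c)) (-((u + (a - d) * z / (2 * c)) * (a - d) + z * b) / c) z ?_ ?_
    · have h22 : (2 : F) * c ≠ 0 := mul_ne_zero h2 hc0
      have h7 : (4 * c ^ 2) * (-(u + (a - d) * z / (2 * c)) ^ 2 -
          -((u + (a - d) * z / (2 * c)) * (a - d) + z * b) / c * z - 1) = 0 := by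
        field_simp
        linear_combination 4 * h6 - (16 * z ^ 2) * hd
      have h8 : (4 : F) * c ^ 2 ≠ 0 := by
        rw [pow_two, ← mul_assoc]
        exact mul_ne_zero h4 hc0
      have h9 := (mul_eq_zero.1 h7).resolve_left h8
      linear_combination h9
    · field_simp
      ring

/-- `(r² - 1)` has a prime divisor `≥ 5` for `r ≡ ±3 (mod 8)`, `r ≥ 11`. -/
theorem exists_prime {r : ℕ} (h : r % 8 = 3 ∨ r % 8 = 5) (h11 : 11 ≤ r) :
    ∃ p : ℕ, p.Prime ∧ 5 ≤ p ∧ p ∣ r ^ 2 - 1 := by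
  by_contra hcon
  push Not at hcon
  have hr : r ^ 2 - 1 = (r + 1) * (r - 1) := by
    have := Nat.sq_sub_sq r 1
    simpa using this
  have key : ∀ n : ℕ, n ∣ r ^ 2 - 1 → n % 2 = 1 → 2 ≤ n → 3 ∣ n := by
    intro n hn ho h2
    obtain ⟨p, hp, hpn⟩ := Nat.exists_prime_and_dvd (show n ≠ 1 by omega)
    have h5 : p < 5 := by
      by_contra h5
      exact hcon p hp (by omega) (hpn.trans hn)
    have hp2 := hp.two_le
    interval_cases p
    · omega
    · exact hpn
    · exact absurd hp (by norm_num)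
  rcases h with h | h
  · have h1 := key ((r - 1) / 2) (hr ▸ Dvd.dvd.mul_left (Nat.div_dvd_of_dvd (by omega)) _) (by omega) (by omega)
    have h2 := key ((r + 1) / 4) (hr ▸ Dvd.dvd.mul_right (Nat.div_dvd_of_dvd (by omega)) _) (by omega) (by omega)
    omega
  · have h1 := key ((r + 1) / 2) (hr ▸ Dvd.dvd.mul_right (Nat.div_dvd_of_dvd (by omega)) _) (by omega) (by omega)
    have h2 := key ((r - 1) / 4) (hr ▸ Dvd.dvd.mul_left (Nat.div_dvd_of_dvd (by omega)) _) (by omega) (by omega)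
    omega

/-- Elements of trace `±2` have order dividing the characteristic in `PSL₂`. -/
theorem pow_char_of_trace (p : ℕ) [CharP F p] (hp : p.Prime) (X : SL2 F) (hτ : X.1.trace ^ 2 = 4) :
    mk X ^ p = 1 := by
  have hfp : Fact p.Prime := ⟨hp⟩
  have h1 : (X.1.trace - 2) * (X.1.trace + 2) = 0 := by linear_combination hτ
  obtain ⟨e, he, he2⟩ : ∃ e : F, (e = 1 ∨ e = -1) ∧ X.1.trace = 2 * e := by
    rcases mul_eq_zero.1 h1 with h | h
    · exact ⟨1, Or.inl rfl, by linear_combination h⟩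
    · exact ⟨-1, Or.inr rfl, by linear_combination h⟩
  have hee : e * e = 1 := by rcases he with rfl | rfl <;> ring
  set N : Matrix (Fin 2) (Fin 2) F := X.1 - e • (1 : Matrix (Fin 2) (Fin 2) F) with hN
  have hNN : N * N = 0 := by
    have h3 : N * N = X.1 * X.1 - (2 * e) • X.1 + (e * e) • (1 : Matrix (Fin 2) (Fin 2) F) := by
      rw [hN]
      simp only [sub_mul, mul_sub, smul_mul_assoc, mul_smul_comm, one_mul, mul_one, smul_sub, smul_smul]
      rw [two_mul, add_smul]
      abel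
    rw [h3, sq_eq, he2, hee, one_smul]
    abel
  have hX : X.1 = e • (1 : Matrix (Fin 2) (Fin 2) F) + N := by rw [hN]; abel
  have hcomm : Commute (e • (1 : Matrix (Fin 2) (Fin 2) F)) N := by
    change e • (1 : Matrix (Fin 2) (Fin 2) F) * N = N * e • (1 : Matrix (Fin 2) (Fin 2) F)
    rw [smul_mul_assoc, mul_smul_comm, one_mul, mul_one]
  have hchar : CharP (Matrix (Fin 2) (Fin 2) F) p := inferInstance
  have hNp : N ^ p = 0 := by
    obtain ⟨k, rfl⟩ := Nat.exists_eq_add_of_le hp.two_le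
    rw [pow_add, pow_two, hNN, zero_mul]
  have hXp : X.1 ^ p = (e ^ p) • (1 : Matrix (Fin 2) (Fin 2) F) := by
    rw [hX, add_pow_char_of_commute p hcomm, hNp, add_zero, smul_pow, one_pow]
  have hep : e ^ p = 1 ∨ e ^ p = -1 := by
    rcases he with rfl | rfl
    · left; exact one_pow p
    · exact neg_one_pow_eq_or F p
  have h5 : mk X ^ p = mk (X ^ p) := rfl
  rw [h5, mk_eq_one]
  rcases hep with h | h
  · left
    apply Subtype.ext
    rw [Matrix.SpecialLinearGroup.coe_pow, hXp, h, one_smul, Matrix.SpecialLinearGroup.coe_one]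
  · right
    apply Subtype.ext
    rw [Matrix.SpecialLinearGroup.coe_pow, hXp, h, Matrix.SpecialLinearGroup.coe_neg,
      Matrix.SpecialLinearGroup.coe_one, neg_smul, one_smul]

/-- **(INV5) for `L₂(r)`**, `r ≡ ±3 (mod 8)`, `r ≥ 11`. -/
theorem invFive [Finite F] (h : Nat.card F % 8 = 3 ∨ Nat.card F % 8 = 5) (h11 : 11 ≤ Nat.card F) :
    ∃ (p : ℕ) (y g : PSL2 F), p.Prime ∧ 5 ≤ p ∧ y ≠ 1 ∧ y * y = 1 ∧ y * g * y⁻¹ = g⁻¹ ∧ g ^ p = 1 ∧ g ≠ 1 := by
  let _ := Fintype.ofFinite F
  have hodd : Odd (Fintype.card F) := by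
    rw [← Nat.card_eq_fintype_card, Nat.odd_iff]
    omega
  have h2 : (2 : F) ≠ 0 := (PSL2Basic.two_ne_zero_iff_odd F).2 hodd
  have hcard := PSL2Basic.card_PSL2_odd F hodd
  obtain ⟨p, hp, h5, hd⟩ := exists_prime h h11
  rw [Nat.card_eq_fintype_card (α := F)] at hd
  have hfp : Fact p.Prime := ⟨hp⟩
  have hpd : p ∣ Nat.card (PSL2 F) := by
    have h3 : p ∣ Nat.card (PSL2 F) * 2 := hcard ▸ Dvd.dvd.mul_left hd _
    rcases (hp.dvd_mul).1 h3 with h4 | h4
    · exact h4
    · have := Nat.le_of_dvd (by norm_num) h4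
      omega
  obtain ⟨g, hg⟩ := exists_prime_orderOf_dvd_card' p hpd
  obtain ⟨X, rfl⟩ := QuotientGroup.mk_surjective g
  obtain ⟨ℓ, hℓ⟩ := CharP.exists F
  have hℓp : ℓ.Prime := (CharP.char_is_prime_or_zero F ℓ).resolve_right (CharP.char_ne_zero_of_finite F ℓ)
  have htr : X.1.trace ^ 2 ≠ 4 := by
    intro h3
    have h4 := pow_char_of_trace ℓ hℓp X h3
    have h6 : p ∣ ℓ := hg ▸ orderOf_dvd_of_pow_eq_one h4
    have h7 : p = ℓ := (Nat.prime_dvd_prime_iff_eq hp hℓp).1 h6
    obtain ⟨n, hn, hcF⟩ := FiniteField.card F ℓ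
    have h8 : p ∣ Fintype.card F := by
      rw [hcF, h7]
      exact dvd_pow_self ℓ n.ne_zero
    have h9 : p ∣ Fintype.card F ^ 2 := Dvd.dvd.trans h8 (dvd_pow_self _ (by norm_num))
    have h10 : 1 ≤ Fintype.card F ^ 2 := Nat.one_le_pow _ _ Fintype.card_pos
    have h11 : p ∣ 1 := by
      have := Nat.dvd_sub h9 hd
      rwa [Nat.sub_sub_self h10] at this
    have := Nat.le_of_dvd (by norm_num) h11
    omega
  obtain ⟨A, hA, hAX⟩ := exists_inverting h2 X htr
  have hsq : ∀ B : SL2 F, B.1.trace = 0 → mk B * mk B = 1 := by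
    intro B hB
    have h3 : mk (B * B) = 1 := by
      rw [mk_eq_one]
      right
      apply Subtype.ext
      rw [Matrix.SpecialLinearGroup.coe_mul, sq_eq, hB, zero_smul, zero_sub, Matrix.SpecialLinearGroup.coe_neg,
        Matrix.SpecialLinearGroup.coe_one]
    exact h3
  have h1 := hsq A hA
  have h3 := hsq (A * X) hAX
  have h4 : (mk A * mk X) * (mk A * mk X) = 1 := h3
  have hgne : mk X ≠ 1 := by
    intro h6
    have h7 : orderOf (mk X) = p := hg
    rw [h6, orderOf_one] at h7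
    omega
  have hinv : mk A * mk X * (mk A)⁻¹ = (mk X)⁻¹ := by
    have h6 : (mk A)⁻¹ = mk A := inv_eq_of_mul_eq_one_right h1
    rw [h6]
    refine eq_inv_of_mul_eq_one_left ?_
    rw [← h4]
    simp only [mul_assoc]
  refine ⟨p, mk A, mk X, hp, h5, ?_, h1, hinv, ?_, hgne⟩
  · intro h6
    rw [h6, one_mul, inv_one, mul_one] at hinv
    have h7 : mk X * mk X = 1 := by
      nth_rw 1 [hinv]
      exact inv_mul_cancel _
    have h8 : p ∣ 2 := by
      have h9 : orderOf (mk X) = p := hg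
      rw [← h9]
      exact orderOf_dvd_of_pow_eq_one (by rw [pow_two]; exact h7)
    have := Nat.le_of_dvd (by norm_num) h8
    omega
  · rw [← show orderOf (mk X) = p from hg]
    exact pow_orderOf_eq_one _

/-- `InvFive (PSL₂(F))`. -/
theorem invFive' [Finite F] (h : Nat.card F % 8 = 3 ∨ Nat.card F % 8 = 5) (h11 : 11 ≤ Nat.card F) :
    InvFive.InvFive (PSL2 F) := by
  obtain ⟨p, y, g, h1, h2, -, h3, h4, h5, h6⟩ := invFive h h11
  exact ⟨y, g, p, h3, h4, h1, h2, h5, h6⟩

end Cfsg.Agent.Omega.Lie.PairOrd.LTwo
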