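import Cfsg.Agent.Omega.Lie.LQ
import Cfsg.Agent.Omega.Lie.CompT
import Cfsg.Agent.Omega.Lie.CompB
import Cfsg.Agent.SignalizersComponents.QsBasic
import Cfsg.Agent.Transfer.ElemAbAut
import Cfsg.Agent.Omega.Lie.HeisCover
import Cfsg.Agent.Omega.Lie.PairOrd

/-!
# NODE LIE, TEXT LIE-2 (#12707): THEOREM LQ in `H` and the THEOREM on components with (PAIR), (ORD)

`ρ : H → Aut M`, `A`, `T ≤ H`, `e ≤ M`: the structure `Cub` collects what the cubic structure of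
`W₁ / R₁` gives ((N0), (N1) Cor., Lemma N, `A` normal in `N_H(e)`, the order of `M`).
-/

set_option autoImplicit false

namespace Cfsg.Agent.Omega.Lie.LQ

open Subgroup Cfsg.Agent.Omega.Lie.CompT

/-! ### orders -/

/-- `|GL_n(2)|` -/
def gl2 (n : ℕ) : ℕ := ∏ i ∈ Finset.range n, (2 ^ n - 2 ^ i)

theorem gl2_succ (n : ℕ) : gl2 (n + 1) = (2 ^ (n + 1) - 1) * (2 ^ n * gl2 n) := by
  rw [gl2, Finset.prod_range_succ', pow_zero, mul_comm]
  congr 1
  have : ∀ i ∈ Finset.range n, (2 ^ (n + 1) - 2 ^ (i + 1) : ℕ) = 2 * (2 ^ n - 2 ^ i) := by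
    intro i _
    rw [pow_succ, pow_succ, Nat.mul_sub, mul_comm, mul_comm (2 ^ i)]
  rw [Finset.prod_congr rfl this, Finset.prod_mul_distrib, Finset.prod_const, Finset.card_range, gl2]

theorem gl2_dvd {m n : ℕ} (h : m ≤ n) : gl2 m ∣ gl2 n := by
  induction n, h using Nat.le_induction with
  | base => exact dvd_rfl
  | succ n _ ih =>
    rw [gl2_succ]
    exact (ih.mul_left _).mul_left _

/-- K-FACT (PAIR) -/
def Pair (K : Type*) [Group K] : Prop :=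
  ∀ b b' : K, b ≠ 1 → b' ≠ 1 → b ≠ b' → b * b = 1 → b' * b' = 1 → b * b' = b' * b →
    ∃ x : K, x ≠ 1 ∧ Odd (orderOf x) ∧ b * x = x⁻¹ * b ∧ x * b' = b' * x

/-- K-FACT (ORD) -/
def Ord (K : Type*) [Group K] (n : ℕ) : Prop := ¬ Nat.card (K ⧸ center K) ∣ gl2 n

theorem eq_one_of_sq_odd {G : Type*} [Group G] {x : G} (h : Odd (orderOf x)) (h2 : x * x = 1) : x = 1 := by
  have h1 : orderOf x ∣ 2 := orderOf_dvd_of_pow_eq_one (by rw [pow_two, h2])
  rcases (Nat.dvd_prime Nat.prime_two).1 h1 with h3 | h3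
  · exact orderOf_eq_one_iff.1 h3
  · rw [h3] at h
    exact absurd h (by decide)

/-- (PAIR) lifts from `K / Z(K)` to `K` when `|Z(K)|` is odd. -/
theorem Pair.of_quot {K : Type*} [Group K] [Finite K] (hZ : Odd (Nat.card (center K)))
    (h : Pair (K ⧸ center K)) : Pair K := by
  intro b b' hb hb' hbb hb2 hb2' hc
  have hzodd : ∀ z ∈ center K, z * z = 1 → z = 1 := by
    intro z hz hz2
    refine eq_one_of_sq_odd ?_ hz2
    exact Odd.of_dvd_nat hZ (Subgroup.orderOf_dvd_natCard _ hz)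
  have hm : ∀ {u v : K}, (u : K ⧸ center K) = v ↔ u⁻¹ * v ∈ center K := QuotientGroup.eq
  have i1 : b⁻¹ = b := inv_eq_of_mul_eq_one_left hb2
  have i2 : b'⁻¹ = b' := inv_eq_of_mul_eq_one_left hb2'
  have h1 : ∀ {u : K}, (u : K ⧸ center K) = 1 ↔ u ∈ center K := fun {u} => QuotientGroup.eq_one_iff u
  obtain ⟨x, hx1, hxo, hbx, hxb⟩ := h b b' (fun h' => hb (hzodd _ (h1.1 h') hb2))
    (fun h' => hb' (hzodd _ (h1.1 h') hb2')) (fun h' => by
      have h2 := hm.1 h'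
      rw [i1] at h2
      have h3 := hzodd _ h2 (by
        calc b * b' * (b * b') = b * (b' * b) * b' := by group
          _ = (b * b) * (b' * b') := by rw [← hc]; group
          _ = 1 := by rw [hb2, hb2', one_mul])
      exact hbb (by rw [← i2]; exact (eq_inv_of_mul_eq_one_left h3))) (by
      rw [← QuotientGroup.mk_mul, hb2]; rfl) (by rw [← QuotientGroup.mk_mul, hb2']; rfl) (by
      rw [← QuotientGroup.mk_mul, hc, QuotientGroup.mk_mul])
  induction x using QuotientGroup.induction_on with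
  | H x =>
    set y := b * x * b⁻¹ * x⁻¹ with hy
    have hyx : (y : K ⧸ center K) = (x : K ⧸ center K)⁻¹ * (x : K ⧸ center K)⁻¹ := by
      rw [hy, QuotientGroup.mk_mul, QuotientGroup.mk_mul, QuotientGroup.mk_mul, hbx, QuotientGroup.mk_inv,
        QuotientGroup.mk_inv]
      group
    have hyo : Odd (orderOf (y : K ⧸ center K)) := by
      rw [hyx]
      have e : (x : K ⧸ center K)⁻¹ * (x : K ⧸ center K)⁻¹ = (x : K ⧸ center K)⁻¹ ^ 2 := (pow_two _).symm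
      rw [e]
      exact Odd.of_dvd_nat hxo ((orderOf_pow_dvd 2).trans (by rw [orderOf_inv]))
    refine ⟨y, ?_, ?_, ?_, ?_⟩
    · intro h'
      rw [h', QuotientGroup.mk_one] at hyx
      apply hx1
      have h2 : (x : K ⧸ center K) * (x : K ⧸ center K) = 1 := by
        have h3 := congrArg (·⁻¹) hyx
        simpa using h3.symm
      exact eq_one_of_sq_odd hxo h2
    · have h2 : y ^ orderOf (y : K ⧸ center K) ∈ center K := by
        rw [← h1, QuotientGroup.mk_pow, pow_orderOf_eq_one]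
      have h3 : orderOf (y ^ orderOf (y : K ⧸ center K)) ∣ Nat.card (center K) :=
        Subgroup.orderOf_dvd_natCard _ h2
      have h4 : y ^ (orderOf (y : K ⧸ center K) * Nat.card (center K)) = 1 := by
        rw [pow_mul]
        exact orderOf_dvd_iff_pow_eq_one.1 h3
      exact Odd.of_dvd_nat (hyo.mul hZ) (orderOf_dvd_of_pow_eq_one h4)
    · rw [hy]
      have e : (b * x * b⁻¹ * x⁻¹)⁻¹ = x * b * x⁻¹ * b⁻¹ := by group
      rw [e]
      calc b * (b * x * b⁻¹ * x⁻¹) = (b * b) * x * b⁻¹ * x⁻¹ := by group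
        _ = x * b * x⁻¹ * b⁻¹ * b := by rw [hb2, one_mul, inv_mul_cancel_right, i1]
    · -- `b'` centralises `y` modulo the centre
      have h2 : (b' : K ⧸ center K) * y = y * b' := by
        rw [hyx]
        have h3 : Commute (x : K ⧸ center K) b' := hxb
        exact ((h3.inv_left.mul_left h3.inv_left).eq).symm
      rw [← QuotientGroup.mk_mul, ← QuotientGroup.mk_mul] at h2
      have h3 := hm.1 h2
      have hz := mem_center_iff.1 h3
      set z := (b' * y)⁻¹ * (y * b') with hzd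
      have h4 : b' * y * z = y * b' := by rw [hzd]; group
      have h5 : z * z = 1 := by
        have h6 : b' * (b' * y * z) * z = b' * (y * b') * z := by rw [h4]
        have h7 : b' * (b' * y * z) * z = y * (z * z) := by
          calc b' * (b' * y * z) * z = (b' * b') * y * (z * z) := by group
            _ = y * (z * z) := by rw [hb2', one_mul]
        have h8 : b' * (y * b') * z = y := by
          calc b' * (y * b') * z = b' * y * (b' * z) := by group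
            _ = b' * y * z * b' := by rw [hz]; group
            _ = y * (b' * b') := by rw [h4]; group
            _ = y := by rw [hb2', mul_one]
        rw [h7, h8] at h6
        exact mul_left_cancel (h6.trans (mul_one y).symm)
      have h9 := hzodd z h3 h5
      rw [h9, mul_one] at h4
      exact h4.symm

theorem Pair.of_pairOrd {K : Type*} [Group K] (h : PairOrd.Pair K) : Pair K := by
  intro b b' h1 h1' hne hbb hbb' hc
  obtain ⟨x, hx, ho, hi, hf⟩ := h b b' h1 h1' hne hbb hbb' hc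
  exact ⟨x, hx, ho, mul_inv_eq_iff_eq_mul.1 hi, (mul_inv_eq_iff_eq_mul.1 hf).symm⟩

universe u v w

/-- `K` acts trivially on every elementary abelian 2-group of order at most `2 ^ n`. -/
def NoAct (K : Type u) [Group K] (n : ℕ) : Prop :=
  ∀ (M : Type v) [CommGroup M] [Finite M], (∀ m : M, m * m = 1) → Nat.card M ≤ 2 ^ n →
    ∀ φ : K →* MulAut M, ∀ k m, φ k m = m

/-- from the order of `K / Z(K)` -/
theorem NoAct.of_ord {K : Type u} [Group K] [Finite K] (hK : Cfsg.IsQuasisimple K) {n : ℕ} (h : Ord K n) :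
    NoAct.{u, v} K n := by
  intro M _ _ h2 hM f k m
  by_contra hkm
  apply h
  have : Fact (Nat.Prime 2) := ⟨Nat.prime_two⟩
  have hM2 : IsPGroup 2 M := fun m => ⟨1, by rw [pow_one, pow_two, h2]⟩
  obtain ⟨j, hj⟩ := IsPGroup.iff_card.1 hM2
  have hjn : j ≤ n := by
    rw [hj] at hM
    exact (Nat.pow_le_pow_iff_right (by norm_num)).1 hM
  have hG : Nat.card (MulAut M) = gl2 j := by
    rw [Cfsg.Agent.Transfer.ElemAbAut.card_mulAut 2 j mul_comm (fun x => by rw [pow_two, h2]) hj, gl2,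
      Finset.prod_range]
  have hker : f.ker ≤ center K := by
    refine Cfsg.Agent.SignalizersComponents.QsBasic.normal_le_center_of_ne_top hK f.ker ?_
    intro h
    apply hkm
    have h1 : k ∈ f.ker := by rw [h]; exact mem_top _
    rw [MonoidHom.mem_ker.1 h1, MulAut.one_apply]
  have h1 : Nat.card (K ⧸ center K) ∣ Nat.card (K ⧸ f.ker) := by
    rw [← index_eq_card, ← index_eq_card]
    exact index_dvd_of_le hker
  have h2 : Nat.card (K ⧸ f.ker) ∣ Nat.card (MulAut M) :=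
    Subgroup.card_dvd_of_injective _ (QuotientGroup.kerLift_injective f)
  rw [hG] at h2
  exact (h1.trans h2).trans (gl2_dvd hjn)

/-- from a lower bound for the covers of `K / Z(K)` -/
theorem NoAct.of_lb {K : Type u} [Group K] [Finite K] (hK : Cfsg.IsQuasisimple K)
    (hZ : Odd (Nat.card (center K))) {n m : ℕ} (hnm : n < m) (h : Heis.LB.{u, u, v} (K ⧸ center K) m) :
    NoAct.{u, v} K n := by
  intro M _ _ h2 hM f k x
  by_contra hkm
  have hM2 : IsPGroup 2 M := fun m => ⟨1, by rw [pow_one, pow_two, h2]⟩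
  have hk : (QuotientGroup.mk' (center K)).ker = center K := QuotientGroup.ker_mk' _
  have h3 := h K (QuotientGroup.mk' (center K)) (QuotientGroup.mk'_surjective _) hk.le (by rw [hk]; exact hZ)
    hK.1.commutator_eq_top M hM2 f (fun hf => hkm (by rw [hf]; rfl))
  have h4 := h3.trans hM
  have h5 := (Nat.pow_le_pow_iff_right (by norm_num : 1 < 2)).1 h4
  omega

theorem odd_card_center {G : Type*} [Group G] [Finite G] {K : Subgroup G}
    (h : ∀ x ∈ K, (∀ y ∈ K, x * y = y * x) → Odd (orderOf x)) : Odd (Nat.card (center K)) := by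
  by_contra hc
  rw [Nat.not_odd_iff_even, even_iff_two_dvd] at hc
  have : Fact (Nat.Prime 2) := ⟨Nat.prime_two⟩
  obtain ⟨z, hz⟩ := exists_prime_orderOf_dvd_card' 2 hc
  have h1 := h ((z : K) : G) (z : K).2 (fun y hy => by
    have := mem_center_iff.1 z.2 ⟨y, hy⟩
    exact (congrArg Subtype.val this).symm)
  rw [Subgroup.orderOf_coe, Subgroup.orderOf_coe, hz] at h1
  exact absurd h1 (by decide)

/-! ### the interface -/

variable {H : Type u} {M : Type v} [Group H] [CommGroup M]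

/-- The cubic module `M = W₁ / R₁` for `H = N(R₁) / Q₁`, `A = U₂ Q₁ / Q₁`, `T` the torus, `e = V / R₁`. -/
structure Cub (ρ : H →* MulAut M) (A T : Subgroup H) (e : Subgroup M) : Prop where
  /-- `M` has exponent two -/
  sq2 : ∀ m : M, m * m = 1
  /-- `A` centralises `e` -/
  Ae : ∀ a ∈ A, ∀ m ∈ e, ρ a m = m
  /-- (N0): `[M, a, a^t] ≤ e` -/
  line0 : ∀ a ∈ A, ∀ t ∈ T, ∀ m, br (ρ (t * a * t⁻¹)) (br (ρ a) m) ∈ e
  /-- `[M, a, b, b^t] = 1` -/
  line1 : ∀ a ∈ A, ∀ b ∈ A, ∀ t ∈ T, ∀ m,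
    ρ (t * b * t⁻¹) (br (ρ b) (br (ρ a) m)) = br (ρ b) (br (ρ a) m)
  /-- (N1) Cor.: `[M, a, b] ≠ 1 ⇒ e ≤ [M, a, b]` -/
  full : ∀ a ∈ A, ∀ b ∈ A, (∃ m, br (ρ b) (br (ρ a) m) ≠ 1) → ∀ y ∈ e, ∃ m, y = br (ρ b) (br (ρ a) m)
  /-- (N1) Cor.: `[M, a, b] ≠ 1 ≠ [M, a, b^t] ⇒ [M, a, b] ≤ [M, a, b^t]` -/
  same : ∀ a ∈ A, ∀ b ∈ A, ∀ t ∈ T, (∃ m, br (ρ b) (br (ρ a) m) ≠ 1) →
    (∃ m, br (ρ (t * b * t⁻¹)) (br (ρ a) m) ≠ 1) →
    ∀ m, ∃ m', br (ρ b) (br (ρ a) m) = br (ρ (t * b * t⁻¹)) (br (ρ a) m')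
  /-- LEMMA N -/
  lemN : ∀ a ∈ A, a ≠ 1 → ∀ h ∈ normalClosure (A : Set H),
    (∀ m, ρ h (br (ρ a) m) = br (ρ a) m) → ∀ m ∈ e, ρ h m = m
  /-- `A` is normal in the centraliser of `e` -/
  nrm : ∀ h : H, (∀ m ∈ e, ρ h m = m) → ∀ a ∈ A, h * a * h⁻¹ ∈ A
  /-- `|M| ≤ q⁴` if `A` is one line -/
  card : (∃ a ∈ A, ∀ b ∈ A, b ≠ 1 → ∃ t ∈ T, b = t * a * t⁻¹) → Nat.card M ≤ (Nat.card T + 1) ^ 4

namespace Cub

variable {ρ : H →* MulAut M} {A T : Subgroup H} {e : Subgroup M}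

theorem rho_comm (ρ : H →* MulAut M) {g h : H} (hc : g * h = h * g) : ρ g * ρ h = ρ h * ρ g := by
  rw [← map_mul, hc, map_mul]

/-- **THEOREM LQ** in `H`. -/
theorem lq (c : Cub ρ A T e) {a b b' x : H} (ha : a ∈ A) (hb : b ∈ A) (hb' : b' ∈ A) (hx : Odd (orderOf x))
    (xa : x * a = a * x) (bx : b * x = x⁻¹ * b) (xb' : x * b' = b' * x)
    (hor : (∃ t ∈ T, b' = t * b * t⁻¹) ∨ ∃ t ∈ T, b = t * a * t⁻¹)
    (hne : ∃ m, br (ρ b') (br (ρ a) m) ≠ 1) (m : M) : ρ x (br (ρ a) m) = br (ρ a) m := by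
  refine LQ.lq c.sq2 (b := ρ b) (b' := ρ b') (hx.of_dvd_nat (orderOf_map_dvd ρ x)) (rho_comm ρ xa)
    (rho_comm ρ xb') ?_ ?_ ?_ m
  · rw [← map_inv, ← map_mul, ← map_mul, bx]
  · rcases hor with ⟨t, ht, rfl⟩ | ⟨t, ht, rfl⟩
    · exact c.line1 a ha b hb t ht
    · intro m
      exact c.Ae b' hb' _ (c.line0 a ha t ht m)
  · rcases hor with ⟨t, ht, rfl⟩ | ⟨t, ht, rfl⟩
    · intro m
      by_cases h : ∃ m, br (ρ b) (br (ρ a) m) ≠ 1
      · exact c.same a ha b hb t ht h hne m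
      · push Not at h
        exact ⟨1, by rw [h, map_one, map_one]⟩
    · intro m
      exact c.full a ha b' hb' hne _ (c.line0 a ha t ht m)

/-- the centraliser in `K` of `[M, a]`, `a` commuting with `K`, is normal -/
def cenBr (ρ : H →* MulAut M) (a : H) (K : Subgroup H) : Subgroup K where
  carrier := {k | ∀ m, ρ (k : H) (br (ρ a) m) = br (ρ a) m}
  one_mem' := fun m => by simp
  mul_mem' := by
    intro k l hk hl m
    rw [coe_mul, map_mul, MulAut.mul_apply, hl, hk]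
  inv_mem' := by
    intro k hk m
    rw [coe_inv, map_inv]
    have h1 := congrArg (fun z => (ρ (k : H))⁻¹ z) (hk m)
    have h2 : (ρ (k : H))⁻¹ (ρ (k : H) (br (ρ a) m)) = br (ρ a) m := by
      rw [← MulAut.mul_apply, inv_mul_cancel, MulAut.one_apply]
    exact (h2.symm.trans h1).symm

theorem cenBr_normal (ρ : H →* MulAut M) {a : H} {K : Subgroup H} (haK : ∀ k ∈ K, a * k = k * a) :
    (cenBr ρ a K).Normal := by
  constructor
  intro n hn g m
  have h1 : (ρ (g : H)⁻¹) (br (ρ a) m) = br (ρ a) (ρ (g : H)⁻¹ m) :=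
    apply_br (rho_comm ρ (haK _ (K.inv_mem g.2)).symm) m
  have h2 : ρ (g : H) (br (ρ a) (ρ (g : H)⁻¹ m)) = br (ρ a) m := by
    rw [apply_br (rho_comm ρ (haK _ g.2).symm), ← MulAut.mul_apply, ← map_mul, mul_inv_cancel, map_one,
      MulAut.one_apply]
  rw [coe_mul, coe_mul, coe_inv, map_mul, map_mul, MulAut.mul_apply, MulAut.mul_apply, h1, hn, h2]

/-- `K` is a perfect group, `[a, K] ≤ Z(K)`: then `a` centralises `K`. -/
theorem comm_of_central {K : Subgroup H} (hK : Cfsg.IsQuasisimple K) {a : H}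
    (h : ∀ k ∈ K, a * k * a⁻¹ * k⁻¹ ∈ K ∧ ∀ y ∈ K, (a * k * a⁻¹ * k⁻¹) * y = y * (a * k * a⁻¹ * k⁻¹)) :
    ∀ k ∈ K, a * k = k * a := by
  let N : Subgroup K :=
    { carrier := {k | a * (k : H) = k * a}
      one_mem' := by simp
      mul_mem' := by
        intro k l hk hl
        have hk' : a * (k : H) = k * a := hk
        have hl' : a * (l : H) = l * a := hl
        change a * ((k : H) * l) = k * l * a
        rw [← mul_assoc, hk', mul_assoc, hl', mul_assoc]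
      inv_mem' := by
        intro k hk
        have hk' : a * (k : H) = k * a := hk
        change a * (k : H)⁻¹ = (k : H)⁻¹ * a
        rw [eq_inv_mul_iff_mul_eq, ← mul_assoc, ← hk', mul_assoc, mul_inv_cancel, mul_one] }
  have hN : commutator K ≤ N := by
    rw [commutator_def, commutator_le]
    intro k _ l _
    change a * (((k * l * k⁻¹ * l⁻¹ : K)) : H) = ((k * l * k⁻¹ * l⁻¹ : K) : H) * a
    rw [coe_mul, coe_mul, coe_mul, coe_inv, coe_inv]
    obtain ⟨-, h2⟩ := h k k.2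
    obtain ⟨-, h4⟩ := h l l.2
    set c := a * (k : H) * a⁻¹ * (k : H)⁻¹ with hc
    set d := a * (l : H) * a⁻¹ * (l : H)⁻¹ with hd
    have e1 : a * (k : H) * a⁻¹ = c * k := by rw [hc]; group
    have e2 : a * (l : H) * a⁻¹ = d * l := by rw [hd]; group
    have e3 : a * (k : H)⁻¹ * a⁻¹ = (k : H)⁻¹ * c⁻¹ := by
      calc a * (k : H)⁻¹ * a⁻¹ = (a * (k : H) * a⁻¹)⁻¹ := by group
        _ = (k : H)⁻¹ * c⁻¹ := by rw [e1]; group
    have e4 : a * (l : H)⁻¹ * a⁻¹ = (l : H)⁻¹ * d⁻¹ := by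
      calc a * (l : H)⁻¹ * a⁻¹ = (a * (l : H) * a⁻¹)⁻¹ := by group
        _ = (l : H)⁻¹ * d⁻¹ := by rw [e2]; group
    have hd' : ∀ y ∈ K, d * y = y * d := h4
    have hc' : ∀ y ∈ K, c * y = y * c := h2
    have e5 : a * ((k : H) * l * (k : H)⁻¹ * (l : H)⁻¹) * a⁻¹ = (k : H) * l * (k : H)⁻¹ * (l : H)⁻¹ := by
      calc a * ((k : H) * l * (k : H)⁻¹ * (l : H)⁻¹) * a⁻¹
          = (a * (k : H) * a⁻¹) * (a * (l : H) * a⁻¹) * (a * (k : H)⁻¹ * a⁻¹) * (a * (l : H)⁻¹ * a⁻¹) := by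
            group
        _ = c * k * (d * l) * ((k : H)⁻¹ * c⁻¹) * ((l : H)⁻¹ * d⁻¹) := by rw [e1, e2, e3, e4]
        _ = c * (k * d) * l * (k : H)⁻¹ * c⁻¹ * (l : H)⁻¹ * d⁻¹ := by group
        _ = c * (d * k) * l * (k : H)⁻¹ * c⁻¹ * (l : H)⁻¹ * d⁻¹ := by rw [hd' k k.2]
        _ = c * (d * (k * l * (k : H)⁻¹)) * c⁻¹ * (l : H)⁻¹ * d⁻¹ := by group
        _ = c * ((k * l * (k : H)⁻¹) * d) * c⁻¹ * (l : H)⁻¹ * d⁻¹ := by
            rw [hd' _ (K.mul_mem (K.mul_mem k.2 l.2) (K.inv_mem k.2))]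
        _ = (c * (k * l * (k : H)⁻¹)) * d * c⁻¹ * (l : H)⁻¹ * d⁻¹ := by group
        _ = ((k * l * (k : H)⁻¹) * c) * d * c⁻¹ * (l : H)⁻¹ * d⁻¹ := by
            rw [hc' _ (K.mul_mem (K.mul_mem k.2 l.2) (K.inv_mem k.2))]
        _ = (k * l * (k : H)⁻¹) * (c * d) * c⁻¹ * (l : H)⁻¹ * d⁻¹ := by group
        _ = (k * l * (k : H)⁻¹) * (d * c) * c⁻¹ * (l : H)⁻¹ * d⁻¹ := by rw [hc' d (h l l.2).1]
        _ = (k * l * (k : H)⁻¹) * (d * (l : H)⁻¹) * d⁻¹ := by group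
        _ = (k * l * (k : H)⁻¹) * ((l : H)⁻¹ * d) * d⁻¹ := by rw [hd' _ (K.inv_mem l.2)]
        _ = _ := by group
    calc a * ((k : H) * l * (k : H)⁻¹ * (l : H)⁻¹)
        = a * ((k : H) * l * (k : H)⁻¹ * (l : H)⁻¹) * a⁻¹ * a := by group
      _ = _ := by rw [e5]
  rw [hK.1.commutator_eq_top] at hN
  intro k hk
  exact hN (mem_top (⟨k, hk⟩ : K))

/-- A normal subgroup of the quasisimple `K` is `K` or central. -/
theorem normal_or {K : Subgroup H} (hK : Cfsg.IsQuasisimple K) (N : Subgroup K) [N.Normal] :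
    (∀ k : K, k ∈ N) ∨ ∀ k ∈ N, ∀ y ∈ K, (k : H) * y = y * k := by
  by_cases h : N = ⊤
  · left
    intro k
    rw [h]
    exact mem_top k
  · right
    intro k hk y hy
    have h1 := Cfsg.Agent.SignalizersComponents.QsBasic.normal_le_center_of_ne_top hK N h hk
    have h2 := mem_center_iff.1 h1 ⟨y, hy⟩
    exact (congrArg Subtype.val h2).symm

/-- **Corollary of LEMMA N**: `K ≤ ⟨A^H⟩` and `K` does not centralise `e`. -/
theorem not_cen (c : Cub ρ A T e) (hA : ∀ a ∈ A, a * a = 1) {K : Subgroup H} (hK : Cfsg.IsQuasisimple K)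
    (hZ : ∀ z ∈ K, (∀ y ∈ K, z * y = y * z) → z * z = 1 → z = 1)
    (hAK : ∀ a ∈ A, ∀ x ∈ K, a * x * a⁻¹ ∈ K) (hne : ∃ a ∈ A, ∃ x ∈ K, a * x ≠ x * a) :
    K ≤ normalClosure (A : Set H) ∧ ∃ k ∈ K, ∃ m ∈ e, ρ k m ≠ m := by
  obtain ⟨a, ha, x, hx, hax⟩ := hne
  constructor
  · rcases normal_or hK ((normalClosure (A : Set H)).subgroupOf K) with h | h
    · intro k hk
      exact h ⟨k, hk⟩
    · exfalso
      apply hax
      refine comm_of_central hK (a := a) ?_ x hx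
      intro k hk
      have h1 : a * k * a⁻¹ * k⁻¹ ∈ K := K.mul_mem (hAK a ha k hk) (K.inv_mem hk)
      refine ⟨h1, h ⟨_, h1⟩ ?_⟩
      rw [mem_subgroupOf]
      have h2 : a ∈ normalClosure (A : Set H) := subset_normalClosure ha
      have e1 : a * k * a⁻¹ * k⁻¹ = a * (k * a⁻¹ * k⁻¹) := by group
      change a * k * a⁻¹ * k⁻¹ ∈ _
      rw [e1]
      exact mul_mem h2 (normalClosure_normal.conj_mem _ (inv_mem h2) k)
  · by_contra hcon
    push Not at hcon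
    have hKA : ∀ k ∈ K, ∀ a ∈ A, k * a * k⁻¹ ∈ A := fun k hk => c.nrm k (hcon k hk)
    have hcommA : ∀ a ∈ A, ∀ b ∈ A, a * b = b * a := by
      intro a ha b hb
      have i1 : a⁻¹ = a := inv_eq_of_mul_eq_one_left (hA a ha)
      have i2 : b⁻¹ = b := inv_eq_of_mul_eq_one_left (hA b hb)
      have i3 : (a * b)⁻¹ = a * b := inv_eq_of_mul_eq_one_left (hA _ (A.mul_mem ha hb))
      rw [mul_inv_rev, i1, i2] at i3
      exact i3.symm
    have hn : (A.subgroupOf K).Normal := ⟨fun n hn g => hKA g g.2 n hn⟩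
    have h1 : ∀ k ∈ K, k ∈ A → k = 1 := by
      intro k hk hkA
      rcases normal_or hK (A.subgroupOf K) with h | h
      · refine hZ k hk (fun y hy => ?_) (hA k hkA)
        exact hcommA k hkA y (h ⟨y, hy⟩)
      · exact hZ k hk (h ⟨k, hk⟩ hkA) (hA k hkA)
    apply hax
    have h2 : a * x * a⁻¹ * x⁻¹ = 1 := by
      refine h1 _ (K.mul_mem (hAK a ha x hx) (K.inv_mem hx)) ?_
      have e1 : a * x * a⁻¹ * x⁻¹ = a * (x * a⁻¹ * x⁻¹) := by group
      rw [e1]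
      exact A.mul_mem ha (hKA x hx _ (A.inv_mem ha))
    calc a * x = a * x * a⁻¹ * x⁻¹ * (x * a) := by group
      _ = x * a := by rw [h2, one_mul]

/-- an element of `K` centralising `[M, a]`, `1 ≠ a ∈ C_A(K)`, is central in `K` -/
theorem central_of_cen (c : Cub ρ A T e) (hA : ∀ a ∈ A, a * a = 1) {K : Subgroup H}
    (hK : Cfsg.IsQuasisimple K) (hZ : ∀ z ∈ K, (∀ y ∈ K, z * y = y * z) → z * z = 1 → z = 1)
    (hAK : ∀ a ∈ A, ∀ x ∈ K, a * x * a⁻¹ ∈ K) (hne : ∃ a ∈ A, ∃ x ∈ K, a * x ≠ x * a)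
    {a : H} (ha : a ∈ A) (ha1 : a ≠ 1) (haK : ∀ k ∈ K, a * k = k * a) {x : H} (hx : x ∈ K)
    (h : ∀ m, ρ x (br (ρ a) m) = br (ρ a) m) : ∀ y ∈ K, x * y = y * x := by
  obtain ⟨h1, k, hk, m, hm, hkm⟩ := c.not_cen hA hK hZ hAK hne
  have := cenBr_normal ρ haK
  rcases normal_or hK (cenBr ρ a K) with h2 | h2
  · exact absurd (c.lemN a ha ha1 k (h1 hk) (h2 ⟨k, hk⟩) m hm) hkm
  · exact h2 ⟨x, hx⟩ h

/-- inverted by an involution of `K`, central, odd: trivial -/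
theorem eq_one_of_inv {K : Subgroup H} {b x : H} (hb : b ∈ K) (hxo : Odd (orderOf x)) (bx : b * x = x⁻¹ * b)
    (hc : ∀ y ∈ K, x * y = y * x) : x = 1 := by
  rw [← hc b hb] at bx
  have h1 : x = x⁻¹ := mul_right_cancel bx
  refine eq_one_of_sq_odd hxo ?_
  nth_rewrite 1 [h1]
  exact inv_mul_cancel x

/-- **(alpha)** of the THEOREM, in the general form: `b`, `b' = b^t` distinct involutions of `A ⊓ K`. -/
theorem alpha (c : Cub ρ A T e) (hA : ∀ a ∈ A, a * a = 1) {K : Subgroup H}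
    (hK : Cfsg.IsQuasisimple K) (hZ : ∀ z ∈ K, (∀ y ∈ K, z * y = y * z) → z * z = 1 → z = 1)
    (hAK : ∀ a ∈ A, ∀ x ∈ K, a * x * a⁻¹ ∈ K) (hp : Pair K)
    {b t : H} (hb : b ∈ A) (hbK : b ∈ K) (hb1 : b ≠ 1) (ht : t ∈ T) (hb' : t * b * t⁻¹ ∈ A)
    (hbK' : t * b * t⁻¹ ∈ K) (hbb : t * b * t⁻¹ ≠ b)
    {a : H} (ha : a ∈ A) (ha1 : a ≠ 1) (haK : ∀ k ∈ K, a * k = k * a) : False := by
  have hcomm : b * (t * b * t⁻¹) = t * b * t⁻¹ * b := by
    have i1 : b⁻¹ = b := inv_eq_of_mul_eq_one_left (hA b hb)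
    have i2 : (t * b * t⁻¹)⁻¹ = t * b * t⁻¹ := inv_eq_of_mul_eq_one_left (hA _ hb')
    have i3 : (b * (t * b * t⁻¹))⁻¹ = b * (t * b * t⁻¹) := inv_eq_of_mul_eq_one_left (hA _ (A.mul_mem hb hb'))
    rw [_root_.mul_inv_rev, i1, i2] at i3
    exact i3.symm
  have hne : ∃ a ∈ A, ∃ x ∈ K, a * x ≠ x * a := by
    by_contra hcon
    push Not at hcon
    exact hb1 (hZ b hbK (hcon b hb) (hA b hb))
  have hb1' : t * b * t⁻¹ ≠ 1 := fun h => hb1 (conj_eq_one_iff.1 h)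
  obtain ⟨x, hx1, hxo, hbx, hxb⟩ := hp ⟨b, hbK⟩ ⟨_, hbK'⟩ (fun h => hb1 (congrArg Subtype.val h))
    (fun h => hb1' (congrArg Subtype.val h)) (fun h => hbb (congrArg Subtype.val h).symm)
    (Subtype.ext (hA b hb)) (Subtype.ext (hA _ hb')) (Subtype.ext hcomm)
  have hxo' : Odd (orderOf (x : H)) := by rwa [Subgroup.orderOf_coe]
  have hbx' : b * (x : H) = (x : H)⁻¹ * b := congrArg Subtype.val hbx
  have hxb' : (x : H) * (t * b * t⁻¹) = t * b * t⁻¹ * x := congrArg Subtype.val hxb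
  have hnt : ∃ m, br (ρ (t * b * t⁻¹)) (br (ρ a) m) ≠ 1 := by
    by_contra hcon
    push Not at hcon
    have h1 := c.central_of_cen hA hK hZ hAK hne ha ha1 haK hbK' (fun m => (br_eq_one c.sq2).1 (hcon m))
    exact hb1' (hZ _ hbK' h1 (hA _ hb'))
  have h1 := c.lq ha hb hb' hxo' (haK x x.2).symm hbx' hxb' (Or.inl ⟨t, ht, rfl⟩) hnt
  have h2 := c.central_of_cen hA hK hZ hAK hne ha ha1 haK x.2 h1
  exact hx1 (Subtype.ext (eq_one_of_inv hbK hxo' hbx' h2))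

/-- a nontrivial `T`-invariant subgroup of `A` of order at most `8` is one line: `T` is transitive on it -/
theorem one_line [Finite H] (sc : Scal A T) (hT : 3 ≤ Nat.card T) {B : Subgroup H} (hBA : B ≤ A)
    (hTB : ∀ t ∈ T, ∀ b ∈ B, t * b * t⁻¹ ∈ B) (h8 : Nat.card B ≤ 8) {b : H} (hb : b ∈ B) (hb1 : b ≠ 1) :
    Nat.card B = Nat.card T + 1 ∧ ∀ b' ∈ B, b' ≠ 1 → ∃ t ∈ T, b' = t * b * t⁻¹ := by
  have hL : sc.L (hBA hb) ≤ B := by
    intro y hy
    rcases hy with rfl | ⟨u, hu, rfl⟩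
    · exact B.one_mem
    · exact hTB u hu b hb
  have hall : ∀ b' ∈ B, b' ∈ sc.L (hBA hb) := by
    intro b' hb'
    by_contra hcon
    have hb1' : b' ≠ 1 := fun h => hcon (h ▸ (sc.L (hBA hb)).one_mem)
    have hL' : sc.L (hBA hb') ≤ B := by
      intro y hy
      rcases hy with rfl | ⟨u, hu, rfl⟩
      · exact B.one_mem
      · exact hTB u hu b' hb'
    have hdis : ∀ y ∈ sc.L (hBA hb), y ∈ sc.L (hBA hb') → y = 1 := by
      intro y hy hy'
      rcases hy' with rfl | ⟨u, hu, rfl⟩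
      · rfl
      · exfalso
        apply hcon
        have := sc.norm_L (hBA hb) u⁻¹ (T.inv_mem hu) _ hy
        have e1 : u⁻¹ * (u * b' * u⁻¹) * u⁻¹⁻¹ = b' := by group
        rwa [e1] at this
    let f : sc.L (hBA hb) × sc.L (hBA hb') → B := fun p => ⟨p.1 * p.2, B.mul_mem (hL p.1.2) (hL' p.2.2)⟩
    have hf : Function.Injective f := by
      rintro ⟨u, v⟩ ⟨u', v'⟩ h
      have h' : (u : H) * v = u' * v' := congrArg Subtype.val h
      have h1 : (u' : H)⁻¹ * u = v' * (v : H)⁻¹ := by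
        rw [inv_mul_eq_iff_eq_mul, ← mul_assoc, ← h', mul_inv_cancel_right]
      have h2 := hdis ((u' : H)⁻¹ * u) (mul_mem (inv_mem u'.2) u.2) (by
        rw [h1]; exact mul_mem v'.2 (inv_mem v.2))
      have h3 : (u : H) = u' := (inv_mul_eq_one.1 h2).symm
      have h4 : (v : H) = v' := by
        rw [h3] at h'
        exact mul_left_cancel h'
      exact Prod.ext (Subtype.ext h3) (Subtype.ext h4)
    have h1 := Nat.card_le_card_of_injective f hf
    rw [Nat.card_prod, ← sc.card_L (hBA hb) hb1, ← sc.card_L (hBA hb') hb1'] at h1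
    nlinarith
  have hBL : B = sc.L (hBA hb) := le_antisymm hall hL
  refine ⟨?_, ?_⟩
  · conv_lhs => rw [hBL]
    exact (sc.card_L (hBA hb) hb1).symm
  · intro b' hb' hb1'
    rcases hall b' hb' with h | h
    · exact absurd h hb1'
    · exact h

/-- **THEOREM of TEXT LIE-2**: a component `K` with `[K, A] ≠ 1`, (PAIR), (ORD) in the form `NoAct`, and
`|S ⊓ K| ≤ 2^j`, `j ≤ 3`. -/
theorem false_of_pair [Finite H] [Finite M] (c : Cub ρ A T e) (sc : Scal A T) (hT : 3 ≤ Nat.card T)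
    {S K : Subgroup H} (h : CompB.Hyp S A T K) (hK : Cfsg.IsQuasisimple K)
    (hne : ∃ a ∈ A, ∃ x ∈ K, a * x ≠ x * a) {j : ℕ} (hj : j ≤ 3) (hS : Nat.card (S ⊓ K : Subgroup H) ≤ 2 ^ j)
    (hp : Pair K) (ho : NoAct.{u, v} K (4 * j)) : False := by
  have hA : ∀ a ∈ A, a * a = 1 := h.A2
  have hZ : ∀ z ∈ K, (∀ y ∈ K, z * y = y * z) → z * z = 1 → z = 1 :=
    fun z hz hc h2 => eq_one_of_sq_odd (h.zodd z hz hc) h2
  have hAK : ∀ a ∈ A, ∀ x ∈ K, a * x * a⁻¹ ∈ K := h.AK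
  set B := A ⊓ K with hB
  have hBS : B ≤ S ⊓ K := inf_le_inf_right _ h.AS
  have hBc : Nat.card B ≤ 2 ^ j := (Subgroup.card_le_of_le hBS).trans hS
  have hB8 : Nat.card B ≤ 8 := hBc.trans (by
    calc 2 ^ j ≤ 2 ^ 3 := Nat.pow_le_pow_right (by norm_num) hj
      _ = 8 := by norm_num)
  have hTB : ∀ t ∈ T, ∀ b ∈ B, t * b * t⁻¹ ∈ B := fun t ht b hb => ⟨h.TA t ht b hb.1, h.TK t ht b hb.2⟩
  have hBne := h.inf_ne_bot hne
  obtain ⟨b, hb, hb1⟩ : ∃ b ∈ B, b ≠ 1 := by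
    by_contra hcon
    push Not at hcon
    exact hBne ((Subgroup.eq_bot_iff_forall B).2 hcon)
  obtain ⟨hcB, hline⟩ := one_line sc hT inf_le_left hTB hB8 hb hb1
  by_cases hC : ∃ a ∈ A, a ≠ 1 ∧ ∀ k ∈ K, a * k = k * a
  · -- (alpha)
    obtain ⟨a, ha, ha1, haK⟩ := hC
    have hnt : ∃ t ∈ T, t ≠ 1 := by
      by_contra hcon
      push Not at hcon
      have : Nat.card T = 1 := by
        rw [Subgroup.card_eq_one, eq_bot_iff]
        exact fun t ht => mem_bot.2 (hcon t ht)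
      omega
    obtain ⟨t, ht, ht1⟩ := hnt
    exact c.alpha hA hK hZ hAK hp hb.1 hb.2 hb1 ht (hTB t ht b hb).1 (hTB t ht b hb).2
      (fun h' => ht1 (sc.reg b hb.1 hb1 t ht h')) ha ha1 haK
  · -- (beta)
    push Not at hC
    have hAB : Nat.card A = Nat.card B := by
      rw [h.card_eq]
      have : A ⊓ centralizer (K : Set H) = ⊥ := by
        rw [eq_bot_iff]
        intro a ha
        rw [mem_bot]
        by_contra ha1
        obtain ⟨k, hk, hak⟩ := hC a ha.1 ha1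
        exact hak (mem_centralizer_iff.1 ha.2 k hk).symm
      rw [this, card_bot, mul_one]
    have hBA : B = A := Subgroup.eq_of_le_of_card_ge inf_le_left hAB.le
    have hcM := c.card ⟨b, hb.1, fun b' hb' hb1' => hline b' (hBA.symm.le hb') hb1'⟩
    rw [← hcB] at hcM
    obtain ⟨-, k, hk, m, -, hkm⟩ := c.not_cen hA hK hZ hAK hne
    refine hkm (ho M c.sq2 (hcM.trans ?_) (ρ.comp K.subtype) ⟨k, hk⟩ m)
    calc Nat.card B ^ 4 ≤ (2 ^ j) ^ 4 := Nat.pow_le_pow_left hBc _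
      _ = 2 ^ (4 * j) := by rw [← pow_mul, mul_comm]

/-- **(T2), the end for components with (PAIR)**: `T` is regular on three conjugates of `K`. -/
theorem three_false_of_pair (c : Cub ρ A T e) (hA : ∀ a ∈ A, a * a = 1) {S K : Subgroup H}
    (hK : Cfsg.IsQuasisimple K) (hZ : ∀ z ∈ K, (∀ y ∈ K, z * y = y * z) → z * z = 1 → z = 1)
    (hAK : ∀ a ∈ A, ∀ x ∈ K, a * x * a⁻¹ ∈ K) (h3 : Three A T K (S ⊓ K)) (hp : Pair K)
    {y y' : H} (hy : y ∈ S ⊓ K) (hy' : y' ∈ S ⊓ K) (hy1 : y ≠ 1) (hy1' : y' ≠ 1) (hyy : y ≠ y') : False := by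
  obtain ⟨t, ht, ht1, ht3, htt1, htt, -⟩ := h3.gen
  have htt' : t * t ∈ T := T.mul_mem ht ht
  -- the conjugates by `t`, `t * t` commute with `K`
  have hcom : ∀ s ∈ T, s ≠ 1 → ∀ z ∈ K, ∀ k ∈ K, s * z * s⁻¹ * k = k * (s * z * s⁻¹) := by
    intro s hs hs1 z hz k hk
    have := h3.com s hs 1 T.one_mem hs1 z hz k hk
    simpa using this
  obtain ⟨hyS, hyK⟩ := hy
  obtain ⟨hyS', hyK'⟩ := hy'
  obtain ⟨w, hw⟩ : ∃ w, w = t * t * y * (t * t)⁻¹ := ⟨_, rfl⟩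
  obtain ⟨w', hw'⟩ : ∃ w, w = t * t * y' * (t * t)⁻¹ := ⟨_, rfl⟩
  have hwK : ∀ k ∈ K, w * k = k * w := hw ▸ hcom _ htt' htt1 y hyK
  have hwK' : ∀ k ∈ K, w' * k = k * w' := hw' ▸ hcom _ htt' htt1 y' hyK'
  obtain ⟨a, ha⟩ : ∃ a, a = t * y * t⁻¹ * w := ⟨_, rfl⟩
  have haA : a ∈ A := by
    rw [ha, hw]
    exact h3.mem y ⟨hyS, hyK⟩ t ht _ htt'
  have haK : ∀ k ∈ K, a * k = k * a := by
    intro k hk
    rw [ha, mul_assoc, hwK k hk, ← mul_assoc, hcom t ht ht1 y hyK k hk, mul_assoc]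
  have hycen : ¬ ∀ k ∈ K, y * k = k * y := fun h => hy1 (hZ y hyK h (h3.sq y ⟨hyS, hyK⟩))
  have ha1 : a ≠ 1 := by
    intro h1
    apply hycen
    intro k hk
    have e1 : t * y * t⁻¹ = w⁻¹ := eq_inv_of_mul_eq_one_left (ha ▸ h1)
    have e2 := h3.com _ htt' t ht htt y hyK k hk
    rw [← hw] at e2
    have e3 : Commute w (t * k * t⁻¹) := e2
    have e4 := e3.inv_left
    rw [← e1] at e4
    have e5 : t * y * t⁻¹ * (t * k * t⁻¹) = t * k * t⁻¹ * (t * y * t⁻¹) := e4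
    calc y * k = t⁻¹ * (t * y * t⁻¹ * (t * k * t⁻¹)) * t := by group
      _ = t⁻¹ * (t * k * t⁻¹ * (t * y * t⁻¹)) * t := by rw [e5]
      _ = k * y := by group
  obtain ⟨b, hb⟩ : ∃ b, b = w * y := ⟨_, rfl⟩
  have hbt : b = t * a * t⁻¹ := by
    have e1 : t⁻¹ * t⁻¹ * t⁻¹ = 1 := by
      calc t⁻¹ * t⁻¹ * t⁻¹ = (t * t * t)⁻¹ := by group
        _ = 1 := by rw [ht3, inv_one]
    calc b = t * t * y * (t * t)⁻¹ * y := by rw [hb, hw]
      _ = t * t * y * (t * t)⁻¹ * ((t * t * t) * y * (t⁻¹ * t⁻¹ * t⁻¹)) := by rw [ht3, e1, one_mul, mul_one]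
      _ = t * a * t⁻¹ := by rw [ha, hw]; group
  have hbA : b ∈ A := by
    have := h3.mem y ⟨hyS, hyK⟩ _ htt' 1 T.one_mem
    simpa [hb, hw] using this
  obtain ⟨b', hb'⟩ : ∃ b, b = w' * y' := ⟨_, rfl⟩
  have hbA' : b' ∈ A := by
    have := h3.mem y' ⟨hyS', hyK'⟩ _ htt' 1 T.one_mem
    simpa [hb', hw'] using this
  have hne : ∃ a ∈ A, ∃ x ∈ K, a * x ≠ x * a := by
    push Not at hycen
    obtain ⟨k, hk, hyk⟩ := hycen
    refine ⟨b, hbA, k, hk, fun h1 => hyk ?_⟩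
    rw [hb, mul_assoc, ← mul_assoc k, ← hwK k hk, mul_assoc] at h1
    exact mul_left_cancel h1
  obtain ⟨x, hx1, hxo, hyx, hxy⟩ := hp ⟨y, hyK⟩ ⟨y', hyK'⟩ (fun h => hy1 (congrArg Subtype.val h))
    (fun h => hy1' (congrArg Subtype.val h)) (fun h => hyy (congrArg Subtype.val h))
    (Subtype.ext (h3.sq y ⟨hyS, hyK⟩)) (Subtype.ext (h3.sq y' ⟨hyS', hyK'⟩))
    (Subtype.ext (h3.ab y ⟨hyS, hyK⟩ y' ⟨hyS', hyK'⟩))
  have hxo' : Odd (orderOf (x : H)) := by rwa [Subgroup.orderOf_coe]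
  have hyx' : y * (x : H) = (x : H)⁻¹ * y := congrArg Subtype.val hyx
  have hxy' : (x : H) * y' = y' * x := congrArg Subtype.val hxy
  have hbx : b * (x : H) = (x : H)⁻¹ * b := by
    rw [hb, mul_assoc, hyx', ← mul_assoc, hwK _ (K.inv_mem x.2), mul_assoc]
  have hxb : (x : H) * b' = b' * x := by
    rw [hb', ← mul_assoc, ← hwK' _ x.2, mul_assoc, hxy', mul_assoc]
  have hnt : ∃ m, br (ρ b') (br (ρ a) m) ≠ 1 := by
    by_contra hcon
    push Not at hcon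
    have hfix : ∀ m, ρ b' (br (ρ a) m) = br (ρ a) m := fun m => (br_eq_one c.sq2).1 (hcon m)
    have hinv : ∀ m, ρ b'⁻¹ (br (ρ a) m) = br (ρ a) m := by
      intro m
      have h1 : ρ b'⁻¹ (ρ b' (br (ρ a) m)) = br (ρ a) m := by
        rw [← MulAut.mul_apply, ← map_mul, inv_mul_cancel, map_one, MulAut.one_apply]
      rwa [hfix] at h1
    apply hy1'
    refine hZ y' hyK' (comm_of_central hK fun k hk => ?_) (h3.sq y' ⟨hyS', hyK'⟩)
    have hin : y' * k * y'⁻¹ * k⁻¹ ∈ K := K.mul_mem (K.mul_mem (K.mul_mem hyK' hk) (K.inv_mem hyK')) (K.inv_mem hk)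
    refine ⟨hin, c.central_of_cen hA hK hZ hAK hne haA ha1 haK hin fun m => ?_⟩
    have e1 : y' * k * y'⁻¹ * k⁻¹ = b' * (k * b'⁻¹ * k⁻¹) := by
      rw [hb', _root_.mul_inv_rev]
      have h1 : k * (y'⁻¹ * w'⁻¹) * k⁻¹ = k * y'⁻¹ * k⁻¹ * w'⁻¹ := by
        have h2 : Commute w' k := hwK' k hk
        have h3 : w'⁻¹ * k⁻¹ = k⁻¹ * w'⁻¹ := (h2.inv_inv).eq
        calc k * (y'⁻¹ * w'⁻¹) * k⁻¹ = k * y'⁻¹ * (w'⁻¹ * k⁻¹) := by group
          _ = _ := by rw [h3]; group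
      have h2 := hwK' _ (K.mul_mem (K.mul_mem (K.mul_mem hyK' hk) (K.inv_mem hyK')) (K.inv_mem hk))
      calc y' * k * y'⁻¹ * k⁻¹ = (y' * k * y'⁻¹ * k⁻¹ * w') * w'⁻¹ := by group
        _ = w' * (y' * k * y'⁻¹ * k⁻¹) * w'⁻¹ := by rw [h2]
        _ = w' * y' * (k * y'⁻¹ * k⁻¹ * w'⁻¹) := by group
        _ = _ := by rw [h1]
    rw [e1, map_mul, map_mul, map_mul, MulAut.mul_apply, MulAut.mul_apply, MulAut.mul_apply,
      apply_br (rho_comm ρ (haK _ (K.inv_mem hk)).symm), hinv, apply_br (rho_comm ρ (haK _ hk).symm), hfix,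
      ← MulAut.mul_apply, ← map_mul, mul_inv_cancel, map_one, MulAut.one_apply]
  have h1 := c.lq haA hbA hbA' hxo' (haK x x.2).symm hbx hxb (Or.inr ⟨t, ht, hbt⟩) hnt
  have h2 := c.central_of_cen hA hK hZ hAK hne haA ha1 haK x.2 h1
  exact hx1 (Subtype.ext (eq_one_of_inv hyK hxo' hyx' h2))

end Cub

end Cfsg.Agent.Omega.Lie.LQ
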