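import Cfsg.Agent.Omega.Lie.InvFive
import Cfsg.Agent.Omega.Lie.InvFiveLTwo
import Cfsg.Agent.Omega.Lie.LQThm
import Cfsg.Agent.Walter.Types
import Cfsg.Agent.S0252
import Cfsg.Agent.S0253

/-!
# (INV5) for every quasisimple group with odd centre and abelian Sylow 2-subgroups

`InvFive K` (an involution inverts an element of prime order at least 5), from Walter's theorem in the form
`Walter.Types.WType`.
-/

set_option autoImplicit false

namespace Cfsg.Agent.Omega.Lie.InvFiveAll

open Subgroup Cfsg.Agent.Omega.Lie.InvFive Cfsg.Agent.Walter.Types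

universe u

theorem psl_five {F : Type*} [Field F] [Fintype F] (hF : Fintype.card F = 5) :
    InvFive (Matrix.ProjectiveSpecialLinearGroup (Fin 2) F) := by
  classical
  have : Fact (Nat.Prime 2) := ⟨Nat.prime_two⟩
  have hc : Nat.card (GaloisField 2 2) = 2 ^ 2 := GaloisField.card 2 2 (by norm_num)
  have : Finite (GaloisField 2 2) := Nat.finite_of_card_ne_zero (by rw [hc]; norm_num)
  let _ : Fintype (GaloisField 2 2) := Fintype.ofFinite _
  have h4 : Fintype.card (GaloisField 2 2) = 4 := by
    rw [← Nat.card_eq_fintype_card, hc]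
    norm_num
  obtain ⟨e⟩ := Cfsg.Agent.S0252.result h4
  obtain ⟨e'⟩ := Cfsg.Agent.S0253.result hF
  exact of_equiv (e.trans e'.symm) (psl (F := GaloisField 2 2) (by rw [hc]; norm_num))

/-- `PSL₂(F)`, `|F| ≡ 3, 5 mod 8`, `|F| ≥ 5`. -/
theorem psl_odd {F : Type*} [Field F] [Fintype F] (h : Fintype.card F % 8 = 3 ∨ Fintype.card F % 8 = 5)
    (h5 : 5 ≤ Fintype.card F) : InvFive (Matrix.ProjectiveSpecialLinearGroup (Fin 2) F) := by
  by_cases h11 : 11 ≤ Fintype.card F
  · exact PairOrd.LTwo.invFive' (by rw [Nat.card_eq_fintype_card]; exact h) (by rw [Nat.card_eq_fintype_card]; exact h11)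
  · exact psl_five (by omega)

/-- the groups of Walter's theorem -/
theorem of_wType {L : Type u} [Group L] [Finite L] (h2 : 2 ∣ Nat.card L) (h : WType L) : InvFive L := by
  rcases h with ⟨F, _, _, n, hn, hF, ⟨e⟩⟩ | ⟨F, _, _, hF, h5, ⟨e⟩⟩ | ⟨-, F, _, _, h35, hq, hc⟩
  · have h4 : 4 ≤ Fintype.card F := by
      rw [hF]
      calc 4 = 2 ^ 2 := by norm_num
        _ ≤ 2 ^ n := Nat.pow_le_pow_right (by norm_num) hn
    have hch : CharP F 2 := by
      have : Fact (Nat.Prime 2) := ⟨Nat.prime_two⟩
      obtain ⟨p, hp⟩ := CharP.exists F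
      have hpp : p.Prime := CharP.char_is_prime F p
      obtain ⟨m, -, hm⟩ := FiniteField.card F p
      have h3 : p ∣ 2 ^ n := by
        rw [← hF, hm]
        exact dvd_pow_self p m.2.ne'
      have h5 := (Nat.prime_dvd_prime_iff_eq hpp Nat.prime_two).1 (hpp.dvd_of_dvd_pow h3)
      rw [← h5]; exact hp
    exact of_equiv e.symm (psl (by rw [Nat.card_eq_fintype_card]; exact h4))
  · exact of_equiv e.symm (psl_odd hF h5)
  · have : Fact (Nat.Prime 2) := ⟨Nat.prime_two⟩
    obtain ⟨t, ht⟩ := exists_prime_orderOf_dvd_card' 2 h2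
    obtain ⟨e⟩ := hc t ht
    refine of_injective ((Subgroup.subtype _).comp (e.symm.toMonoidHom.comp
      (MonoidHom.inr (Multiplicative (ZMod 2)) _))) ?_ (psl_odd h35 hq)
    exact (Subgroup.subtype_injective _).comp (e.symm.injective.comp fun u w h => congrArg Prod.snd h)

/-- Walter's theorem -/
def WalterThm : Prop :=
  ∀ (L : Type u) [Group L] [Finite L], IsSimpleGroup L → ¬ IsMulCommutative L →
    ∀ S : Sylow 2 L, (∀ a ∈ (S : Subgroup L), ∀ b ∈ (S : Subgroup L), a * b = b * a) → WType L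

/-- **(INV5) for quasisimple groups `K` of even order with odd centre and abelian Sylow 2-subgroup.** -/
theorem of_quasisimple (W : WalterThm.{u}) {K : Type u} [Group K] [Finite K] (hK : Cfsg.IsQuasisimple K)
    (hZ : Odd (Nat.card (center K))) (h2 : 2 ∣ Nat.card K) (S : Sylow 2 K)
    (hS : ∀ a ∈ (S : Subgroup K), ∀ b ∈ (S : Subgroup K), a * b = b * a) : InvFive K := by
  have : Fact (Nat.Prime 2) := ⟨Nat.prime_two⟩
  refine lift (center K) hZ (of_wType ?_ (W (K ⧸ center K) hK.2 ?_ (S.mapSurjective (QuotientGroup.mk'_surjective (center K))) ?_))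
  · have h3 := Subgroup.card_eq_card_quotient_mul_card_subgroup (center K)
    rw [h3] at h2
    rcases (Nat.Prime.dvd_mul Nat.prime_two).1 h2 with h | h
    · exact h
    · exact absurd h (Nat.two_dvd_ne_zero.2 (Nat.odd_iff.1 hZ))
  · intro hc
    have h1 : commutator K ≤ center K := by
      rw [commutator_def, Subgroup.commutator_le]
      intro x _ y _
      change x * y * x⁻¹ * y⁻¹ ∈ _
      rw [← QuotientGroup.eq_one_iff]
      have h3 := hc.is_comm.comm (x : K ⧸ center K) (y : K ⧸ center K)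
      rw [QuotientGroup.mk_mul, QuotientGroup.mk_mul, QuotientGroup.mk_mul, QuotientGroup.mk_inv,
        QuotientGroup.mk_inv, h3]
      group
    have h4 : center K = ⊤ := top_le_iff.1 (by rw [← hK.1.commutator_eq_top]; exact h1)
    have h5 : Subsingleton (K ⧸ center K) := by rw [h4]; exact QuotientGroup.subsingleton_quotient_top
    have := hK.2
    exact not_subsingleton _ h5
  · intro a ha b hb
    obtain ⟨x, hx, rfl⟩ := ha
    obtain ⟨y, hy, rfl⟩ := hb
    rw [← map_mul, ← map_mul, hS x hx y hy]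

end Cfsg.Agent.Omega.Lie.InvFiveAll
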