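import Cfsg.Agent.Omega.Lie.PairJOne
import Cfsg.Agent.Omega.Lie.PairRee
import Cfsg.Agent.Omega.Lie.PairOrd
import Cfsg.Agent.Omega.TwoF.SmallSporLB

/-!
# K-facts (PAIR) and (ORD) for `J₁` and `²G₂(3^(2m+1))`, in the words of helper486 (text #12707)
-/

set_option autoImplicit false

namespace Cfsg.Agent.Omega.Lie.PairRows

open Cfsg.Agent.Omega.Lie.PairOrd (Pair NotIn)
open Cfsg.Agent.Omega.Lie.Heis (LB)
open scoped commutatorElement

universe u v w

theorem pair_of {K : Type u} [Group K] (h : PairFact.Pair K) : Pair K :=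
  fun b b' hb1 hb1' hne hb hb' hc => h b b' hb hb' hb1 hb1' hne hc

/-- From the degree bound for covers to `NotIn`. -/
theorem notIn_of_lb {K : Type u} [Group K] [Finite K] [IsSimpleGroup K] (hK : commutator K = ⊤)
    {n : ℕ} (h : LB.{u, u, w} K (n + 1)) : NotIn.{w} K n := by
  intro M _ _ h2 hc φ hφ
  have hM : IsPGroup 2 M := fun x => ⟨1, by rw [pow_one]; exact h2 x⟩
  have h1 := h K (MonoidHom.id K) Function.surjective_id (by simp) (by simp) hK M hM φ (by
    rintro rfl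
    obtain ⟨x, hx⟩ := exists_ne (1 : K)
    exact hx (hφ (by simp)))
  have h3 : 2 ^ n < 2 ^ (n + 1) := Nat.pow_lt_pow_right (by norm_num) (by omega)
  omega

theorem perfect {K : Type u} [Group K] [IsSimpleGroup K] (h : ¬ IsMulCommutative K) :
    commutator K = ⊤ := by
  rcases (inferInstance : (commutator K).Normal).eq_bot_or_eq_top with h1 | h1
  · exfalso
    apply h
    refine ⟨⟨fun a b => ?_⟩⟩
    have h2 : ⁅a, b⁆ ∈ commutator K := by
      rw [commutator_def]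
      exact Subgroup.commutator_mem_commutator (Subgroup.mem_top a) (Subgroup.mem_top b)
    rw [h1] at h2
    exact commutatorElement_eq_one_iff_mul_comm.1 (Subgroup.mem_bot.1 h2)
  · exact h1

theorem lb_J1 {K : Type u} [Group K] (h : Cfsg.Spor.IsoJ1 K) : LB.{u, v, w} K 18 := by
  obtain ⟨e⟩ := h
  exact (TwoF.lb_J1 (K := Cfsg.Spor.J1) Cfsg.Agent.SporadicB.J1.Main.isJ1).congr e.symm

/-- **(PAIR) and (ORD) for `J₁`.** -/
theorem J1 {K : Type u} [Group K] (h : Cfsg.Spor.IsoJ1 K) : Pair K ∧ NotIn.{w} K 12 := by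
  obtain ⟨e⟩ := h
  refine ⟨pair_of (PairJOne.pair ⟨e⟩), NotIn.equiv e ?_⟩
  have hs : IsSimpleGroup Cfsg.Spor.J1 := Cfsg.Agent.SporadicB.J1.Main.isJ1.1
  have hnc : ¬ IsMulCommutative Cfsg.Spor.J1 := by
    intro hc
    let _ : CommGroup Cfsg.Spor.J1 := { (inferInstance : Group Cfsg.Spor.J1) with mul_comm := hc.is_comm.comm }
    have hp : (Nat.card Cfsg.Spor.J1).Prime := IsSimpleGroup.prime_card
    rw [PairJOne.card_J1] at hp
    norm_num at hp
  refine notIn_of_lb (perfect hnc) ?_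
  exact (TwoF.lb_J1 (K := Cfsg.Spor.J1) Cfsg.Agent.SporadicB.J1.Main.isJ1).mono (by norm_num)

/-- **(PAIR) and (ORD) for `²G₂(3^(2m+1))`, `m ≥ 1`.** -/
theorem ree {K : Type u} [Group K] (h : Cfsg.Lie.IsoRee K) : Pair K ∧ NotIn.{w} K 12 := by
  refine ⟨pair_of (PairRee.pair h), ?_⟩
  obtain ⟨F, _, _, m, hm, hF, ⟨e⟩⟩ := h
  obtain ⟨hs, hnc⟩ := Cfsg.Agent.S1073.result hm hF
  have hfin := PairRee.finite_ree hm hF
  exact NotIn.equiv e (notIn_of_lb (perfect hnc) (PairRee.lb ⟨F, _, _, m, hm, hF, ⟨MulEquiv.refl _⟩⟩))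

theorem lb_ree {K : Type u} [Group K] (h : Cfsg.Lie.IsoRee K) : LB.{u, v, w} K 13 := PairRee.lb h

end Cfsg.Agent.Omega.Lie.PairRows
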