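import Cfsg.Agent.Omega.Lie.InvFive
import Cfsg.Agent.Omega.Lie.PairRows

/-!
# (INV5) for `PSL₂(F)` with a prime `r ≥ 5` dividing `|F| - 1`, for `J₁` and for `²G₂(3^(2m+1))`
-/

set_option autoImplicit false

namespace Cfsg.Agent.Omega.Lie.InvFiveRows

open Cfsg.Agent.Omega.Lie.InvFive
open Matrix

/-- The torus of `PSL₂(F)`. -/
theorem psl_of_order {F : Type*} [Field F] {l : Fˣ} {r : ℕ} (hr : r.Prime) (h5 : 5 ≤ r)
    (hl : l ^ r = 1) (hl1 : l ≠ 1) : InvFive (ProjectiveSpecialLinearGroup (Fin 2) F) := by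
  let y : Matrix.SpecialLinearGroup (Fin 2) F := ⟨!![0, 1; -1, 0], by rw [det_fin_two_of]; simp⟩
  let g : Matrix.SpecialLinearGroup (Fin 2) F := ⟨!![(l : F), 0; 0, ((l⁻¹ : Fˣ) : F)], by
    rw [det_fin_two_of]; simp⟩
  have hyM : (y : Matrix (Fin 2) (Fin 2) F) = !![0, 1; -1, 0] := rfl
  have hgM : (g : Matrix (Fin 2) (Fin 2) F) = !![(l : F), 0; 0, ((l⁻¹ : Fˣ) : F)] := rfl
  have hy : y * y = -1 := by
    apply sl_ext
    rw [Matrix.SpecialLinearGroup.coe_mul, hyM, mul_fin_two, Matrix.SpecialLinearGroup.coe_neg,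
      Matrix.SpecialLinearGroup.coe_one, one_fin_two]
    ext i j
    fin_cases i <;> fin_cases j <;> simp
  have hgy : y * g = g⁻¹ * y := by
    rw [eq_inv_mul_iff_mul_eq]
    apply sl_ext
    rw [Matrix.SpecialLinearGroup.coe_mul, Matrix.SpecialLinearGroup.coe_mul, hyM, hgM, mul_fin_two, mul_fin_two]
    ext i j
    fin_cases i <;> fin_cases j <;> simp
  have hpow : ∀ n : ℕ, ((g ^ n : Matrix.SpecialLinearGroup (Fin 2) F) : Matrix (Fin 2) (Fin 2) F) =
      !![((l ^ n : Fˣ) : F), 0; 0, (((l⁻¹) ^ n : Fˣ) : F)] := by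
    intro n
    induction n with
    | zero => rw [pow_zero, Matrix.SpecialLinearGroup.coe_one, one_fin_two]; simp
    | succ n ih =>
      rw [pow_succ, Matrix.SpecialLinearGroup.coe_mul, ih, hgM, mul_fin_two, pow_succ, pow_succ,
        Units.val_mul, Units.val_mul]
      simp
  let pr : Matrix.SpecialLinearGroup (Fin 2) F →* ProjectiveSpecialLinearGroup (Fin 2) F :=
    QuotientGroup.mk' _
  have hpr : ∀ x, pr x = 1 ↔ x = 1 ∨ x = -1 := Cfsg.Agent.LieRecognition.ReePSL.pr_eq_one_iff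
  refine ⟨pr y, pr g, r, ?_, ?_, hr, h5, ?_, ?_⟩
  · rw [← map_mul, hy, hpr]
    exact Or.inr rfl
  · rw [← map_inv, ← map_inv, ← map_mul, ← map_mul, hgy, mul_inv_cancel_right]
  · rw [← map_pow, hpr]
    left
    apply sl_ext
    rw [hpow, hl, inv_pow, hl, Matrix.SpecialLinearGroup.coe_one, one_fin_two]
    simp
  · rw [Ne, hpr]
    have hl2 : (l : F) ^ 2 ≠ 1 := by
      intro h
      have h1 : l ^ 2 = 1 := Units.ext (by rw [Units.val_pow_eq_pow_val, h, Units.val_one])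
      have h2 : orderOf l = r := by
        rcases (Nat.dvd_prime hr).1 (orderOf_dvd_of_pow_eq_one hl) with h3 | h3
        · exact absurd (orderOf_eq_one_iff.1 h3) hl1
        · exact h3
      have h3 := Nat.le_of_dvd (by norm_num) (orderOf_dvd_of_pow_eq_one h1)
      omega
    rintro (h | h)
    · apply hl2
      have h1 : (g : Matrix (Fin 2) (Fin 2) F) 0 0 = 1 := by rw [h]; simp
      have h2 : (l : F) = 1 := h1
      rw [h2, one_pow]
    · apply hl2
      have h1 : (g : Matrix (Fin 2) (Fin 2) F) 0 0 = -1 := by rw [h]; simp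
      have h2 : (l : F) = -1 := h1
      rw [h2]; ring

/-- `(3 ^ (2m+1) - 1) / 2` has a prime divisor `≥ 5` for `m ≥ 1`. -/
theorem exists_prime {m : ℕ} (hm : 1 ≤ m) : ∃ r : ℕ, r.Prime ∧ 5 ≤ r ∧ r ∣ 3 ^ (2 * m + 1) - 1 := by
  have h8 : 3 ^ (2 * m + 1) % 8 = 3 := by
    rw [pow_succ, pow_mul, Nat.mul_mod, Nat.pow_mod]
    norm_num
  have h27 := PairRee.card_ge hm
  set n := 3 ^ (2 * m + 1) with hn
  have h3 : n % 3 = 0 := by
    rw [hn, pow_succ]
    omega
  obtain ⟨k, hk⟩ : ∃ k, n - 1 = 2 * k := ⟨(n - 1) / 2, by omega⟩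
  have hk1 : k ≠ 1 := by omega
  refine ⟨k.minFac, Nat.minFac_prime hk1, ?_, hk ▸ (Nat.minFac_dvd k).mul_left 2⟩
  have hp := Nat.minFac_prime hk1
  have hd := Nat.minFac_dvd k
  by_contra hlt
  have h2 := hp.two_le
  have h4 : k.minFac = 2 ∨ k.minFac = 3 ∨ k.minFac = 4 := by omega
  rcases h4 with h4 | h4 | h4
  · rw [h4] at hd
    omega
  · rw [h4] at hd
    omega
  · rw [h4] at hp
    exact absurd hp (by norm_num)

theorem psl_three {F : Type*} [Field F] [Fintype F] {m : ℕ} (hm : 1 ≤ m)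
    (hF : Fintype.card F = 3 ^ (2 * m + 1)) : InvFive (ProjectiveSpecialLinearGroup (Fin 2) F) := by
  classical
  obtain ⟨r, hr, h5, hdvd⟩ := exists_prime hm
  have := Fact.mk hr
  obtain ⟨l, hl⟩ := exists_prime_orderOf_dvd_card (G := Fˣ) r (by rw [Fintype.card_units, hF]; exact hdvd)
  refine psl_of_order hr h5 (l := l) (by rw [← hl]; exact pow_orderOf_eq_one l) ?_
  rintro rfl
  rw [orderOf_one] at hl
  omega

/-- **(INV5) for `²G₂(3^(2m+1))`, `m ≥ 1`.** -/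
theorem ree {K : Type*} [Group K] (h : Cfsg.Lie.IsoRee K) : InvFive K := by
  obtain ⟨F, _, _, m, hm, hF, ⟨e⟩⟩ := h
  refine of_equiv e.symm ?_
  have hchar := Cfsg.Agent.S1157.charP_three hF
  obtain ⟨a, haH, ha1, ha2⟩ := Cfsg.Agent.S1157.exists_involution hF
  obtain ⟨⟨e'⟩, -⟩ := Cfsg.Agent.S1152.result hF a haH ha1 ha2
  refine of_injective ((Subgroup.subtype _).comp (e'.symm.toMonoidHom.comp
    (MonoidHom.inr (Multiplicative (ZMod 2)) _))) ?_ (psl_three hm hF)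
  exact (Subgroup.subtype_injective _).comp (e'.symm.injective.comp fun u w h => congrArg Prod.snd h)

/-- **(INV5) for `J₁`.** -/
theorem J1 {K : Type*} [Group K] (h : Cfsg.Spor.IsoJ1 K) : InvFive K := by
  obtain ⟨e⟩ := h
  refine of_equiv e.symm ⟨Cfsg.Agent.SporadicB.J1.Main.e 2,
    Cfsg.Agent.SporadicB.J1.Main.ev (PairJOne.xw 2), 5, PairJOne.e_sq 2, ?_, by norm_num, le_rfl,
    PairJOne.x_pow 2, PairJOne.x_ne 2⟩
  have h2 := PairJOne.x_inv 2 (by decide) (by decide)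
  have h3 : (Cfsg.Agent.SporadicB.J1.Main.e 2)⁻¹ = Cfsg.Agent.SporadicB.J1.Main.e 2 :=
    inv_eq_of_mul_eq_one_left (PairJOne.e_sq 2)
  rw [h3]
  rw [← mul_assoc] at h2
  exact eq_inv_of_mul_eq_one_left h2

end Cfsg.Agent.Omega.Lie.InvFiveRows
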