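import Mathlib.Algebra.Group.End
import Mathlib.GroupTheory.OrderOfElement
import Mathlib.Tactic.Group
import Mathlib.Tactic.NormNum

/-!
# NODE LIE, TEXT LIE-2 (#12707): THEOREM LQ, abstract form

`M` an abelian group of exponent `2`, `a, b, b', x ∈ Aut M`, `x` of odd order commuting with `a` and `b'` and
inverted by `b`; `b'` centralises `[M, a, b]` and `[M, a, b] ≤ [M, a, b']`. Then `x` centralises `[M, a]`.
-/

set_option autoImplicit false

namespace Cfsg.Agent.Omega.Lie.LQ

section abs

variable {M : Type*} [CommGroup M]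

/-- `[m, g] = g m · m` (exponent `2`) -/
def br (g : MulAut M) : M →* M where
  toFun m := g m * m
  map_one' := by rw [map_one, mul_one]
  map_mul' m n := by rw [map_mul]; exact mul_mul_mul_comm _ _ _ _

theorem br_apply (g : MulAut M) (m : M) : br g m = g m * m := rfl

theorem br_one (g : MulAut M) : br g 1 = 1 := map_one _

theorem br_eq_one (h2 : ∀ m : M, m * m = 1) {g : MulAut M} {m : M} : br g m = 1 ↔ g m = m := by
  constructor
  · intro h
    rw [br_apply] at h
    rw [eq_inv_of_mul_eq_one_left h, inv_eq_of_mul_eq_one_left (h2 m)]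
  · intro h
    rw [br_apply, h, h2]

theorem br_comm {g h : MulAut M} (hc : g * h = h * g) (m : M) : br g (br h m) = br h (br g m) := by
  have e : ∀ n, g (h n) = h (g n) := fun n => by
    have := congrArg (fun f : MulAut M => f n) hc
    exact this
  rw [br_apply, br_apply, br_apply, br_apply, map_mul, map_mul, e]
  exact mul_mul_mul_comm _ _ _ _

theorem apply_br {g h : MulAut M} (hc : g * h = h * g) (m : M) : g (br h m) = br h (g m) := by
  have e : ∀ n, g (h n) = h (g n) := fun n => by
    have := congrArg (fun f : MulAut M => f n) hc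
    exact this
  rw [br_apply, br_apply, map_mul, e]

/-- an automorphism of odd order with `y² m = m` fixes `m` -/
theorem fix_of_sq {y : MulAut M} (hy : Odd (orderOf y)) {m : M} (h : y (y m) = m) : y m = m := by
  obtain ⟨k, hk⟩ := hy
  have h1 : ∀ j : ℕ, (y ^ (2 * j)) m = m := by
    intro j
    induction j with
    | zero => rfl
    | succ j ih =>
      have e : y ^ (2 * (j + 1)) = y ^ (2 * j) * (y * y) := by
        rw [Nat.mul_add, pow_add, Nat.mul_one, pow_two]
      rw [e]
      change (y ^ (2 * j)) (y (y m)) = m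
      rw [h, ih]
  have h2 := h1 (k + 1)
  have e : y ^ (2 * (k + 1)) = y := by
    rw [show 2 * (k + 1) = (2 * k + 1) + 1 by ring, pow_succ, ← hk, pow_orderOf_eq_one, one_mul]
  rwa [e] at h2

theorem odd_sq {y : MulAut M} (hy : Odd (orderOf y)) : Odd (orderOf (y * y)) := by
  have h := orderOf_pow_dvd (x := y) 2
  rw [pow_two] at h
  exact Odd.of_dvd_nat hy h

/-- THEOREM LQ, abstract. -/
theorem lq (h2 : ∀ m : M, m * m = 1) {a b b' x : MulAut M} (hx : Odd (orderOf x))
    (xa : x * a = a * x) (xb' : x * b' = b' * x) (bx : b * x = x⁻¹ * b)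
    (h1 : ∀ m, b' (br b (br a m)) = br b (br a m))
    (h3 : ∀ m, ∃ m', br b (br a m) = br b' (br a m')) (m : M) : x (br a m) = br a m := by
  have inv2 : ∀ n : M, n⁻¹ = n := fun n => inv_eq_of_mul_eq_one_left (h2 n)
  have bx' : ∀ n, b (x n) = x⁻¹ (b n) := fun n => by
    have := congrArg (fun f : MulAut M => f n) bx
    exact this
  have xx : ∀ n, x (x⁻¹ n) = n := fun n => by
    change (x * x⁻¹) n = n
    rw [mul_inv_cancel]; rfl
  have ix : ∀ n, x⁻¹ (x n) = n := fun n => by
    change (x⁻¹ * x) n = n
    rw [inv_mul_cancel]; rfl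
  -- the basic identity
  have key : ∀ n, x n * x⁻¹ n = br b (x n) * x⁻¹ (br b n) := by
    intro n
    rw [br_apply, br_apply, bx', map_mul]
    calc x n * x⁻¹ n = x n * x⁻¹ n * (x⁻¹ (b n) * x⁻¹ (b n)) := by rw [h2, mul_one]
      _ = x⁻¹ (b n) * x n * (x⁻¹ (b n) * x⁻¹ n) := by
          rw [mul_mul_mul_comm (x n), mul_comm (x n), mul_comm (x⁻¹ n)]
  have key2 : ∀ n, x (x n) * n = x (br b (x n)) * br b n := by
    intro n
    have := congrArg x (key n)
    rwa [map_mul, map_mul, xx, xx] at this
  -- `b'` centralises `(x² - 1) N`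
  have xb'' : b' * x = x * b' := xb'.symm
  have s1 : ∀ n, b' (x (x (br a n)) * br a n) = x (x (br a n)) * br a n := by
    intro n
    rw [key2, map_mul]
    have e1 : b' (x (br b (x (br a n)))) = x (b' (br b (x (br a n)))) := by
      have := congrArg (fun f : MulAut M => f (br b (x (br a n)))) xb''
      exact this
    rw [e1, apply_br xa, h1, h1]
  -- `x²` centralises `[N, b]`
  have s2 : ∀ n, x (x (br b (br a n))) = br b (br a n) := by
    intro n
    obtain ⟨n', hn'⟩ := h3 n
    have e1 : ∀ k, x (x (br b' k)) = br b' (x (x k)) := fun k => by rw [apply_br xb', apply_br xb']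
    have e2 := s1 n'
    have e3 : br b' (x (x (br a n')) * br a n') = 1 := (br_eq_one h2).mpr e2
    rw [map_mul] at e3
    rw [hn', e1, eq_inv_of_mul_eq_one_left e3, inv2]
  have s3 : ∀ n, x (br b (br a n)) = br b (br a n) := fun n => fix_of_sq hx (s2 n)
  -- `x` centralises `(x² - 1) N`
  have s4 : ∀ n, x (x (x (br a n)) * br a n) = x (x (br a n)) * br a n := by
    intro n
    rw [key2, map_mul]
    rw [apply_br xa, s3, s3, s3]
  have s5 : (x * x) ((x * x) (br a m)) = br a m := by
    change x (x (x (x (br a m)))) = br a m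
    have e := s4 m
    have e' := congrArg x e
    rw [e] at e'
    rw [map_mul] at e e'
    have e4 : x (x (x (x (br a m)))) * x (x (br a m)) = x (x (br a m)) * br a m := by
      have := congrArg x e
      rw [map_mul, map_mul] at this
      rw [this, ← map_mul]
      have := s4 m
      rw [map_mul] at this
      rw [map_mul, this]
    calc x (x (x (x (br a m)))) = x (x (x (x (br a m)))) * (x (x (br a m)) * x (x (br a m))) := by
          rw [h2, mul_one]
      _ = x (x (br a m)) * br a m * x (x (br a m)) := by rw [← mul_assoc, e4]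
      _ = br a m * (x (x (br a m)) * x (x (br a m))) := by
          rw [mul_comm (x (x (br a m))) (br a m), mul_assoc]
      _ = br a m := by rw [h2, mul_one]
  have s6 : x (x (br a m)) = br a m := fix_of_sq (odd_sq hx) s5
  exact fix_of_sq hx s6

end abs

end Cfsg.Agent.Omega.Lie.LQ
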