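import Cfsg.Agent.Omega.Lie.PairOrd
import Cfsg.Agent.ClassicalGeometry.PSL2Klein
import Cfsg.Agent.ClassicalGeometry.PSL2Basic

/-!
# (PAIR) and (ORD) for `L₂(r)`, `r ≡ ±3 (mod 8)`, `r ≥ 11` (TEXT LIE-2, #12707; helper486)

* `pair` : `Pair (PSL₂(F))` for `|F| ≡ 3, 5 (mod 8)`, `|F| ≥ 7`;
* `notIn` : `NotIn (PSL₂(F)) 8` for `|F| ≡ 3, 5 (mod 8)`, `|F| ≥ 11`.
-/

set_option autoImplicit false

namespace Cfsg.Agent.Omega.Lie.PairOrd.LTwo

open Matrix
open Cfsg.Agent.ClassicalGeometry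
open Cfsg.Agent.ClassicalGeometry.KleinCount (CommInv)
open Cfsg.Agent.ClassicalGeometry.QuatPair (IsPair)
open Cfsg.Agent.ClassicalGeometry.PSL2Klein (mk mk_eq_mk mk_eq_one mk_neg involution_iff sq_eq
  trace_eq_zero_of_sq commInv_iff one_ne_neg_one)

variable {F : Type*} [Field F]

local notation "SL2" => Matrix.SpecialLinearGroup (Fin 2)
local notation "PSL2" => Matrix.ProjectiveSpecialLinearGroup (Fin 2)

/-- A point of the circle off the axes. -/
theorem exists_point [Finite F] (h2 : (2 : F) ≠ 0) (hq : 6 ≤ Nat.card F) :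
    ∃ a b : F, a ≠ 0 ∧ b ≠ 0 ∧ a ^ 2 + b ^ 2 = 1 := by
  classical
  let _ := Fintype.ofFinite F
  rw [Nat.card_eq_fintype_card] at hq
  have h : ∃ t : F, t ≠ 0 ∧ 1 + t ^ 2 ≠ 0 ∧ 1 - t ^ 2 ≠ 0 := by
    by_contra hcon
    push Not at hcon
    have hall : ∀ t : F, t ^ 5 - t = 0 := by
      intro t
      by_cases h1 : t = 0
      · rw [h1]; ring
      by_cases h3 : 1 + t ^ 2 = 0
      · linear_combination (t ^ 3 - t) * h3
      linear_combination (-(t ^ 3 + t)) * hcon t h1 h3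
    let P : Polynomial F := Polynomial.X ^ 5 - Polynomial.X
    have hdeg : P.natDegree = 5 := by
      have h1 : (Polynomial.X : Polynomial F).natDegree < (Polynomial.X ^ 5 : Polynomial F).natDegree := by
        rw [Polynomial.natDegree_X_pow, Polynomial.natDegree_X]
        norm_num
      rw [Polynomial.natDegree_sub_eq_left_of_natDegree_lt h1, Polynomial.natDegree_X_pow]
    have hP : P ≠ 0 := by
      intro h
      rw [h, Polynomial.natDegree_zero] at hdeg
      omega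
    have h3 : (Finset.univ : Finset F) ⊆ P.roots.toFinset := by
      intro t _
      rw [Multiset.mem_toFinset, Polynomial.mem_roots hP, Polynomial.IsRoot]
      simp only [P, Polynomial.eval_sub, Polynomial.eval_pow, Polynomial.eval_X]
      exact hall t
    have h4 := Finset.card_le_card h3
    have h5 := Multiset.toFinset_card_le P.roots
    have h6 := Polynomial.card_roots' P
    rw [Finset.card_univ] at h4
    omega
  obtain ⟨t, ht, ht1, ht2⟩ := h
  refine ⟨(1 - t ^ 2) / (1 + t ^ 2), 2 * t / (1 + t ^ 2), div_ne_zero ht2 ht1,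
    div_ne_zero (mul_ne_zero h2 ht) ht1, ?_⟩
  field_simp
  ring

/-- `8 ∤ |PSL₂(F)|`. -/
theorem not_eight_dvd [Finite F] (h : Nat.card F % 8 = 3 ∨ Nat.card F % 8 = 5) : ¬ 8 ∣ Nat.card (PSL2 F) := by
  let _ := Fintype.ofFinite F
  rw [Nat.card_eq_fintype_card (α := F)] at h
  have hodd : Odd (Fintype.card F) := by
    rw [Nat.odd_iff]
    omega
  have h1 := PSL2Basic.card_PSL2_odd F hodd
  intro h8
  obtain ⟨c, hc⟩ := h8
  rw [hc] at h1
  obtain ⟨r, hr⟩ : ∃ r, r = Fintype.card F := ⟨_, rfl⟩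
  rw [← hr] at h1 h
  have hr0 : 1 ≤ r ^ 2 := Nat.one_le_pow _ _ (by omega)
  have h2 : r * (r ^ 2 - 1) % 16 = 8 := by
    have h3 : r % 16 = 3 ∨ r % 16 = 5 ∨ r % 16 = 11 ∨ r % 16 = 13 := by omega
    have h4 : (r ^ 2 - 1) % 16 = 8 := by
      have h5 : r ^ 2 % 16 = 9 := by
        rcases h3 with h3 | h3 | h3 | h3 <;> rw [Nat.pow_mod, h3]
      omega
    rw [Nat.mul_mod, h4]
    rcases h3 with h3 | h3 | h3 | h3 <;> rw [h3]
  rw [← h1] at h2
  omega

/-- **(PAIR) for `L₂(r)`.** -/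
theorem pair [Finite F] (h : Nat.card F % 8 = 3 ∨ Nat.card F % 8 = 5) (hq : 6 ≤ Nat.card F) :
    Pair (PSL2 F) := by
  have h2 : (2 : F) ≠ 0 := by
    let _ := Fintype.ofFinite F
    rw [Nat.card_eq_fintype_card] at h
    apply (PSL2Basic.two_ne_zero_iff_odd F).2
    rw [Nat.odd_iff]
    omega
  intro b b' hb hb' hne hbb hbb' hc
  obtain ⟨A, rfl⟩ := QuotientGroup.mk_surjective b
  obtain ⟨B, rfl⟩ := QuotientGroup.mk_surjective b'
  have hAB : IsPair A.1 B.1 := (commInv_iff h2).1 ⟨hb, hb', hne, hbb, hbb', hc⟩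
  obtain ⟨s, t, hs, ht, hst⟩ := exists_point h2 hq
  have htr := trace_eq_zero_of_sq B hAB.sqB
  have hdetB := B.2
  have hX : (s • (1 : Matrix (Fin 2) (Fin 2) F) + t • B.1).det = 1 := by
    rw [Matrix.trace_fin_two] at htr
    rw [Matrix.det_fin_two] at hdetB
    have h3 : B.1 1 1 = -B.1 0 0 := by linear_combination htr
    rw [h3] at hdetB
    rw [Matrix.det_fin_two]
    simp
    rw [h3]
    linear_combination hst + t ^ 2 * hdetB
  obtain ⟨X, hXe⟩ : ∃ X : SL2 F, X.1 = s • (1 : Matrix (Fin 2) (Fin 2) F) + t • B.1 := ⟨⟨_, hX⟩, rfl⟩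
  have hX' : (X⁻¹ : SL2 F).1 = s • (1 : Matrix (Fin 2) (Fin 2) F) - t • B.1 := by
    have h3 : (s • (1 : Matrix (Fin 2) (Fin 2) F) - t • B.1) * X.1 = 1 := by
      rw [hXe]
      have h4 : (s • (1 : Matrix (Fin 2) (Fin 2) F) - t • B.1) * (s • (1 : Matrix (Fin 2) (Fin 2) F) + t • B.1) =
          (s ^ 2) • (1 : Matrix (Fin 2) (Fin 2) F) - (t ^ 2) • (B.1 * B.1) := by
        simp only [sub_mul, mul_add, smul_mul_assoc, mul_smul_comm, one_mul, mul_one, smul_smul, smul_sub]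
        rw [mul_comm t s, pow_two, pow_two]
        abel
      rw [h4, hAB.sqB, smul_neg, sub_neg_eq_add, ← add_smul, hst, one_smul]
    have h5 : X.1 * (X⁻¹ : SL2 F).1 = 1 := by
      rw [← Matrix.SpecialLinearGroup.coe_mul, mul_inv_cancel, Matrix.SpecialLinearGroup.coe_one]
    calc (X⁻¹ : SL2 F).1 = ((s • (1 : Matrix (Fin 2) (Fin 2) F) - t • B.1) * X.1) * (X⁻¹ : SL2 F).1 := by
          rw [h3, one_mul]
      _ = s • (1 : Matrix (Fin 2) (Fin 2) F) - t • B.1 := by rw [mul_assoc, h5, mul_one]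
  have hAX : A * X = X⁻¹ * A := by
    apply Subtype.ext
    rw [Matrix.SpecialLinearGroup.coe_mul, Matrix.SpecialLinearGroup.coe_mul, hX', hXe, mul_add, sub_mul,
      mul_smul_comm, mul_smul_comm, smul_mul_assoc, smul_mul_assoc, mul_one, one_mul, hAB.anti, smul_neg,
      sub_eq_add_neg]
  have hBX : B * X = X * B := by
    apply Subtype.ext
    rw [Matrix.SpecialLinearGroup.coe_mul, Matrix.SpecialLinearGroup.coe_mul, hXe, mul_add, add_mul,
      mul_smul_comm, mul_smul_comm, smul_mul_assoc, smul_mul_assoc, mul_one, one_mul]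
  have hY : mk X * mk X ≠ 1 := by
    intro h3
    have h4 : mk (X * X) = 1 := h3
    have h5 : ∀ c : F, X.1 * X.1 ≠ c • (1 : Matrix (Fin 2) (Fin 2) F) := by
      intro c hc
      have h6 : X.1 * X.1 = (s ^ 2 - t ^ 2) • (1 : Matrix (Fin 2) (Fin 2) F) + (2 * s * t) • B.1 := by
        rw [hXe]
        have h7 : (s • (1 : Matrix (Fin 2) (Fin 2) F) + t • B.1) * (s • (1 : Matrix (Fin 2) (Fin 2) F) + t • B.1) =
            (s ^ 2) • (1 : Matrix (Fin 2) (Fin 2) F) + (2 * s * t) • B.1 + (t ^ 2) • (B.1 * B.1) := by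
          simp only [add_mul, mul_add, smul_mul_assoc, mul_smul_comm, one_mul, mul_one, smul_smul, smul_add]
          rw [mul_comm t s, pow_two, pow_two, mul_assoc, two_mul, add_smul]
          abel
        rw [h7, hAB.sqB, smul_neg, sub_smul]
        abel
      have h8 : B.1 = ((2 * s * t)⁻¹ * (c - (s ^ 2 - t ^ 2))) • (1 : Matrix (Fin 2) (Fin 2) F) := by
        have h9 : (2 * s * t) • B.1 = (c - (s ^ 2 - t ^ 2)) • (1 : Matrix (Fin 2) (Fin 2) F) := by
          rw [sub_smul, ← hc, h6]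
          abel
        rw [← smul_smul, ← h9, smul_smul, inv_mul_cancel₀ (mul_ne_zero (mul_ne_zero h2 hs) ht), one_smul]
      have h9 := hAB.anti
      have h10 : A.1 * B.1 = B.1 * A.1 := by
        rw [h8, mul_smul_comm, smul_mul_assoc, mul_one, one_mul]
      rw [← h10, eq_neg_iff_add_eq_zero, ← two_smul F] at h9
      rcases smul_eq_zero.mp h9 with h11 | h11
      · exact h2 h11
      · have h12 := congrArg Matrix.det h11
        rw [det_mul, A.2, B.2] at h12
        simp at h12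
    rcases mk_eq_one.1 h4 with h6 | h6
    · apply h5 1
      rw [← Matrix.SpecialLinearGroup.coe_mul, h6, Matrix.SpecialLinearGroup.coe_one, one_smul]
    · apply h5 (-1)
      rw [← Matrix.SpecialLinearGroup.coe_mul, h6, Matrix.SpecialLinearGroup.coe_neg,
        Matrix.SpecialLinearGroup.coe_one, neg_smul, one_smul]
  have hinv : mk A * mk X * (mk A)⁻¹ = (mk X)⁻¹ := by
    have h3 : mk (A * X) = mk (X⁻¹ * A) := by rw [hAX]
    have h4 : mk A * mk X = (mk X)⁻¹ * mk A := h3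
    rw [h4, mul_inv_cancel_right]
  have hfix : mk B * mk X * (mk B)⁻¹ = mk X := by
    have h3 : mk (B * X) = mk (X * B) := by rw [hBX]
    have h4 : mk B * mk X = mk X * mk B := h3
    rw [h4, mul_inv_cancel_right]
  obtain ⟨n, hn, ho⟩ := exists_odd_pow (not_eight_dvd h) (b := mk A) (Y := mk X) hbb hinv hY
  refine ⟨mk X ^ n, hn, ho, ?_, ?_⟩
  · change mk A * mk X ^ n * (mk A)⁻¹ = (mk X ^ n)⁻¹
    rw [← conj_pow, hinv, inv_pow]
  · change mk B * mk X ^ n * (mk B)⁻¹ = mk X ^ n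
    rw [← conj_pow, hfix]

/-- The prime powers `≡ ±3 (mod 8)`, at least 11, dividing `|GL₈(2)|`. -/
theorem prime_pow_cases {p f : ℕ} (hp : p.Prime) (hd : p ^ f ∣ 5348063769211699200)
    (h : p ^ f % 8 = 3 ∨ p ^ f % 8 = 5) (h11 : 11 ≤ p ^ f) : p ^ f = 27 ∨ p ^ f = 243 := by
  have hf : f ≠ 0 := by
    rintro rfl
    rw [pow_zero] at h11
    omega
  have hpd : p ∣ 2 ^ 28 * (3 ^ 5 * (5 ^ 2 * (7 ^ 2 * (17 * (31 * 127))))) := by
    have h1 : p ∣ p ^ f := dvd_pow_self p hf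
    exact (h1.trans hd).trans (by norm_num)
  have hle : ∀ v : ℕ, ¬ p ^ (v + 1) ∣ 5348063769211699200 → f ≤ v := by
    intro v hv
    by_contra hlt
    exact hv ((pow_dvd_pow p (by omega)).trans hd)
  have key : ∀ a : ℕ, a.Prime → p ∣ a → p = a := fun a ha hpa => (Nat.prime_dvd_prime_iff_eq hp ha).1 hpa
  have h2 : p ≠ 2 := by
    rintro rfl
    have : Even (2 ^ f) := Nat.even_pow.2 ⟨even_two, hf⟩
    rw [Nat.even_iff] at this
    omega
  rcases (hp.dvd_mul).1 hpd with h1 | h1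
  · exact absurd (key 2 Nat.prime_two (hp.dvd_of_dvd_pow h1)) h2
  rcases (hp.dvd_mul).1 h1 with h1 | h1
  · have h3 := key 3 Nat.prime_three (hp.dvd_of_dvd_pow h1)
    subst h3
    have h4 := hle 5 (by norm_num)
    interval_cases f <;> omega
  rcases (hp.dvd_mul).1 h1 with h1 | h1
  · have h3 := key 5 Nat.prime_five (hp.dvd_of_dvd_pow h1)
    subst h3
    have h4 := hle 2 (by norm_num)
    interval_cases f <;> omega
  rcases (hp.dvd_mul).1 h1 with h1 | h1
  · have h3 := key 7 (by norm_num) (hp.dvd_of_dvd_pow h1)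
    subst h3
    have h4 := hle 2 (by norm_num)
    interval_cases f <;> omega
  rcases (hp.dvd_mul).1 h1 with h1 | h1
  · have h3 := key 17 (by norm_num) h1
    subst h3
    have h4 := hle 1 (by norm_num)
    interval_cases f <;> omega
  rcases (hp.dvd_mul).1 h1 with h1 | h1
  · have h3 := key 31 (by norm_num) h1
    subst h3
    have h4 := hle 1 (by norm_num)
    interval_cases f <;> omega
  · have h3 := key 127 (by norm_num) h1
    subst h3
    have h4 := hle 1 (by norm_num)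
    interval_cases f <;> omega

/-- **(ORD) for `L₂(r)`.** -/
theorem notIn [Finite F] (h : Nat.card F % 8 = 3 ∨ Nat.card F % 8 = 5) (h11 : 11 ≤ Nat.card F) :
    NotIn (PSL2 F) 8 := by
  let _ := Fintype.ofFinite F
  have hodd : Odd (Fintype.card F) := by
    rw [← Nat.card_eq_fintype_card, Nat.odd_iff]
    omega
  obtain ⟨p, f, hp, -, hpf⟩ := (isPrimePow_nat_iff _).1 (FiniteField.isPrimePow_card F)
  have h1 := PSL2Basic.card_PSL2_odd F hodd
  apply NotIn.of_card
  intro k hk hd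
  have hd' : Nat.card (PSL2 F) ∣ 5348063769211699200 := hd.trans (glc_dvd_eight hk)
  rw [Nat.card_eq_fintype_card (α := F), ← hpf] at h h11
  rw [← hpf] at h1 hodd
  have hdvd : p ^ f ∣ 5348063769211699200 := by
    have h2 : p ^ f ∣ Nat.card (PSL2 F) * 2 := h1 ▸ Dvd.intro _ rfl
    have h3 : Nat.Coprime (p ^ f) 2 := (Nat.coprime_two_right).2 hodd
    exact (h3.dvd_of_dvd_mul_right h2).trans hd'
  rcases prime_pow_cases hp hdvd h h11 with h2 | h2
  · rw [h2] at h1
    have h3 : Nat.card (PSL2 F) = 9828 := by omega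
    rw [h3] at hd'
    norm_num at hd'
  · rw [h2] at h1
    have h3 : Nat.card (PSL2 F) = 7174332 := by omega
    rw [h3] at hd'
    norm_num at hd'

end Cfsg.Agent.Omega.Lie.PairOrd.LTwo
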