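import Cfsg.Agent.Omega.Lie.PairRows
import Cfsg.Agent.Omega.Lie.LQThm

/-!
# K-facts (PAIR) and (ORD) for `J₁` and `²G₂(3^(2m+1))`, in the words of helper460 (`LQ.Pair`, `LQ.Ord`)
-/

set_option autoImplicit false

namespace Cfsg.Agent.Omega.Lie.PairRowsLQ

open Subgroup

universe u

theorem pair_of {K : Type u} [Group K] (h : PairFact.Pair K) : LQ.Pair K := by
  intro b b' hb1 hb1' hne hb hb' hc
  obtain ⟨x, h1, h2, h3, h4⟩ := h b b' hb hb' hb1 hb1' hne hc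
  refine ⟨x, h1, h2, ?_, ?_⟩
  · rw [← h3, inv_mul_cancel_right]
  · conv_lhs => rw [← h4]
    rw [inv_mul_cancel_right]

/-- `19` does not divide `|GL(n, 2)|`, `n ≤ 12`. -/
theorem not_dvd_nineteen (n : ℕ) (hn : n ≤ 12) : ¬ 19 ∣ LQ.gl2 n := by
  unfold LQ.gl2
  interval_cases n <;> simp [Finset.prod_range_succ]

/-- `3⁹` does not divide `|GL(n, 2)|`, `n ≤ 12`. -/
theorem not_dvd_three (n : ℕ) (hn : n ≤ 12) : ¬ 3 ^ 9 ∣ LQ.gl2 n := by
  unfold LQ.gl2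
  interval_cases n <;> simp [Finset.prod_range_succ]

theorem J1 {L : Type u} [Group L] (h : Cfsg.Spor.IsoJ1 L) :
    LQ.Pair L ∧ ∀ n ≤ 12, ¬ Nat.card L ∣ LQ.gl2 n := by
  refine ⟨pair_of (PairJOne.pair h), fun n hn hd => not_dvd_nineteen n hn (dvd_trans ?_ hd)⟩
  obtain ⟨e⟩ := h
  rw [Nat.card_congr e.toEquiv, PairJOne.card_J1]
  norm_num

theorem ree {L : Type u} [Group L] (h : Cfsg.Lie.IsoRee L) :
    LQ.Pair L ∧ ∀ n ≤ 12, ¬ Nat.card L ∣ LQ.gl2 n := by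
  refine ⟨pair_of (PairRee.pair h), fun n hn hd => not_dvd_three n hn (dvd_trans ?_ hd)⟩
  obtain ⟨F, _, _, m, hm, hF, ⟨e⟩⟩ := h
  rw [Nat.card_congr e.toEquiv, Cfsg.Agent.S1069.result hF, ← pow_mul, mul_assoc]
  exact Dvd.dvd.mul_right (pow_dvd_pow 3 (by omega)) _

/-- (ORD) for a quasisimple group `K` with `K / Z(K) = J₁`. -/
theorem J1_ord {K : Type u} [Group K] (h : Cfsg.Spor.IsoJ1 (K ⧸ center K)) {n : ℕ} (hn : n ≤ 12) :
    LQ.Ord K n := (J1 h).2 n hn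

/-- (ORD) for a quasisimple group `K` with `K / Z(K) = ²G₂(3^(2m+1))`. -/
theorem ree_ord {K : Type u} [Group K] (h : Cfsg.Lie.IsoRee (K ⧸ center K)) {n : ℕ} (hn : n ≤ 12) :
    LQ.Ord K n := (ree h).2 n hn

/-- (PAIR) for a quasisimple group `K` with `K / Z(K) = J₁`, `|Z(K)|` odd. -/
theorem J1_pair {K : Type u} [Group K] [Finite K] (hZ : Odd (Nat.card (center K)))
    (h : Cfsg.Spor.IsoJ1 (K ⧸ center K)) : LQ.Pair K := LQ.Pair.of_quot hZ (J1 h).1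

theorem ree_pair {K : Type u} [Group K] [Finite K] (hZ : Odd (Nat.card (center K)))
    (h : Cfsg.Lie.IsoRee (K ⧸ center K)) : LQ.Pair K := LQ.Pair.of_quot hZ (ree h).1

end Cfsg.Agent.Omega.Lie.PairRowsLQ
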