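import Cfsg.Agent.Omega.Lie.CubQ
import Cfsg.Agent.Omega.Lie.PairRowsLQ
import Cfsg.Agent.Omega.Lie.PairLTwo
import Cfsg.Agent.Omega.KFactsZS

/-!
# NODE LIE, TEXT LIE-2 (#12707): components with `K / Z(K) = L₂(r)`, `J₁`, `²G₂(r)` do not exist

`OutZS` of `KFactsZS`: the groups with elementary abelian Sylow 2-subgroups left over by `(ZS)`.
-/

set_option autoImplicit false

namespace Cfsg.Agent.Omega.Lie.LQRows

open Subgroup Cfsg.Agent.Omega.KFacts Cfsg.Agent.Omega.Lie Cfsg.Agent.Omega.Lie.LQ Cfsg.Agent.Omega.Lie.CompT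
open Cfsg.Agent.Omega.BTwo Cfsg.Agent.Omega.Lie.Quot Cfsg.Agent.Omega.Lie.CubQ
open Cfsg.Agent.ClassicalGeometry (PSL2Basic.card_PSL2_odd)

universe u v w

local notation "PSL2" => Matrix.ProjectiveSpecialLinearGroup (Fin 2)

theorem gl2_eight : gl2 8 = 5348063769211699200 := by
  unfold gl2
  simp [Finset.prod_range_succ]

/-- `|L₂(r)|` does not divide `|GL₈(2)|`, `r ≡ ±3 (mod 8)`, `r ≥ 11` -/
theorem ltwo_not_dvd {F : Type*} [Field F] [Finite F] (h : Nat.card F % 8 = 3 ∨ Nat.card F % 8 = 5)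
    (h11 : 11 ≤ Nat.card F) : ¬ Nat.card (PSL2 F) ∣ gl2 8 := by
  let _ := Fintype.ofFinite F
  have hodd : Odd (Fintype.card F) := by
    rw [← Nat.card_eq_fintype_card, Nat.odd_iff]
    omega
  obtain ⟨p, f, hp, -, hpf⟩ := (isPrimePow_nat_iff _).1 (FiniteField.isPrimePow_card F)
  have h1 := PSL2Basic.card_PSL2_odd F hodd
  intro hd'
  rw [gl2_eight] at hd'
  rw [Nat.card_eq_fintype_card (α := F), ← hpf] at h h11
  rw [← hpf] at h1 hodd
  have hdvd : p ^ f ∣ 5348063769211699200 := by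
    have h2 : p ^ f ∣ Nat.card (PSL2 F) * 2 := h1 ▸ Dvd.intro _ rfl
    have h3 : Nat.Coprime (p ^ f) 2 := (Nat.coprime_two_right).2 hodd
    exact (h3.dvd_of_dvd_mul_right h2).trans hd'
  rcases PairOrd.LTwo.prime_pow_cases hp hdvd h h11 with h2 | h2
  · rw [h2] at h1
    have h3 : Nat.card (PSL2 F) = 9828 := by omega
    rw [h3] at hd'
    norm_num at hd'
  · rw [h2] at h1
    have h3 : Nat.card (PSL2 F) = 7174332 := by omega
    rw [h3] at hd'
    norm_num at hd'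

/-- `16` does not divide `|²G₂(3^(2m+1))|` -/
theorem ree_not_dvd {m : ℕ} : ¬ 16 ∣ (3 ^ (2 * m + 1)) ^ 3 * (3 ^ (2 * m + 1) - 1) * ((3 ^ (2 * m + 1)) ^ 3 + 1) := by
  obtain ⟨s, hs⟩ : ∃ s, s = 3 ^ (2 * m + 1) := ⟨_, rfl⟩
  have h16 : s % 16 = 3 ∨ s % 16 = 11 := by
    rw [hs, pow_succ, pow_mul]
    have : ∀ m : ℕ, (3 ^ 2) ^ m % 16 = 1 ∨ (3 ^ 2) ^ m % 16 = 9 := by
      intro m
      induction m with
      | zero => left; norm_num
      | succ m ih => rw [pow_succ]; omega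
    have := this m
    omega
  have hpos : 3 ≤ s := by omega
  rw [← hs]
  obtain ⟨k, hk⟩ : ∃ k, s = 16 * k + 3 ∨ s = 16 * k + 11 := ⟨s / 16, by omega⟩
  rw [Nat.dvd_iff_mod_eq_zero, Nat.mul_mod, Nat.mul_mod (s ^ 3)]
  have h3 : (s - 1) % 16 = 2 ∨ (s - 1) % 16 = 10 := by omega
  have h4 : s ^ 3 % 16 = 11 ∨ s ^ 3 % 16 = 3 := by
    rcases h16 with h | h <;> rw [Nat.pow_mod, h] <;> norm_num
  have h5 : (s ^ 3 + 1) % 16 = 12 ∨ (s ^ 3 + 1) % 16 = 4 := by omega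
  rcases h3 with h3 | h3 <;> rcases h4 with h4 | h4 <;> rcases h5 with h5 | h5 <;> rw [h3, h4, h5] <;> norm_num

/-- the K-facts for `OutZS` -/
theorem data {L : Type u} [Group L] (h : OutZS L) :
    ∃ j ≤ 3, ¬ 2 ^ (j + 1) ∣ Nat.card L ∧ LQ.Pair L ∧ ¬ Nat.card L ∣ gl2 (4 * j) := by
  rcases h with h | h | h
  · obtain ⟨F, _, _, h8, h11, ⟨e⟩⟩ := h
    rw [← Nat.card_eq_fintype_card] at h8 h11
    refine ⟨2, by norm_num, ?_, ?_, ?_⟩
    · rw [Nat.card_congr e.toEquiv]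
      exact PairOrd.LTwo.not_eight_dvd h8
    · exact LQ.Pair.of_pairOrd ((PairOrd.LTwo.pair h8 (by omega)).equiv e)
    · rw [Nat.card_congr e.toEquiv]
      exact ltwo_not_dvd h8 h11
  · refine ⟨3, le_rfl, ?_, (PairRowsLQ.J1 h).1, (PairRowsLQ.J1 h).2 12 le_rfl⟩
    obtain ⟨e⟩ := h
    rw [Nat.card_congr e.toEquiv, PairJOne.card_J1]
    norm_num
  · refine ⟨3, le_rfl, ?_, (PairRowsLQ.ree h).1, (PairRowsLQ.ree h).2 12 le_rfl⟩
    obtain ⟨F, _, _, m, hm, hF, ⟨e⟩⟩ := h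
    rw [Nat.card_congr e.toEquiv, Cfsg.Agent.S1069.result hF]
    exact ree_not_dvd

/-- a 2-subgroup of `K`, `|Z(K)|` odd -/
theorem card_le_of_not_dvd {H : Type*} [Group H] [Finite H] {S K : Subgroup H} (hS : IsPGroup 2 S)
    (hZ : Odd (Nat.card (center K))) {j : ℕ} (h : ¬ 2 ^ (j + 1) ∣ Nat.card (K ⧸ center K)) :
    Nat.card (S ⊓ K : Subgroup H) ≤ 2 ^ j := by
  have : Fact (Nat.Prime 2) := ⟨Nat.prime_two⟩
  obtain ⟨n, hn⟩ := IsPGroup.iff_card.1 (hS.to_le (inf_le_left : S ⊓ K ≤ S))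
  rw [hn]
  refine Nat.pow_le_pow_right (by norm_num) ?_
  by_contra hlt
  apply h
  have h1 : 2 ^ n ∣ Nat.card (K ⧸ center K) * Nat.card (center K) := by
    rw [← Subgroup.card_eq_card_quotient_mul_card_subgroup, ← hn]
    exact card_dvd_of_le inf_le_right
  have h2 : Nat.Coprime (2 ^ n) (Nat.card (center K)) := (Nat.coprime_two_left.2 hZ).pow_left n
  exact (pow_dvd_pow 2 (by omega)).trans (h2.dvd_of_dvd_mul_right h1)

/-- **TEXT LIE-2**: no component with `[K, A] ≠ 1` and `K / Z(K)` in `OutZS`. -/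
theorem false_of_outZS {H : Type u} {M : Type v} [Group H] [CommGroup M] [Finite H] [Finite M]
    {ρ : H →* MulAut M} {A T : Subgroup H} {e : Subgroup M} (c : Cub ρ A T e) (sc : Scal A T)
    (hT : 3 ≤ Nat.card T) {S K : Subgroup H} (h : CompB.Hyp S A T K) (hK : Cfsg.IsQuasisimple K)
    (hne : ∃ a ∈ A, ∃ x ∈ K, a * x ≠ x * a) (hO : OutZS (K ⧸ center K)) : False := by
  obtain ⟨j, hj, h1, h2, h3⟩ := data hO
  have hZ := odd_card_center h.zodd
  exact c.false_of_pair sc hT h hK hne hj (card_le_of_not_dvd h.S2 hZ h1) (Pair.of_quot hZ h2)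
    (NoAct.of_ord hK h3)

/-- the same for the real quotient `H = N(R i)/O₂(N(R i))` -/
theorem false_of_outZS_real {G : Type u} [Group G] [Finite G] {ι : Type w} {V : Subgroup G}
    {R : ι → Subgroup G} {i j : ι} {F : Type v} [Field F] [Finite F] [CharP F 2] {vv : F → F → G} {t : F → G}
    {w1 w2 : F → G} (b : BTC V R) (hq : 4 ≤ Nat.card F) (c : Coord V R i j vv w1 w2)
    (τ : TorD V R i j vv t) {S K : Subgroup (HQ (R i))} (h : CompB.Hyp S (AA V R i j) (TT τ) K)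
    (hK : Cfsg.IsQuasisimple K) (hne : ∃ a ∈ AA V R i j, ∃ x ∈ K, a * x ≠ x * a)
    (hO : OutZS (K ⧸ center K)) : False := by
  have hT := card_T b.toBT τ
  exact false_of_outZS (cub b hq c τ) (scal b.toBT τ c.ne) (by omega) h hK hne hO

end Cfsg.Agent.Omega.Lie.LQRows
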