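import Cfsg.Agent.Omega.Lie.TwoMain

/-!
# (h1), SPLIT: the components of `H⁰` not centralised by `A`, abstract form, in `M' = M / rad = W i / Z(W i)`

`CubS`: the structure `LQ.Cub` without the field `nrm` (it may fail for `M'`), with the flag `e ≤ D`, `P = e^⊥`.

* `false_of_cen`: a component `K` with `[K, A] ≠ 1`, `A ⊓ K` one line, `C_A(K) ≠ 1`, cannot centralise `[M', a]` for all
  `a ∈ C_A(K)`;
* `three_cen`: the same for the exceptional case `Three` of (T2);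
* `false_of_pair`, `three_false`, `three_false_of_pair`, `torus_le`: the results of `LQThm.lean` and `TwoMain.lean` for `CubS`.
-/

set_option autoImplicit false

namespace Cfsg.Agent.Omega.Lie.LQS

open Subgroup Cfsg.Agent.Omega.Lie.CompT Cfsg.Agent.Omega.Lie.LQ Cfsg.Agent.Omega.Lie.InvFive

universe u v

variable {H : Type u} {M : Type v} [Group H] [CommGroup M]

theorem eq_br (sq2 : ∀ m : M, m * m = 1) (g : MulAut M) (m : M) : g m = br g m * m := by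
  rw [br_apply, mul_assoc, sq2, mul_one]

/-- `[m, g h] = [g⁻¹..]`: `br (g h) m = br g (h m) * br h m` -/
theorem br_mul (sq2 : ∀ m : M, m * m = 1) (g h : MulAut M) (m : M) : br (g * h) m = br g (h m) * br h m := by
  rw [br_apply, br_apply, br_apply, MulAut.mul_apply]
  calc g (h m) * m = g (h m) * (h m * h m) * m := by rw [sq2, mul_one]
    _ = g (h m) * h m * (h m * m) := by rw [← mul_assoc, mul_assoc (g (h m) * h m)]

theorem br_conj (g h : MulAut M) (m : M) : br (g * h * g⁻¹) m = g (br h (g⁻¹ m)) := by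
  rw [br_apply, br_apply, map_mul, MulAut.mul_apply, MulAut.mul_apply]
  congr 1
  rw [← MulAut.mul_apply, mul_inv_cancel, MulAut.one_apply]

/-- `K` perfect, trivial on `N₁ / N₂` and on `N₂`: trivial on `N₁` -/
theorem fix_of_perfect (ρ : H →* MulAut M) (sq2 : ∀ m : M, m * m = 1) {K : Subgroup H} (hK : commutator K = ⊤)
    {N₁ N₂ : Subgroup M} (h12 : N₂ ≤ N₁) (h1 : ∀ k ∈ K, ∀ x ∈ N₁, br (ρ k) x ∈ N₂)
    (h2 : ∀ k ∈ K, ∀ x ∈ N₂, ρ k x = x) : ∀ k ∈ K, ∀ x ∈ N₁, ρ k x = x := by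
  have hst : ∀ k ∈ K, ∀ x ∈ N₁, ρ k x ∈ N₁ := by
    intro k hk x hx
    rw [eq_br sq2]
    exact mul_mem (h12 (h1 k hk x hx)) hx
  have hcomm : ∀ k ∈ K, ∀ l ∈ K, ∀ x ∈ N₁, ρ k (ρ l x) = ρ l (ρ k x) := by
    intro k hk l hl x hx
    calc ρ k (ρ l x) = ρ k (br (ρ l) x * x) := by rw [← eq_br sq2]
      _ = br (ρ l) x * (br (ρ k) x * x) := by rw [map_mul, h2 k hk _ (h1 l hl x hx), ← eq_br sq2]
      _ = br (ρ k) x * (br (ρ l) x * x) := mul_left_comm _ _ _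
      _ = ρ l (br (ρ k) x * x) := by rw [map_mul, h2 l hl _ (h1 k hk x hx), ← eq_br sq2]
      _ = ρ l (ρ k x) := by rw [← eq_br sq2]
  let N : Subgroup K :=
    { carrier := {k | ∀ x ∈ N₁, ρ (k : H) x = x}
      one_mem' := fun x _ => by simp
      mul_mem' := by
        intro k l hk hl x hx
        rw [coe_mul, map_mul, MulAut.mul_apply, hl x hx, hk x hx]
      inv_mem' := by
        intro k hk x hx
        have h3 := hk x hx
        rw [coe_inv, map_inv]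
        have h4 := congrArg (fun z => (ρ (k : H))⁻¹ z) h3
        have h5 : (ρ (k : H))⁻¹ (ρ (k : H) x) = x := by
          rw [← MulAut.mul_apply, inv_mul_cancel, MulAut.one_apply]
        exact (h5.symm.trans h4).symm }
  have hN : commutator K ≤ N := by
    rw [commutator_def, commutator_le]
    intro k _ l _ x hx
    have e : ((k * l * k⁻¹ * l⁻¹ : K) : H) = k * l * (k : H)⁻¹ * (l : H)⁻¹ := by
      rw [coe_mul, coe_mul, coe_mul, coe_inv, coe_inv]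
    change ρ ((k * l * k⁻¹ * l⁻¹ : K) : H) x = x
    rw [e]
    have hy := hst _ (K.inv_mem l.2) x hx
    have hz := hst _ (K.inv_mem k.2) _ hy
    have h3 := hcomm k k.2 l l.2 _ hz
    rw [map_mul, map_mul, map_mul, MulAut.mul_apply, MulAut.mul_apply, MulAut.mul_apply, h3]
    have h4 : ∀ (g : H) (z : M), ρ g (ρ g⁻¹ z) = z := by
      intro g z
      rw [← MulAut.mul_apply, ← map_mul, mul_inv_cancel, map_one, MulAut.one_apply]
    rw [h4, h4]
  intro k hk x hx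
  have h3 : (⟨k, hk⟩ : K) ∈ N := hN (by rw [hK]; exact mem_top _)
  exact h3 x hx

/-- the fixed points of `K` -/
def fixed (ρ : H →* MulAut M) (K : Subgroup H) : Subgroup M where
  carrier := {x | ∀ k ∈ K, ρ k x = x}
  one_mem' := fun k _ => map_one _
  mul_mem' := fun {x y} hx hy k hk => by rw [map_mul, hx k hk, hy k hk]
  inv_mem' := fun {x} hx k hk => by rw [map_inv, hx k hk]

/-- a perfect group acting unipotently is trivial -/
theorem triv_of_unip (ρ : H →* MulAut M) (sq2 : ∀ m : M, m * m = 1) {K : Subgroup H} (hK : commutator K = ⊤)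
    (h : ∀ k₁ ∈ K, ∀ k₂ ∈ K, ∀ k₃ ∈ K, ∀ m, br (ρ k₃) (br (ρ k₂) (br (ρ k₁) m)) = 1) :
    ∀ k ∈ K, ∀ m, ρ k m = m := by
  let N₁ : Subgroup M :=
    { carrier := {x | ∀ k ∈ K, br (ρ k) x ∈ fixed ρ K}
      one_mem' := fun k _ => by rw [map_one]; exact one_mem _
      mul_mem' := fun {x y} hx hy k hk => by rw [map_mul]; exact mul_mem (hx k hk) (hy k hk)
      inv_mem' := fun {x} hx k hk => by rw [map_inv]; exact inv_mem (hx k hk) }
  have h12 : fixed ρ K ≤ N₁ := by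
    intro x hx k hk
    rw [(br_eq_one sq2).2 (hx k hk)]
    exact one_mem _
  have h1 := fix_of_perfect ρ sq2 hK h12 (fun k hk x hx => hx k hk) (fun k hk x hx => hx k hk)
  have h2 : ∀ k ∈ K, ∀ m, br (ρ k) m ∈ fixed ρ K := by
    intro k hk m l hl
    refine h1 l hl _ ?_
    intro k₂ hk₂ k₃ hk₃
    exact (br_eq_one sq2).1 (h k hk k₂ hk₂ k₃ hk₃ m)
  intro k hk m
  exact fix_of_perfect ρ sq2 hK (N₁ := ⊤) le_top (fun k hk x _ => h2 k hk x) (fun k hk x hx => hx k hk) k hk m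
    (mem_top m)

/-- an element of `K` centralising `[M, a]` is central, if `K` does not centralise `[M, a]` -/
theorem central_of_cen {ρ : H →* MulAut M} {K : Subgroup H} (hK : Cfsg.IsQuasisimple K) {a : H}
    (haK : ∀ k ∈ K, a * k = k * a) (hn : ¬ ∀ k ∈ K, ∀ m, ρ k (br (ρ a) m) = br (ρ a) m) {x : H} (hx : x ∈ K)
    (h : ∀ m, ρ x (br (ρ a) m) = br (ρ a) m) : ∀ y ∈ K, x * y = y * x := by
  have := Cub.cenBr_normal ρ haK
  rcases Cub.normal_or hK (Cub.cenBr ρ a K) with h2 | h2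
  · exact absurd (fun k hk m => h2 ⟨k, hk⟩ m) hn
  · exact h2 ⟨x, hx⟩ h

/-- The cubic module `M' = W i / Z(W i)` for `H = N(R i) / Q i`, `L = H⁰`, `A = U j Q i / Q i`, `T` the torus,
`e = V Z / Z`, `D = D Z / Z`, `P = U i / Z = e^⊥`. -/
structure CubS (ρ : H →* MulAut M) (L A T : Subgroup H) (e D P : Subgroup M) : Prop where
  sq2 : ∀ m : M, m * m = 1
  Ae : ∀ a ∈ A, ∀ m ∈ e, ρ a m = m
  line0 : ∀ a ∈ A, ∀ t ∈ T, ∀ m, br (ρ (t * a * t⁻¹)) (br (ρ a) m) ∈ e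
  line1 : ∀ a ∈ A, ∀ b ∈ A, ∀ t ∈ T, ∀ m,
    ρ (t * b * t⁻¹) (br (ρ b) (br (ρ a) m)) = br (ρ b) (br (ρ a) m)
  full : ∀ a ∈ A, ∀ b ∈ A, (∃ m, br (ρ b) (br (ρ a) m) ≠ 1) → ∀ y ∈ e, ∃ m, y = br (ρ b) (br (ρ a) m)
  same : ∀ a ∈ A, ∀ b ∈ A, ∀ t ∈ T, (∃ m, br (ρ b) (br (ρ a) m) ≠ 1) →
    (∃ m, br (ρ (t * b * t⁻¹)) (br (ρ a) m) ≠ 1) →
    ∀ m, ∃ m', br (ρ b) (br (ρ a) m) = br (ρ (t * b * t⁻¹)) (br (ρ a) m')
  /-- `e ≤ [M', a]` -/
  sub : ∀ a ∈ A, a ≠ 1 → ∀ x ∈ e, ∃ m, x = br (ρ a) m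
  faith : ∀ a ∈ A, (∀ m, ρ a m = m) → a = 1
  brP : ∀ h ∈ L, (∀ x ∈ e, ρ h x = x) → ∀ m, br (ρ h) m ∈ P
  bre : ∀ h ∈ L, (∀ x ∈ P, ρ h x = x) → ∀ m, br (ρ h) m ∈ e
  eP : e ≤ P
  PD : ∀ a ∈ A, ∀ x ∈ P, br (ρ a) x ∈ D
  De : ∀ a ∈ A, ∀ x ∈ D, br (ρ a) x ∈ e
  Te : ∀ t ∈ T, ∀ x ∈ D, br (ρ t) x ∈ e
  gen : ∀ m, m ∉ P → ∀ x ∈ P, ∃ a ∈ A, ∃ d ∈ D, x = br (ρ a) m * d
  exP : ∃ m, m ∉ P
  card : (∃ a ∈ A, ∀ b ∈ A, b ≠ 1 → ∃ t ∈ T, b = t * a * t⁻¹) → Nat.card M ≤ (Nat.card T + 1) ^ 4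

namespace CubS

variable {ρ : H →* MulAut M} {L A T : Subgroup H} {e D P : Subgroup M}

/-- **THEOREM LQ** in `H`. -/
theorem lq (c : CubS ρ L A T e D P) {a b b' x : H} (ha : a ∈ A) (hb : b ∈ A) (hb' : b' ∈ A) (hx : Odd (orderOf x))
    (xa : x * a = a * x) (bx : b * x = x⁻¹ * b) (xb' : x * b' = b' * x)
    (hor : (∃ t ∈ T, b' = t * b * t⁻¹) ∨ ∃ t ∈ T, b = t * a * t⁻¹)
    (hne : ∃ m, br (ρ b') (br (ρ a) m) ≠ 1) (m : M) : ρ x (br (ρ a) m) = br (ρ a) m := by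
  refine LQ.lq c.sq2 (b := ρ b) (b' := ρ b') (hx.of_dvd_nat (orderOf_map_dvd ρ x)) (Cub.rho_comm ρ xa)
    (Cub.rho_comm ρ xb') ?_ ?_ ?_ m
  · rw [← map_inv, ← map_mul, ← map_mul, bx]
  · rcases hor with ⟨t, ht, rfl⟩ | ⟨t, ht, rfl⟩
    · exact c.line1 a ha b hb t ht
    · intro m
      exact c.Ae b' hb' _ (c.line0 a ha t ht m)
  · rcases hor with ⟨t, ht, rfl⟩ | ⟨t, ht, rfl⟩
    · intro m
      by_cases h : ∃ m, br (ρ b) (br (ρ a) m) ≠ 1
      · exact c.same a ha b hb t ht h hne m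
      · push Not at h
        exact ⟨1, by rw [h, map_one, map_one]⟩
    · intro m
      exact c.full a ha b' hb' hne _ (c.line0 a ha t ht m)

/-- **the replacement of `nrm`**: `K` does not centralise all `[M', a]`, `a ∈ C_A(K)`, if `C_A(K) ≠ 1` -/
theorem false_of_cen (c : CubS ρ L A T e D P) (hA : ∀ a ∈ A, a * a = 1) {K B : Subgroup H}
    (hK : Cfsg.IsQuasisimple K) (hKL : K ≤ L) (hZ : ∀ z ∈ K, (∀ y ∈ K, z * y = y * z) → z * z = 1 → z = 1)
    (hBA : B ≤ A) (hBK : B ≤ K) {b0 : H} (hb0 : b0 ∈ B) (hb01 : b0 ≠ 1)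
    (hdec : ∀ a ∈ A, ∃ b ∈ B, ∃ c ∈ A, (∀ x ∈ K, c * x = x * c) ∧ a = b * c)
    (hline : ∀ b ∈ B, ∀ b' ∈ B, ∀ m, br (ρ b) (br (ρ b') m) ∈ e)
    (hcen : ∀ a ∈ A, (∀ k ∈ K, a * k = k * a) → ∀ k ∈ K, ∀ m, ρ k (br (ρ a) m) = br (ρ a) m)
    (hex : ∃ a ∈ A, a ≠ 1 ∧ ∀ k ∈ K, a * k = k * a) : False := by
  obtain ⟨a, ha, ha1, haK⟩ := hex
  have hperf : commutator K = ⊤ := hK.1.commutator_eq_top
  -- `K` centralises `e`
  have hKe : ∀ k ∈ K, ∀ x ∈ e, ρ k x = x := by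
    intro k hk x hx
    obtain ⟨m, rfl⟩ := c.sub a ha ha1 x hx
    exact hcen a ha haK k hk m
  have hKP : ∀ k ∈ K, ∀ m, br (ρ k) m ∈ P := fun k hk => c.brP k (hKL hk) (hKe k hk)
  have hst : ∀ k ∈ K, ∀ x ∈ P, ρ k x ∈ P := by
    intro k hk x hx
    rw [eq_br c.sq2]
    exact mul_mem (hKP k hk x) hx
  -- `[P, B] ≤ e`
  have hPB : ∀ b ∈ B, ∀ y ∈ P, br (ρ b) y ∈ e := by
    intro b hb y hy
    obtain ⟨m, hm⟩ := c.exP
    obtain ⟨a', ha', d, hd, rfl⟩ := c.gen m hm y hy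
    obtain ⟨b', hb', c', hc', hcK, rfl⟩ := hdec a' ha'
    have h1 : br (ρ b) (br (ρ c') m) = 1 := (br_eq_one c.sq2).2 (hcen c' hc' hcK b (hBK hb) m)
    rw [map_mul (br (ρ b)), map_mul ρ, br_mul c.sq2, map_mul (br (ρ b)), h1, mul_one]
    exact mul_mem (hline b hb b' hb' _) (c.De b (hBA hb) d hd)
  -- the normal subgroup `{k : [P, k] ≤ e}` of `K`
  let N : Subgroup K :=
    { carrier := {k | ∀ y ∈ P, br (ρ (k : H)) y ∈ e}
      one_mem' := fun y _ => by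
        rw [coe_one, map_one, br_apply, MulAut.one_apply, c.sq2]
        exact one_mem _
      mul_mem' := by
        intro k l hk hl y hy
        rw [coe_mul, map_mul, br_mul c.sq2]
        exact mul_mem (hk _ (hst l l.2 y hy)) (hl y hy)
      inv_mem' := by
        intro k hk y hy
        have h1 := hk _ (hst _ (K.inv_mem k.2) y hy)
        rw [coe_inv]
        have h2 : br (ρ (k : H)) (ρ (k : H)⁻¹ y) = br (ρ (k : H)⁻¹) y := by
          rw [br_apply, br_apply, ← MulAut.mul_apply, ← map_mul, mul_inv_cancel, map_one, MulAut.one_apply, mul_comm]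
        rw [← h2]
        exact h1 }
  have hNn : N.Normal := by
    refine ⟨fun k hk g y hy => ?_⟩
    rw [coe_mul, coe_mul, coe_inv, map_mul, map_mul, map_inv, br_conj]
    have h1 : (ρ (g : H))⁻¹ y ∈ P := by
      rw [← map_inv]
      exact hst _ (K.inv_mem g.2) y hy
    have h2 := hk _ h1
    rw [hKe _ g.2 _ h2]
    exact h2
  have hN : ∀ k ∈ K, ∀ y ∈ P, br (ρ k) y ∈ e := by
    rcases Cub.normal_or hK N with h | h
    · exact fun k hk => h ⟨k, hk⟩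
    · exfalso
      exact hb01 (hZ b0 (hBK hb0) (h ⟨b0, hBK hb0⟩ (fun y hy => hPB b0 hb0 y hy)) (hA b0 (hBA hb0)))
  have hP := fix_of_perfect ρ c.sq2 hperf c.eP hN hKe
  have hM := fix_of_perfect ρ c.sq2 hperf (N₁ := ⊤) (N₂ := e) le_top
    (fun k hk x _ => c.bre k (hKL hk) (hP k hk) x) hKe
  exact hb01 (c.faith b0 (hBA hb0) fun m => hM b0 (hBK hb0) m (mem_top m))

/-- **(alpha)**: `b`, `b' = b^t` distinct involutions of `A ⊓ K`: `K` centralises `[M', a]`, `a ∈ C_A(K)` -/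
theorem alpha (c : CubS ρ L A T e D P) (hA : ∀ a ∈ A, a * a = 1) {K : Subgroup H}
    (hK : Cfsg.IsQuasisimple K) (hZ : ∀ z ∈ K, (∀ y ∈ K, z * y = y * z) → z * z = 1 → z = 1)
    (hp : Pair K) {b t : H} (hb : b ∈ A) (hbK : b ∈ K) (hb1 : b ≠ 1) (ht : t ∈ T) (hb' : t * b * t⁻¹ ∈ A)
    (hbK' : t * b * t⁻¹ ∈ K) (hbb : t * b * t⁻¹ ≠ b)
    {a : H} (ha : a ∈ A) (haK : ∀ k ∈ K, a * k = k * a) : ∀ k ∈ K, ∀ m, ρ k (br (ρ a) m) = br (ρ a) m := by
  by_contra hn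
  have hcomm : b * (t * b * t⁻¹) = t * b * t⁻¹ * b := by
    have i1 : b⁻¹ = b := inv_eq_of_mul_eq_one_left (hA b hb)
    have i2 : (t * b * t⁻¹)⁻¹ = t * b * t⁻¹ := inv_eq_of_mul_eq_one_left (hA _ hb')
    have i3 : (b * (t * b * t⁻¹))⁻¹ = b * (t * b * t⁻¹) := inv_eq_of_mul_eq_one_left (hA _ (A.mul_mem hb hb'))
    rw [_root_.mul_inv_rev, i1, i2] at i3
    exact i3.symm
  have hb1' : t * b * t⁻¹ ≠ 1 := fun h => hb1 (conj_eq_one_iff.1 h)
  obtain ⟨x, hx1, hxo, hbx, hxb⟩ := hp ⟨b, hbK⟩ ⟨_, hbK'⟩ (fun h => hb1 (congrArg Subtype.val h))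
    (fun h => hb1' (congrArg Subtype.val h)) (fun h => hbb (congrArg Subtype.val h).symm)
    (Subtype.ext (hA b hb)) (Subtype.ext (hA _ hb')) (Subtype.ext hcomm)
  have hxo' : Odd (orderOf (x : H)) := by rwa [Subgroup.orderOf_coe]
  have hbx' : b * (x : H) = (x : H)⁻¹ * b := congrArg Subtype.val hbx
  have hxb' : (x : H) * (t * b * t⁻¹) = t * b * t⁻¹ * x := congrArg Subtype.val hxb
  have hnt : ∃ m, br (ρ (t * b * t⁻¹)) (br (ρ a) m) ≠ 1 := by
    by_contra hcon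
    push Not at hcon
    have h1 := central_of_cen hK haK hn hbK' (fun m => (br_eq_one c.sq2).1 (hcon m))
    exact hb1' (hZ _ hbK' h1 (hA _ hb'))
  have h1 := c.lq ha hb hb' hxo' (haK x x.2).symm hbx' hxb' (Or.inl ⟨t, ht, rfl⟩) hnt
  have h2 := central_of_cen hK haK hn x.2 h1
  exact hx1 (Subtype.ext (Cub.eq_one_of_inv hbK hxo' hbx' h2))

/-- **THEOREM of TEXT LIE-2** for `CubS` -/
theorem false_of_pair [Finite H] [Finite M] (c : CubS ρ L A T e D P) (sc : Scal A T) (hT : 3 ≤ Nat.card T)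
    {S K : Subgroup H} (h : CompB.Hyp S A T K) (hK : Cfsg.IsQuasisimple K) (hKL : K ≤ L)
    (hne : ∃ a ∈ A, ∃ x ∈ K, a * x ≠ x * a) {j : ℕ} (hj : j ≤ 3) (hS : Nat.card (S ⊓ K : Subgroup H) ≤ 2 ^ j)
    (hp : Pair K) (ho : NoAct.{u, v} K (4 * j)) : False := by
  have hA : ∀ a ∈ A, a * a = 1 := h.A2
  have hZ : ∀ z ∈ K, (∀ y ∈ K, z * y = y * z) → z * z = 1 → z = 1 :=
    fun z hz hc h2 => eq_one_of_sq_odd (h.zodd z hz hc) h2
  set B := A ⊓ K with hB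
  have hBS : B ≤ S ⊓ K := inf_le_inf_right _ h.AS
  have hBc : Nat.card B ≤ 2 ^ j := (Subgroup.card_le_of_le hBS).trans hS
  have hB8 : Nat.card B ≤ 8 := hBc.trans (by
    calc 2 ^ j ≤ 2 ^ 3 := Nat.pow_le_pow_right (by norm_num) hj
      _ = 8 := by norm_num)
  have hTB : ∀ t ∈ T, ∀ b ∈ B, t * b * t⁻¹ ∈ B := fun t ht b hb => ⟨h.TA t ht b hb.1, h.TK t ht b hb.2⟩
  have hBne := h.inf_ne_bot hne
  obtain ⟨b, hb, hb1⟩ : ∃ b ∈ B, b ≠ 1 := by
    by_contra hcon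
    push Not at hcon
    exact hBne ((Subgroup.eq_bot_iff_forall B).2 hcon)
  obtain ⟨hcB, hline⟩ := Cub.one_line sc hT inf_le_left hTB hB8 hb hb1
  by_cases hC : ∃ a ∈ A, a ≠ 1 ∧ ∀ k ∈ K, a * k = k * a
  · -- (alpha)
    have hnt : ∃ t ∈ T, t ≠ 1 := by
      by_contra hcon
      push Not at hcon
      have : Nat.card T = 1 := by
        rw [Subgroup.card_eq_one, eq_bot_iff]
        exact fun t ht => mem_bot.2 (hcon t ht)
      omega
    obtain ⟨t, ht, ht1⟩ := hnt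
    refine c.false_of_cen hA hK hKL hZ (B := B) inf_le_left inf_le_right hb hb1 (fun a ha => h.decomp ha) ?_ ?_ hC
    · -- one line
      intro b₁ hb₁ b₂ hb₂ m
      by_cases h1 : b₁ = 1
      · rw [h1, map_one, br_apply, MulAut.one_apply, c.sq2]; exact one_mem _
      by_cases h2 : b₂ = 1
      · have h3 : br (ρ b₂) m = 1 := by rw [h2, map_one, br_apply, MulAut.one_apply, c.sq2]
        rw [h3, map_one]; exact one_mem _
      obtain ⟨t₁, ht₁, e₁⟩ := hline b₁ hb₁ h1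
      obtain ⟨t₂, ht₂, e₂⟩ := hline b₂ hb₂ h2
      have h3 : b₁ = (t₁ * t₂⁻¹) * b₂ * (t₁ * t₂⁻¹)⁻¹ := by rw [e₁, e₂]; group
      rw [h3]
      exact c.line0 b₂ hb₂.1 _ (T.mul_mem ht₁ (T.inv_mem ht₂)) m
    · intro a ha haK
      exact c.alpha hA hK hZ hp hb.1 hb.2 hb1 ht (hTB t ht b hb).1 (hTB t ht b hb).2
        (fun h' => ht1 (sc.reg b hb.1 hb1 t ht h')) ha haK
  · -- (beta)
    push Not at hC
    have hAB : Nat.card A = Nat.card B := by
      rw [h.card_eq]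
      have : A ⊓ centralizer (K : Set H) = ⊥ := by
        rw [eq_bot_iff]
        intro a ha
        rw [mem_bot]
        by_contra ha1
        obtain ⟨k, hk, hak⟩ := hC a ha.1 ha1
        exact hak (mem_centralizer_iff.1 ha.2 k hk).symm
      rw [this, card_bot, mul_one]
    have hBA : B = A := Subgroup.eq_of_le_of_card_ge inf_le_left hAB.le
    have hcM := c.card ⟨b, hb.1, fun b' hb' hb1' => hline b' (hBA.symm.le hb') hb1'⟩
    rw [← hcB] at hcM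
    refine hb1 (c.faith b hb.1 fun m => ?_)
    refine ho M c.sq2 (hcM.trans ?_) (ρ.comp K.subtype) ⟨b, hb.2⟩ m
    calc Nat.card B ^ 4 ≤ (2 ^ j) ^ 4 := Nat.pow_le_pow_left hBc _
      _ = 2 ^ (4 * j) := by rw [← pow_mul, mul_comm]

/-- **(T2), the new case**: `K` centralises `[M', y₂ y₃]` -/
theorem three_cen (c : CubS ρ L A T e D P) {K Q : Subgroup H} (hK : Cfsg.IsQuasisimple K) (hKL : K ≤ L)
    (hZ : ∀ z ∈ K, (∀ y ∈ K, z * y = y * z) → z * z = 1 → z = 1) (h3 : Three A T K Q) {t : H} (ht : t ∈ T)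
    (ht1 : t ≠ 1) (htt1 : t * t ≠ 1) (htt : t * t ≠ t) {y : H} (hy : y ∈ Q) (hyK : y ∈ K) (hy1 : y ≠ 1)
    (hcen : ∀ k ∈ K, ∀ m, ρ k (br (ρ (t * y * t⁻¹ * (t * t * y * (t * t)⁻¹))) m) =
      br (ρ (t * y * t⁻¹ * (t * t * y * (t * t)⁻¹))) m) : False := by
  have hperf : commutator K = ⊤ := hK.1.commutator_eq_top
  have htt' : t * t ∈ T := T.mul_mem ht ht
  obtain ⟨y2, hy2⟩ : ∃ w, w = t * y * t⁻¹ := ⟨_, rfl⟩
  obtain ⟨y3, hy3⟩ : ∃ w, w = t * t * y * (t * t)⁻¹ := ⟨_, rfl⟩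
  rw [← hy2, ← hy3] at hcen
  have haA : y2 * y3 ∈ A := by
    rw [hy2, hy3]
    exact h3.mem y hy t ht _ htt'
  -- the conjugates by `t` commute with `K`
  have hcom : ∀ s ∈ T, s ≠ 1 → ∀ z ∈ K, ∀ k ∈ K, s * z * s⁻¹ * k = k * (s * z * s⁻¹) := by
    intro s hs hs1 z hz k hk
    have := h3.com s hs 1 T.one_mem hs1 z hz k hk
    simpa using this
  -- `y3` commutes with `t K t⁻¹`
  have hy3t : ∀ k ∈ K, y3 * (t * k * t⁻¹) = t * k * t⁻¹ * y3 := by
    intro k hk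
    rw [hy3]
    exact h3.com _ htt' t ht htt y hyK k hk
  have hycen : ¬ ∀ k ∈ K, y * k = k * y := fun h => hy1 (hZ y hyK h (h3.sq y hy))
  have ha1 : y2 * y3 ≠ 1 := by
    intro h1
    apply hycen
    intro k hk
    have e1 : y2 = y3⁻¹ := eq_inv_of_mul_eq_one_left h1
    have e3 : Commute y3 (t * k * t⁻¹) := hy3t k hk
    have e4 := e3.inv_left
    rw [← e1, hy2] at e4
    have e5 : t * y * t⁻¹ * (t * k * t⁻¹) = t * k * t⁻¹ * (t * y * t⁻¹) := e4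
    calc y * k = t⁻¹ * (t * y * t⁻¹ * (t * k * t⁻¹)) * t := by group
      _ = t⁻¹ * (t * k * t⁻¹ * (t * y * t⁻¹)) * t := by rw [e5]
      _ = k * y := by group
  -- `K` centralises `e`
  have hKe : ∀ k ∈ K, ∀ x ∈ e, ρ k x = x := by
    intro k hk x hx
    obtain ⟨m, rfl⟩ := c.sub _ haA ha1 x hx
    exact hcen k hk m
  have hKP : ∀ k ∈ K, ∀ m, br (ρ k) m ∈ P := fun k hk => c.brP k (hKL hk) (hKe k hk)
  -- `a = y2 y3` commutes with `K` and centralises `[M, K]`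
  have haK : ∀ k ∈ K, y2 * y3 * k = k * (y2 * y3) := by
    intro k hk
    have h1 := hcom t ht ht1 y hyK k hk
    have h2 := hcom _ htt' htt1 y hyK k hk
    rw [← hy2] at h1
    rw [← hy3] at h2
    rw [mul_assoc, h2, ← mul_assoc, h1, mul_assoc]
  have haN : ∀ k ∈ K, ∀ m, ρ (y2 * y3) (br (ρ k) m) = br (ρ k) m := by
    intro k hk m
    rw [← br_eq_one c.sq2, br_comm (Cub.rho_comm ρ (haK k hk)), br_eq_one c.sq2]
    exact hcen k hk m
  -- `t K t⁻¹` centralises `[M, K]`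
  have conj_br : ∀ g : H, ∀ k ∈ K, (∀ k ∈ K, g * k = k * g) → ∀ m,
      ρ g (br (ρ k) m) = br (ρ k) (ρ g m) := fun g k hk hg m => apply_br (Cub.rho_comm ρ (hg k hk)) m
  let N : Subgroup K :=
    { carrier := {z | ∀ k ∈ K, ∀ m, ρ (t * z * t⁻¹) (br (ρ k) m) = br (ρ k) m}
      one_mem' := fun k _ m => by
        rw [coe_one, mul_one, mul_inv_cancel, map_one, MulAut.one_apply]
      mul_mem' := by
        intro z w hz hw k hk m
        have e : t * ((z * w : K) : H) * t⁻¹ = (t * z * t⁻¹) * (t * w * t⁻¹) := by rw [coe_mul]; group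
        rw [e, map_mul, MulAut.mul_apply, hw k hk, hz k hk]
      inv_mem' := by
        intro z hz k hk m
        have e : t * ((z⁻¹ : K) : H) * t⁻¹ = (t * z * t⁻¹)⁻¹ := by rw [coe_inv]; group
        have h1 : ρ (t * (z : H) * t⁻¹)⁻¹ (ρ (t * z * t⁻¹) (br (ρ k) m)) = br (ρ k) m := by
          rw [← MulAut.mul_apply, ← map_mul, inv_mul_cancel, map_one, MulAut.one_apply]
        rw [e]
        rw [hz k hk m] at h1
        exact h1 }
  have hNn : N.Normal := by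
    refine ⟨fun z hz g k hk m => ?_⟩
    have e : t * ((g * z * g⁻¹ : K) : H) * t⁻¹ = (t * g * t⁻¹) * (t * z * t⁻¹) * (t * (g : H)⁻¹ * t⁻¹) := by
      rw [coe_mul, coe_mul, coe_inv]; group
    have hg : ∀ k ∈ K, t * (g : H) * t⁻¹ * k = k * (t * g * t⁻¹) := hcom t ht ht1 g g.2
    have hg' : ∀ k ∈ K, t * (g : H)⁻¹ * t⁻¹ * k = k * (t * (g : H)⁻¹ * t⁻¹) := hcom t ht ht1 _ (K.inv_mem g.2)
    rw [e, map_mul, map_mul, MulAut.mul_apply, MulAut.mul_apply, conj_br _ k hk hg', hz k hk, ← conj_br _ k hk hg',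
      ← MulAut.mul_apply, ← map_mul]
    have e2 : t * (g : H) * t⁻¹ * (t * (g : H)⁻¹ * t⁻¹) = 1 := by group
    rw [e2, map_one, MulAut.one_apply]
  have hN : ∀ z ∈ K, ∀ k ∈ K, ∀ m, ρ (t * z * t⁻¹) (br (ρ k) m) = br (ρ k) m := by
    rcases Cub.normal_or hK N with h | h
    · exact fun z hz => h ⟨z, hz⟩
    · exfalso
      apply hycen
      refine Cub.comm_of_central hK fun g hg => ?_
      have hin : y * g * y⁻¹ * g⁻¹ ∈ K := K.mul_mem (K.mul_mem (K.mul_mem hyK hg) (K.inv_mem hyK)) (K.inv_mem hg)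
      refine ⟨hin, h ⟨_, hin⟩ fun k hk m => ?_⟩
      have hg3 := hy3t _ hg
      have e1 : t * (y * g * y⁻¹ * g⁻¹) * t⁻¹ = (y2 * y3) * ((t * g * t⁻¹) * (y2 * y3)⁻¹ * (t * g⁻¹ * t⁻¹)) := by
        have h4 : Commute y3 (t * g * t⁻¹) := hg3
        have h5 := h4.inv_right
        have e5 : (t * g * t⁻¹)⁻¹ = t * g⁻¹ * t⁻¹ := by group
        rw [e5] at h5
        have h6 : y3 * (t * g * t⁻¹) * y3⁻¹ = t * g * t⁻¹ := by rw [h4.eq]; group
        calc t * (y * g * y⁻¹ * g⁻¹) * t⁻¹ = y2 * (t * g * t⁻¹) * y2⁻¹ * (t * g⁻¹ * t⁻¹) := by rw [hy2]; group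
          _ = y2 * (y3 * (t * g * t⁻¹) * y3⁻¹) * y2⁻¹ * (t * g⁻¹ * t⁻¹) := by rw [h6]
          _ = _ := by group
      have hg1 : ∀ k ∈ K, t * g * t⁻¹ * k = k * (t * g * t⁻¹) := hcom t ht ht1 g hg
      have hg2 : ∀ k ∈ K, t * g⁻¹ * t⁻¹ * k = k * (t * g⁻¹ * t⁻¹) := hcom t ht ht1 _ (K.inv_mem hg)
      have hai : ∀ m, ρ (y2 * y3)⁻¹ (br (ρ k) m) = br (ρ k) m := by
        intro m
        have h1 : ρ (y2 * y3)⁻¹ (ρ (y2 * y3) (br (ρ k) m)) = br (ρ k) m := by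
          rw [← MulAut.mul_apply, ← map_mul, inv_mul_cancel, map_one, MulAut.one_apply]
        rwa [haN k hk] at h1
      change ρ (t * (y * g * y⁻¹ * g⁻¹) * t⁻¹) (br (ρ k) m) = br (ρ k) m
      rw [e1, map_mul ρ (y2 * y3), map_mul ρ (t * g * t⁻¹ * (y2 * y3)⁻¹), map_mul ρ (t * g * t⁻¹),
        MulAut.mul_apply, MulAut.mul_apply, MulAut.mul_apply, conj_br _ k hk hg2, hai, ← conj_br _ k hk hg2]
      have e2 : ρ (t * g * t⁻¹) (ρ (t * g⁻¹ * t⁻¹) (br (ρ k) m)) = br (ρ k) m := by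
        have e3 : t * g * t⁻¹ * (t * g⁻¹ * t⁻¹) = 1 := by group
        rw [← MulAut.mul_apply, ← map_mul, e3, map_one, MulAut.one_apply]
      rw [e2, haN k hk]
  -- `K` centralises `[M, t K t⁻¹]`
  have hN' : ∀ z ∈ K, ∀ k ∈ K, ∀ m, ρ k (br (ρ (t * z * t⁻¹)) m) = br (ρ (t * z * t⁻¹)) m := by
    intro z hz k hk m
    rw [← br_eq_one c.sq2, br_comm (Cub.rho_comm ρ (hcom t ht ht1 z hz k hk).symm), br_eq_one c.sq2]
    exact hN z hz k hk m
  -- `[M, K, y]` is in `D`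
  have hyA : y * y2 ∈ A := by
    have := h3.mem y hy 1 T.one_mem t ht
    rw [hy2]
    simpa using this
  have hD : ∀ k ∈ K, ∀ m, br (ρ y) (br (ρ k) m) ∈ D := by
    intro k hk m
    have h1 := c.PD _ hyA _ (hKP k hk m)
    have h2 : ρ (y * y2) (br (ρ k) m) = ρ y (br (ρ k) m) := by
      rw [map_mul, MulAut.mul_apply, hy2, hN y hyK k hk m]
    rw [br_apply, h2, ← br_apply] at h1
    exact h1
  -- `[M, K, y]` is centralised by `K`
  have hKy : ∀ k ∈ K, ∀ m, ∀ l ∈ K, ρ l (br (ρ y) (br (ρ k) m)) = br (ρ y) (br (ρ k) m) := by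
    intro k hk m l hl
    set d := br (ρ y) (br (ρ k) m) with hd
    have hdD : d ∈ D := hD k hk m
    have h1 := hKe l hl _ (c.Te t ht d hdD)
    have h2 : ρ t d = br (ρ y2) (br (ρ (t * k * t⁻¹)) (ρ t m)) := by
      rw [hd, hy2, map_mul, map_mul, map_mul, map_mul, map_inv, br_conj, br_conj]
      congr 2
      rw [← MulAut.mul_apply, inv_mul_cancel, MulAut.one_apply, ← MulAut.mul_apply, inv_mul_cancel, MulAut.one_apply]
    have h3 : ρ l (ρ t d) = ρ t d := by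
      rw [h2, hy2]
      exact hN' y hyK l hl _
    have h4 : d = (br (ρ t) d)⁻¹ * ρ t d := by
      rw [eq_inv_mul_iff_mul_eq, ← eq_br c.sq2]
    rw [h4, map_mul, map_inv, ← h4, h1, h3, ← h4]
  -- the normal subgroup
  have hKK : ∀ g ∈ K, ∀ k ∈ K, ∀ m, ρ g (br (ρ k) m) = br (ρ (g * k * g⁻¹)) (ρ g m) := by
    intro g _ k _ m
    have h : (ρ g)⁻¹ (ρ g m) = m := by rw [← MulAut.mul_apply, inv_mul_cancel, MulAut.one_apply]
    rw [map_mul ρ (g * k), map_mul ρ g, map_inv, br_conj, h]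
  let N2 : Subgroup K :=
    { carrier := {z | ∀ k ∈ K, ∀ m, br (ρ (z : H)) (br (ρ k) m) ∈ fixed ρ K}
      one_mem' := fun k _ m => by
        rw [coe_one, map_one, br_apply, MulAut.one_apply, c.sq2]
        exact one_mem _
      mul_mem' := by
        intro z w hz hw k hk m
        rw [coe_mul, map_mul, br_mul c.sq2, hKK w w.2 k hk]
        exact mul_mem (hz _ (K.mul_mem (K.mul_mem w.2 hk) (K.inv_mem w.2)) _) (hw k hk m)
      inv_mem' := by
        intro z hz k hk m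
        have h2 : ∀ x : M, br (ρ (z : H)) (ρ (z : H)⁻¹ x) = br (ρ (z : H)⁻¹) x := by
          intro x
          rw [br_apply, br_apply, ← MulAut.mul_apply, ← map_mul, mul_inv_cancel, map_one, MulAut.one_apply, mul_comm]
        rw [coe_inv, ← h2, hKK _ (K.inv_mem z.2) k hk]
        exact hz _ (K.mul_mem (K.mul_mem (K.inv_mem z.2) hk) (K.inv_mem (K.inv_mem z.2))) _ }
  have hN2n : N2.Normal := by
    refine ⟨fun z hz g k hk m l hl => ?_⟩
    rw [coe_mul, coe_mul, coe_inv, map_mul, map_mul, map_inv, br_conj, ← map_inv, hKK _ (K.inv_mem g.2) k hk]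
    have h1 := hz _ (K.mul_mem (K.mul_mem (K.inv_mem g.2) hk) (K.inv_mem (K.inv_mem g.2))) (ρ (g : H)⁻¹ m)
    rw [h1 g g.2]
    exact h1 l hl
  have hall : ∀ z ∈ K, ∀ k ∈ K, ∀ m, br (ρ z) (br (ρ k) m) ∈ fixed ρ K := by
    rcases Cub.normal_or hK N2 with h | h
    · exact fun z hz => h ⟨z, hz⟩
    · exact absurd (h ⟨y, hyK⟩ (fun k hk m => hKy k hk m)) hycen
  have htriv := triv_of_unip ρ c.sq2 hperf fun k₁ h₁ k₂ h₂ k₃ h₃ m =>
    (br_eq_one c.sq2).2 (hall k₂ h₂ k₁ h₁ m k₃ h₃)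
  -- `y y2 = 1`
  have h1 : y * y2 = 1 := by
    refine c.faith _ hyA fun m => ?_
    have h2 : ρ y2 m = m := by
      rw [hy2, map_mul, map_mul, MulAut.mul_apply, MulAut.mul_apply, htriv y hyK, ← MulAut.mul_apply, ← map_mul,
        mul_inv_cancel, map_one, MulAut.one_apply]
    rw [map_mul, MulAut.mul_apply, h2, htriv y hyK]
  apply hycen
  intro k hk
  have h2 : y = y2⁻¹ := eq_inv_of_mul_eq_one_left h1
  have h4 : Commute y2 k := by
    have := hcom t ht ht1 y hyK k hk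
    rwa [← hy2] at this
  rw [h2]
  exact h4.inv_left.eq

/-- **(T2), the end for components with (INV5)**, for `CubS` -/
theorem three_false [Finite H] [Finite M] (c : CubS ρ L A T e D P) (he : Nat.card e ≤ Nat.card T + 1)
    {S K : Subgroup H} (hK : Cfsg.IsQuasisimple K) (hKL : K ≤ L)
    (hZ : ∀ z ∈ K, (∀ y ∈ K, z * y = y * z) → z * z = 1 → z = 1) (hS2 : IsPGroup 2 S)
    (syl : ∀ Q : Subgroup H, Q ≤ K → IsPGroup 2 Q → S ⊓ K ≤ Q → Q ≤ S)
    (h3 : Three A T K (S ⊓ K)) (hinv : InvFive K) : False := by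
  obtain ⟨t, ht, ht1, ht3, htt1, htt, -⟩ := h3.gen
  have htt' : t * t ∈ T := T.mul_mem ht ht
  have htti : t * t = t⁻¹ := eq_inv_of_mul_eq_one_left ht3
  -- the elements
  obtain ⟨y0, g0, r, q1, q2, q3, q4, q5, q6⟩ := hinv
  obtain ⟨k, hk, hkP⟩ := TwoMain.exists_conj (P := S ⊓ K) (hS2.to_le inf_le_left) inf_le_right
    (fun Q h1 h2 h4 => le_inf (syl Q h1 h2 h4) h1) y0.2 (congrArg Subtype.val q1)
  obtain ⟨y, hy⟩ : ∃ y, y = k * (y0 : H) * k⁻¹ := ⟨_, rfl⟩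
  obtain ⟨g, hg⟩ : ∃ g, g = k * (g0 : H) * k⁻¹ := ⟨_, rfl⟩
  have hyP : y ∈ S ⊓ K := hy ▸ hkP
  have hyK : y ∈ K := hyP.2
  have hgK : g ∈ K := hg ▸ K.mul_mem (K.mul_mem hk g0.2) (K.inv_mem hk)
  have hyy : y * y = 1 := h3.sq y hyP
  have hyg : y * g * y⁻¹ = g⁻¹ := by
    have h1 : (y0 : H) * g0 * (y0 : H)⁻¹ = (g0 : H)⁻¹ := congrArg Subtype.val q2
    rw [hy, hg]
    calc k * (y0 : H) * k⁻¹ * (k * g0 * k⁻¹) * (k * y0 * k⁻¹)⁻¹ = k * ((y0 : H) * g0 * (y0 : H)⁻¹) * k⁻¹ := by group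
      _ = (k * (g0 : H) * k⁻¹)⁻¹ := by rw [h1]; group
  have hgr : g ^ r = 1 := by
    have h1 : (g0 : H) ^ r = 1 := congrArg Subtype.val q5
    rw [hg, conj_pow, h1, mul_one, mul_inv_cancel]
  have hg1 : g ≠ 1 := by
    intro h
    apply q6
    rw [hg] at h
    exact Subtype.ext (conj_eq_one_iff.1 h)
  -- the conjugates commute with `K`
  have hcom : ∀ s ∈ T, s ≠ 1 → ∀ x ∈ K, ∀ z ∈ K, x * (s * z * s⁻¹) = s * z * s⁻¹ * x := by
    intro s hs hs1 x hx z hz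
    have := h3.com 1 T.one_mem s hs hs1.symm x hx z hz
    simpa using this
  have hperf : ⁅K, K⁆ = K := by
    have h1 := hK.1.commutator_eq_top
    have h2 : (commutator K).map K.subtype = K := by
      rw [h1, ← MonoidHom.range_eq_map, range_subtype]
    rw [commutator_def, map_commutator, ← MonoidHom.range_eq_map, range_subtype] at h2
    exact h2
  have d : TwoEnd.Dat K t y g r :=
    { t3 := ht3
      comm := hcom t ht ht1
      qs := by
        intro L hLK hL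
        have hn : (L.subgroupOf K).Normal := ⟨fun n hn z => hL z z.2 n hn⟩
        rcases Cub.normal_or hK (L.subgroupOf K) with h | h
        · left
          exact le_antisymm hLK fun x hx => h ⟨x, hx⟩
        · right
          intro l hl z hz
          exact h ⟨l, hLK hl⟩ hl z hz
      perf := hperf
      yK := hyK
      y2 := hyy
      gK := hgK
      inv := hyg
      pr := q3
      five := q4
      gr := hgr
      g1 := hg1 }
  -- `a`, `b`
  have e1 : TwoEnd.Dat.a t y = t * y * t⁻¹ * (t * t * y * (t * t)⁻¹) := by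
    unfold TwoEnd.Dat.a; rw [htti, inv_inv]
  have haA : TwoEnd.Dat.a t y ∈ A := by
    have h1 := h3.mem y hyP t ht _ htt'
    exact e1 ▸ h1
  have hba : TwoEnd.Dat.b t y = t * TwoEnd.Dat.a t y * t⁻¹ := by
    unfold TwoEnd.Dat.a TwoEnd.Dat.b
    have e2 : t * (t * y * t⁻¹) * t⁻¹ = t⁻¹ * y * t := by
      calc t * (t * y * t⁻¹) * t⁻¹ = (t * t) * y * (t * t)⁻¹ := by group
        _ = t⁻¹ * y * t := by rw [htti, inv_inv]
    calc t⁻¹ * y * t * y = t * (t * y * t⁻¹) * t⁻¹ * y := by rw [e2]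
      _ = t * (t * y * t⁻¹ * (t⁻¹ * y * t)) * t⁻¹ := by group
  have haK : ∀ k ∈ K, TwoEnd.Dat.a t y * k = k * TwoEnd.Dat.a t y := fun k hk => (d.comm_a hk).symm
  have hycen : ¬ ∀ k ∈ K, y * k = k * y := fun h => d.g_mul_ne (h g hgK).symm
  have hy1 : y ≠ 1 := by
    rintro rfl
    exact hycen fun k _ => by rw [one_mul, mul_one]
  -- `K` acts nontrivially on `[M, a]`
  have hnt : ∃ m, ρ y (br (ρ (TwoEnd.Dat.a t y)) m) ≠ br (ρ (TwoEnd.Dat.a t y)) m := by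
    by_contra hcon
    push Not at hcon
    refine hycen (central_of_cen hK haK (fun hn => ?_) hyK hcon)
    rw [e1] at hn
    exact c.three_cen hK hKL hZ h3 ht ht1 htt1 htt hyP hyK hy1 hn
  let _ := TwoMain.act ρ
  have hD : ∀ (x : H) (m : Additive M), TwoEnd.D x m = Additive.ofMul (br (ρ x) m.toMul) := by
    intro x m
    change Additive.ofMul (ρ x m.toMul) - m = Additive.ofMul (ρ x m.toMul * m.toMul)
    have h1 : -m = m := by
      have := c.sq2 m.toMul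
      have h2 : m + m = 0 := this
      exact neg_eq_of_add_eq_zero_left h2
    rw [sub_eq_add_neg, h1]
    rfl
  refine d.false_of (M := Additive M) (fun m => c.sq2 m.toMul) ?_ ?_
  · -- (N0)
    refine le_trans ?_ (he.trans_eq (by rw [h3.card]))
    have h1 : ∀ v ∈ TwoEnd.cm (TwoEnd.cm (⊤ : AddSubgroup (Additive M)) (TwoEnd.Dat.a t y)) (TwoEnd.Dat.b t y),
        Additive.toMul v ∈ e := by
      rintro v ⟨w, ⟨m, -, rfl⟩, rfl⟩
      rw [hD, hD, hba]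
      exact c.line0 _ haA t ht _
    refine Nat.card_le_card_of_injective (fun v => (⟨Additive.toMul v.1, h1 v.1 v.2⟩ : e)) ?_
    intro v w hvw
    exact Subtype.ext (congrArg (fun z : e => Additive.ofMul (z : M)) hvw)
  · obtain ⟨m, hm⟩ := hnt
    refine ⟨y, hyK, Additive.ofMul (br (ρ (TwoEnd.Dat.a t y)) m), ⟨Additive.ofMul m, AddSubgroup.mem_top _, ?_⟩, ?_⟩
    · rw [hD]; rfl
    · exact fun h => hm h

/-- **(T2)** for `CubS`: `T` normalises every component `K ≤ H⁰` with (INV5). -/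
theorem torus_le [Finite H] [Finite M] (c : CubS ρ L A T e D P) (he : Nat.card e ≤ Nat.card T + 1) (sc : Scal A T)
    (hT : 3 ≤ Nat.card T) {S K : Subgroup H} (hK : Cfsg.IsComponent K) (hKL : K ≤ L)
    (hZ : ∀ z ∈ K, (∀ y ∈ K, z * y = y * z) → z * z = 1 → z = 1) (hS2 : IsPGroup 2 S) (hS1 : S ⊓ K ≠ ⊥)
    (syl : ∀ Q : Subgroup H, Q ≤ K → IsPGroup 2 Q → S ⊓ K ≤ Q → Q ≤ S)
    (hSA : ∀ x ∈ S, ∀ t ∈ T, x⁻¹ * (t * x * t⁻¹) ∈ A)
    (hinv : (∀ x ∈ S ⊓ K, x * x = 1) → InvFive K) : T ≤ Subgroup.normalizer (K : Set H) := by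
  have hZ' : ∀ x ∈ S ⊓ K, (∀ y ∈ K, x * y = y * x) → x = 1 := by
    intro x hx hc
    obtain ⟨n, hn⟩ := hS2 ⟨x, hx.1⟩
    have hn' : x ^ 2 ^ n = 1 := congrArg Subtype.val hn
    induction n with
    | zero => simpa using hn'
    | succ n ih =>
      have h1 : x ^ 2 ^ n = 1 := by
        refine hZ _ (K.pow_mem hx.2 _) (fun y hy => ?_) ?_
        · exact (Commute.pow_left (hc y hy : Commute x y) _).eq
        · rw [← pow_two, ← pow_mul, ← pow_succ]; exact hn'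
      exact ih (Subtype.ext h1) h1
  rcases torus_component sc hT hK hS1 hZ' hSA with h | h
  · exact h
  · exact (c.three_false he hK.2 hKL hZ hS2 syl h (hinv h.sq)).elim

end CubS

end Cfsg.Agent.Omega.Lie.LQS
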