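import Cfsg.Agent.Omega.Lie.ExoBT
import Cfsg.Agent.Omega.Lie.InvFiveAll
import Cfsg.Agent.Omega.Lie.LayerPerf
import Cfsg.Agent.Omega.Lie.LayerKnown
import Cfsg.Agent.Omega.Lie.OutT

/-!
# NODE LIE: the component theorem in `H = N(R i)/O₂(N(R i))`, over `BT V R`

`KRows`: the K-facts.  `hyp_bt`: for a component `K ≤ H⁰` of `H`, `K / Z(K)` known, with `[K, A] ≠ 1`: `CompB.Hyp` holds
and `K / Z(K)` is of Lie type in characteristic 2, from two module-theoretic inputs: the exceptional case `Three` and the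
groups `OutZS` are impossible.  `perf_bt`: hence `IIa4.Perf`.  `LayerMain.lean` has the instance over `BTC V R`.
-/

set_option autoImplicit false
set_option linter.unusedSectionVars false

namespace Cfsg.Agent.Omega.Lie.LayerMain

open Subgroup Cfsg Cfsg.Agent.Omega.BTwo Cfsg.Agent.Omega.Lie Cfsg.Agent.Omega.Lie.Quot
open Cfsg.Agent.Omega.Lie.CompB Cfsg.Agent.Omega.Lie.CompT Cfsg.Agent.Omega.Lie.Layer
open Cfsg.Agent.Omega.Lie.OutT Cfsg.Agent.Omega.Lie.InvFiveAll Cfsg.Agent.Omega.KFacts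
open Cfsg.Agent.Transfer.FusionBasic

universe u v w

/-- The odd order theorem (S0205). -/
def OddOrd : Prop := ∀ (X : Type u) [Group X] [Finite X], Odd (Nat.card X) → Group.IsSolvable X

/-- **The K-facts used by the component theorem of NODE LIE.** -/
structure KRows : Prop where
  /-- the rows of `(ZS)` -/
  zs : RowsZS.{u}
  /-- Walter's theorem -/
  walter : WalterThm.{u}
  /-- the odd order theorem -/
  odd : OddOrd.{u}
  /-- the outer automorphism groups -/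
  out : ∀ (L : Type u) [Group L] [Finite L], IsLieTypeChar 2 L ∨ OutZS L → OutNil L

theorem two_dvd (hO : OddOrd.{u}) {K : Type u} [Group K] [Finite K] (hK : IsQuasisimple K) : 2 ∣ Nat.card K := by
  by_contra h
  have h1 : Odd (Nat.card K) := Nat.not_even_iff_odd.1 fun h' => h h'.two_dvd
  have h2 := hO K h1
  have h3 : Group.IsSolvable (K ⧸ center K) := inferInstance
  have := hK.2
  exact LayerKnown.not_comm hK ⟨⟨IsSimpleGroup.comm_iff_isSolvable.2 h3⟩⟩

variable {G : Type u} [Group G] [Finite G] {ι : Type w} {V : Subgroup G} {R : ι → Subgroup G} {F : Type v} [Field F]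
  [Finite F] [CharP F 2] {i j : ι} {vv : F → F → G} {t : F → G} {w1 w2 : F → G}

/-- (INV5) in the exceptional case -/
theorem invFive (W : WalterThm.{u}) (b : BT V R) (C : Crd V R i j vv w1 w2) (τ : TorD V R i j vv t) (hij : i ≠ j)
    (hF : 4 ≤ Nat.card F) (S₁ : Sylow 2 G) (hV : (S₁ : Subgroup G) ≤ normalizer (V : Set G))
    (hR : (S₁ : Subgroup G) ≤ normalizer (R i : Set G)) {K : Subgroup (HQ (R i))} (hK : IsComponent K)
    (hK0 : K ≤ H0 R i) (h2 : 2 ∣ Nat.card K) (h3 : Three (AA V R i j) (TT τ) K (SS R i S₁ ⊓ K)) :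
    InvFive.InvFive K := by
  have sit := ExoBT.sit b τ C S₁ hij hF hV hR
  have hsyl := sit.sylK hK.1 hK0
  obtain ⟨P, hP⟩ := hsyl.exists_sylow
  refine of_quasisimple W hK.2 (ExoComp.odd_center (pCore_HQ (R i)) hK) h2 P fun x hx y hy => ?_
  have hx' : (x : HQ (R i)) ∈ SS R i S₁ ⊓ K := by rw [← hP]; exact ⟨x, hx, rfl⟩
  have hy' : (y : HQ (R i)) ∈ SS R i S₁ ⊓ K := by rw [← hP]; exact ⟨y, hy, rfl⟩
  exact Subtype.ext (h3.ab x hx' y hy')

/-- **The components `K` with `[K, A] ≠ 1`, over `BT V R`**; `h3`, `hZS`: the two module-theoretic inputs. -/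
theorem hyp_bt (KR : KRows.{u}) (b : BT V R) (C : Crd V R i j vv w1 w2) (τ : TorD V R i j vv t) (hij : i ≠ j)
    (hF : 4 ≤ Nat.card F) (S₁ : Sylow 2 G) (hV : (S₁ : Subgroup G) ≤ normalizer (V : Set G))
    (hR : (S₁ : Subgroup G) ≤ normalizer (R i : Set G)) {K : Subgroup (HQ (R i))} (hK : IsComponent K)
    (hK0 : K ≤ H0 R i) (hk : IsKnownSimple' (K ⧸ center K)) (hne : ∃ a ∈ AA V R i j, ∃ k ∈ K, a * k ≠ k * a)
    (h3 : Three (AA V R i j) (TT τ) K (SS R i S₁ ⊓ K) → InvFive.InvFive K → False)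
    (hZS : Hyp (SS R i S₁) (AA V R i j) (TT τ) K → OutZS (K ⧸ center K) → False) :
    Hyp (SS R i S₁) (AA V R i j) (TT τ) K ∧ IsLieTypeChar 2 (K ⧸ center K) := by
  have h2 := two_dvd KR.odd hK.2
  rcases ExoBT.exo KR.zs b τ C S₁ hij hF hV hR hK hK0 h2 hk hne with ⟨-, h1, h4⟩ | h
  · have h5 := OutT.hyp h1 (ExoBT.sit b τ C S₁ hij hF hV hR).odd hK (KR.out _ h4)
    exact ⟨h5, h4.resolve_right (hZS h5)⟩
  · exact (h3 h (invFive KR.walter b C τ hij hF S₁ hV hR hK hK0 h2 h)).elim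

/-- `A` acts on every component in `H⁰` as `A ⊓ K`. -/
theorem innC_bt (KR : KRows.{u}) (b : BT V R) (C : Crd V R i j vv w1 w2) (τ : TorD V R i j vv t) (hij : i ≠ j)
    (hF : 4 ≤ Nat.card F) (S₁ : Sylow 2 G) (hV : (S₁ : Subgroup G) ≤ normalizer (V : Set G))
    (hR : (S₁ : Subgroup G) ≤ normalizer (R i : Set G))
    (hk : ∀ K : Subgroup (HQ (R i)), IsComponent K → IsKnownSimple' (K ⧸ center K))
    (h3 : ∀ K : Subgroup (HQ (R i)), IsComponent K → K ≤ H0 R i → (∃ a ∈ AA V R i j, ∃ k ∈ K, a * k ≠ k * a) →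
      Three (AA V R i j) (TT τ) K (SS R i S₁ ⊓ K) → InvFive.InvFive K → False)
    (hZS : ∀ K : Subgroup (HQ (R i)), IsComponent K → K ≤ H0 R i → (∃ a ∈ AA V R i j, ∃ k ∈ K, a * k ≠ k * a) →
      Hyp (SS R i S₁) (AA V R i j) (TT τ) K → OutZS (K ⧸ center K) → False) : InnC V R i j := by
  intro K hK hK0
  by_cases hne : ∃ a ∈ AA V R i j, ∃ k ∈ K, a * k ≠ k * a
  · exact InnA.of_hyp (hyp_bt KR b C τ hij hF S₁ hV hR hK hK0 (hk K hK) hne (h3 K hK hK0 hne)
      (hZS K hK hK0 hne)).1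
  · push Not at hne
    exact InnA.of_comm hne

end Cfsg.Agent.Omega.Lie.LayerMain
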