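import Cfsg.Agent.Omega.Lie.OddQ4BT

/-!
# NODE LIE, `q ≥ 4`: `A` centralises every solvable odd order subgroup of `H⁰` normalised by `A` and `T`

`q = 4`: `OddQ4BT`. `q ≥ 8`: instance of helper843's `OddPart.centralizes'` (#11541 (2)); `C_H(T)` stabilises
`e = V / R i`, because `e = Φ(M)`, `Φ = (t_β - 1)(t_{1+β} - 1 - t_β)²` for `β ∉ F_4`.
-/

set_option autoImplicit false
set_option linter.unusedSectionVars false

namespace Cfsg.Agent.Omega.Lie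

open Subgroup Cfsg.Agent.Omega.BTwo Cfsg.Agent.Omega.Lie Cfsg.Agent.Omega.Lie.Quot

universe u v w

variable {G : Type u} [Group G] {ι : Type w} {V : Subgroup G} {R : ι → Subgroup G} {F : Type v} [Field F]
  {i j : ι} {vv : F → F → G} {w1 w2 t : F → G}

namespace ModQ

variable {M B : Type u} [AddCommGroup M] [AddCommGroup B]
  [DistribMulAction (NR R i) M] [DistribMulAction (NR R i) B] [DistribMulAction (HQ (R i)) M] {p : G → M}
  {r : G → B} {f : M →+ M →+ B} (m : ModQ V R i M B p r f)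
include m

/-- an element of `H` which stabilises `e` normalises `A` -/
theorem norm_of_stab (b : BT V R) (hij : i ≠ j) {x : HQ (R i)} (h : ∀ d ∈ m.sb V, x • d ∈ m.sb V)
    (h' : ∀ d ∈ m.sb V, x⁻¹ • d ∈ m.sb V) {a : HQ (R i)} (ha : a ∈ AA V R i j) : x * a * x⁻¹ ∈ AA V R i j := by
  obtain ⟨g, hgN, rfl⟩ := exists_pr x
  have key : ∀ g : NR R i, (∀ d ∈ m.sb V, pr (R i) g • d ∈ m.sb V) → ∀ y ∈ V, (g : G) * y * (g : G)⁻¹ ∈ V := by
    intro g hg y hy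
    have hyW := V_le_WW V (R i) hy
    have h1 := hg _ (m.p_mem hyW hy)
    rw [m.act g.2 hyW] at h1
    exact (m.p_mem_iff (conj_mem_of_normalizer (normalizer_le_WW V (R i) g.2) hyW) (b.R_le i)).1 h1
  have hV : g ∈ normalizer (V : Set G) := by
    rw [mem_normalizer_iff]
    refine fun y => ⟨key ⟨g, hgN⟩ h y, fun hy => ?_⟩
    have h2 := key ⟨g, hgN⟩⁻¹ (fun d hd => by rw [map_inv]; exact h' d hd) _ hy
    have e : (((⟨g, hgN⟩ : NR R i)⁻¹ : NR R i) : G) * (g * y * g⁻¹) *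
        (((⟨g, hgN⟩ : NR R i)⁻¹ : NR R i) : G)⁻¹ = y := by
      change g⁻¹ * (g * y * g⁻¹) * g⁻¹⁻¹ = y
      group
    rwa [e] at h2
  obtain ⟨u, hu, rfl⟩ := (mem_AA b).1 ha
  rw [← im_Y b hij]
  have h3 : g * u * g⁻¹ ∈ YY V R := conj_mem_of_normalizer (b.NV_le_NY hV) (UU_le_YY j hu)
  exact pr_mem_im (mul_mem (mul_mem hgN (U_le_N b i j hu)) (inv_mem hgN)) h3

/-- the torus elements in `H` -/
def tq (τ : TorD V R i j vv t) {a : F} (ha : a ≠ 0) : HQ (R i) := pr (R i) ⟨t a, τ.normR ha⟩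

omit m in
theorem tq_mem (τ : TorD V R i j vv t) {a : F} (ha : a ≠ 0) : tq τ ha ∈ TT τ := (mem_TT τ).2 ⟨a, ha, rfl⟩

theorem tq_act (τ : TorD V R i j vv t) {a : F} (ha : a ≠ 0) {x : G} (hx : x ∈ WW V (R i)) :
    tq τ ha • p x = p (t a * x * (t a)⁻¹) := m.act (τ.normR ha) hx

/-- `W i / U i` has weight 2, `U i / D` weight 1 -/
theorem drop (τ : TorD V R i j vv t) {β : F} (hβ : β ≠ 0) (hβ1 : 1 + β ≠ 0) {x : G}
    (hx : x ∈ WW V (R i)) {X : Subgroup G}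
    (h : t (1 + β) * x * (t (1 + β))⁻¹ * (t 1 * x * (t 1)⁻¹ * (t β * x * (t β)⁻¹))⁻¹ ∈ X) :
    tq τ hβ1 • p x - (p x + tq τ hβ • p x) ∈ m.sb X := by
  have hn : ∀ {a : F}, a ≠ 0 → t a * x * (t a)⁻¹ ∈ WW V (R i) := fun ha =>
    conj_mem_of_normalizer (normalizer_le_WW V (R i) (τ.normR ha)) hx
  have h1 : t 1 * x * (t 1)⁻¹ = x := by rw [τ.one]; group
  rw [h1] at h
  rw [m.tq_act τ hβ1 hx, m.tq_act τ hβ hx, ← m.p_mul _ hx _ (hn hβ), sub_eq_add_neg,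
    ← m.p_inv (mul_mem hx (hn hβ)), ← m.p_mul _ (hn hβ1) _ (inv_mem (mul_mem hx (hn hβ)))]
  exact m.p_mem (mul_mem (hn hβ1) (inv_mem (mul_mem hx (hn hβ)))) h

/-- `C_H(T)` stabilises `e`, `q ≥ 8` -/
theorem stab_e [Finite F] (b : BTC V R) (τ : TorD V R i j vv t) (h5 : 5 ≤ Nat.card F) {x : HQ (R i)}
    (hx : ∀ s ∈ TT τ, s * x * s⁻¹ = x) : ∀ d ∈ m.sb V, x • d ∈ m.sb V := by
  obtain ⟨β, hβ, hβ1, hβ3⟩ := exists_outside h5
  have htwo : ∀ a : F, a + a = 0 := fun a => τ.two b.toBT a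
  have hneg : ∀ a : F, -a = a := fun a => (eq_neg_of_add_eq_zero_left (htwo a)).symm
  have hβ2 : 1 + β ≠ 0 := by
    intro h
    apply hβ1
    have h1 := eq_neg_of_add_eq_zero_right h
    rw [h1, hneg]
  set s2 := tq τ hβ2 with hs2
  set s := tq τ hβ with hs
  -- the operators
  let Dp : M → M := fun a => s2 • a - (a + s • a)
  let Φ : M → M := fun a => s • Dp (Dp a) - Dp (Dp a)
  have hcomm : ∀ {z : HQ (R i)}, z ∈ TT τ → ∀ a : M, z • x • a = x • z • a := by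
    intro z hz a
    have h1 := hx z hz
    rw [mul_inv_eq_iff_eq_mul] at h1
    rw [smul_smul, smul_smul, h1]
  have hD : ∀ a : M, Dp (x • a) = x • Dp a := by
    intro a
    change s2 • x • a - (x • a + s • x • a) = x • (s2 • a - (a + s • a))
    rw [hcomm (tq_mem τ hβ2), hcomm (tq_mem τ hβ), smul_sub, smul_add]
  have hΦx : ∀ a : M, Φ (x • a) = x • Φ a := by
    intro a
    change s • Dp (Dp (x • a)) - Dp (Dp (x • a)) = x • (s • Dp (Dp a) - Dp (Dp a))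
    rw [hD, hD, hcomm (tq_mem τ hβ)]
    exact (smul_sub x _ _).symm
  have hDU : ∀ a : M, Dp a ∈ m.sb (UU V R i) := by
    intro a
    obtain ⟨w, hw, rfl⟩ := m.p_surj a
    exact m.drop τ hβ hβ2 hw (τ.wW 1 β one_ne_zero hβ hβ2 w hw)
  have hDD : ∀ a ∈ m.sb (UU V R i), Dp a ∈ m.sb (DD V R) := by
    rintro _ ⟨w, hw, hwW, rfl⟩
    exact m.drop τ hβ hβ2 hwW (τ.wU 1 β one_ne_zero hβ hβ2 w hw)
  have hΦe : ∀ a : M, Φ a ∈ m.sb V := by
    intro a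
    obtain ⟨d, hd, hdW, e⟩ := hDD _ (hDU a)
    change s • Dp (Dp a) - Dp (Dp a) ∈ m.sb V
    have hn : t β * d * (t β)⁻¹ ∈ WW V (R i) :=
      conj_mem_of_normalizer (normalizer_le_WW V (R i) (τ.normR hβ)) hdW
    rw [← e, m.tq_act τ hβ hdW, sub_eq_add_neg, ← m.p_inv hdW, ← m.p_mul _ hn _ (inv_mem hdW)]
    exact m.p_mem (mul_mem hn (inv_mem hdW)) (b.XD (τ.memX β hβ) hd)
  -- `Φ` on `e`
  have hv : ∀ y z, vv y z ∈ V := fun y z => (τ.v_mem _).2 ⟨_, _, rfl⟩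
  have hvW : ∀ y z, vv y z ∈ WW V (R i) := fun y z => V_le_WW V (R i) (hv y z)
  have hp0 : ∀ y z, p (vv y z) = p (vv 0 z) := by
    intro y z
    rw [m.p_eq_iff (hvW _ _) (hvW _ _)]
    have h1 := τ.v_add y 0 0 z
    rw [add_zero, zero_add] at h1
    rw [h1, mul_inv_cancel_right]
    exact (τ.Ri _).2 ⟨y, rfl⟩
  have hpa : ∀ z z', p (vv 0 z) + p (vv 0 z') = p (vv 0 (z + z')) := by
    intro z z'
    rw [← m.p_mul _ (hvW _ _) _ (hvW _ _), ← τ.v_add, add_zero]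
  have hpn : ∀ z, - p (vv 0 z) = p (vv 0 z) := fun z =>
    (eq_neg_of_add_eq_zero_left (m.two_M b.toBT _)).symm
  have hts : ∀ {a : F} (ha : a ≠ 0) (z : F), tq τ ha • p (vv 0 z) = p (vv 0 (a⁻¹ * z)) := by
    intro a ha z
    rw [m.tq_act τ ha (hvW _ _), τ.act a 0 z ha, mul_zero]
  have hDe : ∀ z, Dp (p (vv 0 z)) = p (vv 0 (((1 + β)⁻¹ + (1 + β⁻¹)) * z)) := by
    intro z
    change s2 • p (vv 0 z) - (p (vv 0 z) + s • p (vv 0 z)) = _
    rw [hts, hts, hpa, sub_eq_add_neg, hpn, hpa]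
    congr 2
    ring
  have hΦv : ∀ z, Φ (p (vv 0 z)) = p (vv 0 ((β⁻¹ + 1) * (((1 + β)⁻¹ + (1 + β⁻¹)) *
      (((1 + β)⁻¹ + (1 + β⁻¹)) * z)))) := by
    intro z
    change s • Dp (Dp (p (vv 0 z))) - Dp (Dp (p (vv 0 z))) = _
    rw [hDe, hDe, hts, sub_eq_add_neg, hpn, hpa]
    congr 2
    ring
  have hκ : (1 + β)⁻¹ + (1 + β⁻¹) ≠ 0 := by
    intro h
    apply hβ3
    have h1 : β + ((1 + β) * β + (1 + β)) = 0 := by
      have h2 : (1 + β) * β * ((1 + β)⁻¹ + (1 + β⁻¹)) = β + ((1 + β) * β + (1 + β)) := by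
        field_simp
      rw [← h2, h, mul_zero]
    have h3 : β + β = 0 := htwo β
    linear_combination h1 - h3
  have hκ' : β⁻¹ + 1 ≠ 0 := by
    intro h
    apply hβ1
    have h1 := eq_neg_of_add_eq_zero_left h
    rw [hneg] at h1
    rw [← inv_inv β, h1, inv_one]
  generalize (1 + β)⁻¹ + (1 + β⁻¹) = κ at hκ hΦv
  generalize β⁻¹ + 1 = κ' at hκ' hΦv
  intro d hd
  obtain ⟨y, hy, -, rfl⟩ := hd
  obtain ⟨y1, z, rfl⟩ := (τ.v_mem y).1 hy
  have h1 : p (vv y1 z) = Φ (p (vv 0 (κ⁻¹ * (κ⁻¹ * (κ'⁻¹ * z))))) := by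
    rw [hΦv, hp0]
    congr 2
    field_simp
  rw [h1, ← hΦx]
  exact hΦe _

/-- `C_H(T)` normalises `A`, `q ≥ 8` -/
theorem cen_T_norm_A [Finite F] (b : BTC V R) (τ : TorD V R i j vv t) (h5 : 5 ≤ Nat.card F) {x : HQ (R i)}
    (hx : ∀ s ∈ TT τ, s * x * s⁻¹ = x) : x ∈ normalizer (AA V R i j : Set (HQ (R i))) := by
  have hx' : ∀ s ∈ TT τ, s * x⁻¹ * s⁻¹ = x⁻¹ := by
    intro s hs
    have h1 := hx s hs
    calc s * x⁻¹ * s⁻¹ = (s * x * s⁻¹)⁻¹ := by group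
      _ = x⁻¹ := by rw [h1]
  have h1 := m.stab_e b τ h5 hx
  have h2 := m.stab_e b τ h5 hx'
  rw [mem_normalizer_iff]
  intro a
  refine ⟨fun ha => m.norm_of_stab b.toBT τ.ne h1 h2 ha, fun ha => ?_⟩
  have h3 := m.norm_of_stab (x := x⁻¹) b.toBT τ.ne h2 (by rw [inv_inv]; exact h1) ha
  have e : x⁻¹ * (x * a * x⁻¹) * x⁻¹⁻¹ = a := by group
  rwa [e] at h3

end ModQ

namespace OddAll

theorem odd_TT (τ : TorD V R i j vv t) {s : HQ (R i)} (hs : s ∈ TT τ) : Odd (orderOf s) := by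
  obtain ⟨a, ha, rfl⟩ := (mem_TT τ).1 hs
  have h1 : orderOf (pr (R i) ⟨t a, τ.normR ha⟩) ∣ orderOf (⟨t a, τ.normR ha⟩ : ↥(normalizer (R i : Set G))) :=
    orderOf_map_dvd _ _
  rw [← Subgroup.orderOf_coe] at h1
  exact (τ.odd a ha).of_dvd_nat h1

/-- **#11541 (2), #12397**: `A` centralises every solvable subgroup of odd order of `H⁰` normalised by `A`
and `T`. -/
theorem centralizes [Finite G] [Finite F] [CharP F 2] (b : BTC V R) (c : Coord V R i j vv w1 w2)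
    (τ : TorD V R i j vv t) (hF : 4 ≤ Nat.card F) {Y : Subgroup (HQ (R i))} (hY : Y ≤ H0 R i)
    (hodd : Odd (Nat.card Y)) (hsol : Group.IsSolvable Y) (hA : AA V R i j ≤ normalizer (Y : Set (HQ (R i))))
    (hT : TT τ ≤ normalizer (Y : Set (HQ (R i)))) :
    ∀ y ∈ Y, ∀ a ∈ AA V R i j, a * y = y * a := by
  rcases hF.lt_or_eq with h5 | h4
  · obtain ⟨M, B, _, _, _, _, _, p, r, f, m⟩ := exists_modQ b.toBT i
    have hsq : ∀ a ∈ AA V R i j, a * a = 1 := fun a ha => A_sq b.toBT c.ne ha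
    have hTA : TT τ ≤ normalizer (AA V R i j : Set (HQ (R i))) := by
      intro s hs
      rw [mem_normalizer_iff]
      intro a
      refine ⟨fun ha => TA_mem b.toBT τ hs ha, fun ha => ?_⟩
      have h1 := TA_mem b.toBT τ (inv_mem hs) ha
      have e : s⁻¹ * (s * a * s⁻¹) * s⁻¹⁻¹ = a := by group
      rwa [e] at h1
    refine OddPart.centralizes' hsq hTA ?_ hodd hsol hA hT fun x _ hx => m.cen_T_norm_A b τ h5 hx
    refine OddPart.semi_of_fpf hsq hTA (fun s hs => odd_TT τ hs) ?_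
    intro s hs hs1 a ha h
    by_contra ha1
    apply hs1
    refine T_reg b.toBT τ c.ne ha ha1 hs ?_
    rw [h, mul_inv_cancel_right]
  · exact OddQ4BT.centralizes b c τ h4.symm hY hodd hsol hA hT

end OddAll

end Cfsg.Agent.Omega.Lie
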