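import Cfsg.Agent.Omega.Lie.LQThm
import Cfsg.Agent.Omega.Lie.TwoEnd
import Cfsg.Agent.Omega.Lie.InvFive

/-!
# (T2) of TEXT LIE-1 (bb OMEGA #12098) in the frame `Cub`

`T` normalises every component `K` with `[K, A] ≠ 1` which has (INV5), i.e. the output `Three` of the combinatorics
is impossible.
-/

set_option autoImplicit false

namespace Cfsg.Agent.Omega.Lie.TwoMain

open Subgroup Cfsg.Agent.Omega.Lie.CompT Cfsg.Agent.Omega.Lie.LQ Cfsg.Agent.Omega.Lie.InvFive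

variable {H M : Type*} [Group H] [CommGroup M]

/-- `H` acts on `Additive M`. -/
@[reducible] def act (ρ : H →* MulAut M) : DistribMulAction H (Additive M) where
  smul h m := Additive.ofMul (ρ h m.toMul)
  one_smul m := by
    change Additive.ofMul (ρ 1 m.toMul) = m
    rw [map_one, MulAut.one_apply, ofMul_toMul]
  mul_smul g h m := by
    change Additive.ofMul (ρ (g * h) m.toMul) = Additive.ofMul (ρ g (ρ h m.toMul))
    rw [map_mul, MulAut.mul_apply]
  smul_zero h := by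
    change Additive.ofMul (ρ h 1) = 0
    rw [map_one, ofMul_one]
  smul_add h m n := by
    change Additive.ofMul (ρ h (m.toMul * n.toMul)) = Additive.ofMul (ρ h m.toMul) + Additive.ofMul (ρ h n.toMul)
    rw [map_mul, ofMul_mul]

/-- Every 2-element of `K` is conjugate into the maximal 2-subgroup `P` of `K`. -/
theorem exists_conj [Finite H] {K P : Subgroup H} (hP2 : IsPGroup 2 P) (hPK : P ≤ K)
    (hmax : ∀ Q : Subgroup H, Q ≤ K → IsPGroup 2 Q → P ≤ Q → Q ≤ P) {y : H} (hy : y ∈ K) (hy2 : y * y = 1) :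
    ∃ k ∈ K, k * y * k⁻¹ ∈ P := by
  have : Fact (Nat.Prime 2) := ⟨Nat.prime_two⟩
  -- `P` as a Sylow subgroup of `K`
  have hP2' : IsPGroup 2 (P.subgroupOf K) := hP2.comap_of_injective K.subtype K.subtype_injective
  obtain ⟨P0, hP0⟩ := hP2'.exists_le_sylow
  have hP0' : (P0 : Subgroup K) = P.subgroupOf K := by
    refine le_antisymm ?_ hP0
    have h1 : (P0 : Subgroup K).map K.subtype ≤ P := by
      refine hmax _ (map_subtype_le _) (P0.isPGroup'.map K.subtype) ?_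
      intro x hx
      exact ⟨⟨x, hPK hx⟩, hP0 (mem_subgroupOf.2 hx), rfl⟩
    intro x hx
    exact mem_subgroupOf.2 (h1 ⟨x, hx, rfl⟩)
  -- a Sylow subgroup containing `y`
  have hy2' : IsPGroup 2 (zpowers (⟨y, hy⟩ : K)) := by
    rintro ⟨x, hx⟩
    obtain ⟨m, rfl⟩ := mem_zpowers_iff.1 hx
    refine ⟨1, Subtype.ext ?_⟩
    change ((⟨y, hy⟩ : K) ^ m) ^ 2 ^ 1 = 1
    have h1 : (⟨y, hy⟩ : K) ^ (2 : ℕ) = 1 := by
      rw [pow_two]; exact Subtype.ext hy2
    rw [pow_one, ← zpow_natCast, ← zpow_mul, mul_comm, zpow_mul, zpow_natCast, h1, one_zpow]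
  obtain ⟨Q, hQ⟩ := hy2'.exists_le_sylow
  obtain ⟨k, hk⟩ := MulAction.exists_smul_eq K Q P0
  refine ⟨k, k.2, ?_⟩
  have h1 : k * ⟨y, hy⟩ * k⁻¹ ∈ (k • Q : Sylow 2 K) := ⟨⟨y, hy⟩, hQ (mem_zpowers _), rfl⟩
  rw [hk] at h1
  have h2 : k * ⟨y, hy⟩ * k⁻¹ ∈ P.subgroupOf K := hP0' ▸ h1
  exact mem_subgroupOf.1 h2

/-- **(T2), the end for components with (INV5)**: `T` is regular on three conjugates of `K`. -/
theorem three_false [Finite H] [Finite M] {ρ : H →* MulAut M} {A T : Subgroup H} {e : Subgroup M}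
    (c : Cub ρ A T e) (he : Nat.card e ≤ Nat.card T + 1) (hA : ∀ a ∈ A, a * a = 1) {S K : Subgroup H}
    (hK : Cfsg.IsQuasisimple K) (hZ : ∀ z ∈ K, (∀ y ∈ K, z * y = y * z) → z * z = 1 → z = 1)
    (hAK : ∀ a ∈ A, ∀ x ∈ K, a * x * a⁻¹ ∈ K) (hS2 : IsPGroup 2 S)
    (syl : ∀ Q : Subgroup H, Q ≤ K → IsPGroup 2 Q → S ⊓ K ≤ Q → Q ≤ S)
    (h3 : Three A T K (S ⊓ K)) (hinv : InvFive K) : False := by
  obtain ⟨t, ht, ht1, ht3, htt1, htt, -⟩ := h3.gen
  have htt' : t * t ∈ T := T.mul_mem ht ht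
  have htti : t * t = t⁻¹ := eq_inv_of_mul_eq_one_left ht3
  -- the elements
  obtain ⟨y0, g0, r, q1, q2, q3, q4, q5, q6⟩ := hinv
  obtain ⟨k, hk, hkP⟩ := exists_conj (P := S ⊓ K) (hS2.to_le inf_le_left) inf_le_right
    (fun Q h1 h2 h4 => le_inf (syl Q h1 h2 h4) h1) y0.2 (congrArg Subtype.val q1)
  obtain ⟨y, hy⟩ : ∃ y, y = k * (y0 : H) * k⁻¹ := ⟨_, rfl⟩
  obtain ⟨g, hg⟩ : ∃ g, g = k * (g0 : H) * k⁻¹ := ⟨_, rfl⟩
  have hyP : y ∈ S ⊓ K := hy ▸ hkP
  have hyK : y ∈ K := hyP.2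
  have hgK : g ∈ K := hg ▸ K.mul_mem (K.mul_mem hk g0.2) (K.inv_mem hk)
  have hyy : y * y = 1 := h3.sq y hyP
  have hyg : y * g * y⁻¹ = g⁻¹ := by
    have h1 : (y0 : H) * g0 * (y0 : H)⁻¹ = (g0 : H)⁻¹ := congrArg Subtype.val q2
    rw [hy, hg]
    calc k * (y0 : H) * k⁻¹ * (k * g0 * k⁻¹) * (k * y0 * k⁻¹)⁻¹ = k * ((y0 : H) * g0 * (y0 : H)⁻¹) * k⁻¹ := by group
      _ = (k * (g0 : H) * k⁻¹)⁻¹ := by rw [h1]; group
  have hgr : g ^ r = 1 := by
    have h1 : (g0 : H) ^ r = 1 := congrArg Subtype.val q5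
    rw [hg, conj_pow, h1, mul_one, mul_inv_cancel]
  have hg1 : g ≠ 1 := by
    intro h
    apply q6
    rw [hg] at h
    exact Subtype.ext (conj_eq_one_iff.1 h)
  -- the conjugates commute with `K`
  have hcom : ∀ s ∈ T, s ≠ 1 → ∀ x ∈ K, ∀ z ∈ K, x * (s * z * s⁻¹) = s * z * s⁻¹ * x := by
    intro s hs hs1 x hx z hz
    have := h3.com 1 T.one_mem s hs hs1.symm x hx z hz
    simpa using this
  have hperf : ⁅K, K⁆ = K := by
    have h1 := hK.1.commutator_eq_top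
    have h2 : (commutator K).map K.subtype = K := by
      rw [h1, ← MonoidHom.range_eq_map, range_subtype]
    rw [commutator_def, map_commutator, ← MonoidHom.range_eq_map, range_subtype] at h2
    exact h2
  have d : TwoEnd.Dat K t y g r :=
    { t3 := ht3
      comm := hcom t ht ht1
      qs := by
        intro L hLK hL
        have hn : (L.subgroupOf K).Normal := ⟨fun n hn z => hL z z.2 n hn⟩
        rcases Cub.normal_or hK (L.subgroupOf K) with h | h
        · left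
          exact le_antisymm hLK fun x hx => h ⟨x, hx⟩
        · right
          intro l hl z hz
          exact h ⟨l, hLK hl⟩ hl z hz
      perf := hperf
      yK := hyK
      y2 := hyy
      gK := hgK
      inv := hyg
      pr := q3
      five := q4
      gr := hgr
      g1 := hg1 }
  -- `a`, `b`
  have haA : TwoEnd.Dat.a t y ∈ A := by
    have h1 := h3.mem y hyP t ht _ htt'
    have e1 : TwoEnd.Dat.a t y = t * y * t⁻¹ * (t * t * y * (t * t)⁻¹) := by
      unfold TwoEnd.Dat.a; rw [htti, inv_inv]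
    exact e1 ▸ h1
  have hba : TwoEnd.Dat.b t y = t * TwoEnd.Dat.a t y * t⁻¹ := by
    unfold TwoEnd.Dat.a TwoEnd.Dat.b
    have e2 : t * (t * y * t⁻¹) * t⁻¹ = t⁻¹ * y * t := by
      calc t * (t * y * t⁻¹) * t⁻¹ = (t * t) * y * (t * t)⁻¹ := by group
        _ = t⁻¹ * y * t := by rw [htti, inv_inv]
    calc t⁻¹ * y * t * y = t * (t * y * t⁻¹) * t⁻¹ * y := by rw [e2]
      _ = t * (t * y * t⁻¹ * (t⁻¹ * y * t)) * t⁻¹ := by group
  have haK : ∀ k ∈ K, TwoEnd.Dat.a t y * k = k * TwoEnd.Dat.a t y := fun k hk => (d.comm_a hk).symm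
  have hycen : ¬ ∀ k ∈ K, y * k = k * y := fun h => d.g_mul_ne (h g hgK).symm
  have hy1 : y ≠ 1 := by
    rintro rfl
    exact hycen fun k _ => by rw [one_mul, mul_one]
  have hbA : TwoEnd.Dat.b t y ∈ A := by
    have := h3.mem y hyP _ htt' 1 T.one_mem
    have e1 : TwoEnd.Dat.b t y = t * t * y * (t * t)⁻¹ * (1 * y * 1⁻¹) := by
      unfold TwoEnd.Dat.b; rw [htti, inv_inv]; group
    exact e1 ▸ this
  have hne : ∃ a ∈ A, ∃ x ∈ K, a * x ≠ x * a := by
    push Not at hycen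
    obtain ⟨x, hx, hyx⟩ := hycen
    refine ⟨TwoEnd.Dat.b t y, hbA, x, hx, fun h1 => hyx ?_⟩
    have h4 := d.comm' hx hyK
    have h5 : t⁻¹ * y * t * (y * x) = t⁻¹ * y * t * (x * y) := by
      calc t⁻¹ * y * t * (y * x) = TwoEnd.Dat.b t y * x := by unfold TwoEnd.Dat.b; group
        _ = x * TwoEnd.Dat.b t y := h1
        _ = x * (t⁻¹ * y * t) * y := by unfold TwoEnd.Dat.b; group
        _ = t⁻¹ * y * t * (x * y) := by rw [h4]; group
    exact mul_left_cancel h5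
  have ha1 : TwoEnd.Dat.a t y ≠ 1 := by
    intro h1
    rw [hba, h1, mul_one, mul_inv_cancel] at hbA
    -- `b = 1` centralises `K`
    have hb1 : TwoEnd.Dat.b t y = 1 := by rw [hba, h1, mul_one, mul_inv_cancel]
    apply hycen
    intro x hx
    have h4 := d.comm' hx hyK
    unfold TwoEnd.Dat.b at hb1
    have h5 : y = (t⁻¹ * y * t)⁻¹ := eq_inv_of_mul_eq_one_right hb1
    have h6 : Commute x (t⁻¹ * y * t) := h4
    have h7 := h6.inv_right.eq
    rw [← h5] at h7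
    exact h7.symm
  -- `K` acts nontrivially on `[M, a]`
  have hnt : ∃ m, ρ y (br (ρ (TwoEnd.Dat.a t y)) m) ≠ br (ρ (TwoEnd.Dat.a t y)) m := by
    by_contra hcon
    push Not at hcon
    exact hycen (c.central_of_cen hA hK hZ hAK hne haA ha1 haK hyK hcon)
  let _ := act ρ
  have hD : ∀ (x : H) (m : Additive M), TwoEnd.D x m = Additive.ofMul (br (ρ x) m.toMul) := by
    intro x m
    change Additive.ofMul (ρ x m.toMul) - m = Additive.ofMul (ρ x m.toMul * m.toMul)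
    have h1 : -m = m := by
      have := c.sq2 m.toMul
      have h2 : m + m = 0 := this
      exact neg_eq_of_add_eq_zero_left h2
    rw [sub_eq_add_neg, h1]
    rfl
  refine d.false_of (M := Additive M) (fun m => c.sq2 m.toMul) ?_ ?_
  · -- (N0)
    refine le_trans ?_ (he.trans_eq (by rw [h3.card]))
    have h1 : ∀ v ∈ TwoEnd.cm (TwoEnd.cm (⊤ : AddSubgroup (Additive M)) (TwoEnd.Dat.a t y)) (TwoEnd.Dat.b t y),
        Additive.toMul v ∈ e := by
      rintro v ⟨w, ⟨m, -, rfl⟩, rfl⟩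
      rw [hD, hD, hba]
      exact c.line0 _ haA t ht _
    refine Nat.card_le_card_of_injective (fun v => (⟨Additive.toMul v.1, h1 v.1 v.2⟩ : e)) ?_
    intro v w hvw
    exact Subtype.ext (congrArg (fun z : e => Additive.ofMul (z : M)) hvw)
  · obtain ⟨m, hm⟩ := hnt
    refine ⟨y, hyK, Additive.ofMul (br (ρ (TwoEnd.Dat.a t y)) m), ⟨Additive.ofMul m, AddSubgroup.mem_top _, ?_⟩, ?_⟩
    · rw [hD]; rfl
    · exact fun h => hm h

/-- **(T2)**: `T` normalises every component `K` with `[K, A] ≠ 1` and (INV5). -/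
theorem torus_le [Finite H] [Finite M] {ρ : H →* MulAut M} {A T : Subgroup H} {e : Subgroup M}
    (c : Cub ρ A T e) (he : Nat.card e ≤ Nat.card T + 1) (sc : Scal A T) (hT : 3 ≤ Nat.card T) {S K : Subgroup H}
    (hK : Cfsg.IsComponent K) (hZ : ∀ z ∈ K, (∀ y ∈ K, z * y = y * z) → z * z = 1 → z = 1)
    (hAK : ∀ a ∈ A, ∀ x ∈ K, a * x * a⁻¹ ∈ K) (hS2 : IsPGroup 2 S) (hS1 : S ⊓ K ≠ ⊥)
    (syl : ∀ Q : Subgroup H, Q ≤ K → IsPGroup 2 Q → S ⊓ K ≤ Q → Q ≤ S)
    (hSA : ∀ x ∈ S, ∀ t ∈ T, x⁻¹ * (t * x * t⁻¹) ∈ A)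
    (hinv : (∀ x ∈ S ⊓ K, x * x = 1) → InvFive K) : T ≤ Subgroup.normalizer (K : Set H) := by
  have hZ' : ∀ x ∈ S ⊓ K, (∀ y ∈ K, x * y = y * x) → x = 1 := by
    intro x hx hc
    obtain ⟨n, hn⟩ := hS2 ⟨x, hx.1⟩
    have hn' : x ^ 2 ^ n = 1 := congrArg Subtype.val hn
    induction n with
    | zero => simpa using hn'
    | succ n ih =>
      have h1 : x ^ 2 ^ n = 1 := by
        refine hZ _ (K.pow_mem hx.2 _) (fun y hy => ?_) ?_
        · exact (Commute.pow_left (hc y hy : Commute x y) _).eq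
        · rw [← pow_two, ← pow_mul, ← pow_succ]; exact hn'
      exact ih (Subtype.ext h1) h1
  rcases torus_component sc hT hK hS1 hZ' hSA with h | h
  · exact h
  · exact (three_false c he sc.sq hK.2 hZ hAK hS2 syl h (hinv h.sq)).elim

end Cfsg.Agent.Omega.Lie.TwoMain
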