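import Cfsg.Agent.Omega.Lie.LayerBT
import Cfsg.Agent.Omega.Lie.CubQ
import Cfsg.Agent.Omega.Lie.TwoMain
import Cfsg.Agent.Omega.Lie.OddAll
import Cfsg.Agent.Omega.Lie.CrdOf
import Cfsg.Agent.Omega.Lie.LQRows

/-!
# NODE LIE: the component theorem in `H = N(R i)/O₂(N(R i))`, over `BTC V R`

For a component `K ≤ H⁰` of `H`, `K / Z(K)` known, with `[K, A] ≠ 1`: `hyp`: `CompB.Hyp` holds and `K / Z(K)` is of Lie
type in characteristic 2.  `perf`: hence `IIa4.Perf`.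
-/

set_option autoImplicit false
set_option linter.unusedSectionVars false

namespace Cfsg.Agent.Omega.Lie.LayerMain

open Subgroup Cfsg Cfsg.Agent.Omega.BTwo Cfsg.Agent.Omega.Lie Cfsg.Agent.Omega.Lie.Quot
open Cfsg.Agent.Omega.Lie.CompB Cfsg.Agent.Omega.Lie.CompT Cfsg.Agent.Omega.Lie.Layer
open Cfsg.Agent.Omega.Lie.OutT Cfsg.Agent.Omega.Lie.InvFiveAll Cfsg.Agent.Omega.KFacts
open Cfsg.Agent.Transfer.FusionBasic

universe u v w

variable {G : Type u} [Group G] [Finite G] {ι : Type w} {V : Subgroup G} {R : ι → Subgroup G} {F : Type v} [Field F]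
  [Finite F] [CharP F 2] {i j : ι} {vv : F → F → G} {t : F → G} {w1 w2 : F → G}

/-- (T2): the exceptional case is impossible. -/
theorem three_false (b : BTC V R) (c : Coord V R i j vv w1 w2) (τ : TorD V R i j vv t)
    (hF : 4 ≤ Nat.card F) (S₁ : Sylow 2 G) (hV : (S₁ : Subgroup G) ≤ normalizer (V : Set G))
    (hR : (S₁ : Subgroup G) ≤ normalizer (R i : Set G)) {K : Subgroup (HQ (R i))} (hK : IsComponent K)
    (hK0 : K ≤ H0 R i) (h2 : 2 ∣ Nat.card K) (h3 : Three (AA V R i j) (TT τ) K (SS R i S₁ ⊓ K))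
    (h5 : InvFive.InvFive K) : False := by
  have sit := ExoBT.sit b.toBT τ (CrdOf.crd c) S₁ c.ne hF hV hR
  have hO := pCore_HQ (R i)
  have hsyl := sit.sylK hK.1 hK0
  have hfM : Finite (CubQ.MM b.toBT i) := by unfold CubQ.MM; infer_instance
  refine TwoMain.three_false (CubQ.cub b hF c τ) (CubQ.card_eV b.toBT c τ) sit.scal.sq hK.2 (fun z hz hc hz2 => ?_)
    (fun a ha x hx => (mem_normalizer_iff.1 (sit.A_le hO hK hK0 h2 ha) x).1 hx) sit.syl.isPGroup
    (fun Q hQK hQ2 hSQ => ?_) h3 h5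
  · exact LQ.eq_one_of_sq_odd (ExoComp.Sit.zodd hO hK z hz hc) hz2
  · rw [hsyl.2.2 Q hSQ hQK hQ2]
    exact inf_le_left

/-- [O(H⁰), A] = 1 -/
theorem oddC (b : BTC V R) (c : Coord V R i j vv w1 w2) (τ : TorD V R i j vv t) (hF : 4 ≤ Nat.card F) :
    OddC V R i j := by
  intro N hN hN0 hnil hodd x hx a ha
  have h1 : normalizer (N : Set (HQ (R i))) = ⊤ := Subgroup.normalizer_eq_top _
  have := hnil
  exact OddAll.centralizes b c τ hF hN0 hodd inferInstance (h1 ▸ le_top) (h1 ▸ le_top) x hx a ha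

/-- **The components `K` with `[K, A] ≠ 1`**: `CompB.Hyp` (so `T` normalises `K`, `A` is inner on `K`), and `K / Z(K)` is
of Lie type in characteristic 2. -/
theorem hyp (KR : KRows.{u}) (b : BTC V R) (c : Coord V R i j vv w1 w2) (τ : TorD V R i j vv t)
    (hF : 4 ≤ Nat.card F) (S₁ : Sylow 2 G) (hV : (S₁ : Subgroup G) ≤ normalizer (V : Set G))
    (hR : (S₁ : Subgroup G) ≤ normalizer (R i : Set G)) {K : Subgroup (HQ (R i))} (hK : IsComponent K)
    (hK0 : K ≤ H0 R i) (hk : IsKnownSimple' (K ⧸ center K)) (hne : ∃ a ∈ AA V R i j, ∃ k ∈ K, a * k ≠ k * a) :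
    Hyp (SS R i S₁) (AA V R i j) (TT τ) K ∧ IsLieTypeChar 2 (K ⧸ center K) :=
  hyp_bt KR b.toBT (CrdOf.crd c) τ c.ne hF S₁ hV hR hK hK0 hk hne
    (fun h h5 => three_false b c τ hF S₁ hV hR hK hK0 (two_dvd KR.odd hK.2) h h5)
    (fun h hZ => LQRows.false_of_outZS_real b hF c τ h hK.2 hne hZ)

/-- `A` acts on every component in `H⁰` as `A ⊓ K`. -/
theorem innC (KR : KRows.{u}) (b : BTC V R) (c : Coord V R i j vv w1 w2) (τ : TorD V R i j vv t)
    (hF : 4 ≤ Nat.card F) (S₁ : Sylow 2 G) (hV : (S₁ : Subgroup G) ≤ normalizer (V : Set G))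
    (hR : (S₁ : Subgroup G) ≤ normalizer (R i : Set G))
    (hk : ∀ K : Subgroup (HQ (R i)), IsComponent K → IsKnownSimple' (K ⧸ center K)) : InnC V R i j := by
  intro K hK hK0
  by_cases hne : ∃ a ∈ AA V R i j, ∃ k ∈ K, a * k ≠ k * a
  · exact InnA.of_hyp (hyp KR b c τ hF S₁ hV hR hK hK0 (hk K hK) hne).1
  · push Not at hne
    exact InnA.of_comm hne

/-- **`U j ≤ [N, N] Q i`, `N = ⟨(U j)^{N(R i)}⟩`.** -/
theorem perf (KR : KRows.{u}) (b : BTC V R) (c : Coord V R i j vv w1 w2) (τ : TorD V R i j vv t)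
    (hF : 4 ≤ Nat.card F) (S₁ : Sylow 2 G) (hV : (S₁ : Subgroup G) ≤ normalizer (V : Set G))
    (hR : (S₁ : Subgroup G) ≤ normalizer (R i : Set G))
    (hk : ∀ K : Subgroup (HQ (R i)), IsComponent K → IsKnownSimple' (K ⧸ center K)) :
    UU V R j ≤ ⁅NU V R i j, NU V R i j⁆ ⊔ QQ (R i) :=
  perf_of b.toBT c.ne (oddC b c τ hF) (innC KR b c τ hF S₁ hV hR hk)

end Cfsg.Agent.Omega.Lie.LayerMain
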