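import Cfsg.Agent.Omega.Lie.ModQS
import Cfsg.Agent.Omega.Lie.OddQ4S
import Cfsg.Agent.Omega.Lie.LayerPerf

/-!
# (h1), SPLIT, `q ≥ 4`: `A` centralises every solvable odd order subgroup of `H⁰` normalised by `A` and `T`

`b : BTS V R`, `C_D(X) ≠ 1` allowed.  `q = 4`: `OddQ4S` (#14316 (2')); `q ≥ 8`: `OddPart.centralizes'` (helper843) with
helper932's `stab_e`, over `BT`.
-/

set_option autoImplicit false
set_option linter.unusedSectionVars false

namespace Cfsg.Agent.Omega.Lie.OddAllS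

open Subgroup Cfsg.Agent.Omega.Lie Cfsg.Agent.Omega.Lie.Quot Cfsg.Agent.Omega.Lie.ModQ Cfsg.Agent.Omega.Lie.ModQS
open Cfsg.Agent.Omega.BTwo hiding ZZ

universe u v w

variable {G : Type u} [Group G] {ι : Type w} {V : Subgroup G} {R : ι → Subgroup G} {F : Type v} [Field F]
  {i j : ι} {vv : F → F → G} {w1 w2 t : F → G}

section

variable {M B : Type u} [AddCommGroup M] [AddCommGroup B]
  [DistribMulAction (NR R i) M] [DistribMulAction (NR R i) B] [DistribMulAction (HQ (R i)) M] {p : G → M}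
  {r : G → B} {f : M →+ M →+ B} (m : ModQ V R i M B p r f)
include m

/-- `C_H(T)` stabilises `e`, `q ≥ 8` -/
theorem stab_e' [Finite F] (b : BT V R) (τ : TorD V R i j vv t) (h5 : 5 ≤ Nat.card F) {x : HQ (R i)}
    (hx : ∀ s ∈ TT τ, s * x * s⁻¹ = x) : ∀ d ∈ m.sb V, x • d ∈ m.sb V := by
  obtain ⟨β, hβ, hβ1, hβ3⟩ := exists_outside h5
  have htwo : ∀ a : F, a + a = 0 := fun a => τ.two b a
  have hneg : ∀ a : F, -a = a := fun a => (eq_neg_of_add_eq_zero_left (htwo a)).symm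
  have hβ2 : 1 + β ≠ 0 := by
    intro h
    apply hβ1
    have h1 := eq_neg_of_add_eq_zero_right h
    rw [h1, hneg]
  set s2 := tq τ hβ2 with hs2
  set s := tq τ hβ with hs
  -- the operators
  let Dp : M → M := fun a => s2 • a - (a + s • a)
  let Φ : M → M := fun a => s • Dp (Dp a) - Dp (Dp a)
  have hcomm : ∀ {z : HQ (R i)}, z ∈ TT τ → ∀ a : M, z • x • a = x • z • a := by
    intro z hz a
    have h1 := hx z hz
    rw [mul_inv_eq_iff_eq_mul] at h1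
    rw [smul_smul, smul_smul, h1]
  have hD : ∀ a : M, Dp (x • a) = x • Dp a := by
    intro a
    change s2 • x • a - (x • a + s • x • a) = x • (s2 • a - (a + s • a))
    rw [hcomm (tq_mem τ hβ2), hcomm (tq_mem τ hβ), smul_sub, smul_add]
  have hΦx : ∀ a : M, Φ (x • a) = x • Φ a := by
    intro a
    change s • Dp (Dp (x • a)) - Dp (Dp (x • a)) = x • (s • Dp (Dp a) - Dp (Dp a))
    rw [hD, hD, hcomm (tq_mem τ hβ)]
    exact (smul_sub x _ _).symm
  have hDU : ∀ a : M, Dp a ∈ m.sb (UU V R i) := by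
    intro a
    obtain ⟨w, hw, rfl⟩ := m.p_surj a
    exact m.drop τ hβ hβ2 hw (τ.wW 1 β one_ne_zero hβ hβ2 w hw)
  have hDD : ∀ a ∈ m.sb (UU V R i), Dp a ∈ m.sb (DD V R) := by
    rintro _ ⟨w, hw, hwW, rfl⟩
    exact m.drop τ hβ hβ2 hwW (τ.wU 1 β one_ne_zero hβ hβ2 w hw)
  have hΦe : ∀ a : M, Φ a ∈ m.sb V := by
    intro a
    obtain ⟨d, hd, hdW, e⟩ := hDD _ (hDU a)
    change s • Dp (Dp a) - Dp (Dp a) ∈ m.sb V
    have hn : t β * d * (t β)⁻¹ ∈ WW V (R i) :=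
      conj_mem_of_normalizer (normalizer_le_WW V (R i) (τ.normR hβ)) hdW
    rw [← e, m.tq_act τ hβ hdW, sub_eq_add_neg, ← m.p_inv hdW, ← m.p_mul _ hn _ (inv_mem hdW)]
    exact m.p_mem (mul_mem hn (inv_mem hdW)) (b.XD (τ.memX β hβ) hd)
  -- `Φ` on `e`
  have hv : ∀ y z, vv y z ∈ V := fun y z => (τ.v_mem _).2 ⟨_, _, rfl⟩
  have hvW : ∀ y z, vv y z ∈ WW V (R i) := fun y z => V_le_WW V (R i) (hv y z)
  have hp0 : ∀ y z, p (vv y z) = p (vv 0 z) := by
    intro y z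
    rw [m.p_eq_iff (hvW _ _) (hvW _ _)]
    have h1 := τ.v_add y 0 0 z
    rw [add_zero, zero_add] at h1
    rw [h1, mul_inv_cancel_right]
    exact (τ.Ri _).2 ⟨y, rfl⟩
  have hpa : ∀ z z', p (vv 0 z) + p (vv 0 z') = p (vv 0 (z + z')) := by
    intro z z'
    rw [← m.p_mul _ (hvW _ _) _ (hvW _ _), ← τ.v_add, add_zero]
  have hpn : ∀ z, - p (vv 0 z) = p (vv 0 z) := fun z =>
    (eq_neg_of_add_eq_zero_left (m.two_M b _)).symm
  have hts : ∀ {a : F} (ha : a ≠ 0) (z : F), tq τ ha • p (vv 0 z) = p (vv 0 (a⁻¹ * z)) := by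
    intro a ha z
    rw [m.tq_act τ ha (hvW _ _), τ.act a 0 z ha, mul_zero]
  have hDe : ∀ z, Dp (p (vv 0 z)) = p (vv 0 (((1 + β)⁻¹ + (1 + β⁻¹)) * z)) := by
    intro z
    change s2 • p (vv 0 z) - (p (vv 0 z) + s • p (vv 0 z)) = _
    rw [hts, hts, hpa, sub_eq_add_neg, hpn, hpa]
    congr 2
    ring
  have hΦv : ∀ z, Φ (p (vv 0 z)) = p (vv 0 ((β⁻¹ + 1) * (((1 + β)⁻¹ + (1 + β⁻¹)) *
      (((1 + β)⁻¹ + (1 + β⁻¹)) * z)))) := by
    intro z
    change s • Dp (Dp (p (vv 0 z))) - Dp (Dp (p (vv 0 z))) = _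
    rw [hDe, hDe, hts, sub_eq_add_neg, hpn, hpa]
    congr 2
    ring
  have hκ : (1 + β)⁻¹ + (1 + β⁻¹) ≠ 0 := by
    intro h
    apply hβ3
    have h1 : β + ((1 + β) * β + (1 + β)) = 0 := by
      have h2 : (1 + β) * β * ((1 + β)⁻¹ + (1 + β⁻¹)) = β + ((1 + β) * β + (1 + β)) := by
        field_simp
      rw [← h2, h, mul_zero]
    have h3 : β + β = 0 := htwo β
    linear_combination h1 - h3
  have hκ' : β⁻¹ + 1 ≠ 0 := by
    intro h
    apply hβ1
    have h1 := eq_neg_of_add_eq_zero_left h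
    rw [hneg] at h1
    rw [← inv_inv β, h1, inv_one]
  generalize (1 + β)⁻¹ + (1 + β⁻¹) = κ at hκ hΦv
  generalize β⁻¹ + 1 = κ' at hκ' hΦv
  intro d hd
  obtain ⟨y, hy, -, rfl⟩ := hd
  obtain ⟨y1, z, rfl⟩ := (τ.v_mem y).1 hy
  have h1 : p (vv y1 z) = Φ (p (vv 0 (κ⁻¹ * (κ⁻¹ * (κ'⁻¹ * z))))) := by
    rw [hΦv, hp0]
    congr 2
    field_simp
  rw [h1, ← hΦx]
  exact hΦe _

/-- `C_H(T)` normalises `A`, `q ≥ 8` -/
theorem cen_T_norm_A' [Finite F] (b : BT V R) (τ : TorD V R i j vv t) (h5 : 5 ≤ Nat.card F) {x : HQ (R i)}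
    (hx : ∀ s ∈ TT τ, s * x * s⁻¹ = x) : x ∈ normalizer (AA V R i j : Set (HQ (R i))) := by
  have hx' : ∀ s ∈ TT τ, s * x⁻¹ * s⁻¹ = x⁻¹ := by
    intro s hs
    have h1 := hx s hs
    calc s * x⁻¹ * s⁻¹ = (s * x * s⁻¹)⁻¹ := by group
      _ = x⁻¹ := by rw [h1]
  have h1 := stab_e' m b τ h5 hx
  have h2 := stab_e' m b τ h5 hx'
  rw [mem_normalizer_iff]
  intro a
  refine ⟨fun ha => m.norm_of_stab b τ.ne h1 h2 ha, fun ha => ?_⟩
  have h3 := m.norm_of_stab (x := x⁻¹) b τ.ne h2 (by rw [inv_inv]; exact h1) ha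
  have e : x⁻¹ * (x * a * x⁻¹) * x⁻¹⁻¹ = a := by group
  rwa [e] at h3

end

/-- **#14316 (2')**: `q = 4` -/
theorem centralizes4 [Finite G] [Finite F] [CharP F 2] (b : BTS V R) (c : Coord V R i j vv w1 w2)
    (τ : TorD V R i j vv t) (hidx : Odd ((normalizer (V : Set G)).relIndex (normalizer (R i : Set G))))
    (hF : Nat.card F = 4) {Y : Subgroup (HQ (R i))} (hY : Y ≤ H0 R i)
    (hodd : Odd (Nat.card Y)) (hsol : Group.IsSolvable Y) (hA : AA V R i j ≤ normalizer (Y : Set (HQ (R i))))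
    (hT : TT τ ≤ normalizer (Y : Set (HQ (R i)))) :
    ∀ y ∈ Y, ∀ a ∈ AA V R i j, a * y = y * a := by
  obtain ⟨w, hw0, hw1, hw⟩ := OddQ4BT.exists_omega hF
  obtain ⟨M, B, _, _, _, _, _, p, r, f, m⟩ := exists_modQ b.toBT i
  have hfin := m.finite_M
  have hij := c.ne
  have hne : ∃ a : F, a ≠ 0 ∧ a ≠ 1 := ⟨w, hw0, hw1⟩
  have htT := ModQ.tq_mem τ hw0
  refine OddQ4.centralizes' (M := M) (R := B) (m.two_M b.toBT) (m.two_B b.toBT) ?_ f (m.f_self b.toBT)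
    (A := AA V R i j) (Hh := HA V R i j) (Y := Y) (t := ModQ.tq τ hw0)
    (fun a ha => A_sq b.toBT hij ha) (tq_cube b.toBT τ hw0 hw) ?_ (fun a ha => A_sum b.toBT τ hw0 hw ha) hA
    (hT htT) hodd hsol A_le_HA ?_ (fun x hx u v => m.f_act b.toBT (HA_le_H0 b.toBT j hx) u v)
    m.rad (D1 m) (m.sb V) (fun x hx v hv => m.smul_rad b.toBT (HA_le_H0 b.toBT j hx) hv)
    (fun v R₀ hR₀ h => m.mem_rad_of b.toBT hR₀ h) (fun a ha x => quad4 m b τ hw0 hw ha x)
    ((m.card_e τ).trans hF.le) (fun v hv hr => e_rad m b.toBT hv hr) (fun a ha v hv => A_e m b.toBT ha hv)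
    (fun a ha v hv => A_rad m b hij ha hv) (fun v hv => T_D1 m τ htT hv)
    (fun v hv => ⟨T_mem_e m b.toBT τ htT hv, T_e_sum m b.toBT τ hw0 hw hv⟩)
    (fun a ha ha1 v hv => lemN m b hne c τ hidx ha ha1 hv)
    (fun x hx h y hy => m.norm_of_fix b.toBT hij (HA_le_H0 b.toBT j hx) h hy)
  · -- |R i| = 4
    rw [m.card_B]
    have h1 : Nat.card F ≤ Nat.card (R i) := by
      refine Nat.card_le_card_of_injective (fun β : F => (⟨vv β 0, (τ.Ri _).2 ⟨β, rfl⟩⟩ : R i)) ?_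
      intro β β' h
      exact (c.v_inj (congrArg Subtype.val h)).1
    omega
  · -- t normalises A
    rw [mem_normalizer_iff]
    intro a
    refine ⟨fun ha => TA_mem b.toBT τ htT ha, fun ha => ?_⟩
    have h1 := TA_mem b.toBT τ (inv_mem htT) ha
    have e : (ModQ.tq τ hw0)⁻¹ * (ModQ.tq τ hw0 * a * (ModQ.tq τ hw0)⁻¹) * (ModQ.tq τ hw0)⁻¹⁻¹ = a := by group
    rwa [e] at h1
  · -- conjugates
    intro y hy a ha
    exact conj_mem_HA (hY hy) ha

/-- **`A` centralises every solvable subgroup of odd order of `H⁰` normalised by `A` and `T`**, `q ≥ 4`. -/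
theorem centralizes [Finite G] [Finite F] [CharP F 2] (b : BTS V R) (c : Coord V R i j vv w1 w2)
    (τ : TorD V R i j vv t) (hidx : Odd ((normalizer (V : Set G)).relIndex (normalizer (R i : Set G))))
    (hF : 4 ≤ Nat.card F) {Y : Subgroup (HQ (R i))} (hY : Y ≤ H0 R i)
    (hodd : Odd (Nat.card Y)) (hsol : Group.IsSolvable Y) (hA : AA V R i j ≤ normalizer (Y : Set (HQ (R i))))
    (hT : TT τ ≤ normalizer (Y : Set (HQ (R i)))) :
    ∀ y ∈ Y, ∀ a ∈ AA V R i j, a * y = y * a := by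
  rcases hF.lt_or_eq with h5 | h4
  · obtain ⟨M, B, _, _, _, _, _, p, r, f, m⟩ := exists_modQ b.toBT i
    have hsq : ∀ a ∈ AA V R i j, a * a = 1 := fun a ha => A_sq b.toBT c.ne ha
    have hTA : TT τ ≤ normalizer (AA V R i j : Set (HQ (R i))) := by
      intro s hs
      rw [mem_normalizer_iff]
      intro a
      refine ⟨fun ha => TA_mem b.toBT τ hs ha, fun ha => ?_⟩
      have h1 := TA_mem b.toBT τ (inv_mem hs) ha
      have e : s⁻¹ * (s * a * s⁻¹) * s⁻¹⁻¹ = a := by group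
      rwa [e] at h1
    refine OddPart.centralizes' hsq hTA ?_ hodd hsol hA hT fun x _ hx => cen_T_norm_A' m b.toBT τ h5 hx
    refine OddPart.semi_of_fpf hsq hTA (fun s hs => OddAll.odd_TT τ hs) ?_
    intro s hs hs1 a ha h
    by_contra ha1
    apply hs1
    refine T_reg b.toBT τ c.ne ha ha1 hs ?_
    rw [h, mul_inv_cancel_right]
  · exact centralizes4 b c τ hidx h4.symm hY hodd hsol hA hT

/-- the hypothesis `OddC` of `LayerPerf.lean` -/
theorem oddC [Finite G] [Finite F] [CharP F 2] (b : BTS V R) (c : Coord V R i j vv w1 w2)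
    (τ : TorD V R i j vv t) (hidx : Odd ((normalizer (V : Set G)).relIndex (normalizer (R i : Set G))))
    (hF : 4 ≤ Nat.card F) : Layer.OddC V R i j := by
  intro N hN hN0 hnil hodd x hx a ha
  refine centralizes b c τ hidx hF hN0 hodd ?_ ?_ ?_ x hx a ha
  · have := hnil
    infer_instance
  · rw [normalizer_eq_top_iff.2 hN]; exact le_top
  · rw [normalizer_eq_top_iff.2 hN]; exact le_top

end Cfsg.Agent.Omega.Lie.OddAllS
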