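import Cfsg.Agent.Omega.Lie.LayerBT
import Cfsg.Agent.Omega.Lie.CrdOf
import Cfsg.Agent.Omega.Lie.LQRows
import Cfsg.Agent.Omega.Lie.OddAllS
import Cfsg.Agent.Omega.Lie.CubSQ

/-!
# (h1), SPLIT: the component theorem in `H = N(R i)/O₂(N(R i))`, over `BTS V R` (`C_D(X) ≠ 1` allowed), `q ≥ 4`

For a component `K ≤ H⁰` of `H`, `K / Z(K)` known, with `[K, A] ≠ 1`: `hyp`: `CompB.Hyp` holds (so `T` normalises `K`, `A` is
inner on `K`) and `K / Z(K)` is of Lie type in characteristic 2.  `innC`, `oddC`; `A_le_iSup`: `A ≤ ∏ (A ⊓ K)`; `perf`.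
-/

set_option autoImplicit false
set_option linter.unusedSectionVars false

namespace Cfsg.Agent.Omega.Lie.LayerS

open Subgroup Cfsg Cfsg.Agent.Omega.BTwo Cfsg.Agent.Omega.Lie Cfsg.Agent.Omega.Lie.Quot
open Cfsg.Agent.Omega.Lie.CompB Cfsg.Agent.Omega.Lie.CompT Cfsg.Agent.Omega.Lie.Layer
open Cfsg.Agent.Omega.Lie.OutT Cfsg.Agent.Omega.KFacts Cfsg.Agent.Omega.Lie.LayerMain
open Cfsg.Agent.Omega.Lie.LQS

universe u v w

/-- **TEXT LIE-2** for `CubS`: no component with `[K, A] ≠ 1` and `K / Z(K)` in `OutZS`. -/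
theorem false_of_outZS {H : Type u} {M : Type v} [Group H] [CommGroup M] [Finite H] [Finite M]
    {ρ : H →* MulAut M} {L A T : Subgroup H} {e D P : Subgroup M} (c : CubS ρ L A T e D P) (sc : Scal A T)
    (hT : 3 ≤ Nat.card T) {S K : Subgroup H} (h : CompB.Hyp S A T K) (hK : Cfsg.IsQuasisimple K) (hKL : K ≤ L)
    (hne : ∃ a ∈ A, ∃ x ∈ K, a * x ≠ x * a) (hO : OutZS (K ⧸ center K)) : False := by
  obtain ⟨j, hj, h1, h2, h3⟩ := LQRows.data hO
  have hZ := LQ.odd_card_center h.zodd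
  exact c.false_of_pair sc hT h hK hKL hne hj (LQRows.card_le_of_not_dvd h.S2 hZ h1) (LQ.Pair.of_quot hZ h2)
    (LQ.NoAct.of_ord hK h3)

variable {G : Type u} [Group G] [Finite G] {ι : Type w} {V : Subgroup G} {R : ι → Subgroup G} {F : Type v} [Field F]
  [Finite F] [CharP F 2] {i j : ι} {vv : F → F → G} {t : F → G} {w1 w2 : F → G}

/-- (T2): the exceptional case is impossible. -/
theorem three_false (b : BTS V R) (c : Coord V R i j vv w1 w2) (τ : TorD V R i j vv t)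
    (hidx : Odd ((normalizer (V : Set G)).relIndex (normalizer (R i : Set G))))
    (hF : 4 ≤ Nat.card F) (S₁ : Sylow 2 G) (hV : (S₁ : Subgroup G) ≤ normalizer (V : Set G))
    (hR : (S₁ : Subgroup G) ≤ normalizer (R i : Set G)) {K : Subgroup (HQ (R i))} (hK : IsComponent K)
    (hK0 : K ≤ H0 R i) (h3 : Three (AA V R i j) (TT τ) K (SS R i S₁ ⊓ K)) (h5 : InvFive.InvFive K) : False := by
  have sit := ExoBT.sit b.toBT τ (CrdOf.crd c) S₁ c.ne hF hV hR
  have hsyl := sit.sylK hK.1 hK0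
  obtain ⟨M, _, _, ρ, e, D, P, C, he⟩ := CubSQ.exists_cubS b hF c τ hidx
  refine C.three_false he hK.2 hK0 (fun z hz hc hz2 => ?_) sit.syl.isPGroup (fun Q hQK hQ2 hSQ => ?_) h3 h5
  · exact LQ.eq_one_of_sq_odd (ExoComp.Sit.zodd (pCore_HQ (R i)) hK z hz hc) hz2
  · rw [hsyl.2.2 Q hSQ hQK hQ2]
    exact inf_le_left

theorem zs_false (b : BTS V R) (c : Coord V R i j vv w1 w2) (τ : TorD V R i j vv t)
    (hidx : Odd ((normalizer (V : Set G)).relIndex (normalizer (R i : Set G)))) (hF : 4 ≤ Nat.card F)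
    {S K : Subgroup (HQ (R i))} (h : CompB.Hyp S (AA V R i j) (TT τ) K) (hK : IsQuasisimple K) (hK0 : K ≤ H0 R i)
    (hne : ∃ a ∈ AA V R i j, ∃ x ∈ K, a * x ≠ x * a) (hO : OutZS (K ⧸ center K)) : False := by
  obtain ⟨M, _, _, ρ, e, D, P, C, -⟩ := CubSQ.exists_cubS b hF c τ hidx
  have hT := card_T b.toBT τ
  exact false_of_outZS C (scal b.toBT τ c.ne) (by omega) h hK hK0 hne hO

/-- **The components `K ≤ H⁰` with `[K, A] ≠ 1`** for `b : BTS V R`: `CompB.Hyp`, and `K / Z(K)` is of Lie type in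
characteristic 2. -/
theorem hyp (KR : KRows.{u}) (b : BTS V R) (c : Coord V R i j vv w1 w2) (τ : TorD V R i j vv t)
    (hidx : Odd ((normalizer (V : Set G)).relIndex (normalizer (R i : Set G))))
    (hF : 4 ≤ Nat.card F) (S₁ : Sylow 2 G) (hV : (S₁ : Subgroup G) ≤ normalizer (V : Set G))
    (hR : (S₁ : Subgroup G) ≤ normalizer (R i : Set G)) {K : Subgroup (HQ (R i))} (hK : IsComponent K)
    (hK0 : K ≤ H0 R i) (hk : IsKnownSimple' (K ⧸ center K)) (hne : ∃ a ∈ AA V R i j, ∃ k ∈ K, a * k ≠ k * a) :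
    Hyp (SS R i S₁) (AA V R i j) (TT τ) K ∧ IsLieTypeChar 2 (K ⧸ center K) :=
  hyp_bt KR b.toBT (CrdOf.crd c) τ c.ne hF S₁ hV hR hK hK0 hk hne
    (fun h h5 => three_false b c τ hidx hF S₁ hV hR hK hK0 h h5)
    (fun h hZ => zs_false b c τ hidx hF h hK.2 hK0 hne hZ)

/-- `A` acts on every component in `H⁰` as `A ⊓ K`. -/
theorem innC (KR : KRows.{u}) (b : BTS V R) (c : Coord V R i j vv w1 w2) (τ : TorD V R i j vv t)
    (hidx : Odd ((normalizer (V : Set G)).relIndex (normalizer (R i : Set G))))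
    (hF : 4 ≤ Nat.card F) (S₁ : Sylow 2 G) (hV : (S₁ : Subgroup G) ≤ normalizer (V : Set G))
    (hR : (S₁ : Subgroup G) ≤ normalizer (R i : Set G))
    (hk : ∀ K : Subgroup (HQ (R i)), IsComponent K → IsKnownSimple' (K ⧸ center K)) : InnC V R i j := by
  intro K hK hK0
  by_cases hne : ∃ a ∈ AA V R i j, ∃ k ∈ K, a * k ≠ k * a
  · exact InnA.of_hyp (hyp KR b c τ hidx hF S₁ hV hR hK hK0 (hk K hK) hne).1
  · push Not at hne
    exact InnA.of_comm hne

/-- **`A ≤ ∏ (A ⊓ K)`**, the product over the components `K ≤ H⁰`. -/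
theorem A_le_iSup (KR : KRows.{u}) (b : BTS V R) (c : Coord V R i j vv w1 w2) (τ : TorD V R i j vv t)
    (hidx : Odd ((normalizer (V : Set G)).relIndex (normalizer (R i : Set G))))
    (hF : 4 ≤ Nat.card F) (S₁ : Sylow 2 G) (hV : (S₁ : Subgroup G) ≤ normalizer (V : Set G))
    (hR : (S₁ : Subgroup G) ≤ normalizer (R i : Set G))
    (hk : ∀ K : Subgroup (HQ (R i)), IsComponent K → IsKnownSimple' (K ⧸ center K)) :
    AA V R i j ≤ ⨆ K ∈ {K : Subgroup (HQ (R i)) | Cps (H0 R i) K}, AA V R i j ⊓ K :=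
  Layer.A_le_iSup b.toBT c.ne (OddAllS.oddC b c τ hidx hF) (innC KR b c τ hidx hF S₁ hV hR hk)

/-- **`U j ≤ [N, N] Q i`, `N = ⟨(U j)^{N(R i)}⟩`.** -/
theorem perf (KR : KRows.{u}) (b : BTS V R) (c : Coord V R i j vv w1 w2) (τ : TorD V R i j vv t)
    (hidx : Odd ((normalizer (V : Set G)).relIndex (normalizer (R i : Set G))))
    (hF : 4 ≤ Nat.card F) (S₁ : Sylow 2 G) (hV : (S₁ : Subgroup G) ≤ normalizer (V : Set G))
    (hR : (S₁ : Subgroup G) ≤ normalizer (R i : Set G))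
    (hk : ∀ K : Subgroup (HQ (R i)), IsComponent K → IsKnownSimple' (K ⧸ center K)) :
    UU V R j ≤ ⁅NU V R i j, NU V R i j⁆ ⊔ QQ (R i) :=
  perf_of b.toBT c.ne (OddAllS.oddC b c τ hidx hF) (innC KR b c τ hidx hF S₁ hV hR hk)

end Cfsg.Agent.Omega.Lie.LayerS
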