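import Cfsg.Agent.Omega.Lie.LayerMain
import Cfsg.Agent.Omega.Node.LeafA4

/-!
# NODE LIE, LAYER: `LayP` (`Node/LeafA4.lean`) from the K-facts `KRows`
-/

set_option autoImplicit false
set_option linter.unusedSectionVars false

namespace Cfsg.Agent.Omega.Lie.LayerSit

open Subgroup Cfsg Cfsg.Agent.ZN Cfsg.Agent.Omega.NatPair Cfsg.Agent.Omega.BTwo
open Cfsg.Agent.Omega.Frame Cfsg.Agent.Omega.FrameFF Cfsg.Agent.Omega.Lie Cfsg.Agent.Omega.Lie.Quot
open Cfsg.Agent.Omega.IIa4 Cfsg.Agent.Omega.Lie.LayerMain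

universe u

variable {G : Type u} [Group G] [Finite G] {S : Sylow 2 G} {P : Subgroup G} {g : G} {F : Type} [Field F]
  [Finite F] [CharP F 2] {M : NatMod F (zl (S : Subgroup G) P)}

theorem normalizer_ne_top (h : Sit S P g M) (i : Pt M) : normalizer (pt M i : Set G) ≠ ⊤ := by
  intro h1
  have hs := h.ctx.simple
  have h2 : (pt M i).Normal := normalizer_eq_top_iff.mp h1
  have h3 : pt M i = ⊤ := h2.eq_bot_or_eq_top.resolve_left (h.bt.R_ne i)
  have h4 : zl (S : Subgroup G) P = ⊤ := top_le_iff.1 (h3 ▸ h.bt.R_le i)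
  exact h.ctx.nonComm ⟨⟨fun a b => h.bt.V_comm a (h4 ▸ mem_top a) b (h4 ▸ mem_top b)⟩⟩

/-- the components of `N(R i)/O₂(N(R i))` are known -/
theorem known (h : Sit S P g M) (i : Pt M) (K : Subgroup (HQ (pt M i))) (hK : IsComponent K) :
    IsKnownSimple' (K ⧸ center K) :=
  LayerKnown.known h.ctx.kproper (normalizer_ne_top h i) hK.2

/-- **LAYER at every pair of points.** -/
theorem layAll (KR : KRows.{u}) (h : Sit S P g M) : LayAll (zl (S : Subgroup G) P) (pt M) F := by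
  intro i j hij v w1 w2 t c τ S₁ hV hR
  refine ⟨oddC h.btc c τ h.four, fun K hK => ?_, fun K hK => ?_⟩
  · exact (hyp KR h.btc c τ h.four S₁ hV hR hK.1 hK.2.1 (known h i K hK.1) hK.2.2).1
  · exact (hyp KR h.btc c τ h.four S₁ hV hR hK.1 hK.2.1 (known h i K hK.1) hK.2.2).2

/-- **LAYER**, the interface of `Node/LeafA4.lean`, for every class. -/
theorem layP {K : Cls.{u}} (KR : KRows.{u}) : LayP K := fun _ _ _ _ _ _ _ _ _ _ _ _ h => layAll KR h

end Cfsg.Agent.Omega.Lie.LayerSit
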