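import Cfsg.Agent.Omega.Lie.LemT

/-!
# NODE LIE: LEMMA T for subnormal `N` (R1 of bb OMEGA #13121)

`N` subnormal in `N(R i)`, `N ≤ C(R i)`; `P ≤ N` covered by `C(V)` modulo `Q i`, normalised by `U j` and
centralised by the torus modulo `Q i`: then `P ≤ Q i`.
-/

set_option autoImplicit false

namespace Cfsg.Agent.Omega.Lie.LemT

open Subgroup Cfsg.Agent.Omega.BTwo
open scoped Pointwise

variable {G : Type*} [Group G] {ι : Type*} {F : Type*} [Field F]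
  {V : Subgroup G} {R : ι → Subgroup G} {i j : ι} {v : F → F → G} {t : F → G}

theorem KT_le_Q_sub [Finite G] (b : BTC V R) {N : Subgroup G} (hN : N ≤ centralizer (R i : Set G))
    (hs : (N.subgroupOf (normalizer (R i : Set G))).IsSubnormal) : KT V R i N ≤ QQ (R i) := by
  refine le_O2_of_isSubnormal ((inf_le_left.trans inf_le_left).trans
    (hN.trans (centralizer_le_normalizer _))) (KT_isPGroup b hN) ?_
  refine subnormal_step (inf_le_left.trans inf_le_left) hs ?_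
  intro g hg a ha
  have hgR : g ∈ normalizer (R i : Set G) := centralizer_le_normalizer _ (hN hg)
  have hgW := normalizer_le_WW V (R i) hgR
  have hgC : g ∈ normalizer (centralizer (WW V (R i) : Set G) : Set G) :=
    normalizer_le_normalizer_centralizer _ hgW
  obtain ⟨⟨haN, ha1⟩, ha2⟩ := ha
  have n1 : g * a * g⁻¹ ∈ normalizer (centralizer (WW V (R i) : Set G) : Set G) :=
    mul_mem (mul_mem hgC ha1.1) (inv_mem hgC)
  have n2 : g * a * g⁻¹ ∈ normalizer (R i : Set G) := mul_mem (mul_mem hgR ha2.1) (inv_mem hgR)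
  have n3 : g * a * g⁻¹ ∈ N := mul_mem (mul_mem hg haN) (inv_mem hg)
  refine ⟨⟨n3, n1, fun w hw => ?_⟩, n2, fun w hw => ?_⟩
  · have h1 := conj_mem_of_normalizer hgC (ha1.2 _ (conj_inv_mem_of_normalizer hgW hw))
    have e : g * (a * (g⁻¹ * w * g) * a⁻¹ * (g⁻¹ * w * g)⁻¹) * g⁻¹ =
        g * a * g⁻¹ * w * (g * a * g⁻¹)⁻¹ * w⁻¹ := by group
    rwa [e] at h1
  · have hw' : g⁻¹ * w * g ∈ WW V (R i) ⊓ centralizer (WW V (R i) : Set G) :=
      mem_inf.2 ⟨conj_inv_mem_of_normalizer hgW hw.1, conj_inv_mem_of_normalizer hgC hw.2⟩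
    have h1 := conj_mem_of_normalizer hgR (ha2.2 _ hw')
    have e : g * (a * (g⁻¹ * w * g) * a⁻¹ * (g⁻¹ * w * g)⁻¹) * g⁻¹ =
        g * a * g⁻¹ * w * (g * a * g⁻¹)⁻¹ * w⁻¹ := by group
    rwa [e] at h1

/-- **LEMMA T**, subnormal form (`#13121`, R1) -/
theorem lemT_sub [Finite G] [Finite F] (b : BTC V R) (τ : TorD V R i j v t) (h5 : 5 ≤ Nat.card F)
    {N P : Subgroup G} (hN : N ≤ centralizer (R i : Set G))
    (hs : (N.subgroupOf (normalizer (R i : Set G))).IsSubnormal)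
    (hPN : P ≤ N) (hP : P ≤ (P ⊓ centralizer (V : Set G)) ⊔ QQ (R i))
    (hU : UU V R j ≤ normalizer (P : Set G))
    (hT : ∀ p ∈ P, ∀ a, a ≠ 0 → t a * p * (t a)⁻¹ * p⁻¹ ∈ QQ (R i)) : P ≤ QQ (R i) := by
  have hPR : P ≤ normalizer (R i : Set G) := hPN.trans (hN.trans (centralizer_le_normalizer _))
  have h1 := step_one b τ h5 hPR hU hT
  refine hP.trans (sup_le ?_ le_rfl)
  rintro p ⟨hp, hpV⟩
  have hpj : ∀ u ∈ UU V R j, p * u * p⁻¹ * u⁻¹ ∈ QQ (R i) := by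
    intro u hu
    have e : p * u * p⁻¹ * u⁻¹ = (u * p * u⁻¹ * p⁻¹)⁻¹ := by group
    rw [e]
    exact inv_mem ((h1 hu).2 p hp)
  obtain ⟨h2, h3⟩ := main_aux b τ h5 hpV hpj (hT p hp)
  refine KT_le_Q_sub b hN hs ⟨⟨hPN hp, ?_, h3⟩, hPR hp, ?_⟩
  · exact normalizer_le_normalizer_centralizer _ (normalizer_le_WW V (R i) (hPR hp))
  · intro z hz
    exact h2 z (mem_inf.2 ⟨hz.1, cen_W_le V (R i) hz.2⟩)

/-- **LEMMA T**, subnormal form, for `P = P₀ W i ∩ N`, `U j ≤ P₀ ≤ C(V)` (`P₀ W i` = a Sylow 2-subgroup of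
`C(R i)`, `TorS.cen_fact`) -/
theorem lemT_syl [Finite G] [Finite F] (b : BTC V R) (τ : TorD V R i j v t) (h5 : 5 ≤ Nat.card F)
    {N P₀ : Subgroup G} (hN : N ≤ centralizer (R i : Set G))
    (hs : (N.subgroupOf (normalizer (R i : Set G))).IsSubnormal) (hW : WW V (R i) ≤ N)
    (hP₀ : P₀ ≤ centralizer (V : Set G)) (hUP : UU V R j ≤ P₀) (hUN : UU V R j ≤ normalizer (N : Set G))
    (hT : ∀ p ∈ (P₀ ⊔ WW V (R i)) ⊓ N, ∀ a, a ≠ 0 → t a * p * (t a)⁻¹ * p⁻¹ ∈ QQ (R i)) :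
    (P₀ ⊔ WW V (R i)) ⊓ N ≤ QQ (R i) := by
  refine lemT_sub b τ h5 hN hs inf_le_right ?_ ?_ hT
  · rintro p ⟨hp, hpN⟩
    have hnorm : P₀ ≤ normalizer (WW V (R i) : Set G) := hP₀.trans (b.cen_le_NW i)
    have h1 : ((P₀ ⊔ WW V (R i) : Subgroup G) : Set G) = (P₀ : Set G) * (WW V (R i) : Set G) :=
      coe_mul_of_left_le_normalizer_right _ _ hnorm
    have h2 : p ∈ ((P₀ ⊔ WW V (R i) : Subgroup G) : Set G) := hp
    rw [h1] at h2
    obtain ⟨x, hx, w, hw, rfl⟩ := h2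
    have hxN : x ∈ N := by
      have : x = x * w * w⁻¹ := by group
      rw [this]
      exact mul_mem hpN (inv_mem (hW hw))
    refine mul_mem (mem_sup_left ⟨⟨mem_sup_left hx, hxN⟩, hP₀ hx⟩) (mem_sup_right (b.W_le_Q i hw))
  · intro u hu
    rw [← cj_eq_self_iff, cj_inf, cj_eq_self_iff.2 (hUN hu),
      cj_eq_self_iff.2 (le_normalizer (mem_sup_left (hUP hu)))]

end Cfsg.Agent.Omega.Lie.LemT
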