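import Mathlib.GroupTheory.Index
import Mathlib.Algebra.BigOperators.Group.Finset.Basic
import Mathlib.SetTheory.Cardinal.NatCard
import Mathlib.Tactic

/-!
# (T1) of bb OMEGA #12098: `A` normalises every component

`H` a group, `A` an elementary abelian 2-subgroup normalised by `S`, `T` a finite nontrivial group normalising `A`,
every `1 ≠ t ∈ T` acts fixed point freely on `A`.  `K` is a subgroup such that for all `g` either `g` normalises
`K` or `[K, K^g] = 1` (a component), without central involutions, and with an involution in `S ∩ K`.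
Then `A` normalises `K`.
-/

set_option autoImplicit false

namespace Cfsg.Agent.Omega.Lie.LemmaT

variable {H : Type*} [Group H]

/-- The abstract setting of TEXT LIE-1, (T1) and (T2). -/
structure Set0 (S A T : Subgroup H) : Prop where
  /-- `A` is elementary abelian -/
  sq : ∀ a ∈ A, a * a = 1
  /-- `A` is normal in `S` -/
  SA : ∀ s ∈ S, ∀ a ∈ A, s * a * s⁻¹ ∈ A
  /-- `T` normalises `A` -/
  TA : ∀ t ∈ T, ∀ a ∈ A, t * a * t⁻¹ ∈ A
  /-- the elements of `T` act fixed point freely on `A` -/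
  free : ∀ t ∈ T, t ≠ 1 → ∀ a ∈ A, t * a * t⁻¹ = a → a = 1

/-- `K` is a component-like subgroup: two conjugates are equal or commute; no central involutions. -/
structure Comp (K : Subgroup H) : Prop where
  conj : ∀ g : H, (∀ y, y ∈ K ↔ g * y * g⁻¹ ∈ K) ∨ ∀ x ∈ K, ∀ y ∈ K, x * (g * y * g⁻¹) = g * y * g⁻¹ * x
  cen : ∀ x ∈ K, x * x = 1 → (∀ y ∈ K, x * y = y * x) → x = 1

namespace Set0

variable {S A T K : Subgroup H}

theorem inv (h : Set0 S A T) {a : H} (ha : a ∈ A) : a⁻¹ = a := inv_eq_of_mul_eq_one_left (h.sq a ha)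

theorem comm (h : Set0 S A T) {a b : H} (ha : a ∈ A) (hb : b ∈ A) : a * b = b * a := by
  have h1 := h.inv (A.mul_mem ha hb)
  rw [mul_inv_rev, h.inv ha, h.inv hb] at h1
  exact h1.symm

/-- an element of `T - 1` does not normalise a subgroup of index two of `A` -/
theorem not_index_two [Finite A] (h : Set0 S A T) {t : H} (ht : t ∈ T) (ht1 : t ≠ 1) {B : Subgroup H}
    {a : H} (ha : a ∈ A) (haB : a ∉ B) (hB : ∀ x ∈ A, x ∈ B ∨ a * x ∈ B)
    (htB : ∀ x ∈ A, x ∈ B ↔ t * x * t⁻¹ ∈ B) : False := by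
  have h0 : ∀ x ∈ A, x * (t * x * t⁻¹) ∈ B := by
    intro x hx
    by_cases hxB : x ∈ B
    · exact B.mul_mem hxB ((htB x hx).1 hxB)
    · have h1 : t * x * t⁻¹ ∉ B := fun h' => hxB ((htB x hx).2 h')
      have h2 := (hB x hx).resolve_left hxB
      have h3 := (hB _ (h.TA t ht x hx)).resolve_left h1
      have h4 : x * (t * x * t⁻¹) = (a * x) * (a * (t * x * t⁻¹)) := by
        rw [h.comm ha hx]
        calc x * (t * x * t⁻¹) = x * (a * a) * (t * x * t⁻¹) := by rw [h.sq a ha, mul_one]
          _ = _ := by group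
      rw [h4]
      exact B.mul_mem h2 h3
  let f : A → A := fun x => ⟨x * (t * x * t⁻¹), A.mul_mem x.2 (h.TA t ht x x.2)⟩
  have hf : Function.Injective f := by
    intro x y hxy
    have h1 : (x : H) * (t * x * t⁻¹) = y * (t * y * t⁻¹) := congrArg Subtype.val hxy
    have h2 : t * ((y : H) * x) * t⁻¹ = y * x := by
      have e1 : (y : H) * x * (t * x * t⁻¹) = t * y * t⁻¹ := by
        calc (y : H) * x * (t * x * t⁻¹) = y * (x * (t * x * t⁻¹)) := by group
          _ = (y * y) * (t * y * t⁻¹) := by rw [h1]; group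
          _ = _ := by rw [h.sq _ y.2, one_mul]
      calc t * ((y : H) * x) * t⁻¹ = (t * y * t⁻¹) * (t * x * t⁻¹) := by group
        _ = y * x * (t * x * t⁻¹) * (t * x * t⁻¹) := by rw [e1]
        _ = y * x * (t * (x * x) * t⁻¹) := by group
        _ = y * x := by rw [h.sq _ x.2]; group
    have h3 := h.free t ht ht1 _ (A.mul_mem y.2 x.2) h2
    apply Subtype.ext
    calc (x : H) = (y * y) * x := by rw [h.sq _ y.2, one_mul]
      _ = y * (y * x) := by group
      _ = y := by rw [h3, mul_one]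
  obtain ⟨x, hx⟩ := (Finite.injective_iff_surjective.1 hf) ⟨a, ha⟩
  have h5 : (x : H) * (t * x * t⁻¹) = a := congrArg Subtype.val hx
  exact haB (h5 ▸ h0 x x.2)

/-- **(T1)** `A` normalises every component. -/
theorem normalises [Finite A] [Finite T] (h : Set0 S A T) (hT : ∃ t ∈ T, t ≠ 1) (hK : Comp K)
    {x : H} (hxK : x ∈ K) (hxS : x ∈ S) (hx1 : x ≠ 1) (hx2 : x * x = 1) {a : H} (ha : a ∈ A) :
    ∀ y, y ∈ K ↔ a * y * a⁻¹ ∈ K := by
  classical
  let N : H → Prop := fun g => ∀ y, y ∈ K ↔ g * y * g⁻¹ ∈ K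
  have hN1 : N 1 := by intro y; simp
  have hNmul : ∀ g g', N g → N g' → N (g * g') := by
    intro g g' hg hg' y
    rw [hg' y, hg (g' * y * g'⁻¹)]
    have : g * (g' * y * g'⁻¹) * g⁻¹ = g * g' * y * (g * g')⁻¹ := by group
    rw [this]
  have hNinv : ∀ g, N g → N g⁻¹ := by
    intro g hg y
    rw [hg (g⁻¹ * y * g⁻¹⁻¹)]
    have : g * (g⁻¹ * y * g⁻¹⁻¹) * g⁻¹ = y := by group
    rw [this]
  have hcom : ∀ g, ¬ N g → ∀ x ∈ K, ∀ y ∈ K, x * (g * y * g⁻¹) = g * y * g⁻¹ * x := fun g hg =>
    (hK.conj g).resolve_left hg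
  by_contra haN
  have haN' : ¬ N a := haN
  -- the element `u`
  set u := x * (a * x * a⁻¹) with hu
  have hxi : x⁻¹ = x := inv_eq_of_mul_eq_one_left hx2
  have huA : u ∈ A := by
    have h1 : u = (x * a * x⁻¹) * a⁻¹ := by rw [hu, hxi]; group
    rw [h1]
    exact A.mul_mem (h.SA x hxS a ha) (A.inv_mem ha)
  -- if all elements of `K` commute with `u` we are done
  have hend : (∀ y ∈ K, y * u = u * y) → False := by
    intro hy
    apply hx1
    apply hK.cen x hxK hx2
    intro y hyK
    have h1 := hcom a haN' y hyK x hxK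
    have h2 := hy y hyK
    have h3 : x = u * (a * x * a⁻¹)⁻¹ := by rw [hu]; group
    have h4 : y * (a * x * a⁻¹)⁻¹ = (a * x * a⁻¹)⁻¹ * y := by
      rw [eq_inv_mul_iff_mul_eq, ← mul_assoc, ← h1, mul_assoc, mul_inv_cancel, mul_one]
    rw [h3, mul_assoc, ← h4, ← mul_assoc, ← h2, mul_assoc]
  -- `N ∩ A` has index two
  have hidx : ∀ a' ∈ A, N a' ∨ N (a * a') := by
    intro a' ha'
    by_contra hcon
    push Not at hcon
    obtain ⟨h1, h2⟩ := hcon
    apply hend
    intro y hy
    have e : u = (a' * x * a'⁻¹) * (a * a' * x * (a * a')⁻¹) := by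
      have e1 : a' * u * a'⁻¹ = u := by rw [h.comm ha' huA]; group
      rw [← e1, hu, h.comm ha ha']; group
    rw [e, ← mul_assoc, hcom a' h1 y hy x hxK, mul_assoc, hcom _ h2 y hy x hxK, ← mul_assoc]
  -- elements of `T - 1` move the pair
  have hTN : ∀ t ∈ T, t ≠ 1 → ∀ a' ∈ A, ¬ N (a' * t) := by
    intro t ht ht1 a' ha' hn
    let B : Subgroup H :=
      { carrier := {g | N g}
        one_mem' := hN1
        mul_mem' := fun {g g'} hg hg' => hNmul g g' hg hg'
        inv_mem' := fun {g} hg => hNinv g hg }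
    refine h.not_index_two ht ht1 (B := B) ha haN' (fun x hx => hidx x hx) ?_
    intro x hx
    have key : t * x * t⁻¹ = (a' * t) * x * (a' * t)⁻¹ := by
      have h1 := h.TA t ht x hx
      calc t * x * t⁻¹ = a' * (t * x * t⁻¹) * a'⁻¹ := by rw [h.comm ha' h1]; group
        _ = _ := by group
    constructor
    · intro hxB
      rw [key]
      exact B.mul_mem (B.mul_mem hn hxB) (B.inv_mem hn)
    · intro hxB
      rw [key] at hxB
      have := B.mul_mem (B.mul_mem (B.inv_mem (x := a' * t) hn) hxB) hn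
      have e : (a' * t)⁻¹ * (a' * t * x * (a' * t)⁻¹) * (a' * t) = x := by group
      rwa [e] at this
  -- the product
  let _ : CommGroup A := { (inferInstance : Group A) with
    mul_comm := fun x y => Subtype.ext (h.comm x.2 y.2) }
  have _ : Fintype T := Fintype.ofFinite T
  let c : T → A → A := fun t v => ⟨t * v * (t : H)⁻¹, h.TA t t.2 v v.2⟩
  let U : T → A := fun t => c t ⟨u, huA⟩
  let w : A := ∏ t : T, U t
  have hcmul : ∀ t (v v' : A), c t (v * v') = c t v * c t v' := by
    intro t v v'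
    apply Subtype.ext
    show (t : H) * (v * v') * (t : H)⁻¹ = (t * v * (t : H)⁻¹) * (t * v' * (t : H)⁻¹)
    group
  have hfix : ∀ s : T, c s w = w := by
    intro s
    let cs : A →* A := MonoidHom.mk' (c s) (hcmul s)
    have h1 : c s w = ∏ t : T, c s (U t) := map_prod cs U Finset.univ
    have h2 : ∀ t : T, c s (U t) = U (s * t) := by
      intro t
      apply Subtype.ext
      show (s : H) * (t * u * (t : H)⁻¹) * (s : H)⁻¹ = (s * t : H) * u * ((s * t : H))⁻¹
      group
    rw [h1]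
    simp_rw [h2]
    exact Fintype.prod_equiv (Equiv.mulLeft s) _ _ (fun t => rfl)
  have hw1 : w = 1 := by
    obtain ⟨t, ht, ht1⟩ := hT
    have := congrArg Subtype.val (hfix ⟨t, ht⟩)
    exact Subtype.ext (h.free t ht ht1 w w.2 this)
  -- elements of `K` commute with the other factors
  have hother : ∀ y ∈ K, ∀ t : T, t ≠ 1 → y * (U t : H) = U t * y := by
    intro y hy t ht1
    have ht1' : (t : H) ≠ 1 := fun h' => ht1 (Subtype.ext h')
    have h1 : ¬ N (t : H) := by
      have := hTN t t.2 ht1' 1 A.one_mem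
      rwa [one_mul] at this
    have h2 : ¬ N ((t : H) * a) := by
      have h3 := hTN t t.2 ht1' (t * a * (t : H)⁻¹) (h.TA t t.2 a ha)
      have e : (t : H) * a * (t : H)⁻¹ * t = t * a := by group
      rwa [e] at h3
    have e : (U t : H) = (t * x * (t : H)⁻¹) * ((t * a) * x * ((t : H) * a)⁻¹) := by
      show (t : H) * u * (t : H)⁻¹ = _
      rw [hu]; group
    rw [e, ← mul_assoc, hcom _ h1 y hy x hxK, mul_assoc, hcom _ h2 y hy x hxK, ← mul_assoc]
  apply hend
  intro y hy
  have h1 : w = U 1 * ∏ t ∈ Finset.univ.erase (1 : T), U t :=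
    (Finset.mul_prod_erase _ _ (Finset.mem_univ _)).symm
  have h2 : (U 1 : H) = u := by
    show ((1 : T) : H) * u * ((1 : T) : H)⁻¹ = u
    rw [Subgroup.coe_one]; group
  let Cy : Subgroup A := (Subgroup.centralizer ({y} : Set H)).comap A.subtype
  have h3 : (∏ t ∈ Finset.univ.erase (1 : T), U t) ∈ Cy := by
    refine Subgroup.prod_mem _ ?_
    intro t ht
    rw [Subgroup.mem_comap, Subgroup.mem_centralizer_singleton_iff]
    exact (hother y hy t (Finset.ne_of_mem_erase ht)).symm
  rw [Subgroup.mem_comap, Subgroup.mem_centralizer_singleton_iff] at h3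
  set p := ∏ t ∈ Finset.univ.erase (1 : T), U t with hp
  have h4 : u * (p : H) = 1 := by
    have := congrArg Subtype.val (h1.symm.trans hw1)
    rw [← h2]; exact this
  have h5 : u = (p : H)⁻¹ := eq_inv_of_mul_eq_one_left h4
  rw [h5]
  have h6 : (p : H) * y = y * p := h3
  rw [eq_inv_mul_iff_mul_eq, ← mul_assoc, h6, mul_assoc, mul_inv_cancel, mul_one]

end Set0

end Cfsg.Agent.Omega.Lie.LemmaT
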