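import Cfsg.Agent.SignalizersComponents.OddWeights

/-!
# NODE LIE, TEXT 1 (#11541), step (2): `A` centralises `O(H⁰)`

`A` elementary abelian 2-group, `T` normalises `A`, no `1 ≠ t ∈ T` normalises a subgroup of index 2 of `A`,
`R` a solvable group of odd order normalised by `A` and `T` such that `C_R(T)` centralises `A`.
Then `A` centralises `R`.
-/

set_option autoImplicit false

namespace Cfsg.Agent.Omega.Lie.OddPart

open Subgroup
open scoped commutatorElement

/-! ### Independence of weight elements -/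

section Indep

variable {X : Type*} [CommGroup X] {ι α : Type*}

/-- Weight elements of pairwise different weights (non of them trivial) in an abelian group without
involutions: if the product is fixed, then all of them are trivial. -/
theorem indep (hodd : ∀ x : X, x * x = 1 → x = 1) (act : α → X →* X) (σ : ι → α → Prop) :
    ∀ (n : ℕ) (S : Finset ι) (y : ι → X), S.card ≤ n →
      (∀ i ∈ S, ∀ a, σ i a → act a (y i) = y i) → (∀ i ∈ S, ∀ a, ¬ σ i a → act a (y i) = (y i)⁻¹) →
      (∀ i ∈ S, ∀ j ∈ S, i ≠ j → ∃ a, σ i a ∧ ¬ σ j a) → (∀ i ∈ S, ∃ a, ¬ σ i a) →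
      (∀ a, act a (∏ i ∈ S, y i) = ∏ i ∈ S, y i) → ∀ i ∈ S, y i = 1 := by
  classical
  intro n
  induction n with
  | zero =>
    intro S y hS _ _ _ _ _ i hi
    have : S = ∅ := Finset.card_eq_zero.mp (Nat.le_zero.mp hS)
    rw [this] at hi
    exact absurd hi (Finset.notMem_empty i)
  | succ n ih =>
    intro S y hS h1 h2 hd hn hf i hi
    by_cases hone : ∃ j ∈ S, j ≠ i
    · obtain ⟨j, hj, hji⟩ := hone
      obtain ⟨a, hia, hja⟩ := hd i hi j hj (Ne.symm hji)
      set S' : Finset ι := S.filter (fun k => σ k a) with hS'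
      have hS'S : S' ⊆ S := Finset.filter_subset _ _
      have hlt : S'.card < S.card := by
        apply Finset.card_lt_card
        refine ⟨hS'S, fun h => ?_⟩
        exact hja (Finset.mem_filter.mp (h hj)).2
      have hprod : ∏ k ∈ S', (y k * y k) = (∏ k ∈ S, y k) * (∏ k ∈ S, y k) := by
        have e1 : act a (∏ k ∈ S, y k) = ∏ k ∈ S, (if σ k a then y k else (y k)⁻¹) := by
          rw [map_prod]
          refine Finset.prod_congr rfl fun k hk => ?_
          split_ifs with hka
          · exact h1 k hk a hka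
          · exact h2 k hk a hka
        have e2 : (∏ k ∈ S, y k) * (∏ k ∈ S, y k) = (∏ k ∈ S, y k) * act a (∏ k ∈ S, y k) := by
          rw [hf a]
        rw [e2, e1, ← Finset.prod_mul_distrib, hS', Finset.prod_filter]
        refine Finset.prod_congr rfl fun k _ => ?_
        split_ifs with hka
        · rfl
        · rw [mul_inv_cancel]
      have key := ih S' (fun k => y k * y k) (by omega)
        (fun k hk b hb => by
          rw [map_mul, h1 k (hS'S hk) b hb])
        (fun k hk b hb => by
          rw [map_mul, h2 k (hS'S hk) b hb, mul_inv])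
        (fun k hk l hl hkl => hd k (hS'S hk) l (hS'S hl) hkl)
        (fun k hk => hn k (hS'S hk))
        (fun b => by rw [hprod, map_mul, hf b])
        i (Finset.mem_filter.mpr ⟨hi, hia⟩)
      exact hodd _ key
    · push Not at hone
      have hSi : S = {i} := by
        ext k
        rw [Finset.mem_singleton]
        exact ⟨fun hk => hone k hk, fun hk => hk ▸ hi⟩
      obtain ⟨a, ha⟩ := hn i hi
      have e1 := hf a
      rw [hSi, Finset.prod_singleton, h2 i hi a ha] at e1
      apply hodd
      calc y i * y i = (y i)⁻¹ * y i := by rw [e1]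
        _ = 1 := inv_mul_cancel _

end Indep

section main

variable {G : Type*} [Group G]

/-- an element of odd order inverted by an element of odd order is trivial. -/
theorem eq_one_of_inv {c v : G} (hc : Odd (orderOf c)) (hv : Odd (orderOf v))
    (h : v * c * v⁻¹ = c⁻¹) : c = 1 := by
  have h2 : v ^ 2 * c * (v ^ 2)⁻¹ = c := by
    have : v * (v * c * v⁻¹) * v⁻¹ = c := by
      rw [h]
      calc v * c⁻¹ * v⁻¹ = (v * c * v⁻¹)⁻¹ := by group
        _ = c := by rw [h, inv_inv]
    calc v ^ 2 * c * (v ^ 2)⁻¹ = v * (v * c * v⁻¹) * v⁻¹ := by rw [pow_two]; group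
      _ = c := this
  have h3 : Commute (v ^ 2) c := by
    have := congrArg (· * v ^ 2) h2
    simp only [inv_mul_cancel_right] at this
    exact this
  obtain ⟨k, hk⟩ := hv
  have h4 : (v ^ 2) ^ (k + 1) = v := by
    rw [← pow_mul, show 2 * (k + 1) = orderOf v + 1 by omega, pow_succ, pow_orderOf_eq_one, one_mul]
  have h5 : Commute v c := by
    have := h3.pow_left (k + 1)
    rwa [h4] at this
  have h6 : c = c⁻¹ := by
    rw [← h]
    rw [h5.eq]
    group
  have h7 : c ^ 2 = 1 := by
    rw [pow_two]
    nth_rewrite 2 [h6]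
    exact mul_inv_cancel c
  have h8 : orderOf c ∣ 2 := orderOf_dvd_of_pow_eq_one h7
  rw [← orderOf_eq_one_iff]
  rcases (Nat.dvd_prime Nat.prime_two).mp h8 with h9 | h9
  · exact h9
  · rw [h9] at hc
    exact absurd hc (by decide)

/-- **#11541 (2)**: `A` elementary abelian 2-group, `T ≤ N(A)` semiregular on the hyperplanes of `A`,
`R` solvable of odd order normalised by `A` and `T`, `C_R(T) ≤ C(A)`. Then `R ≤ C(A)`. -/
theorem centralizes [Finite G] {A T : Subgroup G} (hA : ∀ a ∈ A, a * a = 1)
    (hTA : T ≤ normalizer (A : Set G))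
    (hsemi : ∀ t ∈ T, t ≠ 1 → ∀ B : Subgroup G, B ≤ A → B.relIndex A = 2 → ∃ b ∈ B, t * b * t⁻¹ ∉ B) :
    ∀ (n : ℕ) (R : Subgroup G), Nat.card R ≤ n → Odd (Nat.card R) → Group.IsSolvable R →
      A ≤ normalizer (R : Set G) → T ≤ normalizer (R : Set G) →
      (∀ x ∈ R, (∀ t ∈ T, t * x * t⁻¹ = x) → ∀ a ∈ A, a * x = x * a) →
      ∀ x ∈ R, ∀ a ∈ A, a * x = x * a := by
  classical
  intro n
  induction n with
  | zero =>
    intro R hR
    exact absurd hR (by have := Nat.card_pos (α := R); omega)
  | succ n ih =>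
    intro R hRn hRodd hRs hAR hTR hC
    by_cases hRbot : R = ⊥
    · intro x hx a _
      rw [hRbot, mem_bot] at hx
      rw [hx, mul_one, one_mul]
    have hAc : ∀ a ∈ A, ∀ b ∈ A, a * b = b * a := by
      intro a ha b hb
      have e1 : a⁻¹ = a := inv_eq_of_mul_eq_one_right (hA a ha)
      have e2 : b⁻¹ = b := inv_eq_of_mul_eq_one_right (hA b hb)
      have e3 : (a * b)⁻¹ = a * b := inv_eq_of_mul_eq_one_right (hA _ (mul_mem ha hb))
      rw [← e3, mul_inv_rev, e1, e2]
    -- the derived subgroup is centralised by `A`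
    have hlt : ⁅R, R⁆ < R := by
      refine lt_of_le_of_ne (commutator_le_self R) fun h => ?_
      apply hRbot
      have hc : commutator R = ⊤ := by
        rw [eq_top_iff, _root_.commutator_def]
        intro x _
        have hx : (x : G) ∈ ⁅R, R⁆ := by rw [h]; exact x.2
        have e : (⁅(⊤ : Subgroup R), (⊤ : Subgroup R)⁆ : Subgroup R).map R.subtype = ⁅R, R⁆ := by
          rw [map_commutator, ← MonoidHom.range_eq_map, R.range_subtype]
        rw [← e] at hx
        obtain ⟨y, hy, hyx⟩ := hx
        have : y = x := Subtype.ext hyx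
        rwa [← this]
      have htb : (⊤ : Subgroup R) = ⊥ := by
        obtain ⟨m, hm⟩ := hRs
        have hall : ∀ k, derivedSeries R k = ⊤ := by
          intro k
          induction k with
          | zero => rfl
          | succ k ihk => rw [derivedSeries_succ, ihk, ← _root_.commutator_def, hc]
        rw [hall m] at hm
        exact hm
      rw [eq_bot_iff]
      intro x hx
      have h2 : (⟨x, hx⟩ : R) ∈ (⊥ : Subgroup R) := by
        rw [← htb]
        exact mem_top _
      rw [mem_bot] at h2 ⊢
      exact congrArg Subtype.val h2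
    have hnorm : ∀ {K : Subgroup G}, K ≤ normalizer (R : Set G) →
        K ≤ normalizer ((⁅R, R⁆ : Subgroup G) : Set G) := by
      intro K hK g hg
      have hgR : R.map (MulAut.conj g).toMonoidHom = R := by
        apply le_antisymm
        · rintro _ ⟨x, hx, rfl⟩
          exact (mem_normalizer_iff.mp (hK hg) x).mp hx
        · intro x hx
          refine ⟨g⁻¹ * x * g, ?_, ?_⟩
          · have := (mem_normalizer_iff.mp (inv_mem (hK hg)) x).mp hx
            simpa using this
          · change g * (g⁻¹ * x * g) * g⁻¹ = x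
            group
      have hgD : (⁅R, R⁆).map (MulAut.conj g).toMonoidHom = ⁅R, R⁆ := by
        rw [map_commutator, hgR]
      rw [mem_normalizer_iff]
      intro x
      constructor
      · intro hx
        rw [← hgD]
        exact ⟨x, hx, rfl⟩
      · intro hx
        rw [← hgD] at hx
        obtain ⟨y, hy, hyx⟩ := hx
        have : y = x := by
          have e : g * y * g⁻¹ = g * x * g⁻¹ := hyx
          exact mul_left_cancel (mul_right_cancel e)
        rwa [← this]
    have hcardlt : Nat.card (⁅R, R⁆ : Subgroup G) < Nat.card R := by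
      have h1 : Nat.card (⁅R, R⁆ : Subgroup G) ∣ Nat.card R := card_dvd_of_le hlt.le
      refine lt_of_le_of_ne (Nat.le_of_dvd Nat.card_pos h1) fun h => ?_
      exact hlt.ne (eq_of_le_of_card_ge hlt.le h.ge)
    have hDsolv : Group.IsSolvable (⁅R, R⁆ : Subgroup G) := by
      have := hRs
      exact Group.isSolvable_of_isSolvable_injective (inclusion_injective hlt.le)
    have hD : ∀ x ∈ (⁅R, R⁆ : Subgroup G), ∀ a ∈ A, a * x = x * a :=
      ih ⁅R, R⁆ (by omega) (Odd.of_dvd_nat hRodd (card_dvd_of_le hlt.le)) hDsolv (hnorm hAR)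
        (hnorm hTR) (fun x hx => hC x (hlt.le hx))
    have hordR : ∀ x ∈ R, Odd (orderOf x) := by
      intro x hx
      refine Odd.of_dvd_nat hRodd ?_
      have : orderOf (⟨x, hx⟩ : R) ∣ Nat.card R := orderOf_dvd_natCard _
      rwa [← Subgroup.orderOf_coe] at this
    -- reduce to weight elements
    have hgen := SignalizersComponents.OddWeights.closure_weights R A hRodd hAc hA
      (fun a ha x hx => (mem_normalizer_iff.mp (hAR ha) x).mp hx)
    suffices hw : ∀ x ∈ R, (∀ a ∈ A, a * x * a⁻¹ = x ∨ a * x * a⁻¹ = x⁻¹) →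
        ∀ a ∈ A, a * x = x * a by
      intro x hx a ha
      have hle : R ≤ centralizer ({a} : Set G) := by
        rw [← hgen, closure_le]
        rintro y ⟨hy, hyw⟩
        rw [SetLike.mem_coe, mem_centralizer_singleton_iff]
        exact (hw y hy hyw a ha).symm
      exact (mem_centralizer_singleton_iff.mp (hle hx)).symm
    intro x hx hxw
    by_contra hcon
    push Not at hcon
    obtain ⟨a₀, ha₀, hxa₀⟩ := hcon
    have hcomm_iff : ∀ a y : G, a * y * a⁻¹ = y ↔ a * y = y * a := by
      intro a y
      rw [mul_inv_eq_iff_eq_mul]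
    -- the hyperplane
    let B : Subgroup G := A ⊓ centralizer ({x} : Set G)
    have hBmem : ∀ a, a ∈ B ↔ a ∈ A ∧ a * x * a⁻¹ = x := by
      intro a
      change a ∈ A ∧ a ∈ centralizer ({x} : Set G) ↔ _
      rw [mem_centralizer_singleton_iff, hcomm_iff]
    have hinv : ∀ a ∈ A, a ∉ B → a * x * a⁻¹ = x⁻¹ := by
      intro a ha haB
      rcases hxw a ha with h | h
      · exact absurd ((hBmem a).mpr ⟨ha, h⟩) haB
      · exact h
    have hBA : B ≤ A := inf_le_left
    have ha₀B : a₀ ∉ B := by
      intro h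
      exact hxa₀ ((hcomm_iff a₀ x).mp ((hBmem a₀).mp h).2)
    have hmulB : ∀ a ∈ A, ∀ b ∈ A, a ∉ B → b ∉ B → a * b ∈ B := by
      intro a ha b hb haB hbB
      rw [hBmem]
      refine ⟨mul_mem ha hb, ?_⟩
      calc a * b * x * (a * b)⁻¹ = a * (b * x * b⁻¹) * a⁻¹ := by group
        _ = (a * x * a⁻¹)⁻¹ := by rw [hinv b hb hbB]; group
        _ = x := by rw [hinv a ha haB, inv_inv]
    have hBidx : B.relIndex A = 2 := by
      have h1 : (B.subgroupOf A).index = 2 := by
        rw [index_eq_two_iff]
        refine ⟨⟨a₀, ha₀⟩, fun b => ?_⟩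
        rw [mem_subgroupOf, mem_subgroupOf]
        change Xor (((b : G) * a₀) ∈ B) ((b : G) ∈ B)
        by_cases hb : (b : G) ∈ B
        · right
          refine ⟨hb, fun h => ha₀B ?_⟩
          have := mul_mem (inv_mem hb) h
          simpa using this
        · left
          exact ⟨hmulB _ b.2 _ ha₀ hb ha₀B, hb⟩
      exact h1
    -- the family
    let y : T → G := fun t => (t : G) * x * (t : G)⁻¹
    have hyR : ∀ t : T, y t ∈ R := fun t => (mem_normalizer_iff.mp (hTR t.2) x).mp hx
    let σ : T → A → Prop := fun t a => (t : G)⁻¹ * (a : G) * (t : G) ∈ B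
    have hTAm : ∀ (t : T) (a : A), (t : G)⁻¹ * (a : G) * (t : G) ∈ A := by
      intro t a
      have := (mem_normalizer_iff.mp (hTA (inv_mem t.2)) (a : G)).mp a.2
      simpa using this
    have hfix : ∀ (t : T) (a : A), σ t a → (a : G) * y t * (a : G)⁻¹ = y t := by
      intro t a h
      have h1 := ((hBmem _).mp h).2
      calc (a : G) * y t * (a : G)⁻¹
          = (t : G) * (((t : G)⁻¹ * (a : G) * (t : G)) * x * ((t : G)⁻¹ * (a : G) * (t : G))⁻¹) *
            (t : G)⁻¹ := by
            change (a : G) * ((t : G) * x * (t : G)⁻¹) * (a : G)⁻¹ = _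
            group
        _ = y t := by rw [h1]
    have hneg : ∀ (t : T) (a : A), ¬ σ t a → (a : G) * y t * (a : G)⁻¹ = (y t)⁻¹ := by
      intro t a h
      have h1 := hinv _ (hTAm t a) h
      calc (a : G) * y t * (a : G)⁻¹
          = (t : G) * (((t : G)⁻¹ * (a : G) * (t : G)) * x * ((t : G)⁻¹ * (a : G) * (t : G))⁻¹) *
            (t : G)⁻¹ := by
            change (a : G) * ((t : G) * x * (t : G)⁻¹) * (a : G)⁻¹ = _
            group
        _ = (y t)⁻¹ := by
            rw [h1]
            change (t : G) * x⁻¹ * (t : G)⁻¹ = ((t : G) * x * (t : G)⁻¹)⁻¹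
            group
    -- different weights
    have hdist : ∀ s t : T, s ≠ t → ∃ a : A, σ s a ∧ ¬ σ t a := by
      intro s t hst
      have hne : (t : G)⁻¹ * (s : G) ≠ 1 := by
        intro h
        exact hst (Subtype.ext (by
          have := congrArg ((t : G) * ·) h
          simpa using this))
      obtain ⟨b, hb, hbn⟩ := hsemi _ (mul_mem (inv_mem t.2) s.2) hne B hBA hBidx
      refine ⟨⟨(s : G) * b * (s : G)⁻¹, (mem_normalizer_iff.mp (hTA s.2) b).mp (hBA hb)⟩, ?_, ?_⟩
      · change (s : G)⁻¹ * ((s : G) * b * (s : G)⁻¹) * (s : G) ∈ B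
        have : (s : G)⁻¹ * ((s : G) * b * (s : G)⁻¹) * (s : G) = b := by group
        rwa [this]
      · intro h
        apply hbn
        change (t : G)⁻¹ * ((s : G) * b * (s : G)⁻¹) * (t : G) ∈ B at h
        have : (t : G)⁻¹ * ((s : G) * b * (s : G)⁻¹) * (t : G)
            = (t : G)⁻¹ * (s : G) * b * ((t : G)⁻¹ * (s : G))⁻¹ := by group
        rwa [this] at h
    -- the conjugates commute
    have hycomm : ∀ s t : T, y s * y t = y t * y s := by
      intro s t
      by_cases hst : s = t
      · rw [hst]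
      obtain ⟨a, hsa, hta⟩ := hdist s t hst
      set c : G := ⁅y s, y t⁆ with hc
      have hcD : c ∈ (⁅R, R⁆ : Subgroup G) := commutator_mem_commutator (hyR s) (hyR t)
      have h1 : (a : G) * c * (a : G)⁻¹ = c := by
        rw [hcomm_iff]
        exact hD c hcD a a.2
      have h2 : (a : G) * c * (a : G)⁻¹ = ⁅y s, (y t)⁻¹⁆ := by
        rw [hc, commutatorElement_def, commutatorElement_def]
        calc (a : G) * (y s * y t * (y s)⁻¹ * (y t)⁻¹) * (a : G)⁻¹
            = ((a : G) * y s * (a : G)⁻¹) * ((a : G) * y t * (a : G)⁻¹) *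
              ((a : G) * y s * (a : G)⁻¹)⁻¹ * ((a : G) * y t * (a : G)⁻¹)⁻¹ := by group
          _ = _ := by rw [hfix s a hsa, hneg t a hta]
      have h3 : y t * c * (y t)⁻¹ = c⁻¹ := by
        have h4 : c = ⁅y s, (y t)⁻¹⁆ := by rw [← h2, h1]
        calc y t * c * (y t)⁻¹ = y t * ⁅y s, (y t)⁻¹⁆ * (y t)⁻¹ := by rw [← h4]
          _ = c⁻¹ := by
            rw [hc, commutatorElement_def, commutatorElement_def]
            group
      have h5 : c = 1 := eq_one_of_inv (hordR c (hlt.le hcD)) (hordR _ (hyR t)) h3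
      rw [hc, commutatorElement_eq_one_iff_mul_comm] at h5
      exact h5
    -- the abelian group generated by the conjugates
    let X : Subgroup G := closure (Set.range y)
    have hXR : X ≤ R := by
      rw [closure_le]
      rintro _ ⟨t, rfl⟩
      exact hyR t
    have hXc : ∀ u ∈ X, ∀ v ∈ X, u * v = v * u := by
      have hXc' : X ≤ centralizer (X : Set G) := by
        rw [closure_le]
        rintro _ ⟨s, rfl⟩
        rw [SetLike.mem_coe, mem_centralizer_iff]
        intro u hu
        have : X ≤ centralizer ({y s} : Set G) := by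
          rw [closure_le]
          rintro _ ⟨t, rfl⟩
          rw [SetLike.mem_coe, mem_centralizer_singleton_iff]
          exact hycomm t s
        exact mem_centralizer_singleton_iff.mp (this hu)
      intro u hu v hv
      exact mem_centralizer_iff.mp (hXc' hv) u hu
    let _ : CommGroup X := { (inferInstance : Group X) with
      mul_comm := fun u v => Subtype.ext (hXc u u.2 v v.2) }
    have hXA : ∀ (a : A), ∀ u ∈ X, (a : G) * u * (a : G)⁻¹ ∈ X := by
      intro a u hu
      have hle : X ≤ X.comap (MulAut.conj (a : G)).toMonoidHom := by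
        rw [closure_le]
        rintro _ ⟨t, rfl⟩
        change (a : G) * y t * (a : G)⁻¹ ∈ X
        have hyX : y t ∈ X := subset_closure ⟨t, rfl⟩
        by_cases h : σ t a
        · rw [hfix t a h]
          exact hyX
        · rw [hneg t a h]
          exact inv_mem hyX
      exact hle hu
    let act : A → X →* X := fun a =>
      { toFun := fun u => ⟨(a : G) * u * (a : G)⁻¹, hXA a u u.2⟩
        map_one' := Subtype.ext (by simp)
        map_mul' := fun u v => Subtype.ext (by
          change (a : G) * ((u : G) * (v : G)) * (a : G)⁻¹ = ((a : G) * u * (a : G)⁻¹) * ((a : G) * v * (a : G)⁻¹)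
          group) }
    let yX : T → X := fun t => ⟨y t, subset_closure ⟨t, rfl⟩⟩
    have hXodd : ∀ u : X, u * u = 1 → u = 1 := by
      intro u hu
      have h1 : (u : G) ^ 2 = 1 := by
        rw [pow_two]
        exact congrArg Subtype.val hu
      have h2 := hordR u (hXR u.2)
      have h3 : orderOf (u : G) ∣ 2 := orderOf_dvd_of_pow_eq_one h1
      apply Subtype.ext
      change (u : G) = 1
      rw [← orderOf_eq_one_iff]
      rcases (Nat.dvd_prime Nat.prime_two).mp h3 with h4 | h4
      · exact h4
      · rw [h4] at h2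
        exact absurd h2 (by decide)
    have : Fintype T := Fintype.ofFinite T
    -- the product is fixed by `T`
    have hprodT : ∀ s ∈ T, s * ((∏ t : T, yX t : X) : G) * s⁻¹ = ((∏ t : T, yX t : X) : G) := by
      intro s hs
      have hXs : ∀ u ∈ X, s * u * s⁻¹ ∈ X := by
        intro u hu
        have hle : X ≤ X.comap (MulAut.conj s).toMonoidHom := by
          rw [closure_le]
          rintro _ ⟨t, rfl⟩
          change s * ((t : G) * x * (t : G)⁻¹) * s⁻¹ ∈ X
          refine subset_closure ⟨⟨s, hs⟩ * t, ?_⟩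
          change s * (t : G) * x * (s * (t : G))⁻¹ = _
          group
        exact hle hu
      let cs : X →* X :=
        { toFun := fun u => ⟨s * u * s⁻¹, hXs u u.2⟩
          map_one' := Subtype.ext (by simp)
          map_mul' := fun u v => Subtype.ext (by
            change s * ((u : G) * (v : G)) * s⁻¹ = (s * u * s⁻¹) * (s * v * s⁻¹)
            group) }
      have e1 : cs (∏ t : T, yX t) = ∏ t : T, yX t := by
        rw [map_prod]
        have e2 : ∀ t : T, cs (yX t) = yX (⟨s, hs⟩ * t) := by
          intro t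
          apply Subtype.ext
          change s * ((t : G) * x * (t : G)⁻¹) * s⁻¹ = s * (t : G) * x * (s * (t : G))⁻¹
          group
        rw [Finset.prod_congr rfl fun t _ => e2 t]
        exact Fintype.prod_equiv (Equiv.mulLeft (⟨s, hs⟩ : T)) _ _ fun t => rfl
      exact congrArg Subtype.val e1
    have hfixA := hC _ (hXR (∏ t : T, yX t : X).2) hprodT
    have hone := indep (X := X) hXodd act σ (Finset.univ : Finset T).card Finset.univ yX le_rfl
      (fun t _ a h => Subtype.ext (hfix t a h))
      (fun t _ a h => Subtype.ext (hneg t a h))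
      (fun s _ t _ hst => hdist s t hst)
      (fun t _ => by
        refine ⟨⟨(t : G) * a₀ * (t : G)⁻¹, (mem_normalizer_iff.mp (hTA t.2) a₀).mp ha₀⟩, ?_⟩
        intro h
        change (t : G)⁻¹ * ((t : G) * a₀ * (t : G)⁻¹) * (t : G) ∈ B at h
        have e : (t : G)⁻¹ * ((t : G) * a₀ * (t : G)⁻¹) * (t : G) = a₀ := by group
        rw [e] at h
        exact ha₀B h)
      (fun a => Subtype.ext (by
        change (a : G) * ((∏ t : T, yX t : X) : G) * (a : G)⁻¹ = _
        rw [hcomm_iff]
        exact hfixA a a.2))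
      1 (Finset.mem_univ _)
    have hx1 : x = 1 := by
      have := congrArg Subtype.val hone
      change ((1 : T) : G) * x * ((1 : T) : G)⁻¹ = 1 at this
      simpa using this
    apply hxa₀
    rw [hx1, mul_one, one_mul]

/-- If `T` has odd order, normalises the elementary abelian 2-group `A` and acts fixed-point-freely on it,
then no `1 ≠ t ∈ T` normalises a subgroup of index 2 of `A`. -/
theorem semi_of_fpf {A T : Subgroup G} (hA : ∀ a ∈ A, a * a = 1)
    (hTA : T ≤ normalizer (A : Set G)) (hTo : ∀ t ∈ T, Odd (orderOf t))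
    (hfpf : ∀ t ∈ T, t ≠ 1 → ∀ a ∈ A, t * a = a * t → a = 1) :
    ∀ t ∈ T, t ≠ 1 → ∀ B : Subgroup G, B ≤ A → B.relIndex A = 2 → ∃ b ∈ B, t * b * t⁻¹ ∉ B := by
  classical
  intro t ht ht1 B hBA hB2
  by_contra hcon
  push Not at hcon
  have hAc : ∀ a ∈ A, ∀ b ∈ A, a * b = b * a := by
    intro a ha b hb
    have e1 : a⁻¹ = a := inv_eq_of_mul_eq_one_right (hA a ha)
    have e2 : b⁻¹ = b := inv_eq_of_mul_eq_one_right (hA b hb)
    have e3 : (a * b)⁻¹ = a * b := inv_eq_of_mul_eq_one_right (hA _ (mul_mem ha hb))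
    rw [← e3, mul_inv_rev, e1, e2]
  let _ : CommGroup A := { (inferInstance : Group A) with
    mul_comm := fun u v => Subtype.ext (hAc u u.2 v v.2) }
  set BA : Subgroup A := B.subgroupOf A with hBAdef
  have hidx : BA.index = 2 := hB2
  obtain ⟨n, hn⟩ := hTo t ht
  -- powers of `t` preserve `B`
  have hpow : ∀ k : ℕ, ∀ b ∈ B, t ^ k * b * (t ^ k)⁻¹ ∈ B := by
    intro k
    induction k with
    | zero => intro b hb; simpa using hb
    | succ k ih =>
      intro b hb
      have := hcon _ (ih b hb)
      rwa [show t * (t ^ k * b * (t ^ k)⁻¹) * t⁻¹ = t ^ (k + 1) * b * (t ^ (k + 1))⁻¹ by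
        rw [pow_succ']; group] at this
  have hpow' : ∀ k : ℕ, ∀ b : G, t ^ k * b * (t ^ k)⁻¹ ∈ B → b ∈ B := by
    intro k b hb
    have h1 := hpow (2 * k * n) _ hb
    have h2 : t ^ (2 * k * n) * t ^ k = 1 := by
      rw [← pow_add, show 2 * k * n + k = orderOf t * k by rw [hn]; ring, pow_mul,
        pow_orderOf_eq_one, one_pow]
    have h3 : t ^ (2 * k * n) * (t ^ k * b * (t ^ k)⁻¹) * (t ^ (2 * k * n))⁻¹ = b := by
      calc t ^ (2 * k * n) * (t ^ k * b * (t ^ k)⁻¹) * (t ^ (2 * k * n))⁻¹
          = (t ^ (2 * k * n) * t ^ k) * b * (t ^ (2 * k * n) * t ^ k)⁻¹ := by group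
        _ = b := by rw [h2]; group
    rwa [h3] at h1
  have hTAp : ∀ k : ℕ, ∀ a ∈ A, t ^ k * a * (t ^ k)⁻¹ ∈ A := fun k a ha =>
    (mem_normalizer_iff.mp (pow_mem (hTA ht) k) a).mp ha
  -- an element outside
  obtain ⟨a, ha⟩ : ∃ a : A, a ∉ BA := by
    by_contra h
    push Not at h
    have : BA = ⊤ := eq_top_iff.mpr fun x _ => h x
    rw [this, index_top] at hidx
    exact absurd hidx (by norm_num)
  let f : ℕ → A := fun k => ⟨t ^ k * a * (t ^ k)⁻¹, hTAp k a a.2⟩
  have hf : ∀ k, f k ∉ BA := by
    intro k h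
    apply ha
    rw [mem_subgroupOf] at h ⊢
    exact hpow' k a h
  have hprod : ∀ k, (∏ i ∈ Finset.range k, f i) ∈ BA ↔ Even k := by
    intro k
    induction k with
    | zero => simp
    | succ k ih =>
      rw [Finset.prod_range_succ, mul_mem_iff_of_index_two hidx, ih]
      constructor
      · intro h
        rw [Nat.even_add_one]
        exact fun h1 => hf k (h.mp h1)
      · intro h
        rw [Nat.even_add_one] at h
        exact ⟨fun h1 => absurd h1 h, fun h1 => absurd h1 (hf k)⟩
  set w : A := ∏ i ∈ Finset.range (orderOf t), f i with hw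
  have hwB : w ∉ BA := by
    rw [hw, hprod, hn]
    intro h
    rw [Nat.even_add_one] at h
    exact h (even_two_mul n)
  let c : A →* A :=
    { toFun := fun u => ⟨t * u * t⁻¹, (mem_normalizer_iff.mp (hTA ht) u).mp u.2⟩
      map_one' := Subtype.ext (by simp)
      map_mul' := fun u v => Subtype.ext (by
        change t * ((u : G) * (v : G)) * t⁻¹ = (t * u * t⁻¹) * (t * v * t⁻¹)
        group) }
  have hcf : ∀ k, c (f k) = f (k + 1) := by
    intro k
    apply Subtype.ext
    change t * (t ^ k * (a : G) * (t ^ k)⁻¹) * t⁻¹ = t ^ (k + 1) * (a : G) * (t ^ (k + 1))⁻¹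
    rw [pow_succ']
    group
  have hlast : f (orderOf t) = f 0 := by
    apply Subtype.ext
    change t ^ orderOf t * (a : G) * (t ^ orderOf t)⁻¹ = t ^ 0 * (a : G) * (t ^ 0)⁻¹
    rw [pow_orderOf_eq_one, pow_zero]
  have hcw : c w = w := by
    rw [hw, map_prod, Finset.prod_congr rfl fun k _ => hcf k]
    have e1 := Finset.prod_range_succ f (orderOf t)
    have e2 := Finset.prod_range_succ' f (orderOf t)
    rw [e2, hlast] at e1
    exact mul_right_cancel e1
  have hw1 : (w : G) = 1 := by
    refine hfpf t ht ht1 w w.2 ?_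
    have := congrArg Subtype.val hcw
    change t * (w : G) * t⁻¹ = w at this
    exact mul_inv_eq_iff_eq_mul.mp this
  apply hwB
  have : w = 1 := Subtype.ext hw1
  rw [this]
  exact one_mem _

/-- **#11541 (2)**, final form: `C_R(T)` only normalises `A` (and `A ∩ R = 1`, `R` of odd order). -/
theorem centralizes' [Finite G] {A T R : Subgroup G} (hA : ∀ a ∈ A, a * a = 1)
    (hTA : T ≤ normalizer (A : Set G))
    (hsemi : ∀ t ∈ T, t ≠ 1 → ∀ B : Subgroup G, B ≤ A → B.relIndex A = 2 → ∃ b ∈ B, t * b * t⁻¹ ∉ B)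
    (hRodd : Odd (Nat.card R)) (hRs : Group.IsSolvable R) (hAR : A ≤ normalizer (R : Set G))
    (hTR : T ≤ normalizer (R : Set G))
    (hC : ∀ x ∈ R, (∀ t ∈ T, t * x * t⁻¹ = x) → x ∈ normalizer (A : Set G)) :
    ∀ x ∈ R, ∀ a ∈ A, a * x = x * a := by
  refine centralizes hA hTA hsemi (Nat.card R) R le_rfl hRodd hRs hAR hTR fun x hx hxT a ha => ?_
  have hn := hC x hx hxT
  -- `[x, a] ∈ R ∩ A`
  set c : G := a * x * a⁻¹ * x⁻¹ with hc
  have h1 : c ∈ R := mul_mem ((mem_normalizer_iff.mp (hAR ha) x).mp hx) (inv_mem hx)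
  have h2 : c ∈ A := by
    have : c = a * (x * a * x⁻¹)⁻¹ := by rw [hc]; group
    rw [this]
    exact mul_mem ha (inv_mem ((mem_normalizer_iff.mp hn a).mp ha))
  have h3 : orderOf c ∣ 2 := orderOf_dvd_of_pow_eq_one (by rw [pow_two]; exact hA c h2)
  have h4 : Odd (orderOf c) := by
    refine Odd.of_dvd_nat hRodd ?_
    have : orderOf (⟨c, h1⟩ : R) ∣ Nat.card R := orderOf_dvd_natCard _
    rwa [← Subgroup.orderOf_coe] at this
  have h5 : c = 1 := by
    rw [← orderOf_eq_one_iff]
    rcases (Nat.dvd_prime Nat.prime_two).mp h3 with h | h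
    · exact h
    · rw [h] at h4
      exact absurd h4 (by decide)
  have h6 : a * x * a⁻¹ * x⁻¹ = 1 := h5
  calc a * x = (a * x * a⁻¹ * x⁻¹) * (x * a) := by group
    _ = x * a := by rw [h6, one_mul]

end main

end Cfsg.Agent.Omega.Lie.OddPart
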