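import Mathlib

/-!
# NODE LIE, `q = 4` (#12397, helper844; referee #12569): the linear algebra

`x₁, x₂, x₃` commuting elements of prime order `r ≠ 2`, permuted by `t`, acting on a finite elementary
abelian 2-group `M`; `a₁, a₂, a₁ a₂` a four-group, `aᵢ` centralises `xᵢ` and inverts the two others;
`θ = (1 + a₁)(1 + a₂)` has image of order at most `4`; `f` an alternating form with values in `R`, `|R| > 2`,
such that no nonzero vector moved by `x₁` has `f(M, v)` inside a proper subgroup of `R`.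
Then `x₁` centralises `[M, a₁]`.
-/

set_option autoImplicit false

namespace Cfsg.Agent.Omega.Lie.OddQ4

section Sums

variable {H M : Type*} [Group H] [AddCommGroup M] [DistribMulAction H M]

/-- the sum over the powers of `x` -/
def sg (r : ℕ) [NeZero r] (x : H) (m : M) : M := ∑ k : ZMod r, (x ^ k.val) • m

variable {r : ℕ} [NeZero r]

omit [NeZero r] in
theorem pow_val {x : H} (hx : x ^ r = 1) (n : ℕ) : x ^ ((n : ZMod r).val) = x ^ n := by
  rw [ZMod.val_natCast]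
  conv_rhs => rw [← Nat.div_add_mod n r, pow_add, pow_mul, hx, one_pow, one_mul]

theorem pow_add_val {x : H} (hx : x ^ r = 1) (j k : ZMod r) :
    x ^ (j + k).val = x ^ j.val * x ^ k.val := by
  have h : ((j.val + k.val : ℕ) : ZMod r) = j + k := by
    rw [Nat.cast_add, ZMod.natCast_zmod_val, ZMod.natCast_zmod_val]
  rw [← h, pow_val hx, pow_add]

theorem sg_add (x : H) (m n : M) : sg r x (m + n) = sg r x m + sg r x n := by
  unfold sg
  rw [← Finset.sum_add_distrib]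
  exact Finset.sum_congr rfl fun k _ => smul_add _ _ _

theorem sg_zero (x : H) : sg r x (0 : M) = 0 := by
  unfold sg
  exact Finset.sum_eq_zero fun k _ => smul_zero _

theorem sg_pow {x : H} (hx : x ^ r = 1) {j : ℕ} (hj : IsUnit (j : ZMod r)) (m : M) :
    sg r (x ^ j) m = sg r x m := by
  unfold sg
  obtain ⟨u, hu⟩ := hj
  refine Fintype.sum_equiv (Units.mulLeft u) _ _ fun k => ?_
  have h : ((j * k.val : ℕ) : ZMod r) = (j : ZMod r) * k := by
    rw [Nat.cast_mul, ZMod.natCast_zmod_val]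
  change (x ^ j) ^ k.val • m = x ^ ((u : ZMod r) * k).val • m
  rw [← pow_mul, hu, ← h, pow_val hx]

theorem sg_inv {x : H} (hx : x ^ r = 1) (m : M) : sg r x⁻¹ m = sg r x m := by
  unfold sg
  refine Fintype.sum_equiv (Equiv.neg (ZMod r)) _ _ fun k => ?_
  congr 1
  have h := pow_add_val hx k (-k)
  rw [add_neg_cancel, ZMod.val_zero, pow_zero] at h
  rw [Equiv.neg_apply, inv_pow]
  exact inv_eq_of_mul_eq_one_right h.symm

theorem smul_sg {x : H} (hx : x ^ r = 1) (m : M) : x • sg r x m = sg r x m := by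
  unfold sg
  rw [Finset.smul_sum]
  refine Fintype.sum_equiv (Equiv.addLeft (1 : ZMod r)) _ _ fun k => ?_
  rw [Equiv.coe_addLeft, pow_add_val hx, ← smul_smul]
  congr 2
  have h := pow_val hx 1
  rw [Nat.cast_one, pow_one] at h
  rw [h]

theorem sg_of_fix {x : H} {m : M} (h2 : ∀ m : M, m + m = 0) (hr : Odd r) (h : x • m = m) :
    sg r x m = m := by
  unfold sg
  have h1 : ∀ n : ℕ, x ^ n • m = m := by
    intro n
    induction n with
    | zero => rw [pow_zero, one_smul]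
    | succ n ih => rw [pow_succ, ← smul_smul, h, ih]
  rw [Finset.sum_congr rfl fun k _ => h1 _, Finset.sum_const, Finset.card_univ, ZMod.card]
  obtain ⟨k, hk⟩ := hr
  rw [hk, add_smul, mul_comm, mul_smul, two_nsmul, h2, smul_zero, zero_add, one_smul]

/-- conjugation -/
theorem smul_sg_of {a x y : H} (h : a * x * a⁻¹ = y) (m : M) : a • sg r x m = sg r y (a • m) := by
  unfold sg
  rw [Finset.smul_sum]
  refine Finset.sum_congr rfl fun k _ => ?_
  rw [smul_smul, smul_smul, ← h, conj_pow]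
  congr 1
  group

theorem sg_comm {x y : H} (h : x * y = y * x) (m : M) : sg r x (sg r y m) = sg r y (sg r x m) := by
  have h1 : ∀ k : ℕ, x ^ k • sg r y m = sg r y (x ^ k • m) := by
    intro k
    refine smul_sg_of ?_ m
    have h2 : Commute (x ^ k) y := (show Commute x y from h).pow_left k
    rw [h2.eq, mul_assoc, mul_inv_cancel, mul_one]
  have h0 : sg r x (sg r y m) = ∑ k : ZMod r, sg r y (x ^ k.val • m) :=
    Finset.sum_congr rfl fun k _ => h1 _
  rw [h0]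
  have h3 : ∀ s : Finset (ZMod r), ∑ k ∈ s, sg r y (x ^ k.val • m) = sg r y (∑ k ∈ s, x ^ k.val • m) := by
    intro s
    classical
    induction s using Finset.induction_on with
    | empty => rw [Finset.sum_empty, Finset.sum_empty, sg_zero]
    | insert k s hk ih => rw [Finset.sum_insert hk, Finset.sum_insert hk, sg_add, ih]
  rw [h3]
  rfl

/-- **the grid identity**: if `x` and `y` have no fixed component on `m`, some `y x^{-c}` has one. -/
theorem exists_grid [hp : Fact r.Prime] (h2 : ∀ m : M, m + m = 0) (hr : Odd r) {x y : H} (hx : x ^ r = 1)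
    (hxy : x * y = y * x) {m : M} (hm : m ≠ 0) (hxm : sg r x m = 0) (hym : sg r y m = 0) :
    ∃ c : ℕ, (c : ZMod r) ≠ 0 ∧ sg r (y * (x ^ c)⁻¹) m ≠ 0 := by
  by_contra hcon
  push Not at hcon
  have hall : ∀ c : ZMod r, sg r (y * (x ^ c.val)⁻¹) m = 0 := by
    intro c
    by_cases hc : c = 0
    · rw [hc, ZMod.val_zero, pow_zero, inv_one, mul_one, hym]
    · exact hcon c.val (by rwa [ZMod.natCast_zmod_val])
  have hsum : ∑ c : ZMod r, sg r (y * (x ^ c.val)⁻¹) m = 0 := Finset.sum_eq_zero fun c _ => hall c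
  have hC : ∀ n : ℕ, Commute y (x ^ n)⁻¹ := fun n =>
    ((show Commute y x from hxy.symm).pow_right n).inv_right
  have e1 : ∑ c : ZMod r, sg r (y * (x ^ c.val)⁻¹) m
      = ∑ k : ZMod r, (y ^ k.val) • ∑ c : ZMod r, ((x ^ c.val)⁻¹ ^ k.val) • m := by
    unfold sg
    rw [Finset.sum_comm]
    refine Finset.sum_congr rfl fun k _ => ?_
    rw [Finset.smul_sum]
    refine Finset.sum_congr rfl fun c _ => ?_
    rw [(hC _).mul_pow, smul_smul]
  have e2 : ∀ k : ZMod r, k ≠ 0 → ∑ c : ZMod r, ((x ^ c.val)⁻¹ ^ k.val) • m = 0 := by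
    intro k hk
    have hu : IsUnit ((k.val : ℕ) : ZMod r) := by
      rw [ZMod.natCast_zmod_val]
      exact isUnit_iff_ne_zero.mpr hk
    have h1 := sg_pow (M := M) (x := x⁻¹) (by rw [inv_pow, hx, inv_one]) hu m
    rw [sg_inv hx, hxm] at h1
    rw [← h1]
    unfold sg
    refine Finset.sum_congr rfl fun c _ => ?_
    congr 1
    rw [inv_pow, inv_pow, inv_pow, ← pow_mul, ← pow_mul, mul_comm]
  have e3 : ∑ k : ZMod r, (y ^ k.val) • ∑ c : ZMod r, ((x ^ c.val)⁻¹ ^ k.val) • m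
      = ∑ c : ZMod r, ((x ^ c.val)⁻¹ ^ (0 : ZMod r).val) • m := by
    rw [Finset.sum_eq_single (0 : ZMod r)]
    · rw [ZMod.val_zero, pow_zero, one_smul]
    · intro k _ hk
      rw [e2 k hk, smul_zero]
    · intro h
      exact absurd (Finset.mem_univ _) h
  have e4 : ∑ c : ZMod r, ((x ^ c.val)⁻¹ ^ (0 : ZMod r).val) • m = m := by
    rw [ZMod.val_zero]
    simp only [pow_zero, one_smul]
    rw [Finset.sum_const, Finset.card_univ, ZMod.card]
    obtain ⟨k, hk⟩ := hr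
    rw [hk, add_smul, mul_comm, mul_smul, two_nsmul, h2, smul_zero, zero_add, one_smul]
  rw [e1, e3, e4] at hsum
  exact hm hsum

end Sums

section Core

variable {H M R : Type*} [Group H] [AddCommGroup M] [DistribMulAction H M] [AddCommGroup R]

theorem sg_congr {r : ℕ} [NeZero r] {z y : H} (hzy : z * y = y * z) {w : M} (h : z • w = y • w) :
    sg r z w = sg r y w := by
  have h1 : ∀ n : ℕ, z ^ n • w = y ^ n • w := by
    intro n
    induction n with
    | zero => rw [pow_zero, pow_zero]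
    | succ n ih =>
      have h2 : z ^ n * y = y * z ^ n := ((show Commute z y from hzy).pow_left n).eq
      rw [pow_succ, ← smul_smul, h, smul_smul, h2, ← smul_smul, ih, smul_smul, ← pow_succ']
  unfold sg
  exact Finset.sum_congr rfl fun k _ => h1 _

theorem five {S : Set M} [Finite M] (hS : Nat.card S ≤ 4) {u₁ u₂ u₃ : M} (h0 : (0 : M) ∈ S)
    (h1 : u₁ ∈ S) (h2 : u₂ ∈ S) (h3 : u₃ ∈ S) (h12 : u₁ + u₂ ∈ S) (n1 : u₁ ≠ 0) (n2 : u₂ ≠ 0)
    (n3 : u₃ ≠ 0) (n12 : u₁ ≠ u₂) (n13 : u₁ ≠ u₃) (n23 : u₂ ≠ u₃) (n0 : u₁ + u₂ ≠ 0)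
    (ns : u₁ + u₂ ≠ u₃) : False := by
  classical
  have hsub : (({0, u₁, u₂, u₃, u₁ + u₂} : Finset M) : Set M) ⊆ S := by
    intro x hx
    simp only [Finset.coe_insert, Finset.coe_singleton, Set.mem_insert_iff, Set.mem_singleton_iff] at hx
    rcases hx with rfl | rfl | rfl | rfl | rfl <;> assumption
  have hcard : ({0, u₁, u₂, u₃, u₁ + u₂} : Finset M).card = 5 := by
    rw [Finset.card_insert_of_notMem, Finset.card_insert_of_notMem, Finset.card_insert_of_notMem,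
      Finset.card_insert_of_notMem, Finset.card_singleton]
    · simp only [Finset.mem_singleton]
      exact ns.symm
    · simp only [Finset.mem_insert, Finset.mem_singleton, not_or]
      refine ⟨n23, fun h => n1 ?_⟩
      have : (0 : M) + u₂ = u₁ + u₂ := by rw [zero_add]; exact h
      exact (add_right_cancel this).symm
    · simp only [Finset.mem_insert, Finset.mem_singleton, not_or]
      refine ⟨n12, n13, fun h => n2 ?_⟩
      have : u₁ + 0 = u₁ + u₂ := by rw [add_zero]; exact h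
      exact (add_left_cancel this).symm
    · simp only [Finset.mem_insert, Finset.mem_singleton, not_or]
      exact ⟨n1.symm, n2.symm, n3.symm, n0.symm⟩
  have h5 := Set.ncard_le_ncard hsub (Set.toFinite S)
  rw [Set.ncard_coe_finset, hcard] at h5
  have h6 : S.ncard = Nat.card S := rfl
  omega

/-- **#12397, (3)**: there is no nonzero vector without fixed component. -/
theorem no_three [Finite M] {r : ℕ} [hp : Fact r.Prime] (hr2 : r ≠ 2) (h2 : ∀ m : M, m + m = 0)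
    (hR2 : ∀ s : R, s + s = 0) (hR : 2 < Nat.card R) {x₁ x₂ x₃ a₁ a₂ : H} (hx₁ : x₁ ^ r = 1)
    (hx₂ : x₂ ^ r = 1) (hx₃ : x₃ ^ r = 1)
    (h12 : x₁ * x₂ = x₂ * x₁) (h13 : x₁ * x₃ = x₃ * x₁) (h23 : x₂ * x₃ = x₃ * x₂)
    (a11 : a₁ * x₁ * a₁⁻¹ = x₁) (a12 : a₁ * x₂ * a₁⁻¹ = x₂⁻¹) (a13 : a₁ * x₃ * a₁⁻¹ = x₃⁻¹)
    (a21 : a₂ * x₁ * a₂⁻¹ = x₁⁻¹) (a22 : a₂ * x₂ * a₂⁻¹ = x₂) (a23 : a₂ * x₃ * a₂⁻¹ = x₃⁻¹)
    (hθ : Nat.card (Set.range fun m : M => m + a₁ • m + a₂ • m + (a₁ * a₂) • m) ≤ 4)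
    (f : M →+ M →+ R) (halt : ∀ m, f m m = 0)
    (hinv : ∀ u v, f (x₁ • u) (x₁ • v) = f u v ∧ f (x₂ • u) (x₂ • v) = f u v ∧
      f (x₃ • u) (x₃ • v) = f u v)
    (hkey : ∀ v : M, ∀ R₀ : AddSubgroup R, R₀ ≠ ⊤ → (∀ u, f u v ∈ R₀) → x₁ • v = v) (v₀ : M)
    (hv1 : sg r x₁ v₀ = 0) (hv2 : sg r x₂ v₀ = 0) (hv3 : sg r x₃ v₀ = 0) : v₀ = 0 := by
  classical
  by_contra hv0
  have hrodd : Odd r := hp.out.odd_of_ne_two hr2
  obtain ⟨c, hc, hv'⟩ := exists_grid h2 hrodd hx₁ h12 hv0 hv1 hv2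
  set z : H := x₂ * (x₁ ^ c)⁻¹ with hz
  have cz1 : z * x₁ = x₁ * z := by
    have e : Commute x₂ x₁ := h12.symm
    exact (e.mul_left (((Commute.refl x₁).pow_left c).inv_left)).eq
  have cz3 : z * x₃ = x₃ * z := by
    have e : Commute x₂ x₃ := h23
    have e' : Commute x₁ x₃ := h13
    exact (e.mul_left ((e'.pow_left c).inv_left)).eq
  have hv'1 : sg r x₁ (sg r z v₀) = 0 := by rw [sg_comm cz1.symm, hv1, sg_zero]
  have hv'3 : sg r x₃ (sg r z v₀) = 0 := by rw [sg_comm cz3.symm, hv3, sg_zero]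
  obtain ⟨d, hd, hv''⟩ := exists_grid h2 hrodd hx₁ h13 hv' hv'1 hv'3
  set z' : H := x₃ * (x₁ ^ d)⁻¹ with hz'
  have cz'1 : z' * x₁ = x₁ * z' := by
    have e : Commute x₃ x₁ := h13.symm
    exact (e.mul_left (((Commute.refl x₁).pow_left d).inv_left)).eq
  have czz' : z * z' = z' * z := by
    have e1 : Commute z x₃ := cz3
    have e2 : Commute z x₁ := cz1
    exact (e1.mul_right ((e2.pow_right d).inv_right)).eq
  have hzr : z ^ r = 1 := by
    have e : Commute x₂ (x₁ ^ c)⁻¹ := ((show Commute x₂ x₁ from h12.symm).pow_right c).inv_right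
    rw [hz, e.mul_pow, hx₂, inv_pow, ← pow_mul, mul_comm c, pow_mul, hx₁, one_pow, inv_one, mul_one]
  have hz'r : z' ^ r = 1 := by
    have e : Commute x₃ (x₁ ^ d)⁻¹ := ((show Commute x₃ x₁ from h13.symm).pow_right d).inv_right
    rw [hz', e.mul_pow, hx₃, inv_pow, ← pow_mul, mul_comm d, pow_mul, hx₁, one_pow, inv_one, mul_one]
  -- the piece `E`
  let E : Set M := {v | z • v = v ∧ z' • v = v ∧ sg r x₁ v = 0}
  have hπ : ∀ u : M, sg r x₁ u = 0 → sg r z' (sg r z u) ∈ E := by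
    intro u hu
    refine ⟨?_, smul_sg hz'r _, ?_⟩
    · rw [smul_sg_of (a := z) (x := z') (y := z') (by rw [czz']; group), smul_sg hzr]
    · rw [sg_comm cz'1.symm, sg_comm cz1.symm, hu, sg_zero, sg_zero]
  set v : M := sg r z' (sg r z v₀) with hv
  have hvE : v ∈ E := hπ v₀ hv1
  have hfix2 : ∀ {y w : M} {g : H}, g • w = w → g⁻¹ • w = w := by
    intro y w g h
    rw [inv_smul_eq_iff, h]
  -- the units `2c`, `2d`
  have hu2 : ∀ n : ℕ, (n : ZMod r) ≠ 0 → IsUnit (((2 * n : ℕ)) : ZMod r) := by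
    intro n hn
    rw [isUnit_iff_ne_zero, Nat.cast_mul]
    refine mul_ne_zero ?_ hn
    intro h
    have h' : ((2 : ℕ) : ZMod r) = 0 := h
    rw [ZMod.natCast_eq_zero_iff] at h'
    exact hr2 ((Nat.prime_dvd_prime_iff_eq hp.out Nat.prime_two).mp h')
  -- `w` with `y x₁ⁿ w = w`, `S₁ w = 0`: `S_{y x₁^{-n}} w = 0`
  have hkill : ∀ (y : H) (n : ℕ) (w : M), y * x₁ = x₁ * y → (n : ZMod r) ≠ 0 →
      (y * x₁ ^ n) • w = w → sg r x₁ w = 0 → sg r (y * (x₁ ^ n)⁻¹) w = 0 := by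
    intro y n w hy hn hw hs
    have cy : Commute y x₁ := hy
    have e1 : (y * (x₁ ^ n)⁻¹) • w = (x₁ ^ (2 * n))⁻¹ • w := by
      have e2 : y * (x₁ ^ n)⁻¹ = (x₁ ^ (2 * n))⁻¹ * (y * x₁ ^ n) := by
        have c1 : Commute y (x₁ ^ (2 * n))⁻¹ := (cy.pow_right _).inv_right
        rw [← mul_assoc, ← c1.eq, mul_assoc]
        congr 1
        rw [two_mul, pow_add]
        group
      rw [e2, ← smul_smul, hw]
    have c2 : (y * (x₁ ^ n)⁻¹) * (x₁ ^ (2 * n))⁻¹ = (x₁ ^ (2 * n))⁻¹ * (y * (x₁ ^ n)⁻¹) := by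
      have c1 : Commute y (x₁ ^ (2 * n))⁻¹ := (cy.pow_right _).inv_right
      have c3 : Commute (x₁ ^ n)⁻¹ (x₁ ^ (2 * n))⁻¹ :=
        (((Commute.refl x₁).pow_left n).pow_right (2 * n)).inv_left.inv_right
      exact (c1.mul_left c3).eq
    rw [sg_congr c2 e1, sg_inv (by rw [← pow_mul, mul_comm, pow_mul, hx₁, one_pow]), sg_pow hx₁ (hu2 n hn), hs]
  have hsa : ∀ (a x : H), a * x * a⁻¹ = x ∨ a * x * a⁻¹ = x⁻¹ → x ^ r = 1 → ∀ w : M,
      sg r x (a • w) = a • sg r x w := by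
    intro a x h hx w
    rcases h with h | h
    · exact (smul_sg_of h w).symm
    · rw [smul_sg_of h w, sg_inv hx]
  have hcj : ∀ (a y : H) (w : M), y • w = w → (a * y * a⁻¹) • (a • w) = a • w := by
    intro a y w h
    rw [smul_smul, inv_mul_cancel_right, ← smul_smul, h]
  have ci : ∀ (a y y' : H) (n : ℕ), a * (y * (y' ^ n)⁻¹) * a⁻¹
      = (a * y * a⁻¹) * ((a * y' * a⁻¹) ^ n)⁻¹ := by
    intro a y y' n
    rw [conj_pow]
    group
  -- `θ` is injective on `E`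
  have hθE : ∀ w ∈ E, sg r z' (sg r z (w + a₁ • w + a₂ • w + (a₁ * a₂) • w)) = w := by
    intro w hw
    obtain ⟨w1, w2, w3⟩ := hw
    have e0 : sg r z w = w := sg_of_fix h2 hrodd w1
    have k1 : sg r x₁ (a₁ • w) = 0 := by rw [hsa a₁ x₁ (Or.inl a11) hx₁, w3, smul_zero]
    have k2 : sg r x₁ (a₂ • w) = 0 := by rw [hsa a₂ x₁ (Or.inr a21) hx₁, w3, smul_zero]
    have k3 : sg r x₁ ((a₁ * a₂) • w) = 0 := by
      rw [← smul_smul, hsa a₁ x₁ (Or.inl a11) hx₁, k2, smul_zero]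
    -- `a₁ w`
    have e1 : sg r z (a₁ • w) = 0 := by
      refine hkill x₂ c _ h12.symm hc ?_ k1
      have h := hcj a₁ z w w1
      rw [hz, ci, a12, a11] at h
      have h' := hfix2 (y := w) h
      rw [mul_inv_rev, inv_inv, inv_inv] at h'
      have e : Commute (x₁ ^ c) x₂ := (show Commute x₁ x₂ from h12).pow_left c
      rwa [e.eq] at h'
    have e2 : sg r z (a₂ • w) = 0 := by
      refine hkill x₂ c _ h12.symm hc ?_ k2
      have h := hcj a₂ z w w1
      rw [hz, ci, a22, a21, inv_pow, inv_inv] at h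
      exact h
    have h3 : (a₁ * a₂) • w = a₁ • (a₂ • w) := (smul_smul _ _ _).symm
    have e3 : sg r z ((a₁ * a₂) • w) = (a₁ * a₂) • w := by
      refine sg_of_fix h2 hrodd ?_
      have h := hcj a₂ z w w1
      rw [hz, ci, a22, a21, inv_pow, inv_inv] at h
      have h' := hcj a₁ _ _ h
      have e : a₁ * (x₂ * x₁ ^ c) * a₁⁻¹ = z⁻¹ := by
        have e5 : a₁ * (x₂ * x₁ ^ c) * a₁⁻¹ = (a₁ * x₂ * a₁⁻¹) * (a₁ * x₁ * a₁⁻¹) ^ c := by
          rw [conj_pow]
          group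
        rw [e5, a12, a11, hz, mul_inv_rev, inv_inv]
        exact ((show Commute x₂ x₁ from h12.symm).inv_left.pow_right c).eq
      rw [e] at h'
      have h'' := hfix2 (y := w) h'
      rw [inv_inv] at h''
      rw [h3]
      exact h''
    have e4 : sg r z' ((a₁ * a₂) • w) = 0 := by
      refine hkill x₃ d _ h13.symm hd ?_ k3
      have h := hcj a₂ z' w w2
      rw [hz', ci, a23, a21, inv_pow, inv_inv] at h
      have h' := hcj a₁ _ _ h
      have e : a₁ * (x₃⁻¹ * x₁ ^ d) * a₁⁻¹ = x₃ * x₁ ^ d := by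
        have e5 : a₁ * (x₃⁻¹ * x₁ ^ d) * a₁⁻¹ = (a₁ * x₃ * a₁⁻¹)⁻¹ * (a₁ * x₁ * a₁⁻¹) ^ d := by
          rw [conj_pow]
          group
        rw [e5, a13, a11, inv_inv]
      rw [e] at h'
      rw [h3]
      exact h'
    have e5 : sg r z (w + a₁ • w + a₂ • w + (a₁ * a₂) • w) = w + (a₁ * a₂) • w := by
      rw [sg_add, sg_add, sg_add, e0, e1, e2, e3, add_zero, add_zero]
    rw [e5, sg_add, e4, sg_of_fix h2 hrodd w2, add_zero]
  have hEcard : Nat.card E ≤ 4 := by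
    refine le_trans (Nat.card_le_card_of_injective
      (fun w : E => (⟨(w : M) + a₁ • (w : M) + a₂ • (w : M) + (a₁ * a₂) • (w : M), ⟨w, rfl⟩⟩ :
        Set.range fun m : M => m + a₁ • m + a₂ • m + (a₁ * a₂) • m)) ?_) hθ
    intro w w' h
    have h' := congrArg Subtype.val h
    dsimp only at h'
    apply Subtype.ext
    rw [← hθE w w.2, ← hθE w' w'.2, h']
  -- the form
  have hodd2 : ∀ s : R, (r : ℕ) • s = s := by
    intro s
    obtain ⟨k, hk⟩ := hrodd
    rw [hk, add_smul, mul_comm, mul_smul, two_nsmul, hR2, smul_zero, zero_add, one_smul]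
  have hinvp : ∀ {g : H}, (∀ u w, f (g • u) (g • w) = f u w) → ∀ (n : ℕ) (u w : M),
      f (g ^ n • u) (g ^ n • w) = f u w := by
    intro g hg n
    induction n with
    | zero => intro u w; rw [pow_zero, one_smul, one_smul]
    | succ n ih => intro u w; rw [pow_succ', ← smul_smul, ← smul_smul, hg, ih]
  have hinvi : ∀ {g : H}, (∀ u w, f (g • u) (g • w) = f u w) → ∀ (u w : M),
      f (g⁻¹ • u) (g⁻¹ • w) = f u w := by
    intro g hg u w
    rw [← hg (g⁻¹ • u) (g⁻¹ • w), smul_inv_smul, smul_inv_smul]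
  have hi1 : ∀ u w, f (x₁ • u) (x₁ • w) = f u w := fun u w => (hinv u w).1
  have hi2 : ∀ u w, f (x₂ • u) (x₂ • w) = f u w := fun u w => (hinv u w).2.1
  have hi3 : ∀ u w, f (x₃ • u) (x₃ • w) = f u w := fun u w => (hinv u w).2.2
  have hiz : ∀ u w, f (z • u) (z • w) = f u w := by
    intro u w
    rw [hz, ← smul_smul, ← smul_smul, hi2, hinvi (hinvp hi1 c)]
  have hiz' : ∀ u w, f (z' • u) (z' • w) = f u w := by
    intro u w
    rw [hz', ← smul_smul, ← smul_smul, hi3, hinvi (hinvp hi1 d)]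
  have hpowfix : ∀ {g : H} {w : M}, g • w = w → ∀ n : ℕ, g ^ n • w = w := by
    intro g w h n
    induction n with
    | zero => rw [pow_zero, one_smul]
    | succ n ih => rw [pow_succ, ← smul_smul, h, ih]
  have hsf : ∀ {g : H}, (∀ u w, f (g • u) (g • w) = f u w) → ∀ u w : M, g • w = w →
      f (sg r g u) w = f u w := by
    intro g hg u w hw
    have e1 : f (sg r g u) w = ∑ k : ZMod r, f (g ^ k.val • u) w := by
      unfold sg
      rw [map_sum, AddMonoidHom.finsetSum_apply]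
    have e2 : ∀ k : ZMod r, f (g ^ k.val • u) w = f u w := by
      intro k
      conv_lhs => rw [← hpowfix hw k.val]
      exact hinvp hg _ _ _
    rw [e1, Finset.sum_congr rfl fun k _ => e2 k, Finset.sum_const, Finset.card_univ, ZMod.card]
    exact hodd2 _
  have hperp : ∀ u w : M, sg r x₁ w = 0 → f (sg r x₁ u) w = 0 := by
    intro u w hw
    have e0 : x₁ • sg r x₁ u = sg r x₁ u := smul_sg hx₁ u
    have e1 : ∀ k : ZMod r, f (sg r x₁ u) w = f (sg r x₁ u) (x₁ ^ k.val • w) := by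
      intro k
      rw [← hinvp hi1 k.val (sg r x₁ u) w, hpowfix e0]
    have e2 : ∑ k : ZMod r, f (sg r x₁ u) (x₁ ^ k.val • w) = f (sg r x₁ u) (sg r x₁ w) := by
      unfold sg
      rw [← map_sum]
    rw [hw, map_zero, ← Finset.sum_congr rfl fun k _ => e1 k, Finset.sum_const, Finset.card_univ,
      ZMod.card] at e2
    exact (hodd2 _).symm.trans e2
  have hE : ∀ u : M, ∃ e ∈ E, f u v = f e v := by
    intro u
    have h0 : sg r x₁ (u + sg r x₁ u) = 0 := by
      rw [sg_add, sg_of_fix h2 hrodd (smul_sg hx₁ u), h2]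
    refine ⟨_, hπ _ h0, ?_⟩
    rw [hsf hiz' _ _ hvE.2.1, hsf hiz _ _ hvE.1, map_add, AddMonoidHom.add_apply,
      hperp u v hvE.2.2, add_zero]
  have hEadd : ∀ a ∈ E, ∀ b ∈ E, a + b ∈ E := by
    rintro a ⟨p1, p2, p3⟩ b ⟨q1, q2, q3⟩
    exact ⟨by rw [smul_add, p1, q1], by rw [smul_add, p2, q2], by rw [sg_add, p3, q3, add_zero]⟩
  have hE0 : (0 : M) ∈ E := ⟨smul_zero _, smul_zero _, sg_zero _⟩
  have hfix : x₁ • v = v := by
    by_cases hall : ∀ e ∈ E, f e v = 0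
    · refine hkey v ⊥ ?_ ?_
      · intro h
        have h1 : Nat.card (⊥ : AddSubgroup R) = Nat.card R := by rw [h, AddSubgroup.card_top]
        rw [AddSubgroup.card_bot] at h1
        omega
      · intro u
        obtain ⟨e, he, heq⟩ := hE u
        rw [heq, hall e he]
        exact zero_mem _
    · push Not at hall
      obtain ⟨e₁, he₁, hne⟩ := hall
      refine hkey v (AddSubgroup.zmultiples (f e₁ v)) ?_ ?_
      · intro h
        have h1 : Nat.card (AddSubgroup.zmultiples (f e₁ v)) = Nat.card R := by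
          rw [h, AddSubgroup.card_top]
        rw [Nat.card_zmultiples] at h1
        have h3 : addOrderOf (f e₁ v) ∣ 2 :=
          addOrderOf_dvd_of_nsmul_eq_zero (by rw [two_nsmul]; exact hR2 _)
        have h4 := Nat.le_of_dvd (by norm_num) h3
        omega
      · intro u
        obtain ⟨e, he, heq⟩ := hE u
        rw [heq]
        by_cases h0 : e = 0
        · rw [h0, map_zero, AddMonoidHom.zero_apply]
          exact zero_mem _
        by_cases h1 : e = v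
        · rw [h1, halt]
          exact zero_mem _
        by_cases h3 : e = e₁
        · rw [h3]
          exact AddSubgroup.mem_zmultiples _
        by_cases h4 : e = e₁ + v
        · rw [h4, map_add, AddMonoidHom.add_apply, halt, add_zero]
          exact AddSubgroup.mem_zmultiples _
        exfalso
        have e10 : e₁ ≠ 0 := by
          rintro rfl
          exact hne (by rw [map_zero, AddMonoidHom.zero_apply])
        have e1v : e₁ ≠ v := by
          rintro rfl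
          exact hne (halt _)
        refine five (S := E) hEcard (u₁ := e₁) (u₂ := v) (u₃ := e) hE0 he₁ hvE he (hEadd _ he₁ _ hvE)
          e10 hv'' h0 e1v (fun h => h3 h.symm) (fun h => h1 h.symm) ?_ (fun h => h4 h.symm)
        intro h
        apply e1v
        calc e₁ = e₁ + (v + v) := by rw [h2, add_zero]
          _ = (e₁ + v) + v := by rw [add_assoc]
          _ = v := by rw [h, zero_add]
  have h1 := sg_of_fix (r := r) h2 hrodd hfix
  rw [hvE.2.2] at h1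
  exact hv'' h1.symm

/-- **#12397, core.** `x₁` centralises `[M, a₁]`. -/
theorem core [Finite M] {r : ℕ} [hp : Fact r.Prime] (hr2 : r ≠ 2) (h2 : ∀ m : M, m + m = 0)
    (hR2 : ∀ s : R, s + s = 0) (hR : 2 < Nat.card R) {x₁ x₂ x₃ a₁ a₂ t : H} (hx₁ : x₁ ^ r = 1)
    (h12 : x₁ * x₂ = x₂ * x₁) (h13 : x₁ * x₃ = x₃ * x₁) (h23 : x₂ * x₃ = x₃ * x₂)
    (a11 : a₁ * x₁ * a₁⁻¹ = x₁) (a12 : a₁ * x₂ * a₁⁻¹ = x₂⁻¹) (a13 : a₁ * x₃ * a₁⁻¹ = x₃⁻¹)
    (a21 : a₂ * x₁ * a₂⁻¹ = x₁⁻¹) (a22 : a₂ * x₂ * a₂⁻¹ = x₂) (a23 : a₂ * x₃ * a₂⁻¹ = x₃⁻¹)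
    (hA2 : a₂ * a₂ = 1) (hA12 : a₁ * a₂ = a₂ * a₁)
    (t1 : t * x₁ * t⁻¹ = x₂) (t2 : t * x₂ * t⁻¹ = x₃) (t3 : t * x₃ * t⁻¹ = x₁)
    (ta1 : t * a₁ * t⁻¹ = a₂) (ta2 : t * a₂ * t⁻¹ = a₁ * a₂)
    (hθ : Nat.card (Set.range fun m : M => m + a₁ • m + a₂ • m + (a₁ * a₂) • m) ≤ 4)
    (f : M →+ M →+ R) (halt : ∀ m, f m m = 0)
    (hinv : ∀ u v, f (x₁ • u) (x₁ • v) = f u v ∧ f (x₂ • u) (x₂ • v) = f u v ∧
      f (x₃ • u) (x₃ • v) = f u v)
    (hkey : ∀ v : M, ∀ R₀ : AddSubgroup R, R₀ ≠ ⊤ → (∀ u, f u v ∈ R₀) → x₁ • v = v) (m : M) :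
    x₁ • (m + a₁ • m) = m + a₁ • m := by
  classical
  have hrodd : Odd r := hp.out.odd_of_ne_two hr2
  have hx₂ : x₂ ^ r = 1 := by rw [← t1, conj_pow, hx₁]; group
  have hx₃ : x₃ ^ r = 1 := by rw [← t2, conj_pow, hx₂]; group
  have hsa : ∀ (a x : H), a * x * a⁻¹ = x ∨ a * x * a⁻¹ = x⁻¹ → x ^ r = 1 → ∀ w : M,
      sg r x (a • w) = a • sg r x w := by
    intro a x h hx w
    rcases h with h | h
    · exact (smul_sg_of h w).symm
    · rw [smul_sg_of h w, sg_inv hx]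
  have hss : ∀ {x : H}, x ^ r = 1 → ∀ w : M, sg r x (sg r x w) = sg r x w := fun hx w =>
    sg_of_fix h2 hrodd (smul_sg hx w)
  have h0 := no_three hr2 h2 hR2 hR hx₁ hx₂ hx₃ h12 h13 h23 a11 a12 a13 a21 a22 a23 hθ f halt hinv hkey
  -- the image of `θ`
  set θ : M → M := fun m => m + a₁ • m + a₂ • m + (a₁ * a₂) • m with hθdef
  have hθx : ∀ (x : H), (a₁ * x * a₁⁻¹ = x ∨ a₁ * x * a₁⁻¹ = x⁻¹) →
      (a₂ * x * a₂⁻¹ = x ∨ a₂ * x * a₂⁻¹ = x⁻¹) → x ^ r = 1 → ∀ w, sg r x (θ w) = θ (sg r x w) := by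
    intro x ha hb hx w
    rw [hθdef]
    dsimp only
    rw [sg_add, sg_add, sg_add, hsa a₁ x ha hx, hsa a₂ x hb hx, ← smul_smul, hsa a₁ x ha hx,
      hsa a₂ x hb hx, smul_smul]
  have hθ1 : ∀ w, sg r x₁ (θ w) = θ (sg r x₁ w) := hθx x₁ (Or.inl a11) (Or.inr a21) hx₁
  have hθ2 : ∀ w, sg r x₂ (θ w) = θ (sg r x₂ w) := hθx x₂ (Or.inr a12) (Or.inl a22) hx₂
  have hθ3 : ∀ w, sg r x₃ (θ w) = θ (sg r x₃ w) := hθx x₃ (Or.inr a13) (Or.inr a23) hx₃
  have hta3 : t * (a₁ * a₂) * t⁻¹ = a₁ := by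
    calc t * (a₁ * a₂) * t⁻¹ = (t * a₁ * t⁻¹) * (t * a₂ * t⁻¹) := by group
      _ = a₂ * (a₁ * a₂) := by rw [ta1, ta2]
      _ = a₁ := by rw [hA12, ← mul_assoc, hA2, one_mul]
  have hcs : ∀ {a b : H}, t * a * t⁻¹ = b → ∀ w : M, t • (a • w) = b • (t • w) := by
    intro a b h w
    rw [smul_smul, smul_smul, ← h, inv_mul_cancel_right]
  have hθt : ∀ w, t • θ w = θ (t • w) := by
    intro w
    rw [hθdef]
    dsimp only
    rw [smul_add, smul_add, smul_add, hcs ta1, hcs ta2, hcs hta3]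
    abel
  have hθadd : ∀ u w, θ (u + w) = θ u + θ w := by
    intro u w
    rw [hθdef]
    dsimp only
    rw [smul_add, smul_add, smul_add]
    abel
  have hθzero : θ 0 = 0 := by
    rw [hθdef]
    dsimp only
    rw [smul_zero, smul_zero, smul_zero, add_zero, add_zero, add_zero]
  set Θ : Set M := Set.range θ with hΘ
  have Θ0 : (0 : M) ∈ Θ := ⟨0, hθzero⟩
  have Θadd : ∀ u ∈ Θ, ∀ w ∈ Θ, u + w ∈ Θ := by
    rintro _ ⟨u, rfl⟩ _ ⟨w, rfl⟩
    exact ⟨u + w, hθadd u w⟩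
  have Θ1 : ∀ u ∈ Θ, sg r x₁ u ∈ Θ := by
    rintro _ ⟨u, rfl⟩
    exact ⟨_, (hθ1 u).symm⟩
  have Θ2 : ∀ u ∈ Θ, sg r x₂ u ∈ Θ := by
    rintro _ ⟨u, rfl⟩
    exact ⟨_, (hθ2 u).symm⟩
  have Θ3 : ∀ u ∈ Θ, sg r x₃ u ∈ Θ := by
    rintro _ ⟨u, rfl⟩
    exact ⟨_, (hθ3 u).symm⟩
  have Θt : ∀ u ∈ Θ, t • u ∈ Θ := by
    rintro _ ⟨u, rfl⟩
    exact ⟨_, (hθt u).symm⟩
  -- transport by `t`
  have st1 : ∀ w : M, t • sg r x₁ w = sg r x₂ (t • w) := fun w => smul_sg_of t1 w
  have st2 : ∀ w : M, t • sg r x₂ w = sg r x₃ (t • w) := fun w => smul_sg_of t2 w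
  have st3 : ∀ w : M, t • sg r x₃ w = sg r x₁ (t • w) := fun w => smul_sg_of t3 w
  have htne : ∀ {w : M}, w ≠ 0 → t • w ≠ 0 := by
    intro w hw h
    exact hw ((smul_eq_zero_iff_eq t).mp h)
  have hdd : ∀ {u w : M}, u + w = 0 → u = w := by
    intro u w h
    calc u = u + (w + w) := by rw [h2, add_zero]
      _ = (u + w) + w := by rw [add_assoc]
      _ = w := by rw [h, zero_add]
  -- pieces with one support
  have hone : ∀ u ∈ Θ, sg r x₁ u = 0 → sg r x₂ u = u → sg r x₃ u = u → u = 0 := by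
    intro u hu s1 s2 s3
    by_contra hu0
    have e21 : sg r x₂ (t • u) = 0 := by rw [← st1, s1, smul_zero]
    have e23 : sg r x₃ (t • u) = t • u := by rw [← st2, s2]
    have e22 : sg r x₁ (t • u) = t • u := by rw [← st3, s3]
    have e31 : sg r x₃ (t • t • u) = 0 := by rw [← st2, e21, smul_zero]
    refine five (S := Θ) hθ Θ0 hu (Θt _ hu) (Θt _ (Θt _ hu)) (Θadd _ hu _ (Θt _ hu)) hu0 (htne hu0)
      (htne (htne hu0)) ?_ ?_ ?_ ?_ ?_
    · intro h
      apply htne hu0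
      rw [← e22, ← h, s1]
    · intro h
      apply hu0
      rw [← s3, h, e31]
    · intro h
      apply htne hu0
      rw [← e23, h, e31]
    · intro h
      apply htne hu0
      rw [← e22, ← hdd h, s1]
    · intro h
      have h' : u + t • u = 0 := by
        have := congrArg (sg r x₃) h
        rwa [sg_add, s3, e23, e31] at this
      apply htne hu0
      rw [← e22, ← hdd h', s1]
  have htwo : ∀ u ∈ Θ, sg r x₁ u = u → sg r x₂ u = 0 → sg r x₃ u = 0 → u = 0 := by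
    intro u hu s1 s2 s3
    by_contra hu0
    have e22 : sg r x₂ (t • u) = t • u := by rw [← st1, s1]
    have e23 : sg r x₃ (t • u) = 0 := by rw [← st2, s2, smul_zero]
    have e21 : sg r x₁ (t • u) = 0 := by rw [← st3, s3, smul_zero]
    have e33 : sg r x₃ (t • t • u) = t • t • u := by rw [← st2, e22]
    refine five (S := Θ) hθ Θ0 hu (Θt _ hu) (Θt _ (Θt _ hu)) (Θadd _ hu _ (Θt _ hu)) hu0 (htne hu0)
      (htne (htne hu0)) ?_ ?_ ?_ ?_ ?_
    · intro h
      apply hu0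
      rw [← s1, h, e21]
    · intro h
      apply htne (htne hu0)
      rw [← e33, ← h, s3]
    · intro h
      apply htne (htne hu0)
      rw [← e33, ← h, e23]
    · intro h
      apply hu0
      rw [← s1, hdd h, e21]
    · intro h
      apply htne (htne hu0)
      rw [← e33, ← h, sg_add, s3, e23, add_zero]
  have c12 : ∀ w : M, sg r x₁ (sg r x₂ w) = sg r x₂ (sg r x₁ w) := sg_comm h12
  have c13 : ∀ w : M, sg r x₁ (sg r x₃ w) = sg r x₃ (sg r x₁ w) := sg_comm h13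
  have c23 : ∀ w : M, sg r x₂ (sg r x₃ w) = sg r x₃ (sg r x₂ w) := sg_comm h23
  -- the same for the other positions
  have hone' : ∀ u ∈ Θ, sg r x₂ u = 0 → sg r x₁ u = u → sg r x₃ u = u → u = 0 := by
    intro u hu s2 s1 s3
    have e1 := Θt _ (Θt _ hu)
    have e := hone (t • t • u) e1 (by rw [← st3, ← st2, s2, smul_zero, smul_zero])
      (by rw [← st1, ← st3, s3]) (by rw [← st2, ← st1, s1])
    by_contra hu0
    exact htne (htne hu0) e
  have htwo2 : ∀ u ∈ Θ, sg r x₂ u = u → sg r x₁ u = 0 → sg r x₃ u = 0 → u = 0 := by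
    intro u hu s2 s1 s3
    have e1 := Θt _ (Θt _ hu)
    have e := htwo (t • t • u) e1 (by rw [← st3, ← st2, s2])
      (by rw [← st1, ← st3, s3, smul_zero, smul_zero]) (by rw [← st2, ← st1, s1, smul_zero, smul_zero])
    by_contra hu0
    exact htne (htne hu0) e
  have htwo3 : ∀ u ∈ Θ, sg r x₃ u = u → sg r x₁ u = 0 → sg r x₂ u = 0 → u = 0 := by
    intro u hu s3 s1 s2
    have e := htwo (t • u) (Θt _ hu) (by rw [← st3, s3])
      (by rw [← st1, s1, smul_zero]) (by rw [← st2, s2, smul_zero])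
    by_contra hu0
    exact htne hu0 e
  -- `(1 + S₁) θ = 0`
  have hp1 : ∀ u ∈ Θ, sg r x₁ u = u := by
    intro u hu
    have hd : ∀ {x : H}, x ^ r = 1 → ∀ w : M, sg r x (w + sg r x w) = 0 := by
      intro x hx w
      rw [sg_add, hss hx, h2]
    have hu1 : u + sg r x₁ u ∈ Θ := Θadd _ hu _ (Θ1 _ hu)
    set w := u + sg r x₁ u with hw
    have w1 : sg r x₁ w = 0 := hd hx₁ u
    -- `S₂ S₃ w = 0`
    have e23 : sg r x₂ (sg r x₃ w) = 0 := hone _ (Θ2 _ (Θ3 _ hu1))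
      (by rw [c12, c13, w1, sg_zero, sg_zero]) (hss hx₂ _) (by rw [← c23, hss hx₃])
    -- `S₂ w = 0`
    have e2 : sg r x₂ w = 0 := htwo2 _ (Θ2 _ hu1) (hss hx₂ _) (by rw [c12, w1, sg_zero])
      (by rw [← c23, e23])
    have e3 : sg r x₃ w = 0 := htwo3 _ (Θ3 _ hu1) (hss hx₃ _) (by rw [c13, w1, sg_zero]) e23
    have e := h0 w w1 e2 e3
    exact (hdd (hw ▸ e)).symm
  -- the vector `k`
  have hKK : ∀ w : M, a₂ • ((w + a₁ • w) + sg r x₁ (w + a₁ • w)) = (w + a₁ • w) + sg r x₁ (w + a₁ • w) := by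
    intro w
    have e1 : θ w = (w + a₁ • w) + a₂ • (w + a₁ • w) := by
      rw [hθdef]
      dsimp only
      rw [smul_add, smul_smul, hA12]
      abel
    have e2 := hp1 (θ w) ⟨w, rfl⟩
    rw [e1, sg_add, hsa a₂ x₁ (Or.inr a21) hx₁] at e2
    have e3 : (w + a₁ • w) + sg r x₁ (w + a₁ • w) = a₂ • (w + a₁ • w) + a₂ • sg r x₁ (w + a₁ • w) := by
      apply hdd
      have : (w + a₁ • w) + sg r x₁ (w + a₁ • w) + (a₂ • (w + a₁ • w) + a₂ • sg r x₁ (w + a₁ • w))
          = ((w + a₁ • w) + a₂ • (w + a₁ • w)) + (sg r x₁ (w + a₁ • w) + a₂ • sg r x₁ (w + a₁ • w)) := by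
        abel
      rw [this, e2, h2]
    rw [smul_add, ← e3]
  set k : M := (m + a₁ • m) + sg r x₁ (m + a₁ • m) with hk
  have hk1 : a₂ • k = k := hKK m
  have hxk : x₁ • k = (x₁ • m + a₁ • (x₁ • m)) + sg r x₁ (x₁ • m + a₁ • (x₁ • m)) := by
    have e1 : ∀ w : M, x₁ • sg r x₁ w = sg r x₁ (x₁ • w) := fun w => smul_sg_of (by group) w
    have e2 : x₁ • (a₁ • m) = a₁ • (x₁ • m) := by
      rw [smul_smul, smul_smul]
      congr 1
      have := a11
      rw [mul_inv_eq_iff_eq_mul] at this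
      exact this.symm
    rw [hk, smul_add, smul_add, e1, smul_add, e2]
  have hk2 : a₂ • (x₁ • k) = x₁ • k := by rw [hxk]; exact hKK _
  have hk3 : x₁⁻¹ • k = x₁ • k := by
    rw [← hk2, smul_smul]
    have e : a₂ * x₁ = x₁⁻¹ * a₂ := by
      rw [← a21, inv_mul_cancel_right]
    rw [e, ← smul_smul, hk1]
  have hk4 : x₁ • (x₁ • k) = k := by rw [← hk3, smul_inv_smul]
  have hk5 : x₁ • k = k := by
    obtain ⟨j, hj⟩ := hrodd
    have h1 : ∀ n : ℕ, x₁ ^ (2 * n) • k = k := by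
      intro n
      induction n with
      | zero => rw [mul_zero, pow_zero, one_smul]
      | succ n ih => rw [mul_add, mul_one, pow_add, ← smul_smul, pow_two, ← smul_smul, hk4, ih]
    have h3 : x₁ ^ (2 * j + 1) • k = k := by rw [← hj, hx₁, one_smul]
    rwa [pow_succ', ← smul_smul, h1] at h3
  have hk6 : sg r x₁ k = 0 := by rw [hk, sg_add, hss hx₁, h2]
  have hk7 : k = 0 := by rw [← hk6]; exact (sg_of_fix h2 hrodd hk5).symm
  have hk8 : m + a₁ • m = sg r x₁ (m + a₁ • m) := hdd (hk ▸ hk7)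
  rw [hk8]
  exact smul_sg hx₁ _

end Core

end Cfsg.Agent.Omega.Lie.OddQ4
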