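import Cfsg.Agent.Omega.Lie.OddPart
import Cfsg.Agent.Omega.Lie.OddQ4Core

/-!
# NODE LIE, `q = 4` (#12397, helper844; referee #12569): `A` centralises `O(H⁰)`
-/

set_option autoImplicit false

namespace Cfsg.Agent.Omega.Lie.OddQ4

open Subgroup
open scoped commutatorElement
open OddPart (eq_one_of_inv)

section main

variable {G : Type*} [Group G]

/-- Reduction to weight elements with commuting conjugates (the first half of `OddPart.centralizes`,
helper843): `A` elementary abelian 2-group, `T ≤ N(A)` semiregular on the hyperplanes of `A`, `R` solvable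
of odd order normalised by `A` and `T`. If `A` centralises every `x ∈ R` which is centralised or inverted
by every element of `A` and whose `T`-conjugates commute, then `A` centralises `R`. -/
theorem reduce [Finite G] {A T : Subgroup G} (hA : ∀ a ∈ A, a * a = 1)
    (hTA : T ≤ normalizer (A : Set G))
    (hsemi : ∀ t ∈ T, t ≠ 1 → ∀ B : Subgroup G, B ≤ A → B.relIndex A = 2 → ∃ b ∈ B, t * b * t⁻¹ ∉ B) :
    ∀ (n : ℕ) (R : Subgroup G), Nat.card R ≤ n → Odd (Nat.card R) → Group.IsSolvable R →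
      A ≤ normalizer (R : Set G) → T ≤ normalizer (R : Set G) →
      (∀ x ∈ R, (∀ a ∈ A, a * x * a⁻¹ = x ∨ a * x * a⁻¹ = x⁻¹) →
        (∀ s ∈ T, ∀ t ∈ T, (s * x * s⁻¹) * (t * x * t⁻¹) = (t * x * t⁻¹) * (s * x * s⁻¹)) →
        ∀ a ∈ A, a * x = x * a) →
      ∀ x ∈ R, ∀ a ∈ A, a * x = x * a := by
  classical
  intro n
  induction n with
  | zero =>
    intro R hR
    exact absurd hR (by have := Nat.card_pos (α := R); omega)
  | succ n ih =>
    intro R hRn hRodd hRs hAR hTR hC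
    by_cases hRbot : R = ⊥
    · intro x hx a _
      rw [hRbot, mem_bot] at hx
      rw [hx, mul_one, one_mul]
    have hAc : ∀ a ∈ A, ∀ b ∈ A, a * b = b * a := by
      intro a ha b hb
      have e1 : a⁻¹ = a := inv_eq_of_mul_eq_one_right (hA a ha)
      have e2 : b⁻¹ = b := inv_eq_of_mul_eq_one_right (hA b hb)
      have e3 : (a * b)⁻¹ = a * b := inv_eq_of_mul_eq_one_right (hA _ (mul_mem ha hb))
      rw [← e3, mul_inv_rev, e1, e2]
    -- the derived subgroup is centralised by `A`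
    have hlt : ⁅R, R⁆ < R := by
      refine lt_of_le_of_ne (commutator_le_self R) fun h => ?_
      apply hRbot
      have hc : commutator R = ⊤ := by
        rw [eq_top_iff, _root_.commutator_def]
        intro x _
        have hx : (x : G) ∈ ⁅R, R⁆ := by rw [h]; exact x.2
        have e : (⁅(⊤ : Subgroup R), (⊤ : Subgroup R)⁆ : Subgroup R).map R.subtype = ⁅R, R⁆ := by
          rw [map_commutator, ← MonoidHom.range_eq_map, R.range_subtype]
        rw [← e] at hx
        obtain ⟨y, hy, hyx⟩ := hx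
        have : y = x := Subtype.ext hyx
        rwa [← this]
      have htb : (⊤ : Subgroup R) = ⊥ := by
        obtain ⟨m, hm⟩ := hRs
        have hall : ∀ k, derivedSeries R k = ⊤ := by
          intro k
          induction k with
          | zero => rfl
          | succ k ihk => rw [derivedSeries_succ, ihk, ← _root_.commutator_def, hc]
        rw [hall m] at hm
        exact hm
      rw [eq_bot_iff]
      intro x hx
      have h2 : (⟨x, hx⟩ : R) ∈ (⊥ : Subgroup R) := by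
        rw [← htb]
        exact mem_top _
      rw [mem_bot] at h2 ⊢
      exact congrArg Subtype.val h2
    have hnorm : ∀ {K : Subgroup G}, K ≤ normalizer (R : Set G) →
        K ≤ normalizer ((⁅R, R⁆ : Subgroup G) : Set G) := by
      intro K hK g hg
      have hgR : R.map (MulAut.conj g).toMonoidHom = R := by
        apply le_antisymm
        · rintro _ ⟨x, hx, rfl⟩
          exact (mem_normalizer_iff.mp (hK hg) x).mp hx
        · intro x hx
          refine ⟨g⁻¹ * x * g, ?_, ?_⟩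
          · have := (mem_normalizer_iff.mp (inv_mem (hK hg)) x).mp hx
            simpa using this
          · change g * (g⁻¹ * x * g) * g⁻¹ = x
            group
      have hgD : (⁅R, R⁆).map (MulAut.conj g).toMonoidHom = ⁅R, R⁆ := by
        rw [map_commutator, hgR]
      rw [mem_normalizer_iff]
      intro x
      constructor
      · intro hx
        rw [← hgD]
        exact ⟨x, hx, rfl⟩
      · intro hx
        rw [← hgD] at hx
        obtain ⟨y, hy, hyx⟩ := hx
        have : y = x := by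
          have e : g * y * g⁻¹ = g * x * g⁻¹ := hyx
          exact mul_left_cancel (mul_right_cancel e)
        rwa [← this]
    have hcardlt : Nat.card (⁅R, R⁆ : Subgroup G) < Nat.card R := by
      have h1 : Nat.card (⁅R, R⁆ : Subgroup G) ∣ Nat.card R := card_dvd_of_le hlt.le
      refine lt_of_le_of_ne (Nat.le_of_dvd Nat.card_pos h1) fun h => ?_
      exact hlt.ne (eq_of_le_of_card_ge hlt.le h.ge)
    have hDsolv : Group.IsSolvable (⁅R, R⁆ : Subgroup G) := by
      have := hRs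
      exact Group.isSolvable_of_isSolvable_injective (inclusion_injective hlt.le)
    have hD : ∀ x ∈ (⁅R, R⁆ : Subgroup G), ∀ a ∈ A, a * x = x * a :=
      ih ⁅R, R⁆ (by omega) (Odd.of_dvd_nat hRodd (card_dvd_of_le hlt.le)) hDsolv (hnorm hAR)
        (hnorm hTR) (fun x hx => hC x (hlt.le hx))
    have hordR : ∀ x ∈ R, Odd (orderOf x) := by
      intro x hx
      refine Odd.of_dvd_nat hRodd ?_
      have : orderOf (⟨x, hx⟩ : R) ∣ Nat.card R := orderOf_dvd_natCard _
      rwa [← Subgroup.orderOf_coe] at this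
    -- reduce to weight elements
    have hgen := SignalizersComponents.OddWeights.closure_weights R A hRodd hAc hA
      (fun a ha x hx => (mem_normalizer_iff.mp (hAR ha) x).mp hx)
    suffices hw : ∀ x ∈ R, (∀ a ∈ A, a * x * a⁻¹ = x ∨ a * x * a⁻¹ = x⁻¹) →
        ∀ a ∈ A, a * x = x * a by
      intro x hx a ha
      have hle : R ≤ centralizer ({a} : Set G) := by
        rw [← hgen, closure_le]
        rintro y ⟨hy, hyw⟩
        rw [SetLike.mem_coe, mem_centralizer_singleton_iff]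
        exact (hw y hy hyw a ha).symm
      exact (mem_centralizer_singleton_iff.mp (hle hx)).symm
    intro x hx hxw
    by_contra hcon
    push Not at hcon
    obtain ⟨a₀, ha₀, hxa₀⟩ := hcon
    have hcomm_iff : ∀ a y : G, a * y * a⁻¹ = y ↔ a * y = y * a := by
      intro a y
      rw [mul_inv_eq_iff_eq_mul]
    -- the hyperplane
    let B : Subgroup G := A ⊓ centralizer ({x} : Set G)
    have hBmem : ∀ a, a ∈ B ↔ a ∈ A ∧ a * x * a⁻¹ = x := by
      intro a
      change a ∈ A ∧ a ∈ centralizer ({x} : Set G) ↔ _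
      rw [mem_centralizer_singleton_iff, hcomm_iff]
    have hinv : ∀ a ∈ A, a ∉ B → a * x * a⁻¹ = x⁻¹ := by
      intro a ha haB
      rcases hxw a ha with h | h
      · exact absurd ((hBmem a).mpr ⟨ha, h⟩) haB
      · exact h
    have hBA : B ≤ A := inf_le_left
    have ha₀B : a₀ ∉ B := by
      intro h
      exact hxa₀ ((hcomm_iff a₀ x).mp ((hBmem a₀).mp h).2)
    have hmulB : ∀ a ∈ A, ∀ b ∈ A, a ∉ B → b ∉ B → a * b ∈ B := by
      intro a ha b hb haB hbB
      rw [hBmem]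
      refine ⟨mul_mem ha hb, ?_⟩
      calc a * b * x * (a * b)⁻¹ = a * (b * x * b⁻¹) * a⁻¹ := by group
        _ = (a * x * a⁻¹)⁻¹ := by rw [hinv b hb hbB]; group
        _ = x := by rw [hinv a ha haB, inv_inv]
    have hBidx : B.relIndex A = 2 := by
      have h1 : (B.subgroupOf A).index = 2 := by
        rw [index_eq_two_iff]
        refine ⟨⟨a₀, ha₀⟩, fun b => ?_⟩
        rw [mem_subgroupOf, mem_subgroupOf]
        change Xor (((b : G) * a₀) ∈ B) ((b : G) ∈ B)
        by_cases hb : (b : G) ∈ B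
        · right
          refine ⟨hb, fun h => ha₀B ?_⟩
          have := mul_mem (inv_mem hb) h
          simpa using this
        · left
          exact ⟨hmulB _ b.2 _ ha₀ hb ha₀B, hb⟩
      exact h1
    -- the family
    let y : T → G := fun t => (t : G) * x * (t : G)⁻¹
    have hyR : ∀ t : T, y t ∈ R := fun t => (mem_normalizer_iff.mp (hTR t.2) x).mp hx
    let σ : T → A → Prop := fun t a => (t : G)⁻¹ * (a : G) * (t : G) ∈ B
    have hTAm : ∀ (t : T) (a : A), (t : G)⁻¹ * (a : G) * (t : G) ∈ A := by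
      intro t a
      have := (mem_normalizer_iff.mp (hTA (inv_mem t.2)) (a : G)).mp a.2
      simpa using this
    have hfix : ∀ (t : T) (a : A), σ t a → (a : G) * y t * (a : G)⁻¹ = y t := by
      intro t a h
      have h1 := ((hBmem _).mp h).2
      calc (a : G) * y t * (a : G)⁻¹
          = (t : G) * (((t : G)⁻¹ * (a : G) * (t : G)) * x * ((t : G)⁻¹ * (a : G) * (t : G))⁻¹) *
            (t : G)⁻¹ := by
            change (a : G) * ((t : G) * x * (t : G)⁻¹) * (a : G)⁻¹ = _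
            group
        _ = y t := by rw [h1]
    have hneg : ∀ (t : T) (a : A), ¬ σ t a → (a : G) * y t * (a : G)⁻¹ = (y t)⁻¹ := by
      intro t a h
      have h1 := hinv _ (hTAm t a) h
      calc (a : G) * y t * (a : G)⁻¹
          = (t : G) * (((t : G)⁻¹ * (a : G) * (t : G)) * x * ((t : G)⁻¹ * (a : G) * (t : G))⁻¹) *
            (t : G)⁻¹ := by
            change (a : G) * ((t : G) * x * (t : G)⁻¹) * (a : G)⁻¹ = _
            group
        _ = (y t)⁻¹ := by
            rw [h1]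
            change (t : G) * x⁻¹ * (t : G)⁻¹ = ((t : G) * x * (t : G)⁻¹)⁻¹
            group
    -- different weights
    have hdist : ∀ s t : T, s ≠ t → ∃ a : A, σ s a ∧ ¬ σ t a := by
      intro s t hst
      have hne : (t : G)⁻¹ * (s : G) ≠ 1 := by
        intro h
        exact hst (Subtype.ext (by
          have := congrArg ((t : G) * ·) h
          simpa using this))
      obtain ⟨b, hb, hbn⟩ := hsemi _ (mul_mem (inv_mem t.2) s.2) hne B hBA hBidx
      refine ⟨⟨(s : G) * b * (s : G)⁻¹, (mem_normalizer_iff.mp (hTA s.2) b).mp (hBA hb)⟩, ?_, ?_⟩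
      · change (s : G)⁻¹ * ((s : G) * b * (s : G)⁻¹) * (s : G) ∈ B
        have : (s : G)⁻¹ * ((s : G) * b * (s : G)⁻¹) * (s : G) = b := by group
        rwa [this]
      · intro h
        apply hbn
        change (t : G)⁻¹ * ((s : G) * b * (s : G)⁻¹) * (t : G) ∈ B at h
        have : (t : G)⁻¹ * ((s : G) * b * (s : G)⁻¹) * (t : G)
            = (t : G)⁻¹ * (s : G) * b * ((t : G)⁻¹ * (s : G))⁻¹ := by group
        rwa [this] at h
    -- the conjugates commute
    have hycomm : ∀ s t : T, y s * y t = y t * y s := by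
      intro s t
      by_cases hst : s = t
      · rw [hst]
      obtain ⟨a, hsa, hta⟩ := hdist s t hst
      set c : G := ⁅y s, y t⁆ with hc
      have hcD : c ∈ (⁅R, R⁆ : Subgroup G) := commutator_mem_commutator (hyR s) (hyR t)
      have h1 : (a : G) * c * (a : G)⁻¹ = c := by
        rw [hcomm_iff]
        exact hD c hcD a a.2
      have h2 : (a : G) * c * (a : G)⁻¹ = ⁅y s, (y t)⁻¹⁆ := by
        rw [hc, commutatorElement_def, commutatorElement_def]
        calc (a : G) * (y s * y t * (y s)⁻¹ * (y t)⁻¹) * (a : G)⁻¹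
            = ((a : G) * y s * (a : G)⁻¹) * ((a : G) * y t * (a : G)⁻¹) *
              ((a : G) * y s * (a : G)⁻¹)⁻¹ * ((a : G) * y t * (a : G)⁻¹)⁻¹ := by group
          _ = _ := by rw [hfix s a hsa, hneg t a hta]
      have h3 : y t * c * (y t)⁻¹ = c⁻¹ := by
        have h4 : c = ⁅y s, (y t)⁻¹⁆ := by rw [← h2, h1]
        calc y t * c * (y t)⁻¹ = y t * ⁅y s, (y t)⁻¹⁆ * (y t)⁻¹ := by rw [← h4]
          _ = c⁻¹ := by
            rw [hc, commutatorElement_def, commutatorElement_def]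
            group
      have h5 : c = 1 := eq_one_of_inv (hordR c (hlt.le hcD)) (hordR _ (hyR t)) h3
      rw [hc, commutatorElement_eq_one_iff_mul_comm] at h5
      exact h5
    exact hxa₀ (hC x hx hxw (fun s hs t ht => hycomm ⟨s, hs⟩ ⟨t, ht⟩) a₀ ha₀)

/-- **#12397**: `q = 4`, `A` centralises every solvable subgroup of odd order normalised by `A` and `t`.
`A` elementary abelian 2-group, `t` of order `3` acting on `A` by scalars of order `3`
(`a · aᵗ · aᵗᵗ = 1`); `Hh ≥ A` normalised by `Y`; `M` the module `W₁/R₁`, `f` the commutator form with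
values in `R` (`|R| = 4`); `hkey` = (8.1) and (8.2) of #11043, `hN0` = (N0), `hLN` = LEMMA N of #12098. -/
theorem centralizes {M R : Type*} [Finite G] [AddCommGroup M] [Finite M] [DistribMulAction G M]
    [AddCommGroup R] (h2 : ∀ m : M, m + m = 0) (hR2 : ∀ s : R, s + s = 0) (hR : 2 < Nat.card R)
    (f : M →+ M →+ R) (halt : ∀ m, f m m = 0) {A Hh Y : Subgroup G} {t : G}
    (hA : ∀ a ∈ A, a * a = 1) (ht3 : t * t * t = 1) (htA : t ∈ normalizer (A : Set G))
    (hfpf : ∀ a ∈ A, a * (t * a * t⁻¹) * (t * t * a * (t * t)⁻¹) = 1)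
    (hAY : A ≤ normalizer (Y : Set G)) (htY : t ∈ normalizer (Y : Set G))
    (hYodd : Odd (Nat.card Y)) (hYs : Group.IsSolvable Y)
    (hAH : A ≤ Hh) (hYH : ∀ y ∈ Y, ∀ a ∈ A, y * a * y⁻¹ ∈ Hh)
    (hinv : ∀ x ∈ Hh, ∀ u v, f (x • u) (x • v) = f u v)
    (hkey : ∀ x ∈ Hh, ∀ v : M, ∀ R₀ : AddSubgroup R, R₀ ≠ ⊤ → (∀ u, f u v ∈ R₀) → x • v = v)
    (hN0 : ∀ a ∈ A, Nat.card
      (Set.range fun m : M => m + a • m + (t * a * t⁻¹) • m + (a * (t * a * t⁻¹)) • m) ≤ 4)
    (hLN : ∀ a ∈ A, a ≠ 1 → ∀ x ∈ Hh, (∀ m : M, x • (m + a • m) = m + a • m) →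
      ∀ b ∈ A, x * b * x⁻¹ ∈ A) :
    ∀ y ∈ Y, ∀ a ∈ A, a * y = y * a := by
  classical
  have hAc : ∀ a ∈ A, ∀ b ∈ A, a * b = b * a := by
    intro a ha b hb
    have e1 : a⁻¹ = a := inv_eq_of_mul_eq_one_right (hA a ha)
    have e2 : b⁻¹ = b := inv_eq_of_mul_eq_one_right (hA b hb)
    have e3 : (a * b)⁻¹ = a * b := inv_eq_of_mul_eq_one_right (hA _ (mul_mem ha hb))
    rw [← e3, mul_inv_rev, e1, e2]
  have htAm : ∀ a ∈ A, t * a * t⁻¹ ∈ A := fun a ha => (mem_normalizer_iff.mp htA a).mp ha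
  have htAi : ∀ a ∈ A, t⁻¹ * a * t ∈ A := by
    intro a ha
    have := (mem_normalizer_iff.mp (inv_mem htA) a).mp ha
    simpa using this
  have ht2 : t * t = t⁻¹ := by rw [eq_inv_iff_mul_eq_one]; exact ht3
  have hordY : ∀ x ∈ Y, Odd (orderOf x) := by
    intro x hx
    refine Odd.of_dvd_nat hYodd ?_
    have : orderOf (⟨x, hx⟩ : Y) ∣ Nat.card Y := orderOf_dvd_natCard _
    rwa [← Subgroup.orderOf_coe] at this
  -- `T = ⟨t⟩`
  have hT : ∀ s ∈ zpowers t, s = 1 ∨ s = t ∨ s = t⁻¹ := by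
    intro s hs
    obtain ⟨n, rfl⟩ := mem_zpowers_iff.mp hs
    have h3 : t ^ (3 : ℤ) = 1 := by
      rw [show (3 : ℤ) = 1 + 1 + 1 by norm_num, zpow_add, zpow_add, zpow_one]
      exact ht3
    have e : n = 3 * (n / 3) + n % 3 := (Int.mul_ediv_add_emod n 3).symm
    have h : n % 3 = 0 ∨ n % 3 = 1 ∨ n % 3 = 2 := by omega
    rw [e, zpow_add, zpow_mul, h3, one_zpow, one_mul]
    rcases h with h | h | h
    · left; rw [h, zpow_zero]
    · right; left; rw [h, zpow_one]
    · right; right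
      rw [h, show (2 : ℤ) = 1 + 1 by norm_num, zpow_add, zpow_one]
      exact ht2
  have hTo : ∀ s ∈ zpowers t, Odd (orderOf s) := by
    intro s hs
    have h3 : s ^ 3 = 1 := by
      have ht : t ^ 3 = 1 := by rw [pow_succ, pow_two]; exact ht3
      rcases hT s hs with rfl | rfl | rfl
      · exact one_pow 3
      · exact ht
      · rw [inv_pow, ht, inv_one]
    exact Odd.of_dvd_nat (by decide) (orderOf_dvd_of_pow_eq_one h3)
  have hTf : ∀ s ∈ zpowers t, s ≠ 1 → ∀ a ∈ A, s * a = a * s → a = 1 := by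
    intro s hs hs1 a ha h
    have hta : t * a * t⁻¹ = a := by
      rcases hT s hs with rfl | rfl | rfl
      · exact absurd rfl hs1
      · rw [h, mul_inv_cancel_right]
      · have h' : a * t = t * a := by
          calc a * t = t * (t⁻¹ * a) * t := by group
            _ = t * (a * t⁻¹) * t := by rw [h]
            _ = t * a := by group
        rw [← h', mul_inv_cancel_right]
    have h1 := hfpf a ha
    have e : t * t * a * (t * t)⁻¹ = t * (t * a * t⁻¹) * t⁻¹ := by group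
    rw [e, hta, hta, hA a ha, one_mul] at h1
    exact h1
  have hsemi := OddPart.semi_of_fpf hA (zpowers_le.mpr htA) hTo hTf
  refine reduce hA (zpowers_le.mpr htA) hsemi (Nat.card Y) Y le_rfl hYodd hYs hAY
    (zpowers_le.mpr htY) ?_
  intro x hx hxw hxc
  by_contra hcon
  push Not at hcon
  obtain ⟨a₀, ha₀, hne⟩ := hcon
  -- an element of prime order
  have hxodd := hordY x hx
  have hx1 : x ≠ 1 := by
    rintro rfl
    exact hne (by rw [mul_one, one_mul])
  have hn1 : orderOf x ≠ 1 := by rwa [Ne, orderOf_eq_one_iff]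
  set r : ℕ := (orderOf x).minFac with hr
  have hrp : r.Prime := Nat.minFac_prime hn1
  have hp : Fact r.Prime := ⟨hrp⟩
  have hrn : r ∣ orderOf x := Nat.minFac_dvd _
  have hrodd : Odd r := Odd.of_dvd_nat hxodd hrn
  have hr2 : r ≠ 2 := by
    rintro h
    rw [h] at hrodd
    exact absurd hrodd (by decide)
  have hpos : 0 < orderOf x := orderOf_pos x
  set w : G := x ^ (orderOf x / r) with hw
  have hwr : w ^ r = 1 := by
    rw [hw, ← pow_mul, Nat.div_mul_cancel hrn, pow_orderOf_eq_one]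
  have hw1 : w ≠ 1 := by
    intro h
    have h1 : orderOf x ∣ orderOf x / r := orderOf_dvd_of_pow_eq_one h
    have h3 : orderOf x / r < orderOf x := Nat.div_lt_self hpos hrp.one_lt
    have h4 : 0 < orderOf x / r := Nat.div_pos (Nat.le_of_dvd hpos hrn) hrp.pos
    exact absurd (Nat.le_of_dvd h4 h1) (by omega)
  have hwY : w ∈ Y := pow_mem hx _
  have hww : ∀ a ∈ A, a * w * a⁻¹ = w ∨ a * w * a⁻¹ = w⁻¹ := by
    intro a ha
    rcases hxw a ha with h | h
    · left
      rw [hw, ← conj_pow, h]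
    · right
      rw [hw, ← conj_pow, h, inv_pow]
  -- nontrivial elements of exponent `r` are not inverted and centralised
  have hnr : ∀ y : G, y ^ r = 1 → y * y = 1 → y = 1 := by
    intro y hy hyy
    obtain ⟨k, hk⟩ := hrodd
    rw [hk, pow_succ, pow_mul, pow_two, hyy, one_pow, one_mul] at hy
    exact hy
  have hnot : ∀ y : G, y ^ r = 1 → y ≠ 1 → y ≠ y⁻¹ := by
    intro y hy hy1 h
    apply hy1
    apply hnr y hy
    nth_rewrite 2 [h]
    exact mul_inv_cancel y
  have ha₀w : a₀ * w * a₀⁻¹ = w⁻¹ := by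
    rcases hxw a₀ ha₀ with h | h
    · exact absurd (mul_inv_eq_iff_eq_mul.mp h) hne
    · rw [hw, ← conj_pow, h, inv_pow]
  -- parity
  have hfi : ∀ a ∈ A, ∀ b ∈ A, a * w * a⁻¹ = w⁻¹ → b * w * b⁻¹ = w⁻¹ → (a * b) * w * (a * b)⁻¹ = w := by
    intro a _ b _ ha hb
    calc (a * b) * w * (a * b)⁻¹ = a * (b * w * b⁻¹) * a⁻¹ := by group
      _ = (a * w * a⁻¹)⁻¹ := by rw [hb]; group
      _ = w := by rw [ha, inv_inv]
  have hff : ∀ a ∈ A, ∀ b ∈ A, a * w * a⁻¹ = w → b * w * b⁻¹ = w → (a * b) * w * (a * b)⁻¹ = w := by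
    intro a _ b _ ha hb
    calc (a * b) * w * (a * b)⁻¹ = a * (b * w * b⁻¹) * a⁻¹ := by group
      _ = w := by rw [hb, ha]
  -- `a₁`
  obtain ⟨a₁, ha₁, p1, p2, p3⟩ : ∃ a₁ ∈ A, a₁ * w * a₁⁻¹ = w ∧
      (t⁻¹ * a₁ * t) * w * (t⁻¹ * a₁ * t)⁻¹ = w⁻¹ ∧ (t * a₁ * t⁻¹) * w * (t * a₁ * t⁻¹)⁻¹ = w⁻¹ := by
    have hb := htAi a₀ ha₀
    have hc := htAm a₀ ha₀
    have hprod : a₀ * ((t⁻¹ * a₀ * t) * (t * a₀ * t⁻¹)) = 1 := by
      have h := hfpf a₀ ha₀
      rw [ht2, inv_inv, mul_assoc] at h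
      rwa [hAc _ hb _ hc]
    have hexp : a₀ = (t⁻¹ * a₀ * t) * (t * a₀ * t⁻¹) := by
      have h := hA a₀ ha₀
      exact mul_left_cancel (h.trans hprod.symm)
    rcases hww _ hb with h | h
    · -- `t⁻¹ a₀ t` centralises
      have hc' : (t * a₀ * t⁻¹) * w * (t * a₀ * t⁻¹)⁻¹ = w⁻¹ := by
        rcases hww _ hc with h' | h'
        · exfalso
          apply hnot w hwr hw1
          have h3 := hff _ hb _ hc h h'
          rw [← hexp] at h3
          rw [← ha₀w, h3]
        · exact h'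
      refine ⟨t⁻¹ * a₀ * t, hb, h, ?_, ?_⟩
      · have e : t⁻¹ * (t⁻¹ * a₀ * t) * t = t * a₀ * t⁻¹ := by
          calc t⁻¹ * (t⁻¹ * a₀ * t) * t = (t⁻¹ * t⁻¹) * a₀ * (t * t) := by group
            _ = t * a₀ * t⁻¹ := by
              have e1 : t⁻¹ * t⁻¹ = t := by
                rw [← mul_inv_rev, ht2, inv_inv]
              rw [e1, ht2]
        rw [e]
        exact hc'
      · have e : t * (t⁻¹ * a₀ * t) * t⁻¹ = a₀ := by group
        rw [e]
        exact ha₀w
    · -- `t⁻¹ a₀ t` inverts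
      have hc' : (t * a₀ * t⁻¹) * w * (t * a₀ * t⁻¹)⁻¹ = w := by
        rcases hww _ hc with h' | h'
        · exact h'
        · exfalso
          apply hnot w hwr hw1
          have h3 := hfi _ hb _ hc h h'
          rw [← hexp] at h3
          rw [← ha₀w, h3]
      refine ⟨t * a₀ * t⁻¹, hc, hc', ?_, ?_⟩
      · have e : t⁻¹ * (t * a₀ * t⁻¹) * t = a₀ := by group
        rw [e]
        exact ha₀w
      · have e : t * (t * a₀ * t⁻¹) * t⁻¹ = t⁻¹ * a₀ * t := by
          calc t * (t * a₀ * t⁻¹) * t⁻¹ = (t * t) * a₀ * (t * t)⁻¹ := by group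
            _ = t⁻¹ * a₀ * t := by rw [ht2, inv_inv]
        rw [e]
        exact h
  -- the data of `core`
  have ha₂ : t * a₁ * t⁻¹ ∈ A := htAm a₁ ha₁
  set a₂ : G := t * a₁ * t⁻¹ with ha₂def
  set x₂ : G := t * w * t⁻¹ with hx₂def
  set x₃ : G := t⁻¹ * w * t with hx₃def
  have hx₂ : x₂ ^ r = 1 := by rw [hx₂def, conj_pow, hwr]; group
  have hx₃ : x₃ ^ r = 1 := by
    have e : x₃ = t⁻¹ * w * (t⁻¹)⁻¹ := by rw [hx₃def, inv_inv]
    rw [e, conj_pow, hwr]
    group
  have hx₂1 : x₂ ≠ 1 := by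
    intro h
    apply hw1
    calc w = t⁻¹ * x₂ * t := by rw [hx₂def]; group
      _ = 1 := by rw [h]; group
  have hx₃1 : x₃ ≠ 1 := by
    intro h
    apply hw1
    calc w = t * x₃ * t⁻¹ := by rw [hx₃def]; group
      _ = 1 := by rw [h]; group
  have hx₂Y : x₂ ∈ Y := (mem_normalizer_iff.mp htY w).mp hwY
  have hx₃Y : x₃ ∈ Y := by
    have := (mem_normalizer_iff.mp (inv_mem htY) w).mp hwY
    rw [inv_inv] at this
    exact this
  have a12 : a₁ * x₂ * a₁⁻¹ = x₂⁻¹ := by
    calc a₁ * x₂ * a₁⁻¹ = t * ((t⁻¹ * a₁ * t) * w * (t⁻¹ * a₁ * t)⁻¹) * t⁻¹ := by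
          rw [hx₂def]; group
      _ = x₂⁻¹ := by rw [p2, hx₂def]; group
  have a13 : a₁ * x₃ * a₁⁻¹ = x₃⁻¹ := by
    calc a₁ * x₃ * a₁⁻¹ = t⁻¹ * ((t * a₁ * t⁻¹) * w * (t * a₁ * t⁻¹)⁻¹) * t := by
          rw [hx₃def]; group
      _ = x₃⁻¹ := by
        change t⁻¹ * (a₂ * w * a₂⁻¹) * t = x₃⁻¹
        rw [p3, hx₃def]; group
  have a22 : a₂ * x₂ * a₂⁻¹ = x₂ := by
    calc a₂ * x₂ * a₂⁻¹ = t * (a₁ * w * a₁⁻¹) * t⁻¹ := by rw [ha₂def, hx₂def]; group
      _ = x₂ := by rw [p1]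
  have htt : t⁻¹ * t⁻¹ = t := by rw [← mul_inv_rev, ht2, inv_inv]
  have a23 : a₂ * x₃ * a₂⁻¹ = x₃⁻¹ := by
    have e : t⁻¹ * (t⁻¹ * a₁ * t) * t = a₂ := by
      calc t⁻¹ * (t⁻¹ * a₁ * t) * t = (t⁻¹ * t⁻¹) * a₁ * (t * t) := by group
        _ = a₂ := by rw [htt, ht2]
    have e' : a₂ * x₃ * a₂⁻¹ = t⁻¹ * ((t⁻¹ * a₁ * t) * w * (t⁻¹ * a₁ * t)⁻¹) * t := by
      rw [← e, hx₃def]
      simp only [mul_inv_rev, inv_inv, mul_assoc, mul_inv_cancel_left]
    rw [e', p2, hx₃def]
    group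
  have hcomm1 : w * x₂ = x₂ * w := by
    have h : Commute x (t * x * t⁻¹) := by
      have h' := hxc 1 (one_mem _) t (mem_zpowers t)
      rw [one_mul, inv_one, mul_one] at h'
      exact h'
    have h' : Commute w ((t * x * t⁻¹) ^ (orderOf x / r)) := h.pow_pow _ _
    rw [conj_pow] at h'
    exact h'.eq
  have hcomm3 : w * x₃ = x₃ * w := by
    have h : Commute x (t⁻¹ * x * (t⁻¹)⁻¹) := by
      have h' := hxc 1 (one_mem _) t⁻¹ (inv_mem (mem_zpowers t))
      rw [one_mul, inv_one, mul_one] at h'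
      exact h'
    have h' : Commute w ((t⁻¹ * x * (t⁻¹)⁻¹) ^ (orderOf x / r)) := h.pow_pow _ _
    rw [conj_pow, inv_inv] at h'
    exact h'.eq
  have hcomm23 : x₂ * x₃ = x₃ * x₂ := by
    have h : Commute (t * x * t⁻¹) (t⁻¹ * x * (t⁻¹)⁻¹) :=
      hxc t (mem_zpowers t) t⁻¹ (inv_mem (mem_zpowers t))
    have h' := h.pow_pow (orderOf x / r) (orderOf x / r)
    rw [conj_pow, conj_pow, inv_inv] at h'
    exact h'.eq
  have t2 : t * x₂ * t⁻¹ = x₃ := by
    calc t * x₂ * t⁻¹ = (t * t) * w * (t * t)⁻¹ := by rw [hx₂def]; group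
      _ = x₃ := by rw [ht2, inv_inv]
  have t3 : t * x₃ * t⁻¹ = w := by rw [hx₃def]; group
  have ta2 : t * a₂ * t⁻¹ = a₁ * a₂ := by
    have h := hfpf a₁ ha₁
    have e : t * t * a₁ * (t * t)⁻¹ = t * a₂ * t⁻¹ := by rw [ha₂def]; group
    rw [e] at h
    have h' := eq_inv_of_mul_eq_one_right h
    rw [h']
    exact inv_eq_of_mul_eq_one_right (hA _ (mul_mem ha₁ ha₂))
  -- membership in `Hh`
  have hmem : ∀ y ∈ Y, y ^ r = 1 → ∀ a ∈ A, a * y * a⁻¹ = y⁻¹ → y ∈ Hh := by
    intro y hy hyr a ha h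
    have h1 : y⁻¹ * y⁻¹ ∈ Hh := by
      have e : y⁻¹ * y⁻¹ = a * (y * a⁻¹ * y⁻¹) := by
        nth_rewrite 1 [← h]
        group
      rw [e]
      exact mul_mem (hAH ha) (hYH y hy _ (inv_mem ha))
    have h3 : y * y ∈ Hh := by
      have := inv_mem h1
      rwa [mul_inv_rev, inv_inv] at this
    obtain ⟨k, hk⟩ := hrodd
    have e : y = (y * y) ^ (k + 1) := by
      rw [← pow_two, ← pow_mul, mul_add, mul_one, show 2 * k + 2 = (2 * k + 1) + 1 by ring, pow_succ,
        ← hk, hyr, one_mul]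
    rw [e]
    exact pow_mem h3 _
  have hwH : w ∈ Hh := hmem w hwY hwr a₂ ha₂ p3
  have hx₂H : x₂ ∈ Hh := hmem x₂ hx₂Y hx₂ a₁ ha₁ a12
  have hx₃H : x₃ ∈ Hh := hmem x₃ hx₃Y hx₃ a₁ ha₁ a13
  have ha₁1 : a₁ ≠ 1 := by
    rintro h
    rw [h, one_mul, inv_one, mul_one] at a12
    exact hnot x₂ hx₂ hx₂1 a12
  have hcore : ∀ m : M, w • (m + a₁ • m) = m + a₁ • m :=
    core hr2 h2 hR2 hR hwr hcomm1 hcomm3 hcomm23 p1 a12 a13 p3 a22 a23 (hA a₂ ha₂)
      (hAc a₁ ha₁ a₂ ha₂) rfl t2 t3 rfl ta2 (hN0 a₁ ha₁) f halt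
      (fun u v => ⟨hinv w hwH u v, hinv x₂ hx₂H u v, hinv x₃ hx₃H u v⟩) (hkey w hwH)
  have h1 := hLN a₁ ha₁ ha₁1 w hwH hcore a₂ ha₂
  have h3 : w * w ∈ A := by
    have e : w * w = (w * a₂ * w⁻¹) * a₂⁻¹ := by
      have e1 : w = (a₂ * w * a₂⁻¹)⁻¹ := by rw [p3, inv_inv]
      nth_rewrite 2 [e1]
      group
    rw [e]
    exact mul_mem h1 (inv_mem ha₂)
  have h4 : (w * w) * (w * w) = 1 := hA _ h3
  have h5 : w * w = 1 := by
    refine hnr (w * w) ?_ h4
    rw [(Commute.refl w).mul_pow, hwr, one_mul]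
  exact hw1 (hnr w hwr h5)

end main

end Cfsg.Agent.Omega.Lie.OddQ4
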