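import Cfsg.Agent.Omega.Lie.ModQ
import Cfsg.Agent.Omega.Lie.OddQ4

/-!
# NODE LIE, `q = 4`: `A` centralises every solvable odd order subgroup of `H⁰` normalised by `A` and `T`

The instance of `OddQ4.centralizes` (#12397) for the real group `H = HQ (R i)`.
-/

set_option autoImplicit false
set_option linter.unusedSectionVars false

namespace Cfsg.Agent.Omega.Lie.OddQ4BT

open Subgroup Cfsg.Agent.Omega.BTwo Cfsg.Agent.Omega.Lie Cfsg.Agent.Omega.Lie.Quot Cfsg.Agent.Omega.Lie.ModQ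

universe u v w

variable {G : Type u} [Group G] {ι : Type w} {V : Subgroup G} {R : ι → Subgroup G} {F : Type v} [Field F]
  {i j : ι} {vv : F → F → G} {w1 w2 t : F → G}

/-- a field of order 4 has an element `w` with `w² + w + 1 = 0` -/
theorem exists_omega [Finite F] (hF : Nat.card F = 4) : ∃ w : F, w ≠ 0 ∧ w ≠ 1 ∧ w * w + w + 1 = 0 := by
  classical
  have := Fintype.ofFinite F
  have h4 : Fintype.card F = 4 := by rw [← Nat.card_eq_fintype_card]; exact hF
  have hlt : ({0, 1} : Finset F).card < Fintype.card F := by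
    refine lt_of_le_of_lt (Finset.card_le_two) ?_
    omega
  obtain ⟨w, hw⟩ : ∃ w, w ∉ ({0, 1} : Finset F) := by
    by_contra hcon
    push Not at hcon
    have h1 : ({0, 1} : Finset F) = Finset.univ := Finset.eq_univ_of_forall hcon
    rw [h1, Finset.card_univ] at hlt
    exact lt_irrefl _ hlt
  rw [Finset.mem_insert, Finset.mem_singleton, not_or] at hw
  refine ⟨w, hw.1, hw.2, ?_⟩
  have h3 : w ^ 3 = 1 := by
    have := FiniteField.pow_card_sub_one_eq_one w hw.1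
    rwa [h4] at this
  have h5 : (w - 1) * (w * w + w + 1) = 0 := by
    have : (w - 1) * (w * w + w + 1) = w ^ 3 - 1 := by ring
    rw [this, h3, sub_self]
  exact (mul_eq_zero.1 h5).resolve_left (sub_ne_zero.2 hw.2)

/-- **#12397**: for `q = 4`, `A` centralises every solvable subgroup of odd order of `H⁰` normalised by `A` and
`T`. -/
theorem centralizes [Finite G] [Finite F] [CharP F 2] (b : BTC V R) (c : Coord V R i j vv w1 w2)
    (τ : TorD V R i j vv t) (hF : Nat.card F = 4) {Y : Subgroup (HQ (R i))} (hY : Y ≤ H0 R i)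
    (hodd : Odd (Nat.card Y)) (hsol : Group.IsSolvable Y) (hA : AA V R i j ≤ normalizer (Y : Set (HQ (R i))))
    (hT : TT τ ≤ normalizer (Y : Set (HQ (R i)))) :
    ∀ y ∈ Y, ∀ a ∈ AA V R i j, a * y = y * a := by
  obtain ⟨w, hw0, hw1, hw⟩ := exists_omega hF
  have h2 : (2 : F) = 0 := CharTwo.two_eq_zero
  have hww : w * w ≠ 0 := mul_ne_zero hw0 hw0
  have hw3 : w * w * w = 1 := by linear_combination (w - 1) * hw
  have hww1 : 1 + w = w * w := by linear_combination hw - (w * w) * h2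
  obtain ⟨M, B, _, _, _, _, _, p, r, f, m⟩ := exists_modQ b.toBT i
  have hfin := m.finite_M
  have hij := c.ne
  have hne : ∃ a : F, a ≠ 0 ∧ a ≠ 1 := ⟨w, hw0, hw1⟩
  have htN := τ.normR hw0
  have htT : pr (R i) ⟨t w, htN⟩ ∈ TT τ := (mem_TT τ).2 ⟨w, hw0, rfl⟩
  have ht2 : t w * t w = t (w * w) := (τ.mul w w hw0 hw0).symm
  have ht3 : t w * t w * t w = 1 := by
    rw [ht2, ← τ.mul _ _ hww hw0, hw3, τ.one]
  refine OddQ4.centralizes (M := M) (R := B) (m.two_M b.toBT) (m.two_B b.toBT) ?_ f (m.f_self b.toBT)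
    (A := AA V R i j) (Hh := HA V R i j) (Y := Y) (t := pr (R i) ⟨t w, htN⟩)
    (fun a ha => A_sq b.toBT hij ha) ?_ ?_ ?_ hA (hT htT) hodd hsol A_le_HA ?_ ?_ ?_ ?_ ?_
  · -- |R i| = 4
    rw [m.card_B]
    have h1 : Nat.card F ≤ Nat.card (R i) := by
      refine Nat.card_le_card_of_injective (fun β : F => (⟨vv β 0, (τ.Ri _).2 ⟨β, rfl⟩⟩ : R i)) ?_
      intro β β' h
      exact (c.v_inj (congrArg Subtype.val h)).1
    omega
  · -- t³ = 1
    rw [← map_mul, ← map_mul]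
    have e : (⟨t w, htN⟩ * ⟨t w, htN⟩ * ⟨t w, htN⟩ : ↥(normalizer (R i : Set G))) = 1 := Subtype.ext ht3
    rw [e, map_one]
  · -- t normalises A
    rw [mem_normalizer_iff]
    intro a
    refine ⟨fun ha => TA_mem b.toBT τ htT ha, fun ha => ?_⟩
    have h1 := TA_mem b.toBT τ (inv_mem htT) ha
    have e : (pr (R i) ⟨t w, htN⟩)⁻¹ * (pr (R i) ⟨t w, htN⟩ * a * (pr (R i) ⟨t w, htN⟩)⁻¹) *
        (pr (R i) ⟨t w, htN⟩)⁻¹⁻¹ = a := by group
    rwa [e] at h1
  · -- 1 + t + t² = 0 on A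
    intro a ha
    obtain ⟨u, hu, rfl⟩ := (mem_AA b.toBT).1 ha
    have h1 := τ.wU' 1 w one_ne_zero hw0 (by rw [hww1]; exact hww) u hu
    have hi1 : (t (w * w))⁻¹ = t w := inv_eq_of_mul_eq_one_left (by rw [← τ.mul _ _ hw0 hww, ← mul_assoc, hw3, τ.one])
    have hi2 : (t w)⁻¹ = t w * t w := inv_eq_of_mul_eq_one_left ht3
    rw [hww1, hi1, τ.one, inv_one, one_mul, mul_one, hi2] at h1
    have hi3 : t (w * w) = (t w)⁻¹ := by rw [← hi1, inv_inv]
    have hi4 : t w = (t w * t w)⁻¹ := by rw [← hi2, inv_inv]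
    have hN := U_le_N b.toBT i j hu
    have h3 : u * (t w * u * (t w)⁻¹) * (t w * t w * u * (t w * t w)⁻¹) ∈ DD V R := by
      have k1 := t_norm_U b.toBT τ hw0 hu
      have hx : (t w * u * (t w)⁻¹) * (u * (t w * t w * u * (t w * t w)⁻¹))⁻¹ ∈ DD V R := by
        have e : t w * u * (t w)⁻¹ * (u * (t w * t w * u * (t w * t w)⁻¹))⁻¹ =
          t w * u * t (w * w) * (u * (t w * t w * u * t w))⁻¹ := by rw [hi3, ← hi4]
        rw [e]; exact h1
      -- `x = t w u (t w)⁻¹`, `y = u u^{t²}`; `x y⁻¹ ∈ D`, want `u x u^{t²} ∈ D`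
      set x := t w * u * (t w)⁻¹ with hxdef
      set z := t w * t w * u * (t w * t w)⁻¹ with hz
      have hxU : x ∈ UU V R j := k1
      have hzU : z ∈ UU V R j := by
        have k2 := t_norm_U b.toBT τ hww hu
        rwa [← ht2] at k2
      have hY : ∀ {y : G}, y ∈ UU V R j → y ∈ YY V R := fun h => UU_le_YY j h
      have hND : ∀ {y : G}, y ∈ UU V R j → y ∈ normalizer (DD V R : Set G) :=
        fun h => b.toBT.NV_le_ND (cen_le_NV V (UU_le_cen j h))
      -- `u x z = [u, x] x u z`, `x (u z)⁻¹ ∈ D`, `(u z)² ∈ D`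
      have k3 := b.toBT.Y_comm (hY hu) (hY hxU)
      have k4 := b.toBT.Y_sq (hY (mul_mem hu hzU))
      have e : u * x * z = (u * x * u⁻¹ * x⁻¹) * (x * (u * z)⁻¹) * ((u * z) * (u * z)) := by group
      rw [e]
      exact mul_mem (mul_mem k3 hx) k4
    have e : pr (R i) ⟨u, hN⟩ * (pr (R i) ⟨t w, htN⟩ * pr (R i) ⟨u, hN⟩ * (pr (R i) ⟨t w, htN⟩)⁻¹) *
        (pr (R i) ⟨t w, htN⟩ * pr (R i) ⟨t w, htN⟩ * pr (R i) ⟨u, hN⟩ *
          (pr (R i) ⟨t w, htN⟩ * pr (R i) ⟨t w, htN⟩)⁻¹) =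
        pr (R i) ⟨u * (t w * u * (t w)⁻¹) * (t w * t w * u * (t w * t w)⁻¹),
          b.toBT.cen_le_N i (b.toBT.D_le_cen h3)⟩ := rfl
    rw [e, pr_eq_one]
    exact b.toBT.W_le_Q i (mem_DD.1 h3 i)
  · -- conjugates
    intro y hy a ha
    exact conj_mem_HA (hY hy) ha
  · intro x hx u v
    exact m.f_act b.toBT (HA_le_H0 b.toBT j hx) u v
  · intro x hx v B₀ hB h
    exact m.key b hij hx hB h
  · intro a ha
    refine le_trans ?_ ((m.card_e τ).trans hF.le)
    have := Finite.of_injective (Subtype.val : m.sb V → M) Subtype.val_injective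
    refine Nat.card_le_card_of_injective (β := m.sb V) (Set.inclusion ?_) (Set.inclusion_injective _)
    rintro _ ⟨c, rfl⟩
    exact m.quad b τ ha htT c
  · intro a ha ha1 x hx h
    exact m.norm_A b hne c τ ha ha1 hx h

end Cfsg.Agent.Omega.Lie.OddQ4BT
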