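import Cfsg.Agent.Omega.Lie.OutT
import Cfsg.Agent.OddHalf.Table.OutTorus

/-!
# `OutNil` for groups with root group data in characteristic two

`R` a root group datum whose torus `T` is abelian of odd order and acts on every group `X (sr i)` transitively and as a
cyclic group.

* `outNil` : `OutNil Y` if all symmetries of the diagram are involutions;
* `outNil_of_centre` : `OutNil Y` if all symmetries of the diagram fix a node `z` such that the action of `T` on
  `X (sr z)` controls the others (type `D₄`).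
-/

set_option autoImplicit false
set_option linter.unusedSectionVars false

namespace Cfsg.Agent.Omega.Lie.OutRgd

open CoxeterSystem Cfsg.Agent.ChevalleyStructure.CoxeterGeom Cfsg.Agent.Tits.Roots Cfsg.Agent.Tits.Core
  Cfsg.Agent.Tits.RootComb Cfsg.Agent.Nodes.Comb Cfsg.Agent.Nodes.Reps Cfsg.Agent.Nodes.BNOf Cfsg.Agent.Nodes.BNOf.RGD
  Cfsg.Agent.FixBN Cfsg.Agent.Tits.OfBN Cfsg.Agent.Tits.OppRes Cfsg.Agent.LieExceptional.BNPairCore
  Cfsg.Agent.OddHalf.Table.AutBldg Cfsg.Agent.OddHalf.Table.AutRGD Cfsg.Agent.OddHalf.Table.AutNorm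
  Cfsg.Agent.OddHalf.Table.OutTorus Cfsg.Agent.Omega.Lie.OutT

/-! ### The torus -/

/-- The hypotheses on the torus, `V i = X (sr i)`. -/
structure Tor {I Y : Type*} [Group Y] (T : Subgroup Y) (V : I → Subgroup Y) : Prop where
  comm : ∀ s ∈ T, ∀ t ∈ T, s * t = t * s
  odd : Odd (Nat.card T)
  nrm : ∀ i, ∀ t ∈ T, ∀ x ∈ V i, t * x * t⁻¹ ∈ V i
  tr : ∀ i, ∀ x ∈ V i, ∀ y ∈ V i, x ≠ 1 → y ≠ 1 → ∃ t ∈ T, t * x * t⁻¹ = y
  cyc : ∀ i, ∃ k ∈ T, ∀ t ∈ T, ∃ a : ℕ, ∀ x ∈ V i, t * x * t⁻¹ = k ^ a * x * (k ^ a)⁻¹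

/-- `s` and `t` act in the same way on `V`. -/
def Eqv {Y : Type*} [Group Y] (V : Subgroup Y) (s t : Y) : Prop := ∀ x ∈ V, (t⁻¹ * s) * x = x * (t⁻¹ * s)

section Eqv

variable {Y : Type*} [Group Y] {V T : Subgroup Y} {s t u v : Y}

theorem Eqv.refl (s : Y) : Eqv V s s := fun x _ => by rw [inv_mul_cancel, one_mul, mul_one]

theorem Eqv.symm (h : Eqv V s t) : Eqv V t s := fun x hx => by
  have h1 := h x hx
  have e : s⁻¹ * t = (t⁻¹ * s)⁻¹ := by group
  rw [e]
  exact ((show Commute (t⁻¹ * s) x from h1).inv_left).eq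

theorem Eqv.trans (h : Eqv V s t) (h' : Eqv V t u) : Eqv V s u := fun x hx => by
  have h1 : Commute (t⁻¹ * s) x := h x hx
  have h2 : Commute (u⁻¹ * t) x := h' x hx
  have e : u⁻¹ * s = (u⁻¹ * t) * (t⁻¹ * s) := by group
  rw [e]
  exact (h2.mul_left h1).eq

theorem Eqv.mul (hc : ∀ a ∈ T, ∀ b ∈ T, a * b = b * a) (hs : s ∈ T) (ht : t ∈ T) (hu : u ∈ T) (hv : v ∈ T)
    (h : Eqv V s t) (h' : Eqv V u v) : Eqv V (s * u) (t * v) := fun x hx => by
  have h1 : Commute (t⁻¹ * s) x := h x hx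
  have h2 : Commute (v⁻¹ * u) x := h' x hx
  have e : (t * v)⁻¹ * (s * u) = (v⁻¹ * u) * (t⁻¹ * s) := by
    have e1 : (t⁻¹ * s) * u = u * (t⁻¹ * s) := hc _ (mul_mem (inv_mem ht) hs) _ hu
    calc (t * v)⁻¹ * (s * u) = v⁻¹ * ((t⁻¹ * s) * u) := by group
      _ = (v⁻¹ * u) * (t⁻¹ * s) := by rw [e1]; group
  rw [e]
  exact (h2.mul_left h1).eq

theorem Eqv.pow (hc : ∀ a ∈ T, ∀ b ∈ T, a * b = b * a) (hs : s ∈ T) (ht : t ∈ T) (h : Eqv V s t) (k : ℕ) :
    Eqv V (s ^ k) (t ^ k) := by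
  induction k with
  | zero => rw [pow_zero, pow_zero]; exact Eqv.refl 1
  | succ k ih =>
    rw [pow_succ, pow_succ]
    exact Eqv.mul hc (pow_mem hs k) (pow_mem ht k) hs ht ih h

theorem eqv_iff : Eqv V s t ↔ ∀ x ∈ V, s * x * s⁻¹ = t * x * t⁻¹ := by
  constructor
  · intro h x hx
    have h1 := h x hx
    calc s * x * s⁻¹ = t * ((t⁻¹ * s) * x) * s⁻¹ := by group
      _ = t * x * t⁻¹ := by rw [h1]; group
  · intro h x hx
    have h1 := h x hx
    calc (t⁻¹ * s) * x = t⁻¹ * (s * x * s⁻¹) * s := by group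
      _ = x * (t⁻¹ * s) := by rw [h1]; group

theorem eqv_one : Eqv V s 1 ↔ ∀ x ∈ V, s * x = x * s := by
  unfold Eqv
  rw [inv_one]
  simp only [one_mul]

end Eqv

variable {I W Y : Type*} [Fintype I] [DecidableEq I] [Group W] [Group Y] {M : CoxeterMatrix I}
  {cs : CoxeterSystem M W} {A : I → I → ℤ} {h : IsCartan M A} {p : ℕ} {T : Subgroup Y} {n : I → Y}
  {X : (I → ℤ) → Subgroup Y} [Finite W]

section

variable {R : RGD cs h p T n X} {hgen : B cs h T X ⊔ NN cs R.nsys = ⊤}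
  [hN : (((R.bnPair hgen).B ⊓ (R.bnPair hgen).N).subgroupOf (R.bnPair hgen).N).Normal]
  {cs' : CoxeterSystem M (WP (R.bnPair hgen))}
  (hcs : ∀ i, cs'.simple i = QuotientGroup.mk
    (⟨(eS R hgen i : Y), (R.bnPair hgen).subset (eS R hgen i).2⟩ : (R.bnPair hgen).N))
  {g₀ : (R.bnPair hgen).N} (hg₀ : (QuotientGroup.mk g₀ : WP (R.bnPair hgen)) = w0 cs')
  [Finite Y] [Fact p.Prime] (hcore : (B cs h T X).normalCore = ⊥) (D : Tor T (fun i => X (sr i)))

/-! ### Normalised automorphisms -/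

include hcs hg₀ hcore in
theorem Nrm.eqv {β : MulAut Y} (hβ : Nrm R hgen g₀ β) {i : I} {s t : Y} (hs : s ∈ T) (ht : t ∈ T)
    (h1 : Eqv (X (sr i)) s t) :
    Eqv (X (sr (sg (eS R hgen) cs' hcs hβ.keep i))) (β s) (β t) := by
  intro x hx
  rw [← map_inv, ← map_mul]
  exact hβ.cen hcs hcore hg₀ (mul_mem (inv_mem ht) hs) h1 x hx

include hcs hg₀ hcore in
/-- An element of `T` which centralises all `X (sr i)` is trivial. -/
theorem eq_one_of_cen {t : Y} (ht : t ∈ T) (hc : ∀ i, ∀ x ∈ X (sr i), t * x = x * t) : t = 1 := by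
  have hI : Finite I := inferInstance
  have hW : Finite (WP (R.bnPair hgen)) := inferInstance
  have hC : Cox cs' := inferInstance
  have hB : t ∈ (R.bnPair hgen).B := T_le_B ht
  have hk : Keep (R.bnPair hgen) (MulAut.conj t) := Keep.conj hB
  have hβ : Nrm R hgen g₀ (MulAut.conj t) := by
    refine ⟨hk, ?_⟩
    rw [MulAut.conj_apply]
    have h1 := ((mem_T_iff hcs hcore hg₀).1 ht).2
    have e : (g₀ : Y)⁻¹ * (t * g₀ * t⁻¹) = ((g₀ : Y)⁻¹ * t * g₀) * t⁻¹ := by group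
    rw [e]
    exact mul_mem h1 (inv_mem hB)
  have h1 : MulAut.conj t = MulAut.conj 1 := by
    refine hβ.eq_conj hcs hcore hg₀ (fun i => ?_) (one_mem T) ?_
    · exact sg_conj (eS R hgen) cs' hcs hB i
    · intro i x hx
      rw [one_smul, act_mk, MulAut.conj_apply]
      have h2 : t * (x * n i) * t⁻¹ = x * (t * n i * t⁻¹) := by
        calc t * (x * n i) * t⁻¹ = (t * x) * n i * t⁻¹ := by group
          _ = x * (t * n i * t⁻¹) := by rw [hc i x hx]; group
      rw [h2, FixBN.OfBN.mk_eq]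
      have h3 := simple_conj_T R i ht
      have e : (x * (t * n i * t⁻¹))⁻¹ * (x * n i) = t * ((n i)⁻¹ * t * n i)⁻¹ := by group
      rw [e]
      exact mul_mem hB (inv_mem (T_le_B h3))
  have h2 : ∀ y : Y, t * y * t⁻¹ = y := fun y => by
    have := DFunLike.congr_fun h1 y
    rw [MulAut.conj_apply, MulAut.conj_apply] at this
    simpa using this
  have h3 : t ∈ (B cs h T X).normalCore := by
    intro g
    have h4 : g * t * g⁻¹ = t := by
      have := h2 g
      calc g * t * g⁻¹ = (t * g * t⁻¹)⁻¹⁻¹ * t * g⁻¹ * 1 := by rw [this]; group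
        _ = t := by
          have h5 : g * t = t * g := by
            calc g * t = (t * g * t⁻¹) * t := by rw [this]
              _ = t * g := by group
          rw [inv_inv, this, h5]; group
    rw [h4]; exact hB
  rw [hcore] at h3
  exact Subgroup.mem_bot.1 h3

include D in
/-- A type preserving normalised automorphism acts on `T` modulo `C_T(X (sr i))` as a power map. -/
theorem exists_pow {β : MulAut Y} (hβ : Nrm R hgen g₀ β) {i : I}
    (hσ : sg (eS R hgen) cs' hcs hβ.keep i = i) (hcore : (B cs h T X).normalCore = ⊥)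
    (hg₀ : (QuotientGroup.mk g₀ : WP (R.bnPair hgen)) = w0 cs') :
    ∃ b : ℕ, ∀ s ∈ T, Eqv (X (sr i)) (β s) (s ^ b) := by
  obtain ⟨k, hk, hcy⟩ := D.cyc i
  have hmem : ∀ t ∈ T, β t ∈ T := fun t ht => hβ.mem_T hcs hcore hg₀ ht
  obtain ⟨b, hb⟩ := hcy (β k) (hmem k hk)
  have hb' : Eqv (X (sr i)) (β k) (k ^ b) := eqv_iff.2 hb
  refine ⟨b, fun s hs => ?_⟩
  obtain ⟨a, ha⟩ := hcy s hs
  have ha' : Eqv (X (sr i)) s (k ^ a) := eqv_iff.2 ha
  have h1 := Nrm.eqv hcs hg₀ hcore hβ hs (pow_mem hk a) ha'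
  rw [hσ, map_pow] at h1
  have h2 := Eqv.pow D.comm (hmem k hk) (pow_mem hk b) hb' a
  have h3 := Eqv.pow D.comm hs (pow_mem hk a) ha' b
  rw [← pow_mul, mul_comm, pow_mul] at h2
  exact (h1.trans h2).trans h3.symm

include hcs hg₀ hcore D in
/-- **Commutators** act trivially on `T / C_T(X (sr i))` if both factors fix the type `i`. -/
theorem eqv_comm {β γ : MulAut Y} (hβ : Nrm R hgen g₀ β) (hγ : Nrm R hgen g₀ γ) {i : I}
    (hσ : sg (eS R hgen) cs' hcs hβ.keep i = i) (hτ : sg (eS R hgen) cs' hcs hγ.keep i = i) {s : Y} (hs : s ∈ T) :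
    Eqv (X (sr i)) ((β⁻¹ * (γ * β * γ⁻¹)) s) s := by
  have hI : Finite I := inferInstance
  have hW : Finite (WP (R.bnPair hgen)) := inferInstance
  have hC : Cox cs' := inferInstance
  obtain ⟨b, hb⟩ := exists_pow hcs D hβ hσ hcore hg₀
  obtain ⟨c, hc⟩ := exists_pow hcs D hγ hτ hcore hg₀
  have mβ : ∀ t ∈ T, β t ∈ T := fun t ht => hβ.mem_T hcs hcore hg₀ ht
  have mγ : ∀ t ∈ T, γ t ∈ T := fun t ht => hγ.mem_T hcs hcore hg₀ ht
  have mβ' : ∀ t ∈ T, β⁻¹ t ∈ T := fun t ht => hβ.inv.mem_T hcs hcore hg₀ ht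
  have mγ' : ∀ t ∈ T, γ⁻¹ t ∈ T := fun t ht => hγ.inv.mem_T hcs hcore hg₀ ht
  have hσ' : sg (eS R hgen) cs' hcs hβ.inv.keep i = i := by
    have h1 := sg_mul (eS R hgen) cs' hcs hβ.inv.keep hβ.keep i
    rw [hσ] at h1
    rw [← h1]
    exact (sg_congr (eS R hgen) cs' hcs _ Keep.one (inv_mul_cancel β) i).trans (sg_one (eS R hgen) cs' hcs i)
  set u := γ⁻¹ s with hu
  have huT : u ∈ T := mγ' s hs
  -- `γ β u ≡ β γ u`
  have h1 : Eqv (X (sr i)) (γ (β u)) (β (γ u)) := by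
    have e1 := Nrm.eqv hcs hg₀ hcore hγ (mβ u huT) (pow_mem huT b) (hb u huT)
    have e2 := Nrm.eqv hcs hg₀ hcore hβ (mγ u huT) (pow_mem huT c) (hc u huT)
    rw [hτ, map_pow] at e1
    rw [hσ, map_pow] at e2
    have e3 := Eqv.pow D.comm (mγ u huT) (pow_mem huT c) (hc u huT) b
    have e4 := Eqv.pow D.comm (mβ u huT) (pow_mem huT b) (hb u huT) c
    rw [← pow_mul, mul_comm, pow_mul] at e3
    exact (e1.trans e3).trans (e2.trans e4).symm
  have h2 := Nrm.eqv hcs hg₀ hcore hβ.inv (mγ _ (mβ u huT)) (mβ _ (mγ u huT)) h1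
  rw [hσ'] at h2
  have e5 : β⁻¹ (β (γ u)) = s := by
    rw [MulAut.inv_apply_self, hu, MulAut.apply_inv_self]
  rw [e5] at h2
  exact h2

include hcs hg₀ hcore D in
/-- A type preserving normalised automorphism which is trivial on `T` has order dividing `|T|`. -/
theorem pow_card {β : MulAut Y} (hβ : Nrm R hgen g₀ β) (hσ : ∀ i, sg (eS R hgen) cs' hcs hβ.keep i = i)
    (hT : ∀ t ∈ T, β t = t) : β ^ Nat.card T = 1 := by
  have hI : Finite I := inferInstance
  have hW : Finite (WP (R.bnPair hgen)) := inferInstance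
  have hC : Cox cs' := inferInstance
  -- the action on the panels
  have hpan : ∀ i : I, ∃ t ∈ T, ∀ x ∈ X (sr i), act β hβ.keep (QuotientGroup.mk (x * n i)) =
        t • (QuotientGroup.mk (x * n i) : Y ⧸ (R.bnPair hgen).B) := by
    intro i
    have hfix : ∀ t ∈ T, act β hβ.keep (QuotientGroup.mk (1 * n i)) =
        t • (QuotientGroup.mk (1 * n i) : Y ⧸ (R.bnPair hgen).B) := by
      intro t ht
      have h4 := hβ.act_n hcs hg₀ i
      rw [hσ] at h4
      rw [one_mul, h4, eq_comm, FixBN.OfBN.smul_mk_eq]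
      exact T_le_B (simple_conj_T R i ht)
    by_cases hex : ∃ x ∈ X (sr i), x ≠ 1
    · obtain ⟨x₀, hx₀, hx₀1⟩ := hex
      obtain ⟨y₀, hy₀, hy₀1, he⟩ := Nrm.val hcs hg₀ hβ (hσ i) hx₀ hx₀1
      obtain ⟨t, ht, hty⟩ := D.tr i x₀ hx₀ y₀ hy₀ hx₀1 hy₀1
      refine ⟨t, ht, fun x hx => ?_⟩
      by_cases hx1 : x = 1
      · rw [hx1]; exact hfix t ht
      · obtain ⟨s, hs, hsx⟩ := D.tr i x₀ hx₀ x hx hx₀1 hx1
        rw [← hsx, mk_conj i hs, FixBN.OfBN.smul_mk, act_mk, map_mul, hT s hs]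
        have h5 : (QuotientGroup.mk (s * β (x₀ * n i)) : Y ⧸ (R.bnPair hgen).B) =
            s • act β hβ.keep (QuotientGroup.mk (x₀ * n i)) := by
          rw [act_mk, FixBN.OfBN.smul_mk]
        rw [h5, he, ← hty, mk_conj i ht]
        simp only [FixBN.OfBN.smul_mk]
        congr 1
        rw [← mul_assoc, D.comm s hs t ht, mul_assoc]
    · push Not at hex
      refine ⟨1, one_mem _, fun x hx => ?_⟩
      rw [hex x hx]
      exact hfix 1 (one_mem _)
  -- powers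
  have hpow : ∀ m : ℕ, Nrm R hgen g₀ (β ^ m) := by
    intro m
    induction m with
    | zero =>
      rw [pow_zero]
      refine ⟨Keep.one, ?_⟩
      rw [MulAut.one_apply, inv_mul_cancel]
      exact one_mem _
    | succ m ih => rw [pow_succ]; exact ih.mul hβ
  have hsg : ∀ m : ℕ, ∀ i, sg (eS R hgen) cs' hcs (hpow m).keep i = i := by
    intro m
    induction m with
    | zero => exact fun i => (sg_congr (eS R hgen) cs' hcs _ Keep.one (pow_zero β) i).trans (sg_one (eS R hgen) cs' hcs i)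
    | succ m ih =>
      intro i
      refine (sg_congr (eS R hgen) cs' hcs (hpow (m + 1)).keep ((hpow m).keep.mul hβ.keep) (pow_succ β m) i).trans ?_
      refine (sg_mul (eS R hgen) cs' hcs (hpow m).keep hβ.keep i).trans ?_
      rw [hσ, ih]
  have hact : ∀ i : I, ∀ t ∈ T, (∀ x ∈ X (sr i), act β hβ.keep (QuotientGroup.mk (x * n i)) =
        t • (QuotientGroup.mk (x * n i) : Y ⧸ (R.bnPair hgen).B)) → ∀ m : ℕ, ∀ x ∈ X (sr i),
      act (β ^ m) (hpow m).keep (QuotientGroup.mk (x * n i)) =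
        (t ^ m) • (QuotientGroup.mk (x * n i) : Y ⧸ (R.bnPair hgen).B) := by
    intro i t ht h1 m
    induction m with
    | zero => intro x _; rw [act_mk, pow_zero, pow_zero, one_smul, MulAut.one_apply]
    | succ m ih =>
      intro x hx
      have h2 : act (β ^ (m + 1)) (hpow (m + 1)).keep (QuotientGroup.mk (x * n i)) =
          act β hβ.keep (act (β ^ m) (hpow m).keep (QuotientGroup.mk (x * n i))) := by
        rw [act_mk, act_mk, act_mk, pow_succ', MulAut.mul_apply]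
      rw [h2, ih x hx, FixBN.OfBN.smul_mk, act_mk, map_mul, map_pow, hT t ht]
      have h5 : (QuotientGroup.mk (t ^ m * β (x * n i)) : Y ⧸ (R.bnPair hgen).B) =
          t ^ m • act β hβ.keep (QuotientGroup.mk (x * n i)) := by
        rw [act_mk, FixBN.OfBN.smul_mk]
      rw [h5, h1 x hx, smul_smul, pow_succ]
  have h4 : β ^ Nat.card T = MulAut.conj 1 := by
    refine (hpow _).eq_conj hcs hcore hg₀ (hsg _) (one_mem _) ?_
    intro i x hx
    obtain ⟨t, ht, h1⟩ := hpan i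
    rw [hact i t ht h1 _ x hx]
    have h2 : t ^ Nat.card T = 1 := by
      have h3 : (⟨t, ht⟩ : T) ^ Nat.card T = 1 := pow_card_eq_one'
      exact congrArg Subtype.val h3
    rw [h2]
  rw [h4, map_one]

/-! ### The type of an automorphism -/

theorem sg_inv {θ : MulAut Y} (hθ : Keep (R.bnPair hgen) θ) (i : I) :
    sg (eS R hgen) cs' hcs hθ (sg (eS R hgen) cs' hcs hθ.inv i) = i := by
  have hI : Finite I := inferInstance
  have hW : Finite (WP (R.bnPair hgen)) := inferInstance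
  have hC : Cox cs' := inferInstance
  refine (sg_mul (eS R hgen) cs' hcs hθ hθ.inv i).symm.trans ?_
  exact (sg_congr (eS R hgen) cs' hcs _ Keep.one (mul_inv_cancel _) i).trans (sg_one (eS R hgen) cs' hcs i)

/-- the type of a commutator -/
theorem sg_comm {β γ : MulAut Y} (hβ : Keep (R.bnPair hgen) β) (hγ : Keep (R.bnPair hgen) γ)
    (h1 : ∀ i, sg (eS R hgen) cs' hcs hβ i = i) (hδ : Keep (R.bnPair hgen) (β⁻¹ * (γ * β * γ⁻¹))) (i : I) :
    sg (eS R hgen) cs' hcs hδ i = i := by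
  have hI : Finite I := inferInstance
  have hW : Finite (WP (R.bnPair hgen)) := inferInstance
  have hC : Cox cs' := inferInstance
  refine (sg_mul (eS R hgen) cs' hcs hβ.inv ((hγ.mul hβ).mul hγ.inv) i).trans ?_
  rw [sg_mul (eS R hgen) cs' hcs (hγ.mul hβ) hγ.inv i, sg_mul (eS R hgen) cs' hcs hγ hβ, h1,
    sg_inv hcs hγ]
  have h3 := sg_inv hcs hβ i
  rw [h1] at h3
  exact h3

omit hN in
theorem mem_B_of_keep {q : ℕ} [Fact q.Prime] {U : Subgroup Y} (S : Split (R.bnPair hgen) q U) {b : Y}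
    (hb : Keep (R.bnPair hgen) (MulAut.conj b)) : b ∈ (R.bnPair hgen).B := by
  rw [← S.normalizer_eq]
  have key : ∀ b : Y, Keep (R.bnPair hgen) (MulAut.conj b) → ∀ u ∈ U, b * u * b⁻¹ ∈ U := by
    intro b hb u hu
    have h1 : b * u * b⁻¹ ∈ (R.bnPair hgen).B := by
      have := (hb u).2 (S.le hu)
      rwa [MulAut.conj_apply] at this
    obtain ⟨m, hm⟩ := S.isP ⟨u, hu⟩
    have hm' : u ^ q ^ m = 1 := congrArg Subtype.val hm
    refine S.mem_of_pow h1 (n := m) ?_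
    rw [conj_pow, hm']; group
  rw [Subgroup.mem_normalizer_iff]
  intro u
  refine ⟨key b hb u, fun hu => ?_⟩
  have hb' : Keep (R.bnPair hgen) (MulAut.conj b⁻¹) := by rw [map_inv]; exact hb.inv
  have := key b⁻¹ hb' _ hu
  have e : b⁻¹ * (b * u * b⁻¹) * b⁻¹⁻¹ = u := by group
  rwa [e] at this

variable (g₀) in
/-- `α` is of type `σ`. -/
def Typ (α : MulAut Y) (σ : I → I) : Prop :=
  ∃ (g : Y) (hg : Nrm R hgen g₀ (MulAut.conj g * α)), ∀ i, sg (eS R hgen) cs' hcs hg.keep i = σ i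

theorem conj_mul_mul (α β : MulAut Y) (g l : Y) :
    MulAut.conj (g * α l) * (α * β) = (MulAut.conj g * α) * (MulAut.conj l * β) := by
  apply MulEquiv.ext
  intro x
  show g * α l * α (β x) * (g * α l)⁻¹ = g * α (l * β x * l⁻¹) * g⁻¹
  rw [map_mul, map_mul, map_inv]; group

include hg₀ hcore in
theorem exists_typ (α : MulAut Y) : ∃ σ, Typ hcs g₀ α σ := by
  obtain ⟨g, hg⟩ := exists_nrm hcs hcore hg₀ α
  exact ⟨_, g, hg, fun _ => rfl⟩

theorem Typ.mul {α β : MulAut Y} {σ τ : I → I} (hα : Typ hcs g₀ α σ) (hβ : Typ hcs g₀ β τ) :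
    Typ hcs g₀ (α * β) (σ ∘ τ) := by
  have hI : Finite I := inferInstance
  have hW : Finite (WP (R.bnPair hgen)) := inferInstance
  have hC : Cox cs' := inferInstance
  obtain ⟨g, hg, h1⟩ := hα
  obtain ⟨l, hl, h2⟩ := hβ
  have e := conj_mul_mul α β g l
  refine ⟨g * α l, by rw [e]; exact hg.mul hl, fun i => ?_⟩
  refine (sg_congr (eS R hgen) cs' hcs _ (hg.keep.mul hl.keep) e i).trans ?_
  refine (sg_mul (eS R hgen) cs' hcs hg.keep hl.keep i).trans ?_
  rw [h2, h1]; rfl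

theorem Typ.one : Typ hcs g₀ (1 : MulAut Y) (id : I → I) := by
  have hI : Finite I := inferInstance
  have hW : Finite (WP (R.bnPair hgen)) := inferInstance
  have hC : Cox cs' := inferInstance
  have e : MulAut.conj (1 : Y) * 1 = 1 := by rw [map_one, one_mul]
  have h1 : Nrm R hgen g₀ (MulAut.conj (1 : Y) * 1) := by
    rw [e]
    refine ⟨Keep.one, ?_⟩
    rw [MulAut.one_apply, inv_mul_cancel]
    exact one_mem _
  exact ⟨1, h1, fun i => (sg_congr (eS R hgen) cs' hcs _ Keep.one e i).trans (sg_one (eS R hgen) cs' hcs i)⟩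

include hcore in
theorem Typ.unique {α : MulAut Y} {σ τ : I → I} (hα : Typ hcs g₀ α σ) (hβ : Typ hcs g₀ α τ) : σ = τ := by
  have hI : Finite I := inferInstance
  have hW : Finite (WP (R.bnPair hgen)) := inferInstance
  have hC : Cox cs' := inferInstance
  have S : Split (R.bnPair hgen) p (Sup X (Pos cs h)) := SplitRGD.split_of_rgd (Fact.out) R hgen hcore
  obtain ⟨g, hg, h1⟩ := hα
  obtain ⟨l, hl, h2⟩ := hβ
  have e : (MulAut.conj l * α) * (MulAut.conj g * α)⁻¹ = MulAut.conj (l * g⁻¹) := by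
    rw [map_mul, map_inv]; group
  have hk : Keep (R.bnPair hgen) (MulAut.conj (l * g⁻¹)) := by rw [← e]; exact hl.keep.mul hg.keep.inv
  have hb := mem_B_of_keep S hk
  have e2 : MulAut.conj (l * g⁻¹) * (MulAut.conj g * α) = MulAut.conj l * α := by
    rw [map_mul, map_inv]; group
  funext i
  rw [← h1, ← h2]
  refine Eq.trans ?_ (sg_congr (eS R hgen) cs' hcs ((Keep.conj hb).mul hg.keep) hl.keep e2 i)
  refine Eq.trans ?_ (sg_mul (eS R hgen) cs' hcs (Keep.conj hb) hg.keep i).symm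
  exact (sg_conj (eS R hgen) cs' hcs hb _).symm

theorem Typ.inj {α : MulAut Y} {σ : I → I} (hα : Typ hcs g₀ α σ) : Function.Injective σ := by
  have hI : Finite I := inferInstance
  have hW : Finite (WP (R.bnPair hgen)) := inferInstance
  have hC : Cox cs' := inferInstance
  obtain ⟨g, hg, h1⟩ := hα
  have : σ = sg (eS R hgen) cs' hcs hg.keep := funext fun i => (h1 i).symm
  rw [this]
  exact sg_injective _ _ _ _

theorem Typ.matrix {α : MulAut Y} {σ : I → I} (hα : Typ hcs g₀ α σ) (i j : I) : M (σ i) (σ j) = M i j := by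
  have hI : Finite I := inferInstance
  have hW : Finite (WP (R.bnPair hgen)) := inferInstance
  have hC : Cox cs' := inferInstance
  obtain ⟨g, hg, h1⟩ := hα
  rw [← h1, ← h1]
  exact sg_M _ _ _ _ i j

variable (g₀) in
include hg₀ hcore in
/-- The type preserving automorphisms. -/
theorem exists_TP : ∃ N : Subgroup (MulAut Y), N.Normal ∧ ∀ α, α ∈ N ↔ Typ hcs g₀ α id := by
  have hinv : ∀ α : MulAut Y, ∀ σ τ, Typ hcs g₀ α σ → Typ hcs g₀ α⁻¹ τ → σ ∘ τ = id ∧ τ ∘ σ = id := by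
    intro α σ τ h1 h2
    have h3 := h1.mul hcs h2
    have h4 := h2.mul hcs h1
    rw [mul_inv_cancel] at h3
    rw [inv_mul_cancel] at h4
    exact ⟨h3.unique hcs hcore (Typ.one hcs), h4.unique hcs hcore (Typ.one hcs)⟩
  let N : Subgroup (MulAut Y) :=
    { carrier := {α | Typ hcs g₀ α id}
      mul_mem' := fun {α β} h1 h2 => by
        have := Typ.mul hcs h1 h2
        simpa using this
      one_mem' := Typ.one hcs
      inv_mem' := fun {α} h1 => by
        obtain ⟨τ, hτ⟩ := exists_typ hcs hg₀ hcore α⁻¹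
        have h2 := (hinv α _ _ h1 hτ).1
        have : τ = id := by simpa using h2
        rw [this] at hτ
        exact hτ }
  refine ⟨N, ⟨fun α hα β => ?_⟩, fun α => Iff.rfl⟩
  obtain ⟨σ, hσ⟩ := exists_typ hcs hg₀ hcore β
  obtain ⟨τ, hτ⟩ := exists_typ hcs hg₀ hcore β⁻¹
  have h1 := (hσ.mul hcs (show Typ hcs g₀ α id from hα)).mul hcs hτ
  have h2 : (σ ∘ id) ∘ τ = id := (hinv β _ _ hσ hτ).1
  rw [h2] at h1
  exact h1

/-! ### Automorphisms trivial on `T` -/

variable (g₀) in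
/-- The type preserving automorphisms which are trivial on `T` (modulo inner automorphisms). -/
def DD : Subgroup (MulAut Y) where
  carrier := {α | ∃ (g : Y) (hg : Nrm R hgen g₀ (MulAut.conj g * α)),
    (∀ i, sg (eS R hgen) cs' hcs hg.keep i = i) ∧ ∀ t ∈ T, (MulAut.conj g * α) t = t}
  mul_mem' := by
    have hI : Finite I := inferInstance
    have hW : Finite (WP (R.bnPair hgen)) := inferInstance
    have hC : Cox cs' := inferInstance
    rintro α β ⟨g, hg, h1, h2⟩ ⟨l, hl, h3, h4⟩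
    have e := conj_mul_mul α β g l
    refine ⟨g * α l, by rw [e]; exact hg.mul hl, fun i => ?_, fun t ht => ?_⟩
    · refine (sg_congr (eS R hgen) cs' hcs _ (hg.keep.mul hl.keep) e i).trans ?_
      refine (sg_mul (eS R hgen) cs' hcs hg.keep hl.keep i).trans ?_
      rw [h3, h1]
    · rw [e]
      show (MulAut.conj g * α) ((MulAut.conj l * β) t) = t
      rw [h4 t ht, h2 t ht]
  one_mem' := by
    have hI : Finite I := inferInstance
    have hW : Finite (WP (R.bnPair hgen)) := inferInstance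
    have hC : Cox cs' := inferInstance
    have e : MulAut.conj (1 : Y) * 1 = 1 := by rw [map_one, one_mul]
    have h1 : Nrm R hgen g₀ (MulAut.conj (1 : Y) * 1) := by
      rw [e]
      refine ⟨Keep.one, ?_⟩
      rw [MulAut.one_apply, inv_mul_cancel]
      exact one_mem _
    exact ⟨1, h1, fun i => (sg_congr (eS R hgen) cs' hcs _ Keep.one e i).trans (sg_one (eS R hgen) cs' hcs i),
      fun t _ => by rw [e]; rfl⟩
  inv_mem' := by
    have hI : Finite I := inferInstance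
    have hW : Finite (WP (R.bnPair hgen)) := inferInstance
    have hC : Cox cs' := inferInstance
    rintro α ⟨g, hg, h1, h2⟩
    have e : MulAut.conj (α⁻¹ g⁻¹) * α⁻¹ = (MulAut.conj g * α)⁻¹ := by
      apply MulEquiv.ext
      intro x
      have h3 : (MulAut.conj g * α)⁻¹ x = α⁻¹ (g⁻¹ * x * g) := by
        rw [mul_inv_rev, MulAut.mul_apply, ← map_inv, MulAut.conj_apply, inv_inv]
      rw [h3]
      show α⁻¹ g⁻¹ * α⁻¹ x * (α⁻¹ g⁻¹)⁻¹ = _
      rw [← map_inv, ← map_mul, ← map_mul, inv_inv]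
    refine ⟨α⁻¹ g⁻¹, by rw [e]; exact hg.inv, fun i => ?_, fun t ht => ?_⟩
    · refine (sg_congr (eS R hgen) cs' hcs _ hg.keep.inv e i).trans ?_
      have h3 := sg_mul (eS R hgen) cs' hcs hg.keep.inv hg.keep i
      rw [h1] at h3
      rw [← h3]
      exact (sg_congr (eS R hgen) cs' hcs _ Keep.one (inv_mul_cancel _) i).trans (sg_one (eS R hgen) cs' hcs i)
    · rw [e]
      conv_lhs => rw [← h2 t ht]
      rw [MulAut.inv_apply_self]

include hg₀ hcore D in
theorem pow_mem_inner {α : MulAut Y} (hα : α ∈ DD hcs g₀) :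
    α ^ Nat.card T ∈ (MulAut.conj : Y →* MulAut Y).range := by
  obtain ⟨g, hg, h1, h2⟩ := hα
  have h3 := pow_card hcs hg₀ hcore D hg h1 h2
  have hn : ((MulAut.conj : Y →* MulAut Y).range).Normal := ⟨by
    rintro _ ⟨x, rfl⟩ β
    refine ⟨β x, ?_⟩
    apply MulEquiv.ext
    intro y
    show β x * y * (β x)⁻¹ = β (x * β⁻¹ y * x⁻¹)
    rw [map_mul, map_mul, map_inv, MulAut.apply_inv_self]⟩
  let q := QuotientGroup.mk' ((MulAut.conj : Y →* MulAut Y).range)
  have h4 : q (MulAut.conj g * α) = q α := by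
    have h6 : q (MulAut.conj g) = 1 :=
      (QuotientGroup.eq_one_iff (N := (MulAut.conj : Y →* MulAut Y).range) (MulAut.conj g)).2 ⟨g, rfl⟩
    rw [map_mul, h6, one_mul]
  have h5 : q (α ^ Nat.card T) = 1 := by
    rw [map_pow, ← h4, ← map_pow, h3, map_one]
  exact (QuotientGroup.eq_one_iff _).1 h5

include hg₀ hcore in
/-- The commutator of two normalised automorphisms. -/
theorem comm_mem_DD {x t : MulAut Y} {g l : Y} (hg : Nrm R hgen g₀ (MulAut.conj g * x))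
    (hl : Nrm R hgen g₀ (MulAut.conj l * t)) (h1 : ∀ i, sg (eS R hgen) cs' hcs hg.keep i = i)
    (h2 : ∀ i, ∀ s ∈ T, Eqv (X (sr i))
      (((MulAut.conj g * x)⁻¹ * ((MulAut.conj l * t) * (MulAut.conj g * x) * (MulAut.conj l * t)⁻¹)) s) s) :
    x⁻¹ * (t * x * t⁻¹) ∈ DD hcs g₀ := by
  have hI : Finite I := inferInstance
  have hW : Finite (WP (R.bnPair hgen)) := inferInstance
  have hC : Cox cs' := inferInstance
  set β := MulAut.conj g * x with hβ
  set γ := MulAut.conj l * t with hγ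
  have hδ : Nrm R hgen g₀ (β⁻¹ * (γ * β * γ⁻¹)) := hg.inv.mul ((hl.mul hg).mul hl.inv)
  -- the inner factor
  obtain ⟨r, hr⟩ : ∃ r : Y, MulAut.conj r * (x⁻¹ * (t * x * t⁻¹)) = β⁻¹ * (γ * β * γ⁻¹) := by
    have key : ∀ a b : MulAut Y, (∃ r : Y, MulAut.conj r * a = b) → ∀ c d : MulAut Y, (∃ r : Y, MulAut.conj r * c = d) →
        ∃ r : Y, MulAut.conj r * (a * c) = b * d := by
      rintro a b ⟨r, rfl⟩ c d ⟨u, rfl⟩
      exact ⟨r * a u, conj_mul_mul a c r u⟩
    have kinv : ∀ a b : MulAut Y, (∃ r : Y, MulAut.conj r * a = b) → ∃ r : Y, MulAut.conj r * a⁻¹ = b⁻¹ := by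
      rintro a b ⟨r, rfl⟩
      refine ⟨a⁻¹ r⁻¹, ?_⟩
      apply MulEquiv.ext
      intro y
      have h3 : (MulAut.conj r * a)⁻¹ y = a⁻¹ (r⁻¹ * y * r) := by
        rw [mul_inv_rev, MulAut.mul_apply, ← map_inv, MulAut.conj_apply, inv_inv]
      rw [h3]
      show a⁻¹ r⁻¹ * a⁻¹ y * (a⁻¹ r⁻¹)⁻¹ = _
      rw [← map_inv, ← map_mul, ← map_mul, inv_inv]
    exact key _ _ (kinv _ _ ⟨g, rfl⟩) _ _ (key _ _ (key _ _ ⟨l, rfl⟩ _ _ ⟨g, rfl⟩) _ _ (kinv _ _ ⟨l, rfl⟩))
  refine ⟨r, by rw [hr]; exact hδ, fun i => ?_, fun s hs => ?_⟩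
  · -- the type
    refine (sg_congr (eS R hgen) cs' hcs _ hδ.keep hr i).trans ?_
    exact sg_comm hcs hg.keep hl.keep h1 hδ.keep i
  · rw [hr]
    have h3 : s⁻¹ * (β⁻¹ * (γ * β * γ⁻¹)) s = 1 := by
      refine eq_one_of_cen hcs hg₀ hcore (mul_mem (inv_mem hs) (hδ.mem_T hcs hcore hg₀ hs)) fun i x hx => ?_
      exact h2 i s hs x hx
    exact (inv_mul_eq_one.1 h3).symm

end

/-! ### The theorems -/

section

variable [Finite Y] [Fact p.Prime]

/-- **`OutNil`**, all diagram symmetries are involutions. -/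
theorem outNil (R : RGD cs h p T n X) (hgen : B cs h T X ⊔ NN cs R.nsys = ⊤) (hcore : (B cs h T X).normalCore = ⊥)
    (D : Tor T (fun i => X (sr i)))
    (hM : ∀ σ τ : I → I, Function.Injective σ → Function.Injective τ → (∀ i j, M (σ i) (σ j) = M i j) →
      (∀ i j, M (τ i) (τ j) = M i j) → (∃ i, σ i ≠ i) → (∃ i, τ i ≠ i) → ∀ i, σ (τ i) = i) : OutNil Y := by
  obtain ⟨hN, cs', hcs, hW, S⟩ := exists_setup R hgen hcore
  obtain ⟨g₀, hg₀⟩ := exists_g0 R hgen cs'
  rw [outNil_iff]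
  intro X₀ T₀ c
  obtain ⟨N, hNn, hNm⟩ := exists_TP hcs g₀ hg₀ hcore
  have hne : ∀ σ : I → I, σ ≠ id → ∃ i, σ i ≠ i := by
    intro σ h1
    by_contra hcon
    push Not at hcon
    exact h1 (funext hcon)
  have hprod : ∀ x y : MulAut Y, x ∉ N → y ∉ N → x * y ∈ N := by
    intro x y hx hy
    obtain ⟨σ, hσ⟩ := exists_typ hcs hg₀ hcore x
    obtain ⟨τ, hτ⟩ := exists_typ hcs hg₀ hcore y
    have h1 : σ ≠ id := fun e => hx ((hNm x).2 (e ▸ hσ))
    have h2 : τ ≠ id := fun e => hy ((hNm y).2 (e ▸ hτ))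
    rw [hNm]
    have h3 : σ ∘ τ = id := funext fun i => hM σ τ (hσ.inj hcs) (hτ.inj hcs) (hσ.matrix hcs) (hτ.matrix hcs)
      (hne σ h1) (hne τ h2) i
    rw [← h3]
    exact hσ.mul hcs hτ
  have hX : X₀ ≤ N := c.le_of_two' fun x _ y _ hx hy => hprod x y hx hy
  have hT₀ : T₀ ≤ N := by
    intro t ht
    by_contra hcon
    apply hcon
    have h1 : t ^ 2 ∈ N := by rw [pow_two]; exact hprod t t hcon hcon
    have h2 : t ^ Nat.card T₀ = 1 := by
      have h3 : (⟨t, ht⟩ : T₀) ^ Nat.card T₀ = 1 := pow_card_eq_one'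
      exact congrArg Subtype.val h3
    obtain ⟨r, hr⟩ := c.odd
    rw [hr, pow_succ, pow_mul] at h2
    have h3 : t = ((t ^ 2) ^ r)⁻¹ := eq_inv_of_mul_eq_one_right h2
    rw [h3]
    exact N.inv_mem (N.pow_mem h1 r)
  have hXD : X₀ ≤ DD hcs g₀ := c.le_of fun x hx t ht => by
    obtain ⟨g, hg, h1⟩ := (hNm x).1 (hX hx)
    obtain ⟨l, hl, h2⟩ := (hNm t).1 (hT₀ ht)
    exact comm_mem_DD hcs hg₀ hcore hg hl h1 fun i s hs => eqv_comm hcs hg₀ hcore D hg hl (h1 i) (h2 i) hs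
  intro x hx
  exact c.mem_of_pow hx D.odd (pow_mem_inner hcs hg₀ hcore D (hXD hx))

/-- **`OutNil`**, a central node `z`. -/
theorem outNil_of_centre (R : RGD cs h p T n X) (hgen : B cs h T X ⊔ NN cs R.nsys = ⊤)
    (hcore : (B cs h T X).normalCore = ⊥) (D : Tor T (fun i => X (sr i))) (z : I)
    (hz : ∀ σ : I → I, Function.Injective σ → (∀ i j, M (σ i) (σ j) = M i j) → σ z = z)
    (hM : ∀ σ τ : I → I, Function.Injective σ → Function.Injective τ → (∀ i j, M (σ i) (σ j) = M i j) →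
      (∀ i j, M (τ i) (τ j) = M i j) → (∀ i, σ (σ i) = i) → (∀ i, τ (τ i) = i) → (∀ i, σ (τ i) = τ (σ i)) →
      (∃ i, σ i ≠ i) → (∃ i, τ i ≠ i) → ∀ i, σ (τ i) = i)
    (hu : ∀ i, i ≠ z → ∀ s ∈ T, ∃ u ∈ T, Eqv (X (sr i)) s u ∧
      ∀ x ∈ X (rep cs h (cs.simple z) (sr i)), u * x = x * u)
    (hv : ∀ i, i ≠ z → ∀ v ∈ T, (∀ x ∈ X (sr z), v * x = x * v) →
      (∀ x ∈ X (rep cs h (cs.simple z) (sr i)), v * x = x * v) → ∀ x ∈ X (sr i), v * x = x * v) : OutNil Y := by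
  obtain ⟨hN, cs', hcs, hW, S⟩ := exists_setup R hgen hcore
  obtain ⟨g₀, hg₀⟩ := exists_g0 R hgen cs'
  have hI : Finite I := inferInstance
  have hC : Cox cs' := inferInstance
  rw [outNil_iff]
  intro X₀ T₀ c
  obtain ⟨N, hNn, hNm⟩ := exists_TP hcs g₀ hg₀ hcore
  have hne : ∀ σ : I → I, σ ≠ id → ∃ i, σ i ≠ i := by
    intro σ h1
    by_contra hcon
    push Not at hcon
    exact h1 (funext hcon)
  have hX : X₀ ≤ N := c.le_of_two' fun x hxX y hyX hx hy => by
    obtain ⟨σ, hσ⟩ := exists_typ hcs hg₀ hcore x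
    obtain ⟨τ, hτ⟩ := exists_typ hcs hg₀ hcore y
    have h1 : σ ≠ id := fun e => hx ((hNm x).2 (e ▸ hσ))
    have h2 : τ ≠ id := fun e => hy ((hNm y).2 (e ▸ hτ))
    rw [hNm]
    have e1 : σ ∘ σ = id := by
      have h4 := hσ.mul hcs hσ
      rw [c.sq x hxX] at h4
      exact h4.unique hcs hcore (Typ.one hcs)
    have e2 : τ ∘ τ = id := by
      have h4 := hτ.mul hcs hτ
      rw [c.sq y hyX] at h4
      exact h4.unique hcs hcore (Typ.one hcs)
    have e3 : σ ∘ τ = τ ∘ σ := by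
      have h4 := hσ.mul hcs hτ
      rw [c.comm hxX hyX] at h4
      exact h4.unique hcs hcore (hτ.mul hcs hσ)
    have h3 : σ ∘ τ = id := funext fun i => hM σ τ (hσ.inj hcs) (hτ.inj hcs) (hσ.matrix hcs) (hτ.matrix hcs)
      (congrFun e1) (congrFun e2) (congrFun e3) (hne σ h1) (hne τ h2) i
    rw [← h3]
    exact hσ.mul hcs hτ
  have hXD : X₀ ≤ DD hcs g₀ := c.le_of fun x hx t ht => by
    obtain ⟨g, hg, h1⟩ := (hNm x).1 (hX hx)
    obtain ⟨τ, hτ⟩ := exists_typ hcs hg₀ hcore t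
    have hτz := hz τ (hτ.inj hcs) (hτ.matrix hcs)
    obtain ⟨l, hl, h2⟩ := hτ
    have hδ : Nrm R hgen g₀ ((MulAut.conj g * x)⁻¹ * ((MulAut.conj l * t) * (MulAut.conj g * x) *
      (MulAut.conj l * t)⁻¹)) := hg.inv.mul ((hl.mul hg).mul hl.inv)
    set δ := (MulAut.conj g * x)⁻¹ * ((MulAut.conj l * t) * (MulAut.conj g * x) * (MulAut.conj l * t)⁻¹) with hδ'
    -- the type of `δ`
    have hδσ : ∀ i, sg (eS R hgen) cs' hcs hδ.keep i = i := sg_comm hcs hg.keep hl.keep h1 hδ.keep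
    have hzz : ∀ s ∈ T, Eqv (X (sr z)) (δ s) s := fun s hs =>
      eqv_comm hcs hg₀ hcore D hg hl (h1 z) ((h2 z).trans hτz) hs
    refine comm_mem_DD hcs hg₀ hcore hg hl h1 fun i s hs => ?_
    rw [← hδ']
    by_cases hiz : i = z
    · rw [hiz]; exact hzz s hs
    obtain ⟨u, huT, hsu, hux⟩ := hu i hiz s hs
    have k1 := Nrm.eqv hcs hg₀ hcore hδ hs huT hsu
    rw [hδσ] at k1
    -- `δ u` centralises `X (s_z (sr i))`
    have k2 := hδ.cen_rep hcs hcore hg₀ huT (i := i) (j := z) hux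
    rw [hδσ, hδσ] at k2
    have k3 : Eqv (X (sr i)) (δ u) u := by
      refine hv i hiz (u⁻¹ * δ u) (mul_mem (inv_mem huT) (hδ.mem_T hcs hcore hg₀ huT)) (hzz u huT) ?_
      intro x hx
      have c1 : Commute u x := hux x hx
      have c2 : Commute (δ u) x := k2 x hx
      exact (c1.inv_left.mul_left c2).eq
    exact (k1.trans k3).trans hsu.symm
  intro x hx
  exact c.mem_of_pow hx D.odd (pow_mem_inner hcs hg₀ hcore D (hXD hx))

end

end Cfsg.Agent.Omega.Lie.OutRgd
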