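import Cfsg.Agent.Involutions.BaerSuzuki
import Cfsg.Agent.StdU3.GOneALem

/-!
# K-fact (PAIR) (text #12707)

`Pair K`: for commuting involutions `b ≠ b'` of `K` there is `x ≠ 1` of odd order, inverted by `b` and
centralised by `b'`.
-/

set_option autoImplicit false

namespace Cfsg.Agent.Omega.Lie.PairFact

open Subgroup

universe u v

/-- K-fact (PAIR). -/
def Pair (K : Type u) [Group K] : Prop :=
  ∀ b b' : K, b * b = 1 → b' * b' = 1 → b ≠ 1 → b' ≠ 1 → b ≠ b' → b * b' = b' * b →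
    ∃ x : K, x ≠ 1 ∧ Odd (orderOf x) ∧ b * x * b⁻¹ = x⁻¹ ∧ b' * x * b'⁻¹ = x

/-- (PAIR) for the fixed second involution `a`. -/
def PairAt {K : Type u} [Group K] (a : K) : Prop :=
  ∀ b : K, b * b = 1 → b ≠ 1 → b ≠ a → b * a = a * b →
    ∃ x : K, x ≠ 1 ∧ Odd (orderOf x) ∧ b * x * b⁻¹ = x⁻¹ ∧ a * x * a⁻¹ = x

/-- Every involution inverts an element `≠ 1` of odd order. -/
def Inv (L : Type v) [Group L] : Prop :=
  ∀ s : L, s * s = 1 → s ≠ 1 → ∃ x : L, x ≠ 1 ∧ Odd (orderOf x) ∧ s * x * s⁻¹ = x⁻¹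

variable {K : Type u} [Group K]

theorem Pair.congr {K' : Type v} [Group K'] (h : Pair K) (e : K ≃* K') : Pair K' := by
  intro b b' hb hb' hb1 hb1' hne hc
  obtain ⟨x, h1, h2, h3, h4⟩ := h (e.symm b) (e.symm b') (by rw [← map_mul, hb, map_one])
    (by rw [← map_mul, hb', map_one]) (by simpa using hb1) (by simpa using hb1')
    (fun h5 => hne (e.symm.injective h5)) (by rw [← map_mul, hc, map_mul])
  refine ⟨e x, by simpa using h1, ?_, ?_, ?_⟩
  · rw [MulEquiv.orderOf_eq]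
    exact h2
  · have := congrArg e h3
    simpa using this
  · have := congrArg e h4
    simpa using this

/-- (PAIR) from one involution of each class. -/
theorem Pair.of_conj (h : ∀ b : K, b * b = 1 → b ≠ 1 → ∃ g a : K, g * b * g⁻¹ = a ∧ PairAt a) :
    Pair K := by
  intro b b' hb hb' hb1 hb1' hne hc
  obtain ⟨g, a, hg, ha⟩ := h b' hb' hb1'
  have hcj : ∀ y : K, g⁻¹ * (g * y * g⁻¹) * g = y := fun y => by group
  obtain ⟨x, h1, h2, h3, h4⟩ := ha (g * b * g⁻¹)
    (by rw [conj_mul, hb, mul_one, mul_inv_cancel])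
    (fun h5 => hb1 (by rw [← hcj b, h5, mul_one, inv_mul_cancel]))
    (fun h5 => hne (by rw [← hcj b, h5, ← hg, hcj]))
    (by rw [← hg, conj_mul, conj_mul, hc])
  refine ⟨g⁻¹ * x * g, fun h5 => h1 ?_, ?_, ?_, ?_⟩
  · have : x = g * (g⁻¹ * x * g) * g⁻¹ := by group
    rw [this, h5, mul_one, mul_inv_cancel]
  · have : orderOf (g⁻¹ * x * g) = orderOf x := by
      have := orderOf_injective (MulAut.conj g⁻¹).toMonoidHom (MulAut.conj g⁻¹).injective x
      simpa [MulAut.conj_apply] using this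
    rwa [this]
  · have e1 : b * (g⁻¹ * x * g) * b⁻¹ = g⁻¹ * (g * b * g⁻¹ * x * (g * b * g⁻¹)⁻¹) * g := by group
    rw [e1, h3]
    group
  · have e1 : b' * (g⁻¹ * x * g) * b'⁻¹ = g⁻¹ * (g * b' * g⁻¹ * x * (g * b' * g⁻¹)⁻¹) * g := by group
    rw [e1, hg, h4]

/-- A central product decomposition of `C(a)`. -/
theorem PairAt.of_prod {a : K} (ha : a ≠ 1) {L : Type v} [Group L]
    (e : centralizer ({a} : Set K) ≃* Multiplicative (ZMod 2) × L) (hL : center L = ⊥)
    (hI : Inv L) : PairAt a := by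
  have haC : a ∈ centralizer ({a} : Set K) := mem_centralizer_singleton_iff.2 rfl
  -- `a` corresponds to `(1, 1)`
  have hea : (e ⟨a, haC⟩).2 = 1 := by
    have h1 : (e ⟨a, haC⟩).2 ∈ center L := by
      rw [mem_center_iff]
      intro y
      obtain ⟨c, hc⟩ := e.surjective (1, y)
      have h2 : c * ⟨a, haC⟩ = ⟨a, haC⟩ * c := Subtype.ext (mem_centralizer_singleton_iff.1 c.2)
      have h3 := congrArg (fun z => (e z).2) h2
      simp only [map_mul, hc, Prod.snd_mul] at h3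
      exact h3
    rw [hL] at h1
    exact mem_bot.1 h1
  have hea1 : (e ⟨a, haC⟩).1 ≠ 1 := by
    intro h1
    apply ha
    have h2 : e ⟨a, haC⟩ = 1 := Prod.ext h1 hea
    exact congrArg Subtype.val ((map_eq_one_iff e e.injective).1 h2)
  intro b hb hb1 hba hc
  have hbC : b ∈ centralizer ({a} : Set K) := mem_centralizer_singleton_iff.2 hc
  have hs1 : (e ⟨b, hbC⟩).2 ≠ 1 := by
    intro h1
    have h2 : (e ⟨b, hbC⟩).1 ≠ 1 := by
      intro h3
      apply hb1
      have h4 : e ⟨b, hbC⟩ = 1 := Prod.ext h3 h1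
      exact congrArg Subtype.val ((map_eq_one_iff e e.injective).1 h4)
    have h3 : ∀ x y : Multiplicative (ZMod 2), x ≠ 1 → y ≠ 1 → x = y := by decide
    apply hba
    have h4 : e ⟨b, hbC⟩ = e ⟨a, haC⟩ := Prod.ext (h3 _ _ h2 hea1) (by rw [h1, hea])
    exact congrArg Subtype.val (e.injective h4)
  have hss : (e ⟨b, hbC⟩).2 * (e ⟨b, hbC⟩).2 = 1 := by
    have h1 : (⟨b, hbC⟩ : centralizer ({a} : Set K)) * ⟨b, hbC⟩ = 1 := Subtype.ext hb
    have h2 := congrArg e h1
    rw [map_mul, map_one] at h2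
    exact congrArg Prod.snd h2
  obtain ⟨y, hy1, hyo, hy⟩ := hI _ hss hs1
  set x := e.symm (1, y) with hx
  refine ⟨x, ?_, ?_, ?_, ?_⟩
  · intro h1
    apply hy1
    have h2 : x = 1 := Subtype.ext h1
    rw [hx] at h2
    have h3 := congrArg e h2
    rw [MulEquiv.apply_symm_apply, map_one] at h3
    exact congrArg Prod.snd h3
  · have h1 : orderOf (x : K) = orderOf y := by
      rw [orderOf_coe, hx, MulEquiv.orderOf_eq]
      have := orderOf_injective (MonoidHom.inr (Multiplicative (ZMod 2)) L)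
        (fun u w h => congrArg Prod.snd h) y
      simpa using this
    rwa [h1]
  · have h1 : (⟨b, hbC⟩ : centralizer ({a} : Set K)) * x * ⟨b, hbC⟩⁻¹ = x⁻¹ := by
      apply e.injective
      rw [map_mul, map_mul, map_inv, map_inv, hx, MulEquiv.apply_symm_apply]
      refine Prod.ext ?_ ?_
      · simp
      · simpa using hy
    exact congrArg Subtype.val h1
  · have h1 := mem_centralizer_singleton_iff.1 x.2
    rw [← h1, mul_inv_cancel_right]

/-- If the trivial subgroup is the only normal 2-subgroup, every involution inverts an element `≠ 1` of odd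
order (Baer–Suzuki). -/
theorem Inv.of_o2 {L : Type v} [Group L] [Finite L]
    (h : ∀ N : Subgroup L, N.Normal → IsPGroup 2 N → N = ⊥) : Inv L := by
  intro s hs hs1
  refine Cfsg.Agent.Involutions.BaerSuzuki.exists_odd_inverted s hs fun h1 => hs1 ?_
  have h2 := h _ Subgroup.normalClosure_normal h1
  have h3 : s ∈ Subgroup.normalClosure {s} := Subgroup.subset_normalClosure (by simp)
  rw [h2] at h3
  exact mem_bot.1 h3

theorem Inv.of_simple {L : Type v} [Group L] [Finite L] [IsSimpleGroup L] (h : ¬ IsPGroup 2 L) :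
    Inv L := by
  refine Inv.of_o2 fun N hN h2 => ?_
  rcases hN.eq_bot_or_eq_top with h3 | h3
  · exact h3
  · subst h3
    exact absurd (h2.of_equiv Subgroup.topEquiv) h

theorem center_eq_bot {L : Type v} [Group L] [Finite L] [IsSimpleGroup L] (h : ¬ IsMulCommutative L) :
    center L = ⊥ := by
  rcases (inferInstance : (center L).Normal).eq_bot_or_eq_top with h3 | h3
  · exact h3
  · refine absurd ⟨⟨fun a b => ?_⟩⟩ h
    exact (mem_center_iff.1 (h3 ▸ mem_top b) a)

theorem isPGroup_pair {b b' : K} (hb : b * b = 1) (hb' : b' * b' = 1) (hc : b * b' = b' * b) :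
    IsPGroup 2 (closure {b, b'} : Subgroup K) := by
  refine Cfsg.Agent.StdU3.GOneALem.isPGroup_pair hb hb' (b := 1) ?_
  rw [pow_one, pow_two]
  calc b * b' * (b * b') = b * (b' * b) * b' := by group
    _ = b * (b * b') * b' := by rw [hc]
    _ = (b * b) * (b' * b') := by group
    _ = 1 := by rw [hb, hb', one_mul]

/-- (PAIR) from one Sylow 2-subgroup. -/
theorem Pair.of_sylow [Finite K] (S : Subgroup K) (hS2 : IsPGroup 2 S)
    (hS : ¬ 2 ∣ S.index)
    (h : ∀ b ∈ S, ∀ b' ∈ S, b * b = 1 → b' * b' = 1 → b ≠ 1 → b' ≠ 1 → b ≠ b' → b * b' = b' * b →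
      ∃ x : K, x ≠ 1 ∧ Odd (orderOf x) ∧ b * x * b⁻¹ = x⁻¹ ∧ b' * x * b'⁻¹ = x) : Pair K := by
  have : Fact (Nat.Prime 2) := ⟨Nat.prime_two⟩
  intro b b' hb hb' hb1 hb1' hne hc
  obtain ⟨T, hT⟩ := (isPGroup_pair hb hb' hc).exists_le_sylow
  let S' : Sylow 2 K := hS2.toSylow hS
  obtain ⟨g, hg⟩ := MulAction.exists_smul_eq K T S'
  have hmem : ∀ y ∈ (T : Subgroup K), g * y * g⁻¹ ∈ S := by
    intro y hy
    have h1 : g * y * g⁻¹ ∈ (g • T : Sylow 2 K) := ⟨y, hy, rfl⟩
    rw [hg] at h1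
    exact h1
  have hcj : ∀ y : K, g⁻¹ * (g * y * g⁻¹) * g = y := fun y => by group
  obtain ⟨x, h1, h2, h3, h4⟩ := h (g * b * g⁻¹) (hmem b (hT (subset_closure (by simp))))
    (g * b' * g⁻¹) (hmem b' (hT (subset_closure (by simp))))
    (by rw [conj_mul, hb, mul_one, mul_inv_cancel])
    (by rw [conj_mul, hb', mul_one, mul_inv_cancel])
    (fun h5 => hb1 (by rw [← hcj b, h5, mul_one, inv_mul_cancel]))
    (fun h5 => hb1' (by rw [← hcj b', h5, mul_one, inv_mul_cancel]))
    (fun h5 => hne (by rw [← hcj b, h5, hcj]))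
    (by rw [conj_mul, conj_mul, hc])
  refine ⟨g⁻¹ * x * g, fun h5 => h1 ?_, ?_, ?_, ?_⟩
  · have : x = g * (g⁻¹ * x * g) * g⁻¹ := by group
    rw [this, h5, mul_one, mul_inv_cancel]
  · have : orderOf (g⁻¹ * x * g) = orderOf x := by
      have := orderOf_injective (MulAut.conj g⁻¹).toMonoidHom (MulAut.conj g⁻¹).injective x
      simpa [MulAut.conj_apply] using this
    rwa [this]
  · have e1 : b * (g⁻¹ * x * g) * b⁻¹ = g⁻¹ * (g * b * g⁻¹ * x * (g * b * g⁻¹)⁻¹) * g := by group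
    rw [e1, h3]
    group
  · have e1 : b' * (g⁻¹ * x * g) * b'⁻¹ = g⁻¹ * (g * b' * g⁻¹ * x * (g * b' * g⁻¹)⁻¹) * g := by group
    rw [e1, h4]

end Cfsg.Agent.Omega.Lie.PairFact
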