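import Cfsg.Agent.Omega.Lie.SEKSys
import Cfsg.Agent.Omega.Lie.End.OfLay
import Cfsg.Agent.Omega.Lie.End.AHat
import Cfsg.Agent.Omega.Lie.End.NA
import Cfsg.Agent.Omega.Lie.ThmD
import Cfsg.Agent.Omega.Lie.End.KLTwo

/-!
# NODE LIE: `CenSE` from the layer, the K-side and THEOREM FIX

`FixM m j T` : THEOREM FIX (bb OMEGA #15651) for an arbitrary group `Γ ≥ T`: if the orbit of `e` under `Γ` has odd length and
`A` centralises all its members, then `Γ` stabilises `e`.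

* `stab_of_fix` : `N_H(S ∩ ⟨A^H⟩)` stabilises `e`;
* `unm_of_fix` : the unmoved parabolic subgroups of the moved components stabilise `e`;
* `mem_of_fix` : the conclusion of `CenSE` at the point `i`.
-/

set_option autoImplicit false
set_option linter.unusedSectionVars false

namespace Cfsg.Agent.Omega.Lie.SE

open Subgroup Cfsg Cfsg.Agent.Omega.BTwo Cfsg.Agent.Omega.Lie.Quot Cfsg.Agent.Omega.Lie.LemN Cfsg.Agent.Omega.Lie.End
open Cfsg.Agent.Omega.Lie.End.OfLay Cfsg.Agent.Omega.Lie.End.AHat Cfsg.Agent.ParSys Cfsg.Agent.Omega.IIa4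
open scoped Pointwise

universe u v w

section grp

variable {H : Type*} [Group H]

theorem sup_eq_mul {P T : Subgroup H} (hT : T ≤ normalizer (P : Set H)) {x : H} (hx : x ∈ P ⊔ T) :
    ∃ y ∈ P, ∃ t ∈ T, x = y * t := by
  rw [← SetLike.mem_coe, coe_mul_of_right_le_normalizer_left P _ hT] at hx
  obtain ⟨y, hy, t, ht, rfl⟩ := hx
  exact ⟨y, hy, t, ht, rfl⟩

/-- relative indices in `P T`, `T` of odd order normalising `P` -/
theorem odd_relIndex_sup [Finite H] {S P T : Subgroup H} (hSP : S ≤ P) (hT : T ≤ normalizer (P : Set H))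
    (h1 : Odd (S.relIndex P)) (h2 : Odd (Nat.card T)) : Odd ((S ⊔ T).relIndex (P ⊔ T)) := by
  have hn : (P.subgroupOf (P ⊔ T)).Normal :=
    (normal_subgroupOf_iff_le_normalizer le_sup_left).2 (sup_le le_normalizer hT)
  have h3 : P.relIndex (P ⊔ T) ∣ Nat.card T := by
    -- `T` maps onto `P T / P`
    have hsurj : Function.Surjective ((QuotientGroup.mk' (P.subgroupOf (P ⊔ T))).comp
        (inclusion (le_sup_right : T ≤ P ⊔ T))) := by
      intro q
      obtain ⟨⟨x, hx⟩, rfl⟩ := QuotientGroup.mk'_surjective _ q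
      obtain ⟨y, hy, t, ht, rfl⟩ := sup_eq_mul hT hx
      refine ⟨⟨t, ht⟩, ?_⟩
      change QuotientGroup.mk _ = QuotientGroup.mk _
      rw [QuotientGroup.eq, mem_subgroupOf]
      change t⁻¹ * (y * t) ∈ P
      have h4 := (mem_normalizer_iff.1 (inv_mem (hT ht)) y).1 hy
      rwa [inv_inv, mul_assoc] at h4
    exact card_dvd_of_surjective _ hsurj
  have h4 : Odd (S.relIndex (P ⊔ T)) := by
    rw [← relIndex_mul_relIndex S P (P ⊔ T) hSP le_sup_left]
    exact h1.mul (h2.of_dvd_nat h3)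
  have h5 : (S ⊔ T).relIndex (P ⊔ T) ∣ S.relIndex (P ⊔ T) := relIndex_dvd_of_le_left _ le_sup_left
  exact h4.of_dvd_nat h5

/-- a product of subgroups of pairwise commuting groups is normalised by the elements of one of them which normalise
their part -/
theorem norm_biSup [Finite H] {Λ : Set (Subgroup H)} {S K : Subgroup H} (hK : K ∈ Λ)
    (hc : ∀ K ∈ Λ, ∀ L ∈ Λ, K ≠ L → ∀ x ∈ K, ∀ y ∈ L, x * y = y * x) {b : H} (hb : b ∈ K)
    (hbN : b ∈ normalizer ((S ⊓ K : Subgroup H) : Set H)) :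
    b ∈ normalizer ((⨆ L ∈ Λ, S ⊓ L : Subgroup H) : Set H) := by
  refine mem_normalizer_of_conj fun x hx => ?_
  have h1 : (⨆ L ∈ Λ, S ⊓ L).map (MulAut.conj b).toMonoidHom ≤ ⨆ L ∈ Λ, S ⊓ L := by
    rw [Subgroup.map_iSup]
    refine iSup_le fun L => ?_
    rw [Subgroup.map_iSup]
    refine iSup_le fun hL => ?_
    have h2 : (S ⊓ L).map (MulAut.conj b).toMonoidHom ≤ S ⊓ L := by
      rintro _ ⟨y, hy, rfl⟩
      change b * y * b⁻¹ ∈ S ⊓ L
      by_cases hKL : K = L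
      · subst hKL
        exact BTwo.conj_mem_of_normalizer hbN hy
      · rw [hc K hK L hL hKL b hb y hy.2, mul_inv_cancel_right]
        exact hy
    exact h2.trans (le_iSup₂ (f := fun (L : Subgroup H) (_ : L ∈ Λ) => S ⊓ L) L hL)
  exact h1 ⟨x, hx, rfl⟩

/-- an unmoved parabolic subgroup: `A` is contained in a subgroup `X ≤ S` normalised by `P` and `T` -/
theorem exists_X [Finite H] {S A T K : Subgroup H} (h : CompB.Hyp S A T K) {P : Subgroup K}
    (hTP : ∀ t ∈ Tact T K, ∀ x ∈ P, t x ∈ P) (hu : Unmoved (S.subgroupOf K) (Tact T K) P) :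
    ∃ X : Subgroup H, A ≤ X ∧ X ≤ S ∧ P.map K.subtype ⊔ T ≤ normalizer (X : Set H) := by
  set SK := S.subgroupOf K with hSK
  set B := normalizer (SK : Set K) with hB
  set O := Qk B P ⊓ SK with hO
  have hTS : ∀ τ ∈ Tact T K, ∀ u ∈ SK, τ u ∈ SK := by
    intro τ hτ u hu
    obtain ⟨t, ht, -, h1⟩ := mem_Tact.1 hτ
    rw [hSK, mem_subgroupOf, h1]
    exact h.TS t ht u (mem_subgroupOf.1 hu)
  refine ⟨O.map K.subtype ⊔ (A ⊓ centralizer (K : Set H)), ?_, ?_, ?_⟩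
  · intro a ha
    obtain ⟨b, hb, c, hc, hcK, rfl⟩ := h.decomp ha
    refine mul_mem (mem_sup_left ⟨⟨b, hb.2⟩, ⟨?_, mem_subgroupOf.2 (h.AS hb.1)⟩, rfl⟩)
      (mem_sup_right ⟨hc, mem_centralizer_iff.2 fun x hx => (hcK x hx).symm⟩)
    have h1 : AT SK (Tact T K) ≤ Qk B P := by
      unfold AT
      rw [closure_le]
      rintro _ ⟨t, ht, u, hu', rfl⟩
      exact hu t ht u hu'
    apply h1
    rw [AT_eq h]
    exact mem_subgroupOf.2 hb
  · refine sup_le ?_ (inf_le_left.trans h.AS)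
    rintro _ ⟨x, hx, rfl⟩
    exact mem_subgroupOf.1 hx.2
  · refine sup_le ?_ ?_
    · rintro _ ⟨y, hy, rfl⟩
      have key : (O.map K.subtype ⊔ (A ⊓ centralizer (K : Set H))).map (MulAut.conj (y : H)).toMonoidHom ≤
          O.map K.subtype ⊔ (A ⊓ centralizer (K : Set H)) := by
        rw [Subgroup.map_sup]
        refine sup_le ?_ ?_
        · rintro _ ⟨_, ⟨o, ho, rfl⟩, rfl⟩
          refine mem_sup_left ⟨y * o * y⁻¹, ⟨?_, ?_⟩, by simp⟩
          · refine mem_Qk.2 fun g hg => ?_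
            have h1 := mem_Qk.1 ho.1 (y⁻¹ * g) (mul_mem (inv_mem hy) hg)
            have e : (y⁻¹ * g)⁻¹ * o * (y⁻¹ * g) = g⁻¹ * (y * o * y⁻¹) * g := by group
            rwa [e] at h1
          · have h1 : y * o * y⁻¹ ∈ B := by
              have h2 := mem_Qk.1 ho.1 y⁻¹ (inv_mem hy)
              rwa [inv_inv] at h2
            obtain ⟨n, hn⟩ := h.S2 ⟨(o : H), mem_subgroupOf.1 ho.2⟩
            have hn' : (o : H) ^ 2 ^ n = 1 := congrArg Subtype.val hn
            have h3 : ∀ z : K, z ∈ B → ∀ x, x ∈ S ⊓ K → (z : H) * x * (z : H)⁻¹ ∈ S ⊓ K := by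
              intro z hz x hx
              have h4 := (mem_normalizer_iff.1 hz ⟨x, hx.2⟩).1 (mem_subgroupOf.2 hx.1)
              exact ⟨mem_subgroupOf.1 h4, K.mul_mem (K.mul_mem z.2 hx.2) (K.inv_mem z.2)⟩
            refine mem_subgroupOf.2 (h.mem_of_normalizes (n := n) (SetLike.coe_mem _) ?_ (h3 _ h1) fun x hx => ?_)
            · push_cast
              rw [conj_pow, hn', mul_one, mul_inv_cancel]
            · have h5 := h3 _ (inv_mem h1) x hx
              push_cast at h5 ⊢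
              rwa [inv_inv] at h5
        · rintro _ ⟨c, hc, rfl⟩
          refine mem_sup_right ?_
          have h1 : (MulAut.conj (y : H)).toMonoidHom c = c := by
            change (y : H) * c * (y : H)⁻¹ = c
            rw [mem_centralizer_iff.1 hc.2 y y.2, mul_inv_cancel_right]
          rw [h1]
          exact hc
      exact BTwo.mem_normalizer_of_conj fun x hx => key ⟨x, hx, rfl⟩
    · intro t ht
      have key : (O.map K.subtype ⊔ (A ⊓ centralizer (K : Set H))).map (MulAut.conj t).toMonoidHom ≤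
          O.map K.subtype ⊔ (A ⊓ centralizer (K : Set H)) := by
        rw [Subgroup.map_sup]
        refine sup_le ?_ ?_
        · rintro _ ⟨_, ⟨o, ho, rfl⟩, rfl⟩
          have hτ : K.normalizerMonoidHom ⟨t, OfLay.T_le h.toPre ht⟩ ∈ Tact T K :=
            mem_Tact.2 ⟨t, ht, OfLay.T_le h.toPre ht, fun x => rfl⟩
          exact mem_sup_left ⟨K.normalizerMonoidHom ⟨t, OfLay.T_le h.toPre ht⟩ o,
            ⟨Qk_T hTS hTP hτ ho.1, hTS _ hτ o ho.2⟩, rfl⟩
        · rintro _ ⟨c, hc, rfl⟩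
          refine mem_sup_right ⟨h.TA t ht c hc.1, mem_centralizer_iff.2 fun x hx => ?_⟩
          change x * (t * c * t⁻¹) = t * c * t⁻¹ * x
          have h1 : t⁻¹ * x * t ∈ K := by
            have h2 := (mem_normalizer_iff.1 (inv_mem (OfLay.T_le h.toPre ht)) x).1 hx
            rwa [inv_inv] at h2
          have h2 := mem_centralizer_iff.1 hc.2 _ h1
          calc x * (t * c * t⁻¹) = t * (t⁻¹ * x * t * c) * t⁻¹ := by group
            _ = t * (c * (t⁻¹ * x * t)) * t⁻¹ := by rw [h2]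
            _ = t * c * t⁻¹ * x := by group
      exact BTwo.mem_normalizer_of_conj fun x hx => key ⟨x, hx, rfl⟩

/-- a subgroup `≠ 1` of `S` normalised by `N(S)` contains `S`, if `K ≅ L₂(2ⁿ)` -/
theorem le_of_exc {K : Type*} [Group K] [Finite K] {S : Sylow 2 K} {T : Subgroup (MulAut K)}
    (h : KExc K (S : Subgroup K) T) {X : Subgroup K}
    (hX : ∀ b ∈ normalizer ((S : Subgroup K) : Set K), ∀ x ∈ X, b * x * b⁻¹ ∈ X)
    (hne : ∃ x ∈ X, x ∈ (S : Subgroup K) ∧ x ≠ 1) : (S : Subgroup K) ≤ X := by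
  obtain ⟨-, -, F, _, _, hF, ⟨e₀⟩⟩ := h
  have hc : CharP F 2 := ringChar.of_eq hF
  obtain ⟨e₁⟩ := EH3.Rank1.LTwo.psl_equiv (F := F)
  have e := e₀.trans e₁
  obtain ⟨Q, hQ⟩ := LTwoSide.sylow_eq e
  obtain ⟨g, hg⟩ := MulAction.exists_smul_eq K Q S
  have hS : ∀ x, x ∈ (S : Subgroup K) ↔ ((MulAut.conj g⁻¹).trans e) x ∈ EH3.Rank1.LTwo.U F := by
    intro x
    have h1 : x ∈ (S : Subgroup K) ↔ g⁻¹ * x * g ∈ Q := by
      rw [← hg]
      show x ∈ MulAut.conj g • (Q : Subgroup K) ↔ _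
      rw [Subgroup.mem_pointwise_smul_iff_inv_smul_mem]
      show ((MulAut.conj g)⁻¹ x ∈ (Q : Subgroup K)) ↔ _
      rw [MulAut.conj_inv_apply]
      rfl
    rw [h1, hQ]
    show e (g⁻¹ * x * g) ∈ EH3.Rank1.LTwo.U F ↔ e (g⁻¹ * x * g⁻¹⁻¹) ∈ EH3.Rank1.LTwo.U F
    rw [inv_inv]
  have co := LTwoSide.co hS
  obtain ⟨x, hxX, hxS, hx1⟩ := hne
  obtain ⟨c, hc⟩ := (co.mem x).1 hxS
  have hc0 : c ≠ 0 := by
    rintro rfl
    exact hx1 (hc.symm.trans co.zero)
  intro u hu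
  obtain ⟨a, ha⟩ := (co.mem u).1 hu
  by_cases ha0 : a = 0
  · rw [← ha, ha0, co.zero]; exact one_mem _
  · obtain ⟨d, hd, hd'⟩ := co.dia (a * c⁻¹) (mul_ne_zero ha0 (inv_ne_zero hc0))
    have h1 := hX d hd x hxX
    rw [← hc, hd', inv_mul_cancel_right₀ hc0, ha] at h1
    exact h1

end grp

section real

variable {G : Type u} [Group G] {ι : Type w} {V : Subgroup G} {R : ι → Subgroup G} {i j : ι} {M B : Type u}
  [AddCommGroup M] [AddCommGroup B] [DistribMulAction (NR R i) M] [DistribMulAction (NR R i) B]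
  [DistribMulAction (HQ (R i)) M] {p : G → M} {r : G → B} {f : M →+ M →+ B} {F : Type v} [Field F]
  {vv : F → F → G} {w1 w2 t : F → G}

/-- THEOREM FIX for the point `i` (`T` the torus in `H`) -/
def FixM (m : ModQ V R i M B p r f) (j : ι) (T : Subgroup (HQ (R i))) : Prop :=
  ∀ Γ Γ₀ : Subgroup (HQ (R i)), T ≤ Γ → Γ₀ ≤ Γ → Odd (Γ₀.relIndex Γ) → (∀ γ ∈ Γ₀, γ • m.sb V ≤ m.sb V) →
    (∀ γ ∈ Γ, ∀ a ∈ AA V R i j, ∀ x ∈ m.sb V, a • γ • x = γ • x) → ∀ γ ∈ Γ, γ • m.sb V ≤ m.sb V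

theorem TT_le_NE (b : BT V R) (τ : TorD V R i j vv t) : TT τ ≤ NE V R i := by
  intro x hx
  obtain ⟨a, ha, rfl⟩ := (mem_TT τ).1 hx
  exact pr_mem_im _ (b.X_le_NV (τ.memX a ha))

/-- `h` stabilising `e` normalises `A` -/
theorem norm_A_of_stab [Finite G] (m : ModQ V R i M B p r f) (b : BT V R) (hij : i ≠ j) {h : HQ (R i)}
    (hh : h • m.sb V ≤ m.sb V) {a : HQ (R i)} (ha : a ∈ AA V R i j) : h * a * h⁻¹ ∈ AA V R i j := by
  obtain ⟨g, hg, rfl⟩ := exists_pr h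
  have hV : g ∈ normalizer (V : Set G) := by
    refine BTwo.mem_normalizer_of_conj fun y hy => ?_
    have hyW := V_le_WW V (R i) hy
    have h1 := hh (AddSubgroup.smul_mem_pointwise_smul _ (pr (R i) ⟨g, hg⟩) _ (m.p_mem hyW hy))
    rw [m.act hg hyW] at h1
    exact (m.p_mem_iff (BTwo.conj_mem_of_normalizer (normalizer_le_WW V (R i) hg) hyW) (b.R_le i)).1 h1
  obtain ⟨u, hu, rfl⟩ := (mem_AA b).1 ha
  rw [← ModQ.im_Y b hij]
  have h3 : g * u * g⁻¹ ∈ YY V R := BTwo.conj_mem_of_normalizer (b.NV_le_NY hV) (UU_le_YY j hu)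
  exact pr_mem_im (mul_mem (mul_mem hg (U_le_N b i j hu)) (inv_mem hg)) h3

/-- `M = ⟨e^E⟩` if `H = N E` and `N` stabilises `e` -/
theorem cl_eq_top (m : ModQ V R i M B p r f) {N E : Subgroup (HQ (R i))} [E.Normal]
    (hN : ∀ h ∈ N, h • m.sb V ≤ m.sb V) (hNE : N ⊔ E = ⊤) : cl E (m.sb V) = ⊤ := by
  refine m.toModFr.gen (fun h a ha => ?_) (le_cl _ _)
  rw [← m.pr_smul h a]
  have h1 : pr (R i) h ∈ E ⊔ N := by rw [sup_comm, hNE]; exact mem_top _
  have h2 : N ≤ normalizer (E : Set (HQ (R i))) := fun x _ =>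
    mem_normalizer_iff.2 fun y => ⟨fun hy => Normal.conj_mem inferInstance y hy x, fun hy => by
      have h3 := Normal.conj_mem (inferInstance : E.Normal) _ hy x⁻¹
      have e : x⁻¹ * (x * y * x⁻¹) * x⁻¹⁻¹ = y := by group
      rwa [e] at h3⟩
  obtain ⟨x, hx, n, hn, e1⟩ := sup_eq_mul h2 h1
  rw [e1]
  have h3 : (x * n) • cl E (m.sb V) ≤ cl E (m.sb V) := by
    refine smul_cl_le fun g hg => ?_
    have e2 : (x * n) • g • m.sb V = (x * (n * g * n⁻¹)) • (n • m.sb V) := by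
      rw [smul_smul, smul_smul]
      congr 1
      group
    rw [e2]
    refine (smul_mono (hN n hn)).trans (smul_le_cl (mul_mem hx ?_))
    exact Normal.conj_mem inferInstance g hg n
  exact h3 (AddSubgroup.smul_mem_pointwise_smul a (x * n) _ ha)

section main

variable [Finite G] (m : ModQ V R i M B p r f) (b : BT V R) (C : Coord V R i j vv w1 w2) (τ : TorD V R i j vv t)
  (S₁ : Sylow 2 G) (hV : (S₁ : Subgroup G) ≤ normalizer (V : Set G))
  (hR : (S₁ : Subgroup G) ≤ normalizer (R i : Set G)) (hfix : FixM m j (TT τ))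

/-- the normal closure of `A` -/
abbrev NN (V : Subgroup G) (R : ι → Subgroup G) (i j : ι) : Subgroup (HQ (R i)) :=
  normalClosure (AA V R i j : Set (HQ (R i)))

theorem A_le_NN : AA V R i j ≤ NN V R i j := subset_normalClosure

theorem NN_le_H0 (b : BT V R) : NN V R i j ≤ H0 R i := by
  have := Layer.H0_normal R i
  exact normalClosure_le_normal (ModQ.A_le_H0 b j)

include m b C S₁ hV hR hfix

/-- **`N_H(S ∩ ⟨A^H⟩)` stabilises `e`** -/
theorem stab_of_fix {γ : HQ (R i)}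
    (hγ : γ ∈ normalizer ((SS R i S₁ ⊓ NN V R i j : Subgroup (HQ (R i))) : Set (HQ (R i)))) :
    γ • m.sb V ≤ m.sb V := by
  have hfact : Fact (Nat.Prime 2) := ⟨Nat.prime_two⟩
  have hnN : ∀ x : HQ (R i), ∀ y ∈ NN V R i j, x * y * x⁻¹ ∈ NN V R i j := fun x y hy =>
    Normal.conj_mem inferInstance y hy x
  obtain ⟨P, hP⟩ := Quot.exists_sylow S₁ hR
  have hPS : (P : Subgroup (HQ (R i))) ⊓ H0 R i = SS R i S₁ := by
    rw [hP]; exact (im_inf (QQ_le_sylow S₁ hR) (Q_le_C b i)).symm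
  have hPN : (P : Subgroup (HQ (R i))) ≤
      normalizer ((SS R i S₁ ⊓ NN V R i j : Subgroup (HQ (R i))) : Set (HQ (R i))) := by
    intro x hx
    refine BTwo.mem_normalizer_of_conj fun y hy => ⟨?_, hnN x y hy.2⟩
    have h1 : y ∈ (P : Subgroup (HQ (R i))) ⊓ H0 R i := by rw [hPS]; exact hy.1
    rw [← hPS]
    exact ⟨(P : Subgroup (HQ (R i))).mul_mem ((P : Subgroup (HQ (R i))).mul_mem hx h1.1)
      ((P : Subgroup (HQ (R i))).inv_mem hx), (Layer.H0_normal R i).conj_mem y h1.2 x⟩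
  refine hfix (normalizer ((SS R i S₁ ⊓ NN V R i j : Subgroup (HQ (R i))) : Set (HQ (R i)))) P ?_ hPN ?_ ?_ ?_ γ hγ
  · intro x hx
    exact BTwo.mem_normalizer_of_conj fun y hy => ⟨TS_mem b τ (Crd.of_coord C) S₁ hV hR hx hy.1, hnN x y hy.2⟩
  · have h1 := P.not_dvd_index
    rw [← even_iff_two_dvd, Nat.not_even_iff_odd] at h1
    exact h1.of_dvd_nat (relIndex_dvd_index_of_le hPN)
  · intro x hx
    rw [hP] at hx
    exact (NE_smul m (im_mono hV hx)).le
  · intro γ hγ a ha x hx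
    have h1 : γ⁻¹ * a * γ ∈ SS R i S₁ ⊓ NN V R i j := by
      have h2 := (mem_normalizer_iff.1 (inv_mem hγ) a).1 ⟨A_le_S b S₁ i j hV ha, A_le_NN ha⟩
      rwa [inv_inv] at h2
    have h3 := fix_SS b m (Crd.of_coord C) S₁ hV hR h1.1 hx
    rw [mul_smul, mul_smul, inv_smul_eq_iff] at h3
    exact h3

/-- **the unmoved parabolic subgroups of the moved components stabilise `e`** -/
theorem unm_of_fix [Finite F] [CharP F 2] (l : Lay V R i j (TT τ) (SS R i S₁)) {K : Subgroup (HQ (R i))}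
    (hK : MComp V R i j K) {P : Subgroup K} (hP : normalizer ((SS R i S₁).subgroupOf K : Set K) ≤ P)
    (hTP : ∀ t ∈ Tact (TT τ) K, ∀ x ∈ P, t x ∈ P)
    (hu : Unmoved ((SS R i S₁).subgroupOf K) (Tact (TT τ) K) P) {y : K} (hy : y ∈ P) :
    (y : HQ (R i)) • m.sb V ≤ m.sb V := by
  have hh := l.hyp K hK
  obtain ⟨X, hAX, hXS, hXN⟩ := exists_X hh hTP hu
  have hS_NE : SS R i S₁ ≤ NE V R i := im_mono (inf_le_left.trans hV)
  have h1 : SS R i S₁ ⊓ K ≤ P.map K.subtype := fun x hx =>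
    ⟨⟨x, hx.2⟩, hP (le_normalizer (mem_subgroupOf.2 hx.1)), rfl⟩
  have hTN : TT τ ≤ normalizer ((P.map K.subtype : Subgroup (HQ (R i))) : Set (HQ (R i))) := by
    intro t ht
    refine BTwo.mem_normalizer_of_conj ?_
    rintro _ ⟨x, hx, rfl⟩
    exact ⟨K.normalizerMonoidHom ⟨t, OfLay.T_le hh.toPre ht⟩ x,
      hTP _ (mem_Tact.2 ⟨t, ht, OfLay.T_le hh.toPre ht, fun x => rfl⟩) x hx, rfl⟩
  have h2 : Odd ((SS R i S₁ ⊓ K).relIndex (P.map K.subtype)) := by
    obtain ⟨P₀, hP₀⟩ := OfLay.exists_sylow hh.toPre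
    have hfact : Fact (Nat.Prime 2) := ⟨Nat.prime_two⟩
    have h3 := P₀.not_dvd_index
    rw [hP₀, ← even_iff_two_dvd, Nat.not_even_iff_odd] at h3
    have h4 : (SS R i S₁ ⊓ K).relIndex (P.map K.subtype) = ((SS R i S₁).subgroupOf K).relIndex P := by
      rw [← subgroupOf_map_subtype]
      exact relIndex_map_map_of_injective _ _ K.subtype_injective
    rw [h4]
    exact h3.of_dvd_nat (relIndex_dvd_index_of_le (le_normalizer.trans hP))
  refine hfix (P.map K.subtype ⊔ TT τ) ((SS R i S₁ ⊓ K) ⊔ TT τ) le_sup_right (sup_le_sup_right h1 _)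
    (odd_relIndex_sup h1 hTN h2 (odd_TT b τ)) ?_ ?_ y (mem_sup_left ⟨y, hy, rfl⟩)
  · intro γ hγ
    exact (NE_smul m ((sup_le (inf_le_left.trans hS_NE) (TT_le_NE b τ) : (SS R i S₁ ⊓ K) ⊔ TT τ ≤ NE V R i) hγ)).le
  · intro γ hγ a ha x hx
    have h3 : γ⁻¹ * a * γ ∈ X := by
      have h4 := (mem_normalizer_iff.1 (inv_mem (hXN hγ)) a).1 (hAX ha)
      rwa [inv_inv] at h4
    have h5 := fix_SS b m (Crd.of_coord C) S₁ hV hR (hXS h3) hx
    rw [mul_smul, mul_smul, inv_smul_eq_iff] at h5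
    exact h5

omit hfix m C S₁ hV hR in
theorem hat (hij : i ≠ j) {S T : Subgroup (HQ (R i))} (l : Lay V R i j T S) :
    AHat.Dat (H0 R i) S (AA V R i j) T where
  O2 := pCore_HQ (R i)
  norm := Layer.H0_normal R i
  A_le := ModQ.A_le_H0 b j
  sq _ ha := A_sq b hij ha
  odd := l.odd
  hyp K hK := l.hyp K hK

omit hfix m C in
/-- **Frattini** for `S ∩ ⟨A^H⟩` -/
theorem frattini_NN :
    normalizer ((SS R i S₁ ⊓ NN V R i j : Subgroup (HQ (R i))) : Set (HQ (R i))) ⊔ NN V R i j = ⊤ := by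
  obtain ⟨P, hP⟩ := Quot.exists_sylow S₁ hR
  have hPS : (P : Subgroup (HQ (R i))) ⊓ H0 R i = SS R i S₁ := by
    rw [hP]; exact (im_inf (QQ_le_sylow S₁ hR) (Q_le_C b i)).symm
  have h1 := ThmD.frattini P (NN V R i j)
  have h2 : (P : Subgroup (HQ (R i))) ⊓ NN V R i j = SS R i S₁ ⊓ NN V R i j := by
    rw [← hPS, inf_assoc, inf_eq_right.2 (NN_le_H0 b)]
  rwa [h2] at h1

/-- `M = ⟨e^⟨A^H⟩⟩` -/
theorem cl_NN : cl (NN V R i j) (m.sb V) = ⊤ :=
  cl_eq_top m (N := normalizer ((SS R i S₁ ⊓ NN V R i j : Subgroup (HQ (R i))) : Set (HQ (R i))))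
    (E := NN V R i j) (fun _ hh => stab_of_fix m b C τ S₁ hV hR hfix hh) (frattini_NN b S₁ hV hR)

/-- the moved components are permuted by `H` -/
theorem inv_NN (l : Lay V R i j (TT τ) (SS R i S₁)) {K : Subgroup (HQ (R i))} (hK : Mov (AA V R i j) (H0 R i) K)
    (h : HQ (R i)) : Mov (AA V R i j) (H0 R i) (cg h K) := by
  refine (hat b C.ne l).inv_of_fac (fun h => ?_) hK h
  have h1 : h ∈ NN V R i j ⊔
      normalizer ((SS R i S₁ ⊓ NN V R i j : Subgroup (HQ (R i))) : Set (HQ (R i))) := by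
    rw [sup_comm, frattini_NN b S₁ hV hR]; exact mem_top _
  have h2 : normalizer ((SS R i S₁ ⊓ NN V R i j : Subgroup (HQ (R i))) : Set (HQ (R i))) ≤
      normalizer ((NN V R i j : Subgroup (HQ (R i))) : Set (HQ (R i))) := fun x _ =>
    BTwo.mem_normalizer_of_conj fun y hy => Normal.conj_mem inferInstance y hy x
  obtain ⟨x, hx, n, hn, rfl⟩ := sup_eq_mul h2 h1
  exact ⟨x, hx, n, fun a ha => norm_A_of_stab m b C.ne (stab_of_fix m b C τ S₁ hV hR hfix hn) ha, rfl⟩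

/-- **the Borel subgroups of the moved components stabilise `e`** -/
theorem borel_stab (l : Lay V R i j (TT τ) (SS R i S₁)) {K : Subgroup (HQ (R i))} (hK : MComp V R i j K) {x : K}
    (hx : x ∈ normalizer ((SS R i S₁).subgroupOf K : Set K)) : (x : HQ (R i)) • m.sb V ≤ m.sb V := by
  refine stab_of_fix m b C τ S₁ hV hR hfix ?_
  rw [(hat b C.ne l).sylow_eq (S_isPGroup S₁) fun K hK => inv_NN m b C τ S₁ hV hR hfix l hK]
  exact norm_biSup (Λ := {K : Subgroup (HQ (R i)) | Mov (AA V R i j) (H0 R i) K}) hK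
    (fun K hK L hL hne x hx y hy => Layer.comm_of_ne hK.1 hL.1 hne hx hy) x.2 ((NA.mem_norm_subgroupOf x.2).1 hx)

/-- **the exception `KExc` does not occur** -/
theorem not_exc [Finite F] [CharP F 2] (hq : 4 ≤ Nat.card F) (l : Lay V R i j (TT τ) (SS R i S₁))
    {K : Subgroup (HQ (R i))} (hK : MComp V R i j K) :
    ¬ KExc K ((SS R i S₁).subgroupOf K) (Tact (TT τ) K) := by
  intro hexc
  have hh := l.hyp K hK
  have ta := OfLay.tact_of_lay b τ C.ne hq l hK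
  obtain ⟨P₀, hP₀⟩ := OfLay.exists_sylow hh.toPre
  have key : (SS R i S₁).subgroupOf K ≤ (AA V R i j ⊓ K).subgroupOf K := by
    rw [← hP₀]
    rw [← hP₀] at hexc
    refine le_of_exc hexc ?_ ?_
    · intro x hx a ha
      rw [hP₀] at hx
      refine mem_subgroupOf.2 ⟨?_, SetLike.coe_mem _⟩
      exact norm_A_of_stab m b C.ne (borel_stab m b C τ S₁ hV hR hfix l hK hx) (mem_subgroupOf.1 ha).1
    · obtain ⟨b, hb1⟩ := ne_bot_iff_exists_ne_one.1 (hh.inf_ne_bot hK.2.2)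
      refine ⟨⟨b, b.2.2⟩, mem_subgroupOf.2 b.2, ?_, fun h0 =>
        hb1 (Subtype.ext (congrArg (fun z : K => (z : HQ (R i))) h0))⟩
      rw [hP₀]
      exact mem_subgroupOf.2 (hh.AS b.2.1)
  obtain ⟨-, ⟨u, hu, hu1, hfu⟩, -⟩ := hexc
  have h1 : u ∈ AT ((SS R i S₁).subgroupOf K) (Tact (TT τ) K) := by
    rw [AT_eq hh]
    exact key hu
  have h2 : ∃ t ∈ Tact (TT τ) K, t ≠ 1 := by
    by_contra hcon
    push Not at hcon
    have h1 : Tact (TT τ) K = ⊥ := (Subgroup.eq_bot_iff_forall _).2 hcon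
    have h2 := ta.three
    rw [h1, Subgroup.card_bot] at h2
    omega
  obtain ⟨t', ht', ht1⟩ := h2
  exact hu1 (ta.fpf t' ht' ht1 u h1 (hfu t' ht'))

/-- **`OppM` for `⟨A^H⟩`** -/
theorem oppM_of_fix [Finite F] [CharP F 2] (b' : BTC V R) (hq : 4 ≤ Nat.card F)
    (l : Lay V R i j (TT τ) (SS R i S₁))
    (ks : ∀ K : Subgroup (HQ (R i)), MComp V R i j K → ∃ (J : Type) (P : J → Subgroup K) (mm : J → J → ℕ),
      KSys ((SS R i S₁).subgroupOf K) (Tact (TT τ) K) P mm ∧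
        Opp (normalizer ((SS R i S₁).subgroupOf K : Set K)) ((SS R i S₁).subgroupOf K) P) :
    OppM (NN V R i j) (SS R i S₁ ⊓ NN V R i j) (m.sb V) := by
  have hij := C.ne
  have d := hat b hij l
  have hinv := fun (K : Subgroup (HQ (R i))) (hK : Mov (AA V R i j) (H0 R i) K) =>
    inv_NN m b C τ S₁ hV hR hfix l hK
  have hcomm : ∀ K ∈ {K : Subgroup (HQ (R i)) | Mov (AA V R i j) (H0 R i) K},
      ∀ L ∈ {K : Subgroup (HQ (R i)) | Mov (AA V R i j) (H0 R i) K}, K ≠ L → ∀ x ∈ K, ∀ y ∈ L, x * y = y * x :=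
    fun K hK L hL hne x hx y hy => Layer.comm_of_ne hK.1 hL.1 hne hx hy
  have e1 := d.sylow_eq (S_isPGroup S₁) hinv
  have e2 := d.nc_eq hinv
  have key : OppM (⨆ K ∈ {K : Subgroup (HQ (R i)) | Mov (AA V R i j) (H0 R i) K}, K)
      (⨆ K ∈ {K : Subgroup (HQ (R i)) | Mov (AA V R i j) (H0 R i) K}, SS R i S₁ ⊓ K) (m.sb V) := by
    refine OppM.biSup hcomm fun K hK => ?_
    obtain ⟨J, P, mm, ksys, hopp⟩ := ks K hK
    have ta := OfLay.tact_of_lay b τ hij hq l hK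
    have hh := l.hyp K hK
    refine OppM.of_ksys ksys hopp ta.stab ?_ ta.sq (A := AA V R i j) (T' := TT τ) ?_ ?_ ?_ ?_ ?_ ?_
    · by_contra hcon
      push Not at hcon
      have h1 : Tact (TT τ) K = ⊥ := (Subgroup.eq_bot_iff_forall _).2 hcon
      have h2 := ta.three
      rw [h1, Subgroup.card_bot] at h2
      omega
    · intro a ha
      exact (mem_subgroupOf.1 (OfLay.AT_le hh.toPre ha)).1
    · intro t ht
      obtain ⟨t', ht', -, h1⟩ := mem_Tact.1 ht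
      exact ⟨t', ht', h1⟩
    · intro a ha t ht x
      exact m.quad b' τ ha ht x
    · intro x hx
      exact borel_stab m b C τ S₁ hV hR hfix l hK hx
    · intro k hu y hy
      exact unm_of_fix m b C τ S₁ hV hR hfix l hK (ksys.le k) (ksys.T_P k) hu hy
    · intro s hs
      exact ⟨mem_subgroupOf.1 hs, s.2⟩
  rw [e1, show NN V R i j = _ from e2]
  exact key

/-- **`CenSE` at the point `i`** -/
theorem mem_of_fix [Finite F] [CharP F 2] (b' : BTC V R) (hq : 4 ≤ Nat.card F)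
    (hC : centralizer (WW V (R i) : Set G) ≤ R i) (l : Lay V R i j (TT τ) (SS R i S₁))
    (ks : ∀ K : Subgroup (HQ (R i)), MComp V R i j K → ∃ (J : Type) (P : J → Subgroup K) (mm : J → J → ℕ),
      KSys ((SS R i S₁).subgroupOf K) (Tact (TT τ) K) P mm ∧
        Opp (normalizer ((SS R i S₁).subgroupOf K : Set K)) ((SS R i S₁).subgroupOf K) P)
    {x : G} (hx : x ∈ WW V (R i))
    (hfx : ∀ s ∈ (S₁ : Subgroup G), s ∈ centralizer (R i : Set G) → s * x * s⁻¹ * x⁻¹ ∈ R i) : x ∈ V := by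
  exact mem_of_oppM m b (Crd.of_coord C) hC S₁ hV hR (oppM_of_fix m b C τ S₁ hV hR hfix b' hq l ks)
    (cl_NN m b C τ S₁ hV hR hfix) inf_le_right (NN_le_H0 b) inf_le_left hx hfx

end main

end real

end Cfsg.Agent.Omega.Lie.SE
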