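import Cfsg.Agent.Omega.Lie.SEOpp
import Cfsg.Agent.Omega.Lie.End.KSys

/-!
# NODE LIE, LEMMA CEN: the panels of a component

* `exists_mov`: a moved node of `KSys`: `a ∈ [S, T]`, `t ∈ T` such that `a`, `t a`, `a (t a)` move a chamber of the panel;
* `Pan.of_moved`: `Pan` for a moved node;
* `OppM.of_ksys`: `OppM K SK e` from `KSys` and `Opp`, if the Borel subgroup and the unmoved parabolic subgroups stabilise `e`.
-/

set_option autoImplicit false
set_option linter.unusedSectionVars false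

namespace Cfsg.Agent.Omega.Lie.SE

open Subgroup Cfsg.Agent.Omega.Lie.End Cfsg.Agent.ParSys
open scoped Pointwise

universe u v

section grp

variable {K : Type*} [Group K] {S : Subgroup K} {T : Subgroup (MulAut K)} {P : Subgroup K}

theorem AT_le (hT : ∀ t ∈ T, ∀ u ∈ S, t u ∈ S) : AT S T ≤ S := by
  unfold AT
  rw [closure_le]
  rintro _ ⟨t, ht, u, hu, rfl⟩
  exact mul_mem (inv_mem hu) (hT t ht u hu)

theorem mem_B_of_T (hT : ∀ t ∈ T, ∀ u ∈ S, t u ∈ S) {t : MulAut K} (ht : t ∈ T) {b : K}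
    (hb : b ∈ normalizer (S : Set K)) : t b ∈ normalizer (S : Set K) := by
  have h1 : ∀ u, u ∈ S ↔ t u ∈ S := fun u => ⟨hT t ht u, fun h => by
    have h2 := hT t⁻¹ (inv_mem ht) _ h
    rwa [MulAut.inv_apply_self] at h2⟩
  rw [mem_normalizer_iff] at hb ⊢
  intro x
  have h2 : x = t (t⁻¹ x) := (MulAut.apply_inv_self K t x).symm
  have h3 : t b * x * (t b)⁻¹ = t (b * t⁻¹ x * b⁻¹) := by
    rw [map_mul, map_mul, map_inv, MulAut.apply_inv_self]
  rw [h3]
  constructor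
  · intro h
    refine (h1 _).1 ((hb _).1 ?_)
    rw [h1, MulAut.apply_inv_self]
    exact h
  · intro h
    have h4 := (hb _).2 ((h1 _).2 h)
    rw [h2]
    exact (h1 _).1 h4

theorem Qk_T (hT : ∀ t ∈ T, ∀ u ∈ S, t u ∈ S) (hP : ∀ t ∈ T, ∀ x ∈ P, t x ∈ P) {t : MulAut K} (ht : t ∈ T) {x : K}
    (hx : x ∈ Qk (normalizer (S : Set K)) P) : t x ∈ Qk (normalizer (S : Set K)) P := by
  rw [mem_Qk] at hx ⊢
  intro g hg
  have h1 := hx _ (hP t⁻¹ (inv_mem ht) g hg)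
  have h2 := mem_B_of_T hT ht h1
  rwa [map_mul, map_mul, map_inv, MulAut.apply_inv_self] at h2

/-- a moved node -/
theorem exists_mov (hS : S ≤ P) (hT : ∀ t ∈ T, ∀ u ∈ S, t u ∈ S) (hP : ∀ t ∈ T, ∀ x ∈ P, t x ∈ P)
    (hT1 : ∃ t ∈ T, t ≠ 1) (hsq : ∀ a ∈ AT S T, a * a = 1)
    (hfive : 5 ≤ (normalizer (S : Set K)).relIndex P) (hptr : Hall.HallData.PTr (normalizer (S : Set K)) S P)
    (hreg : ∀ u ∈ S, ∀ g ∈ P, g ∉ normalizer (S : Set K) → g⁻¹ * u * g ∈ normalizer (S : Set K) →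
      u ∈ Qk (normalizer (S : Set K)) P) (hmov : Moved S T P) :
    ∃ a ∈ AT S T, ∃ t ∈ T, a ∈ P ∧ t a ∈ P ∧ ∃ n ∈ P, n ∉ normalizer (S : Set K) ∧
      n⁻¹ * a * n ∉ normalizer (S : Set K) ∧ n⁻¹ * t a * n ∉ normalizer (S : Set K) ∧
      n⁻¹ * (a * t a) * n ∉ normalizer (S : Set K) := by
  set B := normalizer (S : Set K) with hB
  have hSB : S ≤ B := le_normalizer
  -- a chamber `n B ≠ B`
  have h1 : ∃ n ∈ P, n ∉ B := by
    by_contra hcon
    push Not at hcon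
    have h2 : B.relIndex P = 1 := relIndex_eq_one.2 hcon
    omega
  obtain ⟨n, hn, hnB⟩ := h1
  -- `S` is not in the kernel
  have h2 : ∃ u ∈ S, u ∉ Qk B P := by
    by_contra hcon
    push Not at hcon
    have h3 : ∀ n' ∈ P, n' ∉ B → n⁻¹ * n' ∈ B := by
      intro n' hn' hn'B
      obtain ⟨u, hu, b, hb, e⟩ := hptr n hn hnB n' hn' hn'B
      have h4 := mem_Qk.1 (hcon u hu) n hn
      have e1 : n⁻¹ * n' = n⁻¹ * u * n * b := by rw [e]; group
      rw [e1]
      exact mul_mem h4 hb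
    -- only two cosets
    have h4 : Nat.card (P ⧸ B.subgroupOf P) ≤ 2 := by
      have hsurj : Function.Surjective (fun x : Bool => (if x then QuotientGroup.mk 1 else
          QuotientGroup.mk ⟨n, hn⟩ : P ⧸ B.subgroupOf P)) := by
        intro y
        obtain ⟨⟨y, hy⟩, rfl⟩ := QuotientGroup.mk_surjective y
        by_cases hyB : y ∈ B
        · refine ⟨true, ?_⟩
          simp only [if_true]
          refine QuotientGroup.eq.2 ?_
          rw [mem_subgroupOf]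
          push_cast
          rw [inv_one, one_mul]
          exact hyB
        · refine ⟨false, ?_⟩
          simp only [Bool.false_eq_true, if_false]
          refine QuotientGroup.eq.2 ?_
          rw [mem_subgroupOf]
          exact h3 y hy hyB
      have h5 := Nat.card_le_card_of_surjective _ hsurj
      simpa using h5
    have h5 : B.relIndex P = Nat.card (P ⧸ B.subgroupOf P) := rfl
    omega
  obtain ⟨u, hu, huQ⟩ := h2
  obtain ⟨t, ht, ht1⟩ := hT1
  have ha : u⁻¹ * t u ∈ AT S T := subset_closure ⟨t, ht, u, hu, rfl⟩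
  set a := u⁻¹ * t u with ha_def
  have haQ : a ∉ Qk B P := fun h => huQ (hmov t ht ht1 u hu h)
  have haS : a ∈ S := AT_le hT ha
  have hbS : t a ∈ S := hT t ht a haS
  have hbQ : t a ∉ Qk B P := by
    intro h
    have h3 := Qk_T hT hP (inv_mem ht) h
    rw [MulAut.inv_apply_self] at h3
    exact haQ h3
  have habQ : a * t a ∉ Qk B P := by
    intro h
    have h3 : a = a⁻¹ := (inv_eq_of_mul_eq_one_left (hsq a ha)).symm
    rw [h3, map_inv] at h
    have h4 : a⁻¹ * (t a)⁻¹ ∈ Qk B P := h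
    have h5 : (t a)⁻¹ = t a := by
      rw [← map_inv, ← h3]
    rw [h5] at h4
    exact haQ (hmov t ht ht1 a haS h4)
  refine ⟨a, ha, t, ht, hS haS, hS hbS, n, hn, hnB, fun h => haQ (hreg _ haS n hn hnB h),
    fun h => hbQ (hreg _ hbS n hn hnB h), fun h => habQ (hreg _ (mul_mem haS hbS) n hn hnB h)⟩

end grp

section mod

variable {H : Type v} {M : Type u} [Group H] [AddCommGroup M] [DistribMulAction H M] {K : Subgroup H}
  {S : Subgroup K} {T : Subgroup (MulAut K)} {A T' : Subgroup H} {e : AddSubgroup M}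

/-- `Pan` for a moved node -/
theorem Pan.of_moved {P : Subgroup K} (hS : S ≤ P) (hT : ∀ t ∈ T, ∀ u ∈ S, t u ∈ S)
    (hP : ∀ t ∈ T, ∀ x ∈ P, t x ∈ P) (hT1 : ∃ t ∈ T, t ≠ 1) (hsq : ∀ a ∈ AT S T, a * a = 1)
    (hfive : 5 ≤ (normalizer (S : Set K)).relIndex P) (hptr : Hall.HallData.PTr (normalizer (S : Set K)) S P)
    (hreg : ∀ u ∈ S, ∀ g ∈ P, g ∉ normalizer (S : Set K) → g⁻¹ * u * g ∈ normalizer (S : Set K) →
      u ∈ Qk (normalizer (S : Set K)) P) (hmov : Moved S T P)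
    (hA : ∀ a ∈ AT S T, (a : H) ∈ A) (hTT : ∀ t ∈ T, ∃ t' ∈ T', ∀ x : K, ((t x : K) : H) = t' * x * t'⁻¹)
    (hq : ∀ a ∈ A, ∀ t ∈ T', ∀ m : M, m + a • m + (t * a * t⁻¹) • m + (a * (t * a * t⁻¹)) • m ∈ e) :
    Pan (normalizer (S : Set K)) P e := by
  obtain ⟨a, ha, t, ht, haP, hbP, n, hn, hnB, h1, h2, h3⟩ := exists_mov hS hT hP hT1 hsq hfive hptr hreg hmov
  obtain ⟨t', ht', e1⟩ := hTT t ht
  refine Pan.of_mov haP hbP hn hnB h1 h2 h3 fun m => ?_
  rw [e1 a]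
  exact hq _ (hA a ha) t' ht' m

/-- `OppM` for a component -/
theorem OppM.of_ksys {J : Type} {P : J → Subgroup K} {mm : J → J → ℕ} (ks : KSys S T P mm)
    (hopp : Opp (normalizer (S : Set K)) S P) (hT : ∀ t ∈ T, ∀ u ∈ S, t u ∈ S)
    (hT1 : ∃ t ∈ T, t ≠ 1) (hsq : ∀ a ∈ AT S T, a * a = 1) (hA : ∀ a ∈ AT S T, (a : H) ∈ A)
    (hTT : ∀ t ∈ T, ∃ t' ∈ T', ∀ x : K, ((t x : K) : H) = t' * x * t'⁻¹)
    (hq : ∀ a ∈ A, ∀ t ∈ T', ∀ m : M, m + a • m + (t * a * t⁻¹) • m + (a * (t * a * t⁻¹)) • m ∈ e)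
    (hB : ∀ b ∈ normalizer (S : Set K), (b : H) • e ≤ e)
    (hU : ∀ i, Unmoved S T (P i) → ∀ y ∈ P i, (y : H) • e ≤ e) {SK : Subgroup H} (hSK : ∀ s ∈ S, (s : H) ∈ SK) :
    OppM K SK e := by
  refine OppM.of_opp hopp hB (fun i => ?_) hSK
  rcases ks.dich i with h | h
  · refine Pan.of_fix ?_ (hU i h)
    by_contra hcon
    push Not at hcon
    have h2 : (normalizer (S : Set K)).relIndex (P i) = 1 := relIndex_eq_one.2 hcon
    have h3 := ks.five i
    omega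
  · exact Pan.of_moved (le_normalizer.trans (ks.le i)) hT (ks.T_P i) hT1 hsq (ks.five i) (ks.ptr i) (ks.reg i) h hA
      hTT hq

end mod

end Cfsg.Agent.Omega.Lie.SE
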