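import Cfsg.Agent.Omega.Lie.SE
import Cfsg.Agent.Omega.Lie.End.Opp

/-!
# NODE LIE, LEMMA CEN from the field `opp` of the K-side

* `OppM L SL e`: for some `w ∈ L`, every additive subgroup which contains `s w e`, `s ∈ SL`, contains `x e` for all `x ∈ L`;
* `OppM.of_opp`: from `Opp B S P` for a group `K ≤ H`, if `B` stabilises `e` and every panel has `Pan`
  (`Pan.of_fix`, `Pan.of_mov`);
* `OppM.sup`, `OppM.biSup`: products of commuting subgroups;
* `OppM.le`: `⟨e^L⟩ ≤ w e + [⟨e^L⟩, SL]`;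
* `OppM.cen`: `C_M(SL) = e`, if `M = ⟨e^L⟩` and the form is nondegenerate;
* `cenSE_of`: the statement for `M = W i / R i`.
-/

set_option autoImplicit false
set_option linter.unusedSectionVars false

namespace Cfsg.Agent.Omega.Lie.SE

open Subgroup Cfsg.Agent.Omega.BTwo Cfsg.Agent.Omega.Lie.Quot Cfsg.Agent.Omega.Lie.LemN Cfsg.Agent.Omega.Lie.End
open scoped Pointwise

universe u v w

section abs

variable {H : Type v} {M : Type u} [Group H] [AddCommGroup M] [DistribMulAction H M]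

/-- `x e`, `x ∈ L`, is in every subgroup containing the `s w e`, `s ∈ SL` -/
def OppM (L SL : Subgroup H) (e : AddSubgroup M) : Prop :=
  ∃ w ∈ L, ∀ N : AddSubgroup M, (∀ s ∈ SL, (s * w) • e ≤ N) → ∀ x ∈ L, x • e ≤ N

/-- the panel condition: `e` is in the sum of the `y e`, `y ∈ P - B` -/
def Pan {K : Subgroup H} (B P : Subgroup K) (e : AddSubgroup M) : Prop :=
  ∀ N : AddSubgroup M, (∀ y ∈ P, y ∉ B → (y : H) • e ≤ N) → e ≤ N

theorem Pan.of_fix {K : Subgroup H} {B P : Subgroup K} {e : AddSubgroup M} (hne : ∃ y ∈ P, y ∉ B)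
    (h : ∀ y ∈ P, (y : H) • e ≤ e) : Pan B P e := by
  intro N hN
  obtain ⟨y, hy, hyB⟩ := hne
  have h1 := h y⁻¹ (inv_mem hy)
  rw [smul_le_iff] at h1
  have h2 : ((y⁻¹ : K) : H)⁻¹ = (y : H) := by push_cast; rw [inv_inv]
  rw [h2] at h1
  exact h1.trans (hN y hy hyB)

/-- a moved panel: `(1 + a)(1 + b) M ≤ e` for elements `a`, `b` such that `a`, `b`, `a b` move the chamber `n B` -/
theorem Pan.of_mov {K : Subgroup H} {B P : Subgroup K} {e : AddSubgroup M} {a b n : K} (ha : a ∈ P) (hb : b ∈ P)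
    (hn : n ∈ P) (hnB : n ∉ B) (h1 : n⁻¹ * a * n ∉ B) (h2 : n⁻¹ * b * n ∉ B) (h3 : n⁻¹ * (a * b) * n ∉ B)
    (hq : ∀ m : M, m + (a : H) • m + (b : H) • m + ((a : H) * b) • m ∈ e) : Pan B P e := by
  intro N hN v hv
  have key : ∀ y : K, y ∈ P → y ∉ B → (y : H) • v ∈ N := fun y hy hyB =>
    hN y hy hyB (AddSubgroup.smul_mem_pointwise_smul v (y : H) e hv)
  have hc : ∀ x ∈ P, n⁻¹ * x * n ∈ P := fun x hx => mul_mem (mul_mem (inv_mem hn) hx) hn
  have k0 : ((n : H)⁻¹) • ((n : H) • v + (a : H) • (n : H) • v + (b : H) • (n : H) • v +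
      ((a : H) * b) • (n : H) • v) ∈ N := by
    have h4 := hq ((n : H) • v)
    have h5 := hN n⁻¹ (inv_mem hn) (fun h => hnB (by simpa using inv_mem h))
    have h6 := AddSubgroup.smul_mem_pointwise_smul _ ((n⁻¹ : K) : H) e h4
    exact h5 h6
  have k1 := key _ (hc a ha) h1
  have k2 := key _ (hc b hb) h2
  have k3 := key _ (hc _ (mul_mem ha hb)) h3
  have e0 : ((n : H)⁻¹) • ((n : H) • v + (a : H) • (n : H) • v + (b : H) • (n : H) • v +
      ((a : H) * b) • (n : H) • v) = v + ((n⁻¹ * a * n : K) : H) • v + ((n⁻¹ * b * n : K) : H) • v +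
      ((n⁻¹ * (a * b) * n : K) : H) • v := by
    push_cast
    rw [smul_add, smul_add, smul_add, inv_smul_smul, smul_smul, smul_smul, smul_smul, smul_smul, smul_smul,
      smul_smul]
  rw [e0] at k0
  have e1 : v = (v + ((n⁻¹ * a * n : K) : H) • v + ((n⁻¹ * b * n : K) : H) • v +
      ((n⁻¹ * (a * b) * n : K) : H) • v) - ((n⁻¹ * a * n : K) : H) • v - ((n⁻¹ * b * n : K) : H) • v -
      ((n⁻¹ * (a * b) * n : K) : H) • v := by abel
  rw [e1]
  exact sub_mem (sub_mem (sub_mem k0 k1) k2) k3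

/-- from the K-side to the module -/
theorem OppM.of_opp {K : Subgroup H} {J : Type*} {B S : Subgroup K} {P : J → Subgroup K} (h : Opp B S P)
    {e : AddSubgroup M} (hB : ∀ b ∈ B, (b : H) • e ≤ e) (hP : ∀ i, Pan B (P i) e) {SK : Subgroup H}
    (hS : ∀ s ∈ S, (s : H) ∈ SK) : OppM K SK e := by
  obtain ⟨w, hw⟩ := h
  refine ⟨w, w.2, fun N hN x hx => ?_⟩
  refine hw {y : K | (y : H) • e ≤ N} ?_ ?_ ?_ ⟨x, hx⟩
  · intro y hy b hb
    change ((y * b : K) : H) • e ≤ N
    push_cast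
    rw [mul_smul]
    exact (smul_mono (hB b hb)).trans hy
  · intro s hs
    change ((s * w : K) : H) • e ≤ N
    push_cast
    exact hN s (hS s hs)
  · intro y i hy
    change (y : H) • e ≤ N
    rw [smul_le_iff]
    refine hP i _ fun z hz hzB => ?_
    have h1 : ((y * z : K) : H) • e ≤ N := hy z hz hzB
    push_cast at h1
    rw [mul_smul, smul_le_iff] at h1
    exact h1

theorem OppM.bot (SL : Subgroup H) (e : AddSubgroup M) : OppM ⊥ SL e := by
  refine ⟨1, one_mem _, fun N hN x hx => ?_⟩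
  rw [mem_bot] at hx
  rw [hx]
  have := hN 1 (one_mem _)
  rwa [one_mul] at this

theorem OppM.mono {L SL SL' : Subgroup H} {e : AddSubgroup M} (h : OppM L SL e) (hle : SL ≤ SL') : OppM L SL' e := by
  obtain ⟨w, hw, h⟩ := h
  exact ⟨w, hw, fun N hN => h N fun s hs => hN s (hle hs)⟩

/-- commuting products -/
theorem OppM.sup {L K SL SK : Subgroup H} {e : AddSubgroup M} (h : OppM L SL e) (h' : OppM K SK e) (hSL : SL ≤ L)
    (hSK : SK ≤ K) (hc : ∀ x ∈ L, ∀ y ∈ K, x * y = y * x) : OppM (L ⊔ K) (SL ⊔ SK) e := by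
  obtain ⟨w, hw, h⟩ := h
  obtain ⟨w', hw', h'⟩ := h'
  refine ⟨w * w', mul_mem (mem_sup_left hw) (mem_sup_right hw'), fun N hN x hx => ?_⟩
  have hnorm : K ≤ normalizer (L : Set H) := by
    intro y hy
    rw [mem_normalizer_iff]
    intro z
    constructor
    · intro hz
      rw [← hc z hz y hy, mul_inv_cancel_right]
      exact hz
    · intro hz
      have h1 := hc _ hz y hy
      have h2 : z = y * z * y⁻¹ := by
        have h3 : y * z * y⁻¹ * y = y * (y * z * y⁻¹) := h1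
        rw [inv_mul_cancel_right] at h3
        exact mul_left_cancel h3
      rw [h2]
      exact hz
  obtain ⟨l, hl, k, hk, rfl⟩ := mem_sup_of_normal_right' hnorm hx
  -- first `s w` fixed
  have key : ∀ s ∈ SL, ∀ k ∈ K, (s * w * k) • e ≤ N := by
    intro s hs k hk
    rw [mul_smul, smul_le_iff]
    refine h' _ (fun s' hs' => ?_) k hk
    rw [← smul_le_iff, smul_smul]
    have e1 : s * w * (s' * w') = s * s' * (w * w') := by
      have h1 := hc w hw s' (hSK hs')
      calc s * w * (s' * w') = s * (w * s') * w' := by group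
        _ = s * (s' * w) * w' := by rw [h1]
        _ = s * s' * (w * w') := by group
    rw [e1]
    exact hN _ (mul_mem (mem_sup_left hs) (mem_sup_right hs'))
  have h1 : l • e ≤ k⁻¹ • N := by
    refine h _ (fun s hs => ?_) l hl
    rw [← smul_le_iff, smul_smul, ← hc _ (mul_mem (hSL hs) hw) k hk]
    exact key s hs k hk
  rw [hc l hl k hk, mul_smul, smul_le_iff]
  exact h1
where
  mem_sup_of_normal_right' {L K : Subgroup H} (hnorm : K ≤ normalizer (L : Set H)) {x : H} (hx : x ∈ L ⊔ K) :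
      ∃ l ∈ L, ∃ k ∈ K, x = l * k := by
    have h1 : x ∈ ((L ⊔ K : Subgroup H) : Set H) := hx
    rw [Subgroup.coe_mul_of_right_le_normalizer_left L K hnorm, Set.mem_mul] at h1
    obtain ⟨l, hl, k, hk, e⟩ := h1
    exact ⟨l, hl, k, hk, e.symm⟩

theorem OppM.biSup [Finite H] {Λ : Set (Subgroup H)} {S : Subgroup H} {e : AddSubgroup M}
    (hc : ∀ K ∈ Λ, ∀ L ∈ Λ, K ≠ L → ∀ x ∈ K, ∀ y ∈ L, x * y = y * x) (h : ∀ K ∈ Λ, OppM K (S ⊓ K) e) :
    OppM (⨆ K ∈ Λ, K) (⨆ K ∈ Λ, S ⊓ K) e := by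
  classical
  have hfin : Λ.Finite := Set.toFinite Λ
  have key : ∀ F : Finset (Subgroup H), (F : Set (Subgroup H)) ⊆ Λ → OppM (⨆ K ∈ F, K) (⨆ K ∈ F, S ⊓ K) e := by
    intro F
    induction F using Finset.induction_on with
    | empty =>
      intro _
      simpa using OppM.bot ⊥ e
    | insert K F hK ih =>
      intro hF
      rw [Finset.coe_insert, Set.insert_subset_iff] at hF
      rw [Finset.iSup_insert, Finset.iSup_insert]
      refine OppM.sup (h K hF.1) (ih hF.2) inf_le_right (iSup₂_mono fun _ _ => inf_le_right) ?_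
      intro x hx y hy
      have h1 : (⨆ L ∈ F, L) ≤ centralizer (K : Set H) := by
        refine iSup₂_le fun L hL z hz => ?_
        refine mem_centralizer_iff.2 fun k hk => ?_
        have hne : K ≠ L := by
          rintro rfl
          exact hK hL
        exact hc K hF.1 L (hF.2 hL) hne k hk z hz
      exact mem_centralizer_iff.1 (h1 hy) x hx
  have h1 := key hfin.toFinset (by rw [hfin.coe_toFinset])
  have e1 : ∀ f : Subgroup H → Subgroup H, (⨆ K ∈ hfin.toFinset, f K) = ⨆ K ∈ Λ, f K := by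
    intro f
    simp only [Set.Finite.mem_toFinset]
  rwa [e1 (fun K => K), e1 (fun K => S ⊓ K)] at h1

/-- `⟨e^L⟩ ≤ w e + [⟨e^L⟩, SL]` -/
theorem OppM.le {L SL : Subgroup H} {e : AddSubgroup M} (h : OppM L SL e) :
    ∃ w ∈ L, cl L e ≤ w • e ⊔ AddSubgroup.closure {m | ∃ s ∈ SL, ∃ x ∈ cl L e, m = s • x - x} := by
  obtain ⟨w, hw, h⟩ := h
  refine ⟨w, hw, cl_le fun g hg => h _ (fun s hs => ?_) g hg⟩
  rintro _ ⟨y, hy, rfl⟩
  change (s * w) • y ∈ _
  have h1 : w • y ∈ cl L e := smul_le_cl hw (AddSubgroup.smul_mem_pointwise_smul y w e hy)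
  have e1 : (s * w) • y = w • y + (s • w • y - w • y) := by
    rw [mul_smul]; abel
  rw [e1]
  exact add_mem (AddSubgroup.mem_sup_left (AddSubgroup.smul_mem_pointwise_smul y w e hy))
    (AddSubgroup.mem_sup_right (AddSubgroup.subset_closure ⟨s, hs, _, h1, rfl⟩))

/-- `⟨e^{w⁻¹ SL w}⟩ = M` -/
theorem OppM.top {L SL : Subgroup H} {e : AddSubgroup M} (h : OppM L SL e) (hM : cl L e = ⊤) :
    ∃ w ∈ L, cl (SL.map (MulAut.conj w⁻¹).toMonoidHom) e = ⊤ := by
  obtain ⟨w, hw, h⟩ := h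
  refine ⟨w, hw, ?_⟩
  set Sm := SL.map (MulAut.conj w⁻¹).toMonoidHom with hSm
  have h1 : cl L e ≤ w • cl Sm e := by
    refine cl_le fun g hg => h _ (fun s hs => ?_) g hg
    have h2 : w⁻¹ * s * w ∈ Sm := by
      refine ⟨s, hs, ?_⟩
      change w⁻¹ * s * w⁻¹⁻¹ = _
      rw [inv_inv]
    have e1 : s * w = w * (w⁻¹ * s * w) := by group
    rw [e1, mul_smul]
    exact smul_mono (smul_le_cl h2)
  rw [hM, top_le_iff] at h1
  rw [eq_top_iff]
  intro x _
  have h2 : w • x ∈ w • cl Sm e := by rw [h1]; exact AddSubgroup.mem_top _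
  obtain ⟨y, hy, e2⟩ := h2
  have e3 : y = x := by
    have e4 : w • y = w • x := e2
    exact smul_left_cancel w e4
  rwa [← e3]

/-- **LEMMA CEN** -/
theorem OppM.cen [Finite M] {B : Type*} [AddCommGroup B] {f : M →+ M →+ B} {L SL : Subgroup H} {e : AddSubgroup M}
    (h : OppM L SL e) (hM : cl L e = ⊤) (hSL : SL ≤ L) (hf : ∀ h ∈ L, ∀ x y : M, f (h • x) (h • y) = f x y)
    (hnd : ∀ x, (∀ y, f x y = 0) → x = 0) {U : AddSubgroup M} (hU : ∀ x, x ∈ U ↔ ∀ y ∈ e, f x y = 0)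
    (hidx : U.index ≤ Nat.card e) (hS : ∀ h ∈ SL, ∀ y ∈ e, h • y = y) {x : M} (hx : ∀ h ∈ SL, h • x = x) : x ∈ e := by
  obtain ⟨w, hw, hcl⟩ := h.top hM
  have e1 : (SL.map (MulAut.conj w⁻¹).toMonoidHom).map (MulAut.conj w).toMonoidHom = SL := by
    rw [map_map]
    convert map_id SL
    ext x
    change w * (w⁻¹ * x * w⁻¹⁻¹) * w⁻¹ = x
    group
  refine cen_eq (Sm := SL.map (MulAut.conj w⁻¹).toMonoidHom) (g := w) ?_ hnd hcl hU hidx ?_ ?_
  · rintro _ ⟨s, hs, rfl⟩ x y
    exact hf _ (mul_mem (mul_mem (inv_mem hw) (hSL hs)) (inv_mem (inv_mem hw))) x y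
  · rw [e1]; exact hS
  · rw [e1]; exact hx

end abs

/-! ### The real situation -/

section real

variable {G : Type u} [Group G] {ι : Type w} {V : Subgroup G} {R : ι → Subgroup G} {i : ι} {M B : Type u}
  [AddCommGroup M] [AddCommGroup B] [DistribMulAction (NR R i) M] [DistribMulAction (NR R i) B]
  [DistribMulAction (HQ (R i)) M] {p : G → M} {r : G → B} {f : M →+ M →+ B}

/-- the form is nondegenerate if `C(W i) ≤ R i` -/
theorem nondeg (m : ModQ V R i M B p r f) (b : BT V R) (hC : centralizer (WW V (R i) : Set G) ≤ R i) {x : M}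
    (hx : ∀ y, f x y = 0) : x = 0 := by
  obtain ⟨z, hz, rfl⟩ := (m.mem_rad b).1 hx
  have h1 : z ∈ R i := hC (mem_inf.1 hz).2
  exact (m.p_ker _ (b.R_le_W i i h1)).2 h1

theorem index_le [Finite G] (m : ModQ V R i M B p r f) (b : BT V R) :
    (m.sb (UU V R i)).index ≤ Nat.card (m.sb V) := by
  have := m.finite_M
  have h1 : (m.sb (UU V R i)).index ≤ (UU V R i).relIndex (WW V (R i)) := by
    let g : WW V (R i) ⧸ (UU V R i).subgroupOf (WW V (R i)) → M ⧸ m.sb (UU V R i) :=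
      Quotient.lift (fun w : WW V (R i) => (QuotientAddGroup.mk (p w) : M ⧸ m.sb (UU V R i))) (by
        intro w w' h
        have h' := QuotientGroup.leftRel_apply.1 h
        rw [mem_subgroupOf] at h'
        push_cast at h'
        refine QuotientAddGroup.eq.2 ?_
        rw [← m.p_inv w.2, ← m.p_mul _ (inv_mem w.2) _ w'.2]
        exact m.p_mem (mul_mem (inv_mem w.2) w'.2) h')
    have hg : Function.Surjective g := by
      intro y
      obtain ⟨y, rfl⟩ := QuotientAddGroup.mk_surjective y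
      obtain ⟨w, hw, rfl⟩ := m.p_surj y
      exact ⟨QuotientGroup.mk ⟨w, hw⟩, rfl⟩
    exact Nat.card_le_card_of_surjective g hg
  have h2 : (R i).relIndex V ≤ Nat.card (m.sb V) := by
    have hVW := V_le_WW V (R i)
    let g : V ⧸ (R i).subgroupOf V → m.sb V :=
      Quotient.lift (fun v : V => (⟨p v, m.p_mem (hVW v.2) v.2⟩ : m.sb V)) (by
        intro v v' h
        have h' := QuotientGroup.leftRel_apply.1 h
        rw [mem_subgroupOf] at h'
        push_cast at h'
        apply Subtype.ext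
        change p v = p v'
        have h3 : (p ((v : G)⁻¹ * v')) = 0 := (m.p_ker _ (mul_mem (inv_mem (hVW v.2)) (hVW v'.2))).2 h'
        rw [m.p_mul _ (inv_mem (hVW v.2)) _ (hVW v'.2), m.p_inv (hVW v.2), neg_add_eq_zero] at h3
        exact h3)
    have hg : Function.Injective g := by
      intro x y h
      obtain ⟨x, rfl⟩ := QuotientGroup.mk_surjective x
      obtain ⟨y, rfl⟩ := QuotientGroup.mk_surjective y
      refine QuotientGroup.eq.2 ?_
      rw [mem_subgroupOf]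
      have h3 : p x = p y := congrArg Subtype.val h
      have h4 : p ((x : G)⁻¹ * y) = 0 := by
        rw [m.p_mul _ (inv_mem (hVW x.2)) _ (hVW y.2), m.p_inv (hVW x.2), h3, neg_add_cancel]
      push_cast
      exact (m.p_ker _ (mul_mem (inv_mem (hVW x.2)) (hVW y.2))).1 h4
    exact Nat.card_le_card_of_injective g hg
  rw [b.relIndex_U i] at h1
  rw [b.relIndex_R_V i] at h2
  exact h1.trans h2

/-- **CenSE** from `OppM` for a group `L ≤ H⁰` with `⟨e^L⟩ = M` -/
theorem mem_of_oppM [Finite G] {F : Type v} [Field F] {j : ι} {vv : F → F → G} {w1 w2 : F → G}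
    (m : ModQ V R i M B p r f) (b : BT V R) (C : Crd V R i j vv w1 w2)
    (hC : centralizer (WW V (R i) : Set G) ≤ R i) (S₁ : Sylow 2 G)
    (hV : (S₁ : Subgroup G) ≤ normalizer (V : Set G)) (hR : (S₁ : Subgroup G) ≤ normalizer (R i : Set G))
    {L SL : Subgroup (HQ (R i))} (h : OppM L SL (m.sb V)) (hM : cl L (m.sb V) = ⊤) (hSL : SL ≤ L)
    (hL : L ≤ H0 R i) (hS : SL ≤ SS R i S₁) {x : G} (hx : x ∈ WW V (R i))
    (hfix : ∀ s ∈ (S₁ : Subgroup G), s ∈ centralizer (R i : Set G) → s * x * s⁻¹ * x⁻¹ ∈ R i) : x ∈ V := by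
  have := m.finite_M
  have h1 : p x ∈ m.sb V := by
    refine h.cen (f := f) hM hSL (fun g hg => m.f_act b (hL hg)) (fun y => nondeg m b hC)
      (fun y => (m.perp_iff b y).symm) (index_le m b) (fun s hs y hy => fix_SS b m C S₁ hV hR (hS hs) hy) ?_
    intro s hs
    obtain ⟨g, hg, hgS, rfl⟩ := mem_im.1 (hS hs)
    rw [m.act hg hx, m.p_eq_iff (conj_mem_of_normalizer (normalizer_le_WW V (R i) hg) hx) hx]
    exact hfix g hgS.1 hgS.2
  exact (m.p_mem_iff hx (b.R_le i)).1 h1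

end real

end Cfsg.Agent.Omega.Lie.SE
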