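import Cfsg.Agent.Omega.Lie.Torus

/-!
# NODE LIE: existence of the torus (#10745 (A2), #11263 (0)), part 2

`C_X(V)` is a 2-group; `X` contains a torus of order `q - 1` (`exists_torD`).
-/

set_option autoImplicit false
set_option linter.unusedSectionVars false

namespace Cfsg.Agent.Omega.Lie

open Subgroup Cfsg.Agent.Omega.BTwo

universe u v w

variable {G : Type u} [Group G] {ι : Type w} {F : Type v} [Field F]
  {V : Subgroup G} {R : ι → Subgroup G} {i j : ι} {v : F → F → G} {w1 w2 : F → G}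
  {M : Type u} [AddCommGroup M] [Module F M] {p1 p2 : G → M}

section odd

variable (b : BT V R) (C : Crd V R i j v w1 w2)
  (y : YMod (DD V R) (UU V R i) (UU V R j) w1 w2 M p1 p2)

theorem isPGroup_V (b : BT V R) : IsPGroup 2 V := by
  rintro ⟨a, ha⟩
  refine ⟨1, Subtype.ext ?_⟩
  change a ^ 2 ^ 1 = 1
  rw [pow_one, pow_two]
  exact b.V_sq a ha

theorem isPGroup_D (b : BT V R) : IsPGroup 2 (DD V R) := by
  rintro ⟨a, ha⟩
  refine ⟨1, Subtype.ext ?_⟩
  change a ^ 2 ^ 1 = 1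
  rw [pow_one, pow_two]
  exact b.D_sq ha

include b C y in
/-- an element of odd order of `C_X(V)` is trivial (`C(W i)` a 2-group) -/
theorem odd_cen_V (hp : IsPGroup 2 (centralizer (WW V (R i) : Set G))) {c : G} (hc : c ∈ XX V R)
    (hcV : c ∈ centralizer (V : Set G)) (ho : Odd (orderOf c)) : c = 1 := by
  have hV : ∀ g ∈ V, c * g = g * c := fun g hg => (mem_centralizer_iff.1 hcV g hg).symm
  have hD : ∀ d ∈ DD V R, c * d = d * c := fun d hd =>
    comm_of_odd ho (isPGroup_V b) (b.XD hc hd) (hV _ (b.XD hc hd))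
  have hU : ∀ u ∈ UU V R i, c * u = u * c := fun u hu => by
    have h := cen_Y b C y hc hcV (UU_le_YY i hu)
    exact comm_of_odd ho (isPGroup_D b) h (hD _ h)
  have hW : ∀ w ∈ WW V (R i), c * w = w * c := fun w hw => by
    have h : c * w * c⁻¹ * w⁻¹ ∈ UU V R i := by
      refine mem_inf.2 ⟨?_, ?_⟩
      · exact mul_mem (conj_mem_of_normalizer (b.cen_le_NW i hcV) hw) (inv_mem hw)
      · have e : c * w * c⁻¹ * w⁻¹ = c * (w * c⁻¹ * w⁻¹) := by group
        rw [e]
        refine mul_mem hcV ?_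
        have hN : normalizer (V : Set G) ≤ normalizer (centralizer (V : Set G) : Set G) := by
          intro g hg
          rw [← cj_eq_self_iff, ← centralizer_cj, cj_eq_self_iff.2 hg]
        exact conj_mem_of_normalizer (hN (b.W_le_NV i hw)) (inv_mem hcV)
    exact comm_of_odd ho (b.U_isPGroup i) h (hU _ h)
  have h1 : c ∈ centralizer (WW V (R i) : Set G) := by
    rw [mem_centralizer_iff]
    exact fun w hw => (hW w hw).symm
  obtain ⟨n, hn⟩ := hp ⟨c, h1⟩
  have hn' : c ^ 2 ^ n = 1 := congrArg Subtype.val hn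
  have hd := Nat.dvd_gcd (dvd_refl (orderOf c)) (orderOf_dvd_of_pow_eq_one hn')
  have hco : Nat.gcd (orderOf c) (2 ^ n) = 1 := (Nat.coprime_two_right.2 ho).pow_right n
  rw [hco, Nat.dvd_one, orderOf_eq_one_iff] at hd
  exact hd

include b C y in
/-- `C_X(V)` is a 2-group -/
theorem cen_X_V_isPGroup' [Finite G] (hp : IsPGroup 2 (centralizer (WW V (R i) : Set G))) :
    IsPGroup 2 (XX V R ⊓ centralizer (V : Set G) : Subgroup G) :=
  isPGroup_of_odd fun _ hc ho => odd_cen_V b C y hp hc.1 hc.2 ho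

/-- `C_X(V)` is a 2-group -/
theorem cen_X_V_isPGroup [Finite G] (b : BTC V R) (C : Crd V R i j v w1 w2)
    (y : YMod (DD V R) (UU V R i) (UU V R j) w1 w2 M p1 p2) :
    IsPGroup 2 (XX V R ⊓ centralizer (V : Set G) : Subgroup G) :=
  cen_X_V_isPGroup' b.toBT C y (b.cen_W_isPGroup i)

end odd

section tor

variable (b : BT V R) (C : Crd V R i j v w1 w2)
  (y : YMod (DD V R) (UU V R i) (UU V R j) w1 w2 M p1 p2)

include b C y in
/-- `h(a) = n(a) n(1)` acts as `diag(a, a⁻¹)` -/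
theorem mat_hh [CharP F 2] {a : F} (ha : a ≠ 0) : Mat V R i j v p1 p2 (hh w1 w2 a) a 0 0 a⁻¹ := by
  have h2 : (1 : F) + 1 = 0 := CharTwo.add_self_eq_zero 1
  have hn : ∀ a : F, a ≠ 0 → Mat V R i j v p1 p2 (nn w1 w2 a) 0 a a⁻¹ 0 := by
    intro a ha
    have h1 := mat_w1 b C y a
    have h3 := (mat_w1 b C.swap y.swap a⁻¹).swap b C.swap
    have h4 := (h1.mul b C y h3).mul b C y h1
    have e1 : (1 * 1 + a * a⁻¹) * 1 + (1 * 0 + a * 1) * 0 = (0 : F) := by
      rw [mul_inv_cancel₀ ha]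
      linear_combination h2
    have e2 : (1 * 1 + a * a⁻¹) * a + (1 * 0 + a * 1) * 1 = a := by
      rw [mul_inv_cancel₀ ha]
      linear_combination a * h2
    have e3 : (0 * 1 + 1 * a⁻¹) * 1 + (0 * 0 + 1 * 1) * 0 = a⁻¹ := by ring
    have e4 : (0 * 1 + 1 * a⁻¹) * a + (0 * 0 + 1 * 1) * 1 = (0 : F) := by
      rw [zero_mul, zero_add, one_mul, inv_mul_cancel₀ ha]
      linear_combination h2
    rw [e1, e2, e3, e4] at h4
    unfold nn
    exact h4
  have h5 := (hn a ha).mul b C y (hn 1 one_ne_zero)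
  have e1 : 0 * 0 + a * (1 : F)⁻¹ = a := by rw [inv_one]; ring
  have e2 : 0 * 1 + a * 0 = (0 : F) := by ring
  have e3 : a⁻¹ * 0 + 0 * (1 : F)⁻¹ = 0 := by ring
  have e4 : a⁻¹ * 1 + 0 * 0 = a⁻¹ := by ring
  rw [e1, e2, e3, e4] at h5
  unfold hh
  exact h5

include b C y in
theorem Mat.pow {x : G} {a : F} (h : Mat V R i j v p1 p2 x a 0 0 a⁻¹) (n : ℕ) :
    Mat V R i j v p1 p2 (x ^ n) (a ^ n) 0 0 (a ^ n)⁻¹ := by
  induction n with
  | zero =>
    have h1 := mat_Y b C y (one_mem (UU V R i))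
    simpa using h1
  | succ n ih =>
    have h1 := ih.mul b C y h
    have e1 : a ^ n * a + 0 * 0 = a ^ (n + 1) := by ring
    have e2 : a ^ n * 0 + 0 * a⁻¹ = 0 := by ring
    have e3 : 0 * a + (a ^ n)⁻¹ * 0 = 0 := by ring
    have e4 : 0 * 0 + (a ^ n)⁻¹ * a⁻¹ = (a ^ (n + 1))⁻¹ := by rw [pow_succ, mul_inv]; ring
    rw [e1, e2, e3, e4] at h1
    rw [pow_succ]
    exact h1

include C in
theorem hh_mem_X {a : F} : hh w1 w2 a ∈ XX V R := by
  have h1 : ∀ a, w1 a ∈ XX V R := fun a => W_le_X V R i (C.W1 a)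
  have h2 : ∀ a, w2 a ∈ XX V R := fun a => W_le_X V R j (C.W2 a)
  exact mul_mem (mul_mem (mul_mem (h1 _) (h2 _)) (h1 _)) (mul_mem (mul_mem (h1 _) (h2 _)) (h1 _))

include b C y in
theorem rep_zero {x : G} (h : Rep (DD V R) (UU V R i) (UU V R j) p1 p2 x 0 0) : x ∈ DD V R := by
  obtain ⟨u1, k1, u2, k2, k3, k4, k5⟩ := h
  have k4' := (y.ker1 u1 k1).1 k4
  have k5' := (y.ker2 u2 k2).1 k5
  have e : x = (x * (u1 * u2)⁻¹) * (u1 * u2) := by group
  rw [e]
  exact mul_mem k3 (mul_mem k4' k5')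

include C in
/-- an element of `N(V)` acting as `diag(a, a⁻¹)` normalises `R i` -/
theorem Mat.normR {x : G} {a : F} (ha : a ≠ 0) (h : Mat V R i j v p1 p2 x a 0 0 a⁻¹) :
    x ∈ normalizer (R i : Set G) := by
  rw [mem_normalizer_iff]
  intro g
  constructor
  · intro hg
    obtain ⟨c, rfl⟩ := (C.Ri g).1 hg
    rw [h.act]
    refine (C.Ri _).2 ⟨a * c, ?_⟩
    congr 1 <;> ring
  · intro hg
    obtain ⟨c, hc⟩ := (C.Ri _).1 hg
    have h1 := h.act (a⁻¹ * c) 0
    have e1 : a * (a⁻¹ * c) + 0 * 0 = c := by rw [mul_inv_cancel_left₀ ha]; ring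
    have e2 : 0 * (a⁻¹ * c) + a⁻¹ * 0 = 0 := by ring
    rw [e1, e2, hc] at h1
    have h2 : v (a⁻¹ * c) 0 = g := by
      have := mul_right_cancel h1
      exact mul_left_cancel this
    exact (C.Ri g).2 ⟨_, h2⟩

include b C in
/-- conjugation by `diag(a, a⁻¹)` multiplies root elements by `a²` -/
theorem act_conj {x w : G} {a r : F} (ha : a ≠ 0) (h : Mat V R i j v p1 p2 x a 0 0 a⁻¹)
    (hw : ∀ b c, w * v b c * w⁻¹ = v (b + r * c) c) (b' c : F) :
    (x * w * x⁻¹) * v b' c * (x * w * x⁻¹)⁻¹ = v (b' + a * a * r * c) c := by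
  have h1 : x⁻¹ * v b' c * x = v (a⁻¹ * b') (a * c) := by
    have h2 := h.act (a⁻¹ * b') (a * c)
    have e1 : a * (a⁻¹ * b') + 0 * (a * c) = b' := by rw [mul_inv_cancel_left₀ ha]; ring
    have e2 : 0 * (a⁻¹ * b') + a⁻¹ * (a * c) = c := by rw [inv_mul_cancel_left₀ ha]; ring
    rw [e1, e2] at h2
    rw [← h2]
    group
  calc (x * w * x⁻¹) * v b' c * (x * w * x⁻¹)⁻¹ = x * (w * (x⁻¹ * v b' c * x) * w⁻¹) * x⁻¹ := by group
    _ = v (b' + a * a * r * c) c := by
      rw [h1, hw, h.act]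
      congr 1
      · field_simp
        ring
      · rw [inv_mul_cancel_left₀ ha]; ring

include C in
theorem mem_UU {w : G} (hw : w ∈ WW V (R i)) (h : ∀ b c, w * v b c * w⁻¹ = v b c) : w ∈ UU V R i :=
  mem_inf.2 ⟨hw, C.mem_cen h⟩

include b C y in
theorem torD_of [CharP F 2] {t : F → G} (one : t 1 = 1)
    (mul : ∀ a b, a ≠ 0 → b ≠ 0 → t (a * b) = t a * t b) (memX : ∀ a, a ≠ 0 → t a ∈ XX V R)
    (odd : ∀ a, a ≠ 0 → Odd (orderOf (t a)))
    (mat : ∀ a, a ≠ 0 → Mat V R i j v p1 p2 (t a) a 0 0 a⁻¹) : TorD V R i j v t := by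
  have inv : ∀ a, a ≠ 0 → t a⁻¹ = (t a)⁻¹ := by
    intro a ha
    have h := mul a a⁻¹ ha (inv_ne_zero ha)
    rw [mul_inv_cancel₀ ha, one] at h
    exact eq_inv_of_mul_eq_one_right h.symm
  have keyU : ∀ {i j : ι} {v : F → F → G} {w1 w2 : F → G} {p1 p2 : G → M} {t : F → G},
      Crd V R i j v w1 w2 → YMod (DD V R) (UU V R i) (UU V R j) w1 w2 M p1 p2 →
      (∀ a, a ≠ 0 → Mat V R i j v p1 p2 (t a) a 0 0 a⁻¹) →
      ∀ a b, a ≠ 0 → b ≠ 0 → a + b ≠ 0 → ∀ u ∈ UU V R i,
      t (a + b) * u * (t (a + b))⁻¹ * (t a * u * (t a)⁻¹ * (t b * u * (t b)⁻¹))⁻¹ ∈ DD V R := by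
    intro i j v w1 w2 p1 p2 t C y mat a c ha hc hac u hu
    have hr := rep_U b C (p1 := p1) (p2 := p2) hu
    rw [p2_one y] at hr
    have h1 := (mat _ ha).rep u _ _ hr
    have h2 := (mat _ hc).rep u _ _ hr
    have h3 := (mat _ hac).rep u _ _ hr
    have h4 := rep_mul b C y h3 (rep_inv b C y (rep_mul b C y h1 h2))
    apply rep_zero b C y
    convert h4 using 1
    · module
    · module
  have keyW : ∀ {i j : ι} {v : F → F → G} {w1 w2 : F → G} {p1 p2 : G → M} {t : F → G},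
      Crd V R i j v w1 w2 →
      (∀ a, a ≠ 0 → Mat V R i j v p1 p2 (t a) a 0 0 a⁻¹) →
      ∀ a b, a ≠ 0 → b ≠ 0 → a + b ≠ 0 → ∀ w ∈ WW V (R i),
      t (a + b) * w * (t (a + b))⁻¹ * (t a * w * (t a)⁻¹ * (t b * w * (t b)⁻¹))⁻¹ ∈ UU V R i := by
    intro i j v w1 w2 p1 p2 t C mat a c ha hc hac w hw
    have hm : ∀ a, a ≠ 0 → t a * w * (t a)⁻¹ ∈ WW V (R i) := fun a ha =>
      conj_mem_of_normalizer (normalizer_le_WW V (R i) ((mat a ha).normR C ha)) hw
    refine mem_UU C (mul_mem (hm _ hac) (inv_mem (mul_mem (hm _ ha) (hm _ hc)))) ?_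
    obtain ⟨r, hr⟩ := C.f1 w hw
    have h1 := act_conj b C ha (mat a ha) hr
    have h2 := act_conj b C hc (mat c hc) hr
    have h3 := act_conj b C hac (mat _ hac) hr
    intro b' c'
    set A := t a * w * (t a)⁻¹ with hA
    set B := t c * w * (t c)⁻¹ with hB
    set E := t (a + c) * w * (t (a + c))⁻¹ with hE
    have h4 : (A * B)⁻¹ * v b' c' * (A * B) = v (b' - a * a * r * c' - c * c * r * c') c' := by
      have h5 := h2 (b' - a * a * r * c' - c * c * r * c') c'
      have h6 := h1 (b' - a * a * r * c') c'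
      have e1 : b' - a * a * r * c' - c * c * r * c' + c * c * r * c' = b' - a * a * r * c' := by ring
      have e2 : b' - a * a * r * c' + a * a * r * c' = b' := by ring
      rw [e1] at h5
      rw [e2] at h6
      rw [← h6, ← h5]
      group
    calc E * (A * B)⁻¹ * v b' c' * (E * (A * B)⁻¹)⁻¹ = E * ((A * B)⁻¹ * v b' c' * (A * B)) * E⁻¹ := by group
      _ = v b' c' := by
        rw [h4, h3]
        congr 1
        have h2 : (2 : F) = 0 := CharTwo.two_eq_zero
        linear_combination (a * c * r * c') * h2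
  have mat' : ∀ a, a ≠ 0 → Mat V R j i (fun b c => v c b) p2 p1 (t a)⁻¹ a 0 0 a⁻¹ := by
    intro a ha
    rw [← inv a ha]
    have h1 := (mat a⁻¹ (inv_ne_zero ha)).swap b C
    rwa [inv_inv] at h1
  exact
    { ne := C.ne
      v_add := C.v_add
      v_inj := C.v_inj
      v_mem := C.v_mem
      Ri := C.Ri
      Rj := C.Rj
      one := one
      mul := mul
      memX := memX
      odd := odd
      act := by
        intro a b' c ha
        rw [(mat a ha).act]
        congr 1 <;> ring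
      wU := keyU C y mat
      wU' := by
        intro a c ha hc hac u hu
        have h1 := keyU (t := fun a => (t a)⁻¹) C.swap y.swap mat' a c ha hc hac u hu
        simpa only [inv_inv] using h1
      wW := keyW C mat
      wW' := by
        intro a c ha hc hac u hu
        have h1 := keyW (t := fun a => (t a)⁻¹) C.swap mat' a c ha hc hac u hu
        simpa only [inv_inv] using h1 }

end tor

section ex

variable (b : BT V R) (C : Crd V R i j v w1 w2)
  (y : YMod (DD V R) (UU V R i) (UU V R j) w1 w2 M p1 p2)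

include b C y in
/-- **existence of the torus**, general form (`C(W i)` a 2-group) -/
theorem exists_torD' [Finite G] [Finite F] [CharP F 2]
    (hp : IsPGroup 2 (centralizer (WW V (R i) : Set G))) : ∃ t : F → G, TorD V R i j v t := by
  classical
  obtain ⟨g, hg⟩ := IsCyclic.exists_generator (α := Fˣ)
  set x := hh w1 w2 (g : F) with hx
  obtain ⟨k, m, hm, hk⟩ := Nat.exists_eq_two_pow_mul_odd (orderOf_pos x).ne'
  have hodd : Odd (Nat.card Fˣ) := by
    rw [Nat.card_units]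
    have h1 : 2 ∣ Nat.card F := by
      have := Fintype.ofFinite F
      rw [Nat.card_eq_fintype_card]
      obtain ⟨n, hp, hc⟩ := FiniteField.card F 2
      rw [hc]
      exact dvd_pow_self 2 n.ne_zero
    have h2 : 0 < Nat.card F := Nat.card_pos
    rw [← Nat.not_even_iff_odd]
    intro h3
    have h4 : Even (Nat.card F) := even_iff_two_dvd.2 h1
    obtain ⟨r, hr⟩ := h3
    obtain ⟨s, hs⟩ := h4
    omega
  obtain ⟨e, he1, he2⟩ := Nat.chineseRemainder (n := 2 ^ k) (m := Nat.card Fˣ)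
    ((Nat.coprime_two_left.2 hodd).pow_left k) 0 1
  have he1' : 2 ^ k ∣ e := (Nat.modEq_zero_iff_dvd).1 he1
  set x' := x ^ e with hx'
  have hge : (g : F) ^ e = g := by
    have h1 : g ^ e = g ^ 1 := by
      rw [pow_eq_pow_iff_modEq]
      have : orderOf g = Nat.card Fˣ := orderOf_eq_card_of_forall_mem_zpowers hg
      rw [this]
      exact he2
    have h2 := congrArg Units.val h1
    simpa using h2
  have hmat : Mat V R i j v p1 p2 x' g 0 0 (g : F)⁻¹ := by
    have h1 := (mat_hh b C y (a := (g : F)) g.ne_zero).pow b C y e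
    rw [hge] at h1
    exact h1
  have hxX : x' ∈ XX V R := pow_mem (hh_mem_X C) _
  have hord : Odd (orderOf x') := by
    obtain ⟨s, hs⟩ := he1'
    have h1 : x' ^ m = 1 := by
      rw [hx', ← pow_mul, hs, mul_right_comm, ← hk, pow_mul, pow_orderOf_eq_one, one_pow]
    exact hm.of_dvd_nat (orderOf_dvd_of_pow_eq_one h1)
  have hpow : ∀ n, Odd (orderOf (x' ^ n)) := fun n => hord.of_dvd_nat (orderOf_pow_dvd n)
  have h1 : x' ^ Nat.card Fˣ = 1 := by
    refine odd_cen_V b C y hp (pow_mem hxX _) ?_ (hpow _)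
    have h2 := hmat.pow b C y (Nat.card Fˣ)
    have h3 : (g : F) ^ Nat.card Fˣ = 1 := by
      have := congrArg Units.val (pow_card_eq_one' (x := g))
      rwa [Units.val_pow_eq_pow_val, Units.val_one] at this
    rw [h3] at h2
    refine C.mem_cen fun b' c => ?_
    rw [h2.act]
    congr 1
    · ring
    · rw [inv_one]; ring
  have hlog : ∀ a : F, a ≠ 0 → ∃ n : ℕ, (g : F) ^ n = a := by
    intro a ha
    have h2 := hg (Units.mk0 a ha)
    rw [← mem_powers_iff_mem_zpowers] at h2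
    obtain ⟨n, hn⟩ := h2
    refine ⟨n, ?_⟩
    have := congrArg Units.val hn
    simpa using this
  let t : F → G := fun a => if h : ∃ n : ℕ, (g : F) ^ n = a then x' ^ h.choose else 1
  have ht : ∀ n : ℕ, t ((g : F) ^ n) = x' ^ n := by
    intro n
    have h : ∃ n' : ℕ, (g : F) ^ n' = (g : F) ^ n := ⟨n, rfl⟩
    have h2 : t ((g : F) ^ n) = x' ^ h.choose := dif_pos h
    rw [h2]
    have h3 := h.choose_spec
    rw [pow_eq_pow_iff_modEq]
    have h4 : g ^ h.choose = g ^ n := by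
      apply Units.ext
      simpa using h3
    rw [pow_eq_pow_iff_modEq, orderOf_eq_card_of_forall_mem_zpowers hg] at h4
    exact h4.of_dvd (orderOf_dvd_of_pow_eq_one h1)
  refine ⟨t, torD_of b C y ?_ ?_ ?_ ?_ ?_⟩
  · have := ht 0
    rwa [pow_zero, pow_zero] at this
  · intro a c ha hc
    obtain ⟨n, rfl⟩ := hlog a ha
    obtain ⟨n', rfl⟩ := hlog c hc
    rw [← pow_add, ht, ht, ht, pow_add]
  · intro a ha
    obtain ⟨n, rfl⟩ := hlog a ha
    rw [ht]
    exact pow_mem hxX _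
  · intro a ha
    obtain ⟨n, rfl⟩ := hlog a ha
    rw [ht]
    exact hpow n
  · intro a ha
    obtain ⟨n, rfl⟩ := hlog a ha
    rw [ht]
    exact hmat.pow b C y n

/-- **existence of the torus** -/
theorem exists_torD [Finite G] [Finite F] [CharP F 2] (b : BTC V R) (C : Crd V R i j v w1 w2)
    (y : YMod (DD V R) (UU V R i) (UU V R j) w1 w2 M p1 p2) : ∃ t : F → G, TorD V R i j v t :=
  exists_torD' b.toBT C y (b.cen_W_isPGroup i)

end ex

end Cfsg.Agent.Omega.Lie
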